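import Cfsg.Agent.Lib.Fi.B24q
import Cfsg.Agent.Lib.Fi.C24

/-! Involutions of a group of type `M(24)`. -/

namespace Cfsg.Lib.Fi.S24

open Cfsg.Lib.Comp Subgroup B24

variable {G : Type*} [Group G] [Finite G] (S : S24 G)

theorem cov2' (t : G) (ht : t ^ 2 = 1) : S.M.QC [(Ua, 0), j2, j3, j4] t :=
  (p2Pc S.M).all (S.M.inv_QC _ (by norm_num)) (r := 598528723330813275) (by rw [S.card]; norm_num) (by norm_num)
    (cov2 S.M) t ht

theorem invol {t : G} (ht : orderOf t = 2) :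
    IsConj t S.a ∨ IsConj t (S.M.v j2) ∨ IsConj t (S.M.v j3) ∨ IsConj t (S.M.v j4) := by
  simpa using (S.cov2' t (ht ▸ pow_orderOf_eq_one t)).invol (by rintro rfl; simp at ht) S.sq2

end Cfsg.Lib.Fi.S24
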