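import Cfsg.Agent.Lib.Fi.O12b

set_option maxRecDepth 100000

namespace Cfsg.Lib.Fi.A12

open Cfsg.Lib.Comp Cfsg.Lib.Fi

noncomputable def x0 : ℕ × ℕ := (0, 4636)

noncomputable def d : ℕ × ℕ := (0, 538)

noncomputable def SW : List (ℕ × ℕ) := [(0, 4),
 (0, 6),
 (0, 8),
 (0, 10),
 (0, 12),
 (0, 14),
 (0, 16),
 (0, 22)]

noncomputable def MW : List (ℕ × ℕ) := [(0, 4),
 (0, 6),
 (0, 8),
 (0, 10),
 (0, 12),
 (0, 14)]

noncomputable def KW : List (ℕ × ℕ) := [(0, 4),
 (0, 6),
 (0, 8),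
 (0, 10),
 (0, 12),
 (0, 14),
 (0, 16)]

noncomputable def NW : List (ℕ × ℕ) := [(0, 4),
 (0, 6),
 (0, 8),
 (0, 10),
 (0, 12),
 (0, 14),
 (0, 16),
 (0, 18)]

noncomputable def AW : List (ℕ × ℕ) := [(0, 1540),
 (0, 2054),
 (0, 2568),
 (0, 3082),
 (0, 3588)]

noncomputable def b1 : ℕ × ℕ := (0, (nat_lit 0x161e2010262c0826))

noncomputable def K1W : List (ℕ × ℕ) := b1 :: AW

theorem x_ok : (allN 4096 fun n => Nat.beq (ap parV x0 n) (xm n)) = true := by decide +kernel

theorem x_ord : ordB par12 x0 3 0 = true := by decide +kernel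

theorem d_ord : ordB par12 d 3 0 = true := by decide +kernel

theorem g_c : presB par12 (d :: SW) [x0] [] = true := by decide +kernel

theorem s_inv : (allL SW fun e => oneB par12 e 2) = true := by decide +kernel

noncomputable def gu_0D : List (ℕ × ℕ) := ((0, 0) :: [x0])

noncomputable def gu_1D : List (ℕ × ℕ) := ((4, 0) :: gu_0D)

noncomputable def gu_2D : List (ℕ × ℕ) := ((8740, 0) :: gu_1D)

noncomputable def gu_3D : List (ℕ × ℕ) := (((nat_lit 0x102c16), 0) :: gu_2D)

noncomputable def gu_4D : List (ℕ × ℕ) := (((nat_lit 0x161e0e), 0) :: gu_3D)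

noncomputable def gu_5D : List (ℕ × ℕ) := (((nat_lit 0x280e22), 0) :: gu_4D)

theorem gu_6b : endB par12 gu_5D [6,
 3590,
 5,
 3589,
 (nat_lit 0x40a0c0f01),
 (nat_lit 0x20e0a0c02),
 (nat_lit 0x20e080e02),
 (nat_lit 0x40f080f01),
 (nat_lit 0x80e0a0c04),
 (nat_lit 0xe080e0a0c04),
 (nat_lit 0xf06080e0a0e0602),
 (nat_lit 0x6080e0a0e0602)] = true := by decide +kernel

theorem gu_6 {G : Type*} [Group G] (M : Md G par12) : M.Ch gu_5D [] [] 1 := Md.Ch.base gu_6b

noncomputable def gu_5W : List (ℕ × ℕ) := apd [(0, (nat_lit 0x620102006))] []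

theorem gu_5b : stepB par12 gu_4D [] gu_5W [] (nat_lit 0x280e22) (.dif (.dif (.dif (.dif (.dif (.dif (.and (.nb 2) (.im 13 (.nb 3))) (.nb 5)) (.nb 4)) (.im 12 (.nb 5))) (.nb 3)) (.im 12 (.nb 4))) (.nb 1)) 2 2 2
 (.many [(.fx 3 3585)] 32 1 (nat_lit 0x1e0c2400) .nil) = true := by decide +kernel

theorem gu_5 {G : Type*} [Group G] [Finite G] (M : Md G par12) : M.Ch gu_4D [] gu_5W 2 :=
  Md.Ch.step gu_5b (gu_6 M)

noncomputable def gu_4W : List (ℕ × ℕ) := apd [(0, (nat_lit 0x2028261412262820))] gu_5W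

theorem gu_4b : stepB par12 gu_3D [] gu_4W gu_5W (nat_lit 0x161e0e) (.dif (.dif (.dif (.dif (.dif (.dif (.dif .all (.nb 4)) (.nb 3)) (.im 10 (.nb 4))) (.nb 2)) (.im 10 (.nb 3))) (.im 11 (.nb 2))) (.nb 1)) (nat_lit 0x20204020402) 9 (nat_lit 0x402040204)
 (.many [(.eq (nat_lit 0x80a03) 3329),
 (.fx 2 3073)] 32 2 (nat_lit 0xa2616012a261000) .nil) = true := by decide +kernel

theorem gu_4 {G : Type*} [Group G] [Finite G] (M : Md G par12) : M.Ch gu_3D [] gu_4W 18 :=
  Md.Ch.step gu_4b (gu_5 M)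

noncomputable def gu_3W : List (ℕ × ℕ) := apd [(0, (nat_lit 0x1216240a2824262c26))] gu_4W

theorem gu_3b : stepB par12 gu_2D [] gu_3W gu_4W (nat_lit 0x102c16) (.dif (.dif (.dif (.dif (.and (.im 8 (.nb 2)) (.im 8 (.nb 1))) (.nb 3)) (.im 2310 (.nb 1))) (.nb 2)) (.im 8 (.nb 3))) (nat_lit 0x2060402060402040602) 36 0
 .nil = true := by decide +kernel

theorem gu_3 {G : Type*} [Group G] [Finite G] (M : Md G par12) : M.Ch gu_2D [] gu_3W 648 :=
  Md.Ch.step gu_3b (gu_4 M)

noncomputable def gu_2W : List (ℕ × ℕ) := apd [(0, (nat_lit 0xc2404220422240a))] gu_3W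

theorem gu_2b : stepB par12 gu_1D [] gu_2W gu_3W 8740 (.dif (.dif (.dif (.dif .all (.nb 2)) (.nb 1)) (.im 6 (.nb 2))) (.im 6 (.nb 1))) (nat_lit 0x20202040208020604020802) 120 0
 .nil = true := by decide +kernel

theorem gu_2 {G : Type*} [Group G] [Finite G] (M : Md G par12) : M.Ch gu_1D [] gu_2W 77760 :=
  Md.Ch.step gu_2b (gu_3 M)

noncomputable def gu_1W : List (ℕ × ℕ) := apd [(0, (nat_lit 0x101222181c142a2008))] gu_2W

theorem gu_1b : stepB par12 gu_0D [] gu_1W gu_2W 4 (.and (.nb 1) (.im 4 (.nb 1))) (nat_lit 0x604020a0406020a040602040a02) 528 0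
 .nil = true := by decide +kernel

theorem gu_1 {G : Type*} [Group G] [Finite G] (M : Md G par12) : M.Ch gu_0D [] gu_1W 41057280 :=
  Md.Ch.step gu_1b (gu_2 M)

noncomputable def gu_0W : List (ℕ × ℕ) := apd [(0, (nat_lit 0x2c1e16260e08242c12))] gu_1W

theorem gu_0b : stepB par12 [x0] [] gu_0W gu_1W 0 .all (nat_lit 0x40c0206080c06040c02060c0402060c02) 2016 0
 .nil = true := by decide +kernel

theorem gu_0 {G : Type*} [Group G] [Finite G] (M : Md G par12) : M.Ch [x0] [] gu_0W 82771476480 :=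
  Md.Ch.step gu_0b (gu_1 M)

theorem gu_p : presB par12 gu_0W [x0] [] = true := by decide +kernel

theorem gu {G : Type*} [Group G] [Finite G] (M : Md G par12) : M.KE (M.st [x0] []) gu_0W 82771476480 :=
  (gu_0 M).ke gu_p

theorem gu_w : leA par12 (d :: SW) gu_0W [(nat_lit 0xe120e0208060e0408060e12031210040e06101204060e06100e041204030612100e10020c0a08060e040608021204100e0a08020a0c08060a040e0806040e02080a06081012020c0a08060e040608020a0c040e06101204060e06100e041204),
 (nat_lit 0x312100a0c101206101208060e040e0c0a08040208060e0c040608020a08061204100e0608020c0a08060e040608020a0c0e0412060e020e06101204060e0c0a08060e040608020a0c),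
 (nat_lit 0x60806040e0608030a08061012040e0806040e0608030a08060e040608020c0a08060e040608020a0c040e06101204060e06100e041204101206020e0412060e020e06101204060e0a0c0a08060e040608020a0c),
 (nat_lit 0xa080a06081210060e040a08061012040e06080c0a0c08060310120e040608030612100c0a08060e040608020a0c),
 (nat_lit 0xa0e080406040e1204100e080208061204100e060812100a),
 (nat_lit 0x30806040e08060e0406080206)] = true := by decide +kernel

noncomputable def sul_4W : List (ℕ × ℕ) := apd [(0, (nat_lit 0xa0c0a2a2c0a2c2a)),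
 (0, (nat_lit 0xa0c0a))] []

theorem sul_4b : lvB par12 sul_4W [] 36 (nat_lit 0x40204) 6 = true := by decide +kernel

theorem sul_4 {G : Type*} [Group G] [Finite G] (M : Md G par12) : M.LB sul_4W 6 :=
  Md.LB.step sul_4b (Md.LB.one M _)

noncomputable def sul_3W : List (ℕ × ℕ) := apd [(0, (nat_lit 0x240e042c122c122c24))] sul_4W

theorem sul_3b : lvB par12 sul_3W sul_4W 1540 (nat_lit 0x406020402060206040602) 32 = true := by decide +kernel

theorem sul_3 {G : Type*} [Group G] [Finite G] (M : Md G par12) : M.LB sul_3W 192 :=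
  Md.LB.step sul_3b (sul_4 M)

noncomputable def sul_2W : List (ℕ × ℕ) := apd [(0, (nat_lit 0x2a040e2a0a0c))] sul_3W

theorem sul_2b : lvB par12 sul_2W sul_3W 6174 (nat_lit 0x802020804020802080208060208040802) 135 = true := by decide +kernel

theorem sul_2 {G : Type*} [Group G] [Finite G] (M : Md G par12) : M.LB sul_2W 25920 :=
  Md.LB.step sul_2b (sul_3 M)

noncomputable def sul_1W : List (ℕ × ℕ) := apd [(0, (nat_lit 0x280c1c200e160a2206))] sul_2W

theorem sul_1b : lvB par12 sul_1W sul_2W 4 (nat_lit 0x40a0404020a040a08040a02040a080a0402) 528 = true := by decide +kernel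

theorem sul_1 {G : Type*} [Group G] [Finite G] (M : Md G par12) : M.LB sul_1W 13685760 :=
  Md.LB.step sul_1b (sul_2 M)

noncomputable def sul_0W : List (ℕ × ℕ) := apd [(0, 4),
 (0, 6),
 (0, 8),
 (0, 10),
 (0, 12),
 (0, 14),
 (0, 16),
 (0, 22)] sul_1W

theorem sul_0b : lvB par12 sul_0W sul_1W 0 (nat_lit 0x610020a04080e0a0c100206080402060c04100e0c02) 2016 = true := by decide +kernel

theorem sul_0 {G : Type*} [Group G] [Finite G] (M : Md G par12) : M.LB sul_0W 27590492160 :=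
  Md.LB.step sul_0b (sul_1 M)

theorem suw : leA par12 SW sul_0W [2,
 4,
 6,
 8,
 10,
 12,
 14,
 16,
 (nat_lit 0xa08060e1004020c0406080a0e1004020c060806100e040c0204060a0806040c02100e04060a080604020c0e100406080a0e10020c04020c100e0c02040c02),
 (nat_lit 0x6040c02100e0a0c02100e040608040e0c060e02100c0604020c100e020c0406080604020c0e10020c0e100406080a08),
 (nat_lit 0x8020c0806040c02100c020e1008060206040c02100e0a04060806100e040c0204060a),
 (nat_lit 0x604020c0e1004060a080604020c0e10020c0e10020c0e100406080a),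
 (nat_lit 0x80a08)] = true := by decide +kernel

theorem su {G : Type*} [Group G] [Finite G] (M : Md G par12) : M.LB SW 27590492160 := Md.LB.of_leA (sul_0 M) suw

end Cfsg.Lib.Fi.A12
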