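import Cfsg.Agent.Lib.Fi.A12a
import Cfsg.Agent.Lib.Comp.U43x.Pk
import Cfsg.Agent.Lib.Fi.Quo

set_option maxRecDepth 100000

namespace Cfsg.Lib.Fi.A12

open Cfsg.Lib.Comp Cfsg.Lib.Fi

noncomputable def k1l_2W : List (ℕ × ℕ) := apd [(0, (nat_lit 0xa060806)),
 (0, (nat_lit 0x60a20102006))] []

theorem k1l_2b : lvB par12 k1l_2W [] 6174 (nat_lit 0x402020402) 12 = true := by decide +kernel

theorem k1l_2 {G : Type*} [Group G] [Finite G] (M : Md G par12) : M.LB k1l_2W 12 :=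
  Md.LB.step k1l_2b (Md.LB.one M _)

noncomputable def k1l_1W : List (ℕ × ℕ) := apd [(0, (nat_lit 0xc0a081c060e1204))] k1l_2W

theorem k1l_1b : lvB par12 k1l_1W k1l_2W 40 (nat_lit 0x2040402040604020406040204060402) 405 = true := by decide +kernel

theorem k1l_1 {G : Type*} [Group G] [Finite G] (M : Md G par12) : M.LB k1l_1W 4860 :=
  Md.LB.step k1l_1b (k1l_2 M)

noncomputable def k1l_0W : List (ℕ × ℕ) := apd [(0, (nat_lit 0x161e2010262c0826)),
 (0, 1540),
 (0, 2054),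
 (0, 2568),
 (0, 3082),
 (0, 3588)] k1l_1W

theorem k1l_0b : lvB par12 k1l_0W k1l_1W 0 (nat_lit 0x4080a040c060802040c0a0406080206040c0404) 2016 = true := by decide +kernel

theorem k1l_0 {G : Type*} [Group G] [Finite G] (M : Md G par12) : M.LB k1l_0W 9797760 :=
  Md.LB.step k1l_0b (k1l_1 M)

theorem k1w : leA par12 K1W k1l_0W [2,
 4,
 6,
 8,
 10,
 12,
 (nat_lit 0xa0d060c0907050c0705080b09070c070d07080a),
 (nat_lit 0x90608),
 (nat_lit 0x5080c070d04)] = true := by decide +kernel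

theorem k1 {G : Type*} [Group G] [Finite G] (M : Md G par12) : M.LB K1W 9797760 := Md.LB.of_leA (k1l_0 M) k1w

noncomputable def qE : List (ℕ × ℕ) := [(0, (nat_lit 0x4280a281e061e04)),
 (0, (nat_lit 0x41e061e280a2804)),
 (0, (nat_lit 0x62822062228)),
 (0, (nat_lit 0x282206222806)),
 (0, (nat_lit 0x4280a280406)),
 (0, (nat_lit 0x41e06220a221e04)),
 (0, (nat_lit 0x142a081c2a220c2216)),
 (0, (nat_lit 0x2a0e1c282a1e142c)),
 (0, (nat_lit 0x2c141e2a281c0e2a)),
 (0, (nat_lit 0x1c282c0c082c2812)),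
 (0, (nat_lit 0xa0c0a06))]

theorem q_r0 : relQ (rbG par12 (qE ++ [x0])) 11 12 U43x.Rz (apd [0,
 0,
 0,
 0,
 0,
 0,
 0,
 0,
 0,
 0,
 0,
 0,
 0,
 24,
 24,
 24,
 6168,
 6168,
 24,
 24,
 24,
 0,
 0,
 0,
 24,
 0,
 0,
 0,
 0,
 0,
 0,
 0,
 6168,
 0,
 24,
 0,
 0,
 0,
 0,
 0]
 [0,
 0,
 0,
 0,
 0,
 0,
 0,
 0,
 24,
 0]) = true := by decide +kernel

theorem q_r {G : Type*} [Group G] (M : Md G par12) : RelM (M.d (qE ++ [x0])) (PS (M.d (qE ++ [x0])) 12 11) U43x.Rz :=
  (RelM.of (M.relT _) q_r0)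

theorem q_w : cnd (Nat.beq (List.length qE) 11) (cnd (Nat.beq (List.length (qE ++ [x0])) 12) (cnd (allN 11 fun i => Nat.testBit (msk U43x.L) (Nat.succ i)) (leA par12 (qE ++ [x0]) K1W [(nat_lit 0x181806160c0a14030307140a060c14110a),
 (nat_lit 0x100e021614030314160a14061416070a0c14111410061114060c14110a16060c14110a16),
 (nat_lit 0x1816071416100a140614160e0a140c0a10140c07160a10140c0716),
 (nat_lit 0x1116140616140307140a0c140a0e1410061114),
 (nat_lit 0x18181614071410140c07),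
 (nat_lit 0x18181410061114060c14110a16060c14110a16)]) false) false) false = true := by decide +kernel

theorem q_n : presB par12 (qE ++ [x0]) [x0] [] = true := by decide +kernel

theorem q_le : leA par12 K1W (qE ++ [x0]) [(nat_lit 0x804020803050d0409),
 (nat_lit 0x2080308040c060d050d060c0904),
 (nat_lit 0x7020d0703060c0a060d060b0b0907050c0705080a),
 (nat_lit 0x6040207020b0d060c07050c07050b0907050c0705080a),
 (nat_lit 0x8040609),
 (nat_lit 0x50c0409020d0702050c04060c0a060d060907050c0705080b0907050c0705080a),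
 (nat_lit 0xd050306020709070c070d0b070b09060d060c06080a),
 (nat_lit 0x50802070205060b0b09060d060c06080a),
 (nat_lit 0xb09060305060b06020d060c060d0a060c0609060d060c06080b0907050c0705080a),
 (nat_lit 0x8020207030d060c05080d070c0409070c070d0b070b0907050c0705080a),
 (nat_lit 0x7090a),
 (nat_lit 0xd050c0409060d060c06080b0907050c0705080a)] = true := by decide +kernel

theorem k_n : nrL par12 K1W NW [[(nat_lit 0xa020c070d090b0b0907050c0705080a),
 5,
 (nat_lit 0x70406),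
 8,
 10,
 13],
 [(nat_lit 0x207090a),
 5,
 7,
 (nat_lit 0x90608),
 10,
 (nat_lit 0xc050c04)],
 [(nat_lit 0x6020b08),
 1796,
 7,
 9,
 (nat_lit 0xb080a),
 12],
 [(nat_lit 0xa020c070d09),
 4,
 2310,
 9,
 11,
 12],
 [(nat_lit 0xb020c070d090b),
 4,
 6,
 2824,
 11,
 12],
 [(nat_lit 0xb02040c070d090907050c070508),
 (nat_lit 0xd05050c04),
 (nat_lit 0x60c05),
 8,
 10,
 13],
 [(nat_lit 0x2080202050d080c070d04060d0a060c06080b09070c070d07080a),
 4,
 6,
 8,
 10,
 (nat_lit 0x30d05080209070c070d07080b09070c070d07080a)],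
 [(nat_lit 0x60d0702040709060d0a060c06080b0907050c0705080a),
 4,
 6,
 8,
 10,
 13]] = true := by decide +kernel

theorem k_w : leA par12 ((0, 4) :: K1W) KW [2,
 519,
 (nat_lit 0x80207),
 (nat_lit 0xa080207),
 (nat_lit 0xc0a080207),
 3586,
 (nat_lit 0x70e06050e020904070f060b090e090f0d090502040c0a080207)] = true := by decide +kernel

theorem k_le : leA par12 KW K1W [(nat_lit 0x8060804020c06040c02060408060e0c0206040c0e020e0a080604020e020c0402040c04020c0e0806040e0c020e020c0204020c040a080602040c04020604060804020c06040c0206040806),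
 1026,
 1540,
 2054,
 2568,
 3074] = true := by decide +kernel

noncomputable def k2l_2W : List (ℕ × ℕ) := apd [(0, (nat_lit 0x62010200a0806)),
 (0, (nat_lit 0x280a28))] []

theorem k2l_2b : lvB par12 k2l_2W [] 11302 (nat_lit 0x204020402040204) 24 = true := by decide +kernel

theorem k2l_2 {G : Type*} [Group G] [Finite G] (M : Md G par12) : M.LB k2l_2W 24 :=
  Md.LB.step k2l_2b (Md.LB.one M _)

noncomputable def k2l_1W : List (ℕ × ℕ) := apd [(0, (nat_lit 0xa280a260426280c))] k2l_2W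

theorem k2l_1b : lvB par12 k2l_1W k2l_2W 40 (nat_lit 0x6020404060206040206040206040602) 405 = true := by decide +kernel

theorem k2l_1 {G : Type*} [Group G] [Finite G] (M : Md G par12) : M.LB k2l_1W 9720 :=
  Md.LB.step k2l_1b (k2l_2 M)

noncomputable def k2l_0W : List (ℕ × ℕ) := apd [(0, 4),
 (0, 6),
 (0, 8),
 (0, 10),
 (0, 12),
 (0, 14),
 (0, 16)] k2l_1W

theorem k2l_0b : lvB par12 k2l_0W k2l_1W 0 (nat_lit 0x6040c08040206040e0a0c0408020604020c04020e0c02) 2016 = true := by decide +kernel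

theorem k2l_0 {G : Type*} [Group G] [Finite G] (M : Md G par12) : M.LB k2l_0W 19595520 :=
  Md.LB.step k2l_0b (k2l_1 M)

theorem k2w : leA par12 KW k2l_0W [2,
 4,
 6,
 8,
 10,
 12,
 14,
 (nat_lit 0x8020c06040c020408060c0204020c060408060a),
 (nat_lit 0x80608060c0204020c060408060408060c0204020c06040806),
 (nat_lit 0x806040608)] = true := by decide +kernel

theorem k2 {G : Type*} [Group G] [Finite G] (M : Md G par12) : M.LB KW 19595520 := Md.LB.of_leA (k2l_0 M) k2w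

noncomputable def n0l_2W : List (ℕ × ℕ) := apd [(0, (nat_lit 0xa0806)),
 (0, 10)] []

theorem n0l_2b : lvB par12 n0l_2W [] 11300 (nat_lit 0x204020402040204) 24 = true := by decide +kernel

theorem n0l_2 {G : Type*} [Group G] [Finite G] (M : Md G par12) : M.LB n0l_2W 24 :=
  Md.LB.step n0l_2b (Md.LB.one M _)

noncomputable def n0l_1W : List (ℕ × ℕ) := apd [(0, (nat_lit 0xa1c0e2a06042a0804))] n0l_2W

theorem n0l_1b : lvB par12 n0l_1W n0l_2W 5668 (nat_lit 0x402060402060402060402060406040206040604020604060402) 810 = true := by decide +kernel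

theorem n0l_1 {G : Type*} [Group G] [Finite G] (M : Md G par12) : M.LB n0l_1W 19440 :=
  Md.LB.step n0l_1b (n0l_2 M)

noncomputable def n0l_0W : List (ℕ × ℕ) := apd [(0, 4),
 (0, 6),
 (0, 8),
 (0, 10),
 (0, 12),
 (0, 14),
 (0, 16),
 (0, 18)] n0l_1W

theorem n0l_0b : lvB par12 n0l_0W n0l_1W 0 (nat_lit 0x6040c08040206040e0a0c0408020604020c04020e0c02) 2016 = true := by decide +kernel

theorem n0l_0 {G : Type*} [Group G] [Finite G] (M : Md G par12) : M.LB n0l_0W 39191040 :=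
  Md.LB.step n0l_0b (n0l_1 M)

theorem n0w : leA par12 NW n0l_0W [2,
 4,
 6,
 8,
 10,
 12,
 14,
 16,
 (nat_lit 0x100a08020c06040c020a0408020c06040c020604060804060c0204020c060408060a060408020c06040c02060408060a08),
 (nat_lit 0x80604),
 8] = true := by decide +kernel

theorem n0 {G : Type*} [Group G] [Finite G] (M : Md G par12) : M.LB NW 39191040 := Md.LB.of_leA (n0l_0 M) n0w

noncomputable def O1 : ℕ := (nat_lit 0x824024804820000024804820824000004820824024800000000000000000000124804820824000004820824024800000824024804820000000000000000000014820824024800000824024804820000024804820824000000000000000000001000000000000000100000000000000010000000000000001000100010001111e248048208240000048208240248000008240248048200000000000000000000148208240248000008240248048200000248048208240000000000000000000018240248048200000248048208240000048208240248000000000000000000001000000000000000100000000000000010000000000000001000100010001111e482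082402480000082402480482000002480482082400000000000000000000182402480482000002480482082400000482082402480000000000000000000012480482082400000482082402480000082402480482000000000000000000001000000000000000100000000000000010000000000000001000100010001111e000000000000000100000000000000010000000000000001000100010001111e000000000000000100000000000000010000000000000001000100010001111e000000000000000100000000000000010000000000000001000100010001111e000100010001111e000100010001111e000100010001111e111e111e111eeee0)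

theorem O1_orb : orbV parV K1W (nat_lit 0xa0c0a0c0406020a08040c06040c04) 5 O1 378 = true := by decide +kernel

theorem O1_inv : invS parV NW O1 = true := by decide +kernel

noncomputable def Ap : ℕ := (nat_lit 0x42020008084000210800000000000180840002108000420200000000000121080004202000808400000000000100000000100000000100000000104104938084000210800042020000000000012108000420200080840000000000014202000808400021080000000000010000000010000000010000000010410493210800042020008084000000000001420200080840002108000000000001808400021080004202000000000001000000001000000001000000001041049300000000100000000100000000104104930000000010000000010000000010410493000000001000000001000000001041049304104930410493041049324c9324f8)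

theorem Ap_b : cnd (subS Ap (ones 2016)) (allN 2016 fun q => Nat.beq (bit Ap q) (force (Nat.xor (look2 M12.LAB 12 64 q) 1) (bit O1))) false = true := by decide +kernel

noncomputable def nq_1W : List (ℕ × ℕ) := apd [(0, (nat_lit 0x80a06)),
 (0, 1544)] []

theorem nq_1b : lvB par12 nq_1W [] 11300 (nat_lit 0x402040402040204) 24 = true := by decide +kernel

theorem nq_1 {G : Type*} [Group G] [Finite G] (M : Md G par12) : M.LB nq_1W 24 :=
  Md.LB.step nq_1b (Md.LB.one M _)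

noncomputable def nq_0W : List (ℕ × ℕ) := apd [(0, (nat_lit 0x82c1410262c18242c))] nq_1W

theorem nq_0b : lvB par12 nq_0W nq_1W 5668 (nat_lit 0x2040602040602040602040606020406040602060604060602) 810 = true := by decide +kernel

theorem nq_0 {G : Type*} [Group G] [Finite G] (M : Md G par12) : M.LB nq_0W 19440 :=
  Md.LB.step nq_0b (nq_1 M)

theorem nq_w : leA par12 NW nq_0W [(nat_lit 0x100a08020c06040c020604020c06040c0206040a060804060c0204020c06040806080a060804020c06040c02060408060a080a),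
 (nat_lit 0x60408),
 1030] = true := by decide +kernel

theorem nq_f : presB par12 nq_0W [(0, 0)] [] = true := by decide +kernel

noncomputable def np_0D : List (ℕ × ℕ) := ((5668, 0) :: [(0, 0)])

noncomputable def np_1D : List (ℕ × ℕ) := (((nat_lit 0x1c2614), 0) :: np_0D)

noncomputable def np_2D : List (ℕ × ℕ) := ((14, 0) :: np_1D)

noncomputable def np_3D : List (ℕ × ℕ) := (((nat_lit 0x200e16), 0) :: np_2D)

noncomputable def np_4D : List (ℕ × ℕ) := (((nat_lit 0x262a10), 0) :: np_3D)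

noncomputable def np_5D : List (ℕ × ℕ) := (((nat_lit 0x2c262c), 0) :: np_4D)

noncomputable def np_6D : List (ℕ × ℕ) := (((nat_lit 0xc2c200e), 0) :: np_5D)

noncomputable def np_7D : List (ℕ × ℕ) := (((nat_lit 0x2c0e20), 0) :: np_6D)

noncomputable def np_8D : List (ℕ × ℕ) := (((nat_lit 0x1e0416), 0) :: np_7D)

noncomputable def np_9D : List (ℕ × ℕ) := (((nat_lit 0xe2804), 0) :: np_8D)

noncomputable def np_10D : List (ℕ × ℕ) := (((nat_lit 0x200420), 0) :: np_9D)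

theorem np_11b : endB par12 np_10D [12,
 (nat_lit 0x100418160a),
 (nat_lit 0x100e140c1203),
 9,
 (nat_lit 0x140e0c05),
 (nat_lit 0x1606181605),
 (nat_lit 0x4100c05),
 (nat_lit 0x80c1606181607),
 (nat_lit 0x61008160c1214181604),
 (nat_lit 0xe10140c1606181605),
 (nat_lit 0x4160c12021816080405),
 (nat_lit 0x2101416021204181604)] = true := by decide +kernel

theorem np_11 {G : Type*} [Group G] (M : Md G par12) : M.Ch np_10D [Ap] [] 1 := Md.Ch.base np_11b

theorem np_10b : stepB par12 np_9D [Ap] (apd [] []) [] (nat_lit 0x200420) (.dif (.dif (.dif (.dif (.dif (.dif (.dif (.dif (.and (.and (.nb 11) (.nb 1)) (.nb 9)) (.nb 8)) (.nb 10)) (.nb 6)) (.nb 7)) (.nb 3)) (.nb 4)) (.nb 2)) (.lit 0)) 0 1 0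
 .nil = true := by decide +kernel

theorem np_10 {G : Type*} [Group G] [Finite G] (M : Md G par12) : M.Ch np_9D [Ap] (apd [] []) 1 :=
  Md.Ch.step np_10b (np_11 M)

theorem np_9b : stepB par12 np_8D [Ap] (apd [] (apd [] [])) (apd [] []) (nat_lit 0xe2804) (.dif (.dif (.dif (.dif (.dif (.dif (.and (.and (.and (.nb 10) (.nb 5)) (.nb 2)) (.nb 8)) (.nb 7)) (.nb 9)) (.nb 6)) (.nb 1)) (.lit 0)) (.nb 3)) 0 1 0
 .nil = true := by decide +kernel

theorem np_9 {G : Type*} [Group G] [Finite G] (M : Md G par12) : M.Ch np_8D [Ap] (apd [] (apd [] [])) 1 :=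
  Md.Ch.step np_9b (np_10 M)

theorem np_8b : stepB par12 np_7D [Ap] (apd [] (apd [] (apd [] []))) (apd [] (apd [] [])) (nat_lit 0x1e0416) (.dif (.dif (.dif (.dif (.dif (.and (.and (.and (.and (.nb 9) (.nb 4)) (.nb 1)) (.nb 3)) (.nb 2)) (.nb 6)) (.nb 8)) (.lit 0)) (.nb 5)) (.nb 7)) 0 1 0
 .nil = true := by decide +kernel

theorem np_8 {G : Type*} [Group G] [Finite G] (M : Md G par12) : M.Ch np_7D [Ap] (apd [] (apd [] (apd [] []))) 1 :=
  Md.Ch.step np_8b (np_9 M)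

theorem np_7b : stepB par12 np_6D [Ap] (apd [] (apd [] (apd [] (apd [] [])))) (apd [] (apd [] (apd [] []))) (nat_lit 0x2c0e20) (.dif (.dif (.dif (.dif (.dif (.and (.and (.lit 0) (.nb 6)) (.nb 2)) (.nb 5)) (.nb 7)) (.nb 4)) (.nb 3)) (.nb 1)) 0 1 0
 .nil = true := by decide +kernel

theorem np_7 {G : Type*} [Group G] [Finite G] (M : Md G par12) : M.Ch np_6D [Ap] (apd [] (apd [] (apd [] (apd [] [])))) 1 :=
  Md.Ch.step np_7b (np_8 M)

theorem np_6b : stepB par12 np_5D [Ap] (apd [] (apd [] (apd [] (apd [] (apd [] []))))) (apd [] (apd [] (apd [] (apd [] [])))) (nat_lit 0xc2c200e) (.dif (.dif (.dif (.dif (.and (.and (.lit 0) (.nb 2)) (.nb 3)) (.nb 4)) (.nb 5)) (.nb 1)) (.nb 6)) 0 1 0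
 .nil = true := by decide +kernel

theorem np_6 {G : Type*} [Group G] [Finite G] (M : Md G par12) : M.Ch np_5D [Ap] (apd [] (apd [] (apd [] (apd [] (apd [] []))))) 1 :=
  Md.Ch.step np_6b (np_7 M)

theorem np_5b : stepB par12 np_4D [Ap] (apd [] (apd [] (apd [] (apd [] (apd [] (apd [] [])))))) (apd [] (apd [] (apd [] (apd [] (apd [] []))))) (nat_lit 0x2c262c) (.dif (.dif (.dif (.dif (.dif (.lit 0) (.nb 3)) (.nb 4)) (.nb 5)) (.nb 1)) (.nb 2)) 0 1 0
 (.many [(.mem 0 517)] 32 1 (nat_lit 0x1e161e00) .nil) = true := by decide +kernel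

theorem np_5 {G : Type*} [Group G] [Finite G] (M : Md G par12) : M.Ch np_4D [Ap] (apd [] (apd [] (apd [] (apd [] (apd [] (apd [] [])))))) 1 :=
  Md.Ch.step np_5b (np_6 M)

theorem np_4b : stepB par12 np_3D [Ap] (apd [] (apd [] (apd [] (apd [] (apd [] (apd [] (apd [] []))))))) (apd [] (apd [] (apd [] (apd [] (apd [] (apd [] [])))))) (nat_lit 0x262a10) (.dif (.dif (.dif (.dif (.lit 0) (.nb 2)) (.nb 3)) (.nb 4)) (.nb 1)) 0 1 0
 (.many [(.mem 0 1537),
 (.cnt (.and (.and (.im 6 (.nb 5)) (.nb 1)) (.lit 0)))] 40 7 (nat_lit 0x1e161e0010241804000c2c240400002c262c000022182a00002a261401000c1e1400) .nil) = true := by decide +kernel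

theorem np_4 {G : Type*} [Group G] [Finite G] (M : Md G par12) : M.Ch np_3D [Ap] (apd [] (apd [] (apd [] (apd [] (apd [] (apd [] (apd [] []))))))) 1 :=
  Md.Ch.step np_4b (np_5 M)

theorem np_3b : stepB par12 np_2D [Ap] (apd [] (apd [] (apd [] (apd [] (apd [] (apd [] (apd [] (apd [] [])))))))) (apd [] (apd [] (apd [] (apd [] (apd [] (apd [] (apd [] []))))))) (nat_lit 0x200e16) (.dif (.dif (.dif (.lit 0) (.nb 1)) (.nb 2)) (.nb 3)) 0 1 0
 (.many [(.cnt (.and (.and (.im 4 (.nb 1)) (.nb 3)) (.lit 0))),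
 (.cnt (.and (.and (.im 8 (.nb 1)) (.im 4 (.nb 3))) (.lit 0))),
 (.cnt (.and (.and (.im 8 (.nb 1)) (.nb 3)) (.lit 0))),
 (.mem 0 1025),
 (.cnt (.and (.and (.im 4 (.nb 4)) (.nb 1)) (.lit 0)))] 40 15 (nat_lit 0x2c041603001e161e031024180403002a222c030e12260e030c2c240403002c262c0318241e04030022182a03002a261404000c1e14032c082a0e000c2c200e0200262a10011226280400) .nil) = true := by decide +kernel

theorem np_3 {G : Type*} [Group G] [Finite G] (M : Md G par12) : M.Ch np_2D [Ap] (apd [] (apd [] (apd [] (apd [] (apd [] (apd [] (apd [] (apd [] [])))))))) 1 :=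
  Md.Ch.step np_3b (np_4 M)

noncomputable def np_2W : List (ℕ × ℕ) := apd [(0, (nat_lit 0x60806))] (apd [] (apd [] (apd [] (apd [] (apd [] (apd [] (apd [] (apd [] []))))))))

theorem np_2b : stepB par12 np_1D [Ap] np_2W (apd [] (apd [] (apd [] (apd [] (apd [] (apd [] (apd [] (apd [] [])))))))) 14 (.dif (.dif (.lit 0) (.nb 2)) (.nb 1)) 2 2 2
 (.cons (nat_lit 0x82410) (.br (nat_lit 0x200e16) (.dif (.dif (.dif (.lit 0) (.nb 1)) (.nb 2)) (.nb 3)) [] 0
 (.cons (nat_lit 0x1c0604) (.br (nat_lit 0x262a10) (.dif (.dif (.dif (.dif (.lit 0) (.nb 2)) (.nb 3)) (.nb 4)) (.nb 1)) [] 0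
 (.many [(.mem 0 1537)] 40 8 (nat_lit 0x2a0e1e00002c04160010241804000e12260e00001c2a1e00000028180000262410000000181e00) .nil))
 (.many [(.mem 0 1025)] 40 15 (nat_lit 0x2a0e1e00002c0416000a26040e0010241804000e12260e00001c2a1e000000281800002a26140000262410002c082a0e000c2c200e000000181e0000262a100024182204001226280400) .nil)))
 (.cons (nat_lit 0x1c0604) (.br 4 (.dif (.dif (.and (.lit 0) (.nb 3)) (.nb 1)) (.nb 2)) [(0, (nat_lit 0x60806))] 2
 (.cons 1540 (.br (nat_lit 0x82410) (.dif (.dif (.dif (.and (.lit 0) (.nb 2)) (.nb 1)) (.nb 3)) (.nb 4)) [(0, (nat_lit 0x60806))] 2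
 (.cons (nat_lit 0x200e16) (.br (nat_lit 0x12262804) (.dif (.dif (.dif (.dif (.dif (.lit 0) (.nb 2)) (.nb 4)) (.nb 3)) (.nb 5)) (.nb 1)) [] 0
 (.cons 3628 (.br (nat_lit 0x262804) (.dif (.dif (.dif (.and (.and (.and (.lit 0) (.nb 4)) (.nb 1)) (.nb 2)) (.nb 3)) (.nb 5)) (.nb 6)) [] 0
 .nil)
 (.many [(.mem 0 (nat_lit 0xc0a060e0c01)),
 (.mem 0 2049)] 40 3 (nat_lit 0x102418040100162628000006241000) .nil)))
 (.many [(.eq 1 3),
 (.mem 0 1025)] 32 4 (nat_lit 0x1e161e012c262c0122182a011c060400) .nil)))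
 (.cons (nat_lit 0x260620) (.br (nat_lit 0x200e16) (.dif (.dif (.dif (.dif (.lit 0) (.nb 1)) (.nb 3)) (.nb 2)) (.nb 4)) [] 0
 (.many [(.mem 0 1025),
 (.mem 0 1537)] 40 8 (nat_lit 0x2a0e1e011024180401002a222c01001c2a1e010026241001001626280000000e2c000006241000) .nil))
 (.many [(.mem 0 (nat_lit 0x804020a0803)),
 (.cnt (.and (.and (.nb 4) (.nb 1)) (.lit 0))),
 (.mem 0 1025)] 40 9 (nat_lit 0x202c2a002420180402001024160200001c1e0200242c180200261e040200001c2202001428160100221c2800) .nil))))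
 (.cons (nat_lit 0x200e16) (.br (nat_lit 0x200e16) (.dif (.dif (.dif (.lit 0) (.nb 1)) (.nb 2)) (.nb 3)) [] 0
 (.cons 14 (.br (nat_lit 0x262a10) (.dif (.dif (.dif (.dif (.lit 0) (.nb 2)) (.nb 3)) (.nb 4)) (.nb 1)) [] 0
 (.many [(.mem 0 1537)] 40 8 (nat_lit 0x1e161e0010241804000c2c240400002c262c000022182a00002a261400000c1e140000262a1000) .nil))
 (.many [(.mem 0 1025)] 40 15 (nat_lit 0x1e161e000a26040e0010241804000c2c240400002c262c000022182a000000281800002a261400000c1e1400001626280000000e2c000000181e0000262a100000262804000006241000) .nil)))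
 (.cons (nat_lit 0x262804) (.br (nat_lit 0x200e16) (.dif (.dif (.dif (.lit 0) (.nb 1)) (.nb 2)) (.nb 3)) [] 0
 (.many [(.mem 0 1025),
 (.cnt (.and (.and (.im 4 (.nb 1)) (.nb 3)) (.lit 0)))] 40 16 (nat_lit 0x2a0e1e00002c0416000a26040e00002c262c000008281800002a261400000c1e1400002624100000182204002c082a0e000c2c200e000018081e0000262a100000062410000008060e0100200e1600) .nil))
 (.cons (nat_lit 0x262a10) (.br (nat_lit 0x200e16) (.dif (.dif (.dif (.lit 0) (.nb 1)) (.nb 2)) (.nb 3)) [] 0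
 (.many [(.cnt (.and (.and (.im 8 (.nb 1)) (.im 4 (.nb 3))) (.lit 0))),
 (.mem 0 1025),
 (.cnt (.and (.and (.im 4 (.nb 1)) (.nb 3)) (.lit 0))),
 (.cnt (.and (.and (.im 8 (.nb 1)) (.nb 3)) (.lit 0)))] 40 16 (nat_lit 0x2c041601001e161e01002a222c01002c262c010018220401001e2c160100162628010028220403002c2a100100000e2c01000c2414020026280401122628040100200e160100082410010000000e00) .nil))
 (.cons (nat_lit 0xc2414) (.br 4 (.dif (.dif (.and (.lit 0) (.nb 3)) (.nb 1)) (.nb 2)) [(0, (nat_lit 0x60806))] 2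
 (.cons (nat_lit 0x202614) (.br (nat_lit 0x200e16) (.dif (.dif (.dif (.dif (.lit 0) (.nb 1)) (.nb 3)) (.nb 2)) (.nb 4)) [] 0
 (.cons (nat_lit 0x282204) (.br (nat_lit 0x202614) (.dif (.dif (.dif (.and (.and (.lit 0) (.nb 5)) (.nb 3)) (.nb 2)) (.nb 4)) (.nb 1)) [] 0
 (.many [(.mem 0 1537)] 32 1 (nat_lit 0x12220400) .nil))
 (.many [(.mem 0 (nat_lit 0xa08040c0a01)),
 (.mem 0 1025),
 (.mem 0 1537)] 40 7 (nat_lit 0x2a0e1e020e12260e02001c2a1e020022182a02001e2c1601001626280100262a1000) .nil)))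
 (.many [(.mem 0 (nat_lit 0x804020a0803)),
 (.mem 0 1025),
 (.cnt (.and (.and (.nb 4) (.nb 1)) (.lit 0)))] 40 10 (nat_lit 0x16241001002820040124201804010014281e0200001c1e010e2616040100242c180100261e040100001c2201061e240400) .nil)))
 (.cons (nat_lit 0x1e2c16) (.br (nat_lit 0x200e16) (.dif (.dif (.dif (.lit 0) (.nb 1)) (.nb 2)) (.nb 3)) [] 0
 (.many [(.cnt (.and (.and (.im 4 (.nb 1)) (.nb 3)) (.lit 0))),
 (.mem 0 1025),
 (.cnt (.and (.and (.im 8 (.nb 1)) (.im 4 (.nb 3))) (.lit 0))),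
 (.cnt (.and (.and (.im 8 (.nb 1)) (.nb 3)) (.lit 0)))] 40 16 (nat_lit 0x2a0e1e01002c04160100262216010c2c240401002c262c0100082818010004242801002c2a100300000e2c010c2c200e01000c2414020000181e0100262a1001000624100112262804010008060e00) .nil))
 (.cons (nat_lit 0x42428) (.br 4 (.dif (.dif (.and (.lit 0) (.nb 3)) (.nb 1)) (.nb 2)) [(0, (nat_lit 0x60806))] 2
 (.many [(.mem 0 1025),
 (.cnt (.and (.and (.nb 4) (.nb 1)) (.lit 0)))] 40 11 (nat_lit 0x2820040000202c2a00000e2a260000001c240100001c1e0000281428000000182c000e2616040000242c180000261e04000028221600) .nil))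
 (.cons (nat_lit 0x182204) (.br 4 (.dif (.dif (.and (.lit 0) (.nb 3)) (.nb 1)) (.nb 2)) [(0, (nat_lit 0x60806))] 2
 (.many [(.mem 0 1025),
 (.cnt (.and (.and (.nb 4) (.nb 1)) (.lit 0))),
 (.mem 0 515)] 40 11 (nat_lit 0x162410022c2610040100202c2a0000001c24000000182c0000261e04001e2a180400061e24040000221c280000000604000000000400) .nil))
 (.cons (nat_lit 0x2a2614) (.br (nat_lit 0x200e16) (.dif (.dif (.dif (.lit 0) (.nb 1)) (.nb 2)) (.nb 3)) [] 0
 (.many [(.cnt (.and (.and (.im 4 (.nb 4)) (.nb 1)) (.lit 0))),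
 (.mem 0 1025)] 40 16 (nat_lit 0x2c041601001e161e01002a222c010e12260e010026221601001c2a1e010c2c24040118241e040100042428012c082a0e010c2c200e010026280401122628040100200e160100082410010000000e00) .nil))
 (.cons 10264 (.br 4 (.dif (.dif (.and (.lit 0) (.nb 3)) (.nb 1)) (.nb 2)) [(0, (nat_lit 0x60806))] 2
 (.many [(.mem 0 1025),
 (.mem 0 (nat_lit 0x804020a0803)),
 (.cnt (.and (.and (.nb 4) (.nb 1)) (.lit 0)))] 40 11 (nat_lit 0xe2a260000001c240224201804000010241600002814280200261e040000001c22001e2a1804000000002401061e24040000221c2800) .nil))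
 (.cons (nat_lit 0x22182a) (.br 4 (.dif (.dif (.and (.lit 0) (.nb 3)) (.nb 1)) (.nb 2)) [(0, (nat_lit 0x60806))] 2
 (.cons (nat_lit 0x242c18) (.br (nat_lit 0x200e16) (.dif (.dif (.dif (.dif (.lit 0) (.nb 1)) (.nb 3)) (.nb 2)) (.nb 4)) [] 0
 (.many [(.mem 0 1537),
 (.mem 0 1025)] 40 8 (nat_lit 0x2a0e1e010a26040e00002a222c0000262410010004242800000c24140000200e16000000000e00) .nil))
 (.many [(.mem 0 1025)] 32 10 (nat_lit 0x1c240014281e0012220400001c1e0000182c00000024002026140004241800221c280000060400) .nil)))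
 (.cons (nat_lit 0x2c262c) (.br (nat_lit 0x200e16) (.dif (.dif (.dif (.lit 0) (.nb 1)) (.nb 2)) (.nb 3)) [] 0
 (.many [(.mem 0 1025),
 (.cnt (.and (.and (.im 8 (.nb 1)) (.im 4 (.nb 3))) (.lit 0))),
 (.mem 0 1537)] 40 16 (nat_lit 0x2a0e1e020a26040e00002a222c00001c2a1e00000828180000002818000018220401001e2c1600002822040000000e2c000c2c200e0000262a100000262804000008060e0000200e16000000000e00) .nil))
 (.cons (nat_lit 0x1c2a1e) (.br (nat_lit 0x200e16) (.dif (.dif (.dif (.lit 0) (.nb 1)) (.nb 2)) (.nb 3)) [] 0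
 (.cons (nat_lit 0x10241804) (.br (nat_lit 0x262a10) (.dif (.dif (.dif (.dif (.lit 0) (.nb 2)) (.nb 3)) (.nb 4)) (.nb 1)) [] 0
 (.many [(.mem 0 1537),
 (.mem 0 2049)] 40 8 (nat_lit 0x1e161e01000828180000162628002c082a0e00002c2a10000008060e00001c0604000008241000) .nil))
 (.many [(.mem 0 1025),
 (.cnt (.and (.and (.im 8 (.nb 1)) (.nb 3)) (.lit 0))),
 (.mem 0 1537)] 40 15 (nat_lit 0x1e161e020e12260e01002c262c000008281800002a261400002624100000162628002c082a0e00002c2a1000000c2414000000181e0024182204000008060e00001c0604000008241000) .nil)))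
 (.cons (nat_lit 0x2c0416) (.br (nat_lit 0x200e16) (.dif (.dif (.dif (.lit 0) (.nb 1)) (.nb 2)) (.nb 3)) [] 0
 (.cons (nat_lit 0xc2c2404) (.br (nat_lit 0x262a10) (.dif (.dif (.dif (.dif (.lit 0) (.nb 2)) (.nb 3)) (.nb 4)) (.nb 1)) [] 0
 (.many [(.mem 0 1537)] 40 8 (nat_lit 0xa26040e00002a261400001e2c160000162628000c2c200e000006241000001c0604000000000e00) .nil))
 (.many [(.mem 0 1025)] 40 15 (nat_lit 0xa26040e000026221600002a261400001e2c1600001626280000282204000c2c200e0000262a10002418220400002628040000062410000008060e00001c06040000082410000000000e00) .nil)))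
 (.many [(.cnt (.and (.and (.im 2 (.nb 3)) (.nb 2)) (.lit 0))),
 (.mem 0 514)] 40 12 (nat_lit 0x2a0e1e01001e161e01002a222c010e12260e000026221600000c1e140000262410010016262800002822040000000e2c00002c2a10000000181e00) .nil)))))))))))))))) = true := by decide +kernel

theorem np_2 {G : Type*} [Group G] [Finite G] (M : Md G par12) : M.Ch np_1D [Ap] np_2W 2 :=
  Md.Ch.step np_2b (np_3 M)

noncomputable def np_1W : List (ℕ × ℕ) := apd [(0, (nat_lit 0x120a0802))] np_2W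

theorem np_1b : stepB par12 np_0D [Ap] np_1W np_2W (nat_lit 0x1c2614) (.dif (.lit 0) (.nb 1)) (nat_lit 0x40202040204020402) 24 (nat_lit 0x2020402020402)
 (.cons 14 (.br 7172 (.dif (.and (.lit 0) (.nb 1)) (.nb 2)) [(0, 2568),
 (0, 8)] (nat_lit 0x40204)
 (.cons 6174 (.br 14 (.dif (.dif (.dif (.lit 0) (.nb 1)) (.nb 2)) (.nb 3)) [(0, (nat_lit 0x80a08))] 2
 (.many [(.mem 0 514)] 40 8 (nat_lit 0x2c240400002a222c00001c26140010221804000022182a000010220e0000200e160028141e0e00) .nil))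
 (.cons 3628 (.br 14 (.dif (.dif (.dif (.lit 0) (.nb 1)) (.nb 2)) (.nb 3)) [(0, (nat_lit 0x80a08))] 2
 (.many [(.mem 0 514)] 40 8 (nat_lit 0x1e161e00002c240400002a222c00002c262c0018241e0400001c26140000200e160000262a1000) .nil))
 (.cons (nat_lit 0x26240e) (.br 14 (.dif (.dif (.dif (.lit 0) (.nb 1)) (.nb 2)) (.nb 3)) [] 0
 (.many [(.mem 0 514)] 40 16 (nat_lit 0x2c082c00002c2404000626040e0020182a04000c2c240400002c262c0018241e04000022182a002026060e000028100400042a2804000010220e000012241000001424180028141e0e002a24260400) .nil))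
 (.cons (nat_lit 0x1c161e) (.br 14 (.dif (.dif (.dif (.lit 0) (.nb 1)) (.nb 2)) (.nb 3)) [(0, (nat_lit 0x80a08))] 2
 (.many [(.mem 0 514)] 40 8 (nat_lit 0x1e161e00002c262c0018241e040010221804000022182a000010220e0028141e0e0000262a1000) .nil))
 (.cons (nat_lit 0x2c220e) (.br 14 (.dif (.dif (.dif (.lit 0) (.nb 1)) (.nb 2)) (.nb 3)) [(0, 10)] 2
 (.many [(.mem 0 514)] 40 12 (nat_lit 0x2c240400002a222c00002224040000261c28002c26180e00002c0e2000002a2614002026060e00042a2804000010220e0000200e160028141e0e00) .nil))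
 (.cons (nat_lit 0x182204) (.br 14 (.dif (.dif (.dif (.lit 0) (.nb 1)) (.nb 2)) (.nb 3)) [(0, 8)] 2
 (.cons (nat_lit 0x261c28) (.br (nat_lit 0x262a10) (.dif (.dif (.dif (.dif (.lit 0) (.nb 1)) (.nb 3)) (.nb 2)) (.nb 4)) [] 0
 (.many [(.mem 0 1025),
 (.mem 0 1537)] 40 8 (nat_lit 0x2c082c01002a222c000e12260e012c1606040010221804000010220e00122628040028141e0e00) .nil))
 (.cons (nat_lit 0x2c262c) (.br (nat_lit 0x221c28) (.dif (.dif (.dif (.and (.lit 0) (.nb 4)) (.nb 1)) (.nb 3)) (.nb 2)) [(0, 8)] 2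
 (.many [(.mem 0 1025),
 (.eq 1027 1)] 32 5 (nat_lit 0x162410000a1e14011610040022282600221c2800) .nil))
 (.many [(.mem 0 514),
 (.cnt (.and (.and (.im 2 (.nb 2)) (.nb 4)) (.lit 0)))] 40 10 (nat_lit 0x2c082c00002a222c010e12260e002c16060401001c2614000010220e00242616040000262a100028141e0e0000001c0400) .nil))))
 (.cons 10264 (.br 14 (.dif (.dif (.dif (.lit 0) (.nb 1)) (.nb 2)) (.nb 3)) [(0, 10)] 2
 (.many [(.mem 0 514)] 40 12 (nat_lit 0x2c240400002a222c0000222404002c16220400002c262c00001c26140010221804000022182a00000c1e1400242616040000200e160028141e0e00) .nil))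
 (.cons (nat_lit 0x182a18) (.br 14 (.dif (.dif (.dif (.lit 0) (.nb 1)) (.nb 2)) (.nb 3)) [(0, 8)] 2
 (.cons (nat_lit 0x2a222c) (.br (nat_lit 0x221c28) (.dif (.dif (.dif (.and (.lit 0) (.nb 4)) (.nb 1)) (.nb 3)) (.nb 2)) [(0, 8)] 2
 (.many [(.mem 0 1025),
 (.eq 1027 1)] 40 5 (nat_lit 0x2c2610040000001e140000242c1801002004280000241c2200) .nil))
 (.cons (nat_lit 0x2c2404) (.br (nat_lit 0x262a10) (.dif (.dif (.dif (.dif (.lit 0) (.nb 1)) (.nb 3)) (.nb 2)) (.nb 4)) [] 0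
 (.many [(.mem 0 1025),
 (.mem 0 1537)] 40 8 (nat_lit 0x2c082c002c1622040118241e0400002c0e20002026060e01042a280400001224100000200e1600) .nil))
 (.many [(.mem 0 514),
 (.cnt (.and (.and (.im 2 (.nb 4)) (.nb 3)) (.lit 0)))] 40 10 (nat_lit 0x2c082c01002c160e0000261c2800002c0e2000002a2614002026060e00042a28040100262a100000200e160000001c0400) .nil))))
 (.cons (nat_lit 0x280604) (.br 14 (.dif (.dif (.dif (.lit 0) (.nb 1)) (.nb 2)) (.nb 3)) [(0, 10)] 2
 (.many [(.mem 0 514)] 40 12 (nat_lit 0x2c041600001e161e000626040e000e12260e0000261c28002c26180e00002c0e2000002a261400000c1e1400242616040000200e160028141e0e00) .nil))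
 (.cons (nat_lit 0x1e061e) (.br 14 (.dif (.dif (.dif (.lit 0) (.nb 3)) (.nb 1)) (.nb 2)) [(0, 2058)] 514
 (.cons (nat_lit 0x2c262c) (.br (nat_lit 0x221c28) (.dif (.dif (.dif (.and (.lit 0) (.nb 4)) (.nb 1)) (.nb 3)) (.nb 2)) [(0, 8)] 2
 (.many [(.mem 0 1537),
 (.mem 0 1025),
 (.eq 1027 1)] 32 5 (nat_lit 0x1624100116100401242c180222282601001c2200) .nil))
 (.many [(.mem 0 514),
 (.cnt (.and (.and (.im 2 (.nb 2)) (.nb 4)) (.lit 0)))] 40 7 (nat_lit 0x2c24040000222404000022182a002026060e01042a280401001424180000001c0400) .nil)))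
 (.cons (nat_lit 0x26040e) (.br 14 (.dif (.dif (.dif (.lit 0) (.nb 1)) (.nb 2)) (.nb 3)) [] 0
 (.cons (nat_lit 0xc1e14) (.br (nat_lit 0x262a10) (.dif (.dif (.dif (.dif (.lit 0) (.nb 1)) (.nb 3)) (.nb 2)) (.nb 4)) [] 0
 (.many [(.mem 0 1025),
 (.mem 0 1537)] 40 8 (nat_lit 0x2c2404000e12260e012c162204002024100e002c160604000022182a01122628040000200e1600) .nil))
 (.cons (nat_lit 0x261c28) (.br (nat_lit 0x262a10) (.dif (.dif (.dif (.dif (.lit 0) (.nb 1)) (.nb 3)) (.nb 2)) (.nb 4)) [] 0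
 (.many [(.mem 0 1025),
 (.mem 0 1537)] 40 8 (nat_lit 0x2c082c010e12260e012c162204002024100e002c160604000010220e00122628040000200e1600) .nil))
 (.cons (nat_lit 0x2c160604) (.br (nat_lit 0x262a10) (.dif (.dif (.dif (.dif (.lit 0) (.nb 1)) (.nb 3)) (.nb 2)) (.nb 4)) [] 0
 (.many [(.mem 0 1025),
 (.mem 0 1537)] 40 8 (nat_lit 0x2c082c000e12260e00002224040000261c2800000c1e14000010220e0100262a100000001c0400) .nil))
 (.cons (nat_lit 0x2024100e) (.br (nat_lit 0x262a10) (.dif (.dif (.dif (.dif (.lit 0) (.nb 1)) (.nb 3)) (.nb 2)) (.nb 4)) [] 0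
 (.many [(.mem 0 1025)] 40 8 (nat_lit 0x2c082c000e12260e00002c160e0000261c28000022182a00000c1e1400122628040000200e1600) .nil))
 (.cons (nat_lit 0x2c162204) (.br (nat_lit 0x262a10) (.dif (.dif (.dif (.dif (.lit 0) (.nb 1)) (.nb 3)) (.nb 2)) (.nb 4)) [] 0
 (.many [(.mem 0 1025),
 (.mem 0 1537)] 40 8 (nat_lit 0x2c2404010e12260e00002224040000261c28000022182a00000c1e140000262a100000001c0400) .nil))
 (.many [(.mem 0 514)] 40 11 (nat_lit 0x2c082c00002c2404000e12260e000022240400002c160e000022182a000010220e0000262a1000122628040000200e160000001c0400) .nil)))))))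
 (.many [(.eq 2 1),
 (.mem 0 (nat_lit 0x602080602))] 32 5 (nat_lit 0x22282a011c0604010024100100060e0100000e00) .nil)))))))))))))
 (.cons 6174 (.br 14 (.dif (.dif (.lit 0) (.nb 1)) (.nb 2)) [(0, 4610),
 (0, (nat_lit 0x80a08)),
 (0, (nat_lit 0x60806))] (nat_lit 0x60402)
 (.cons (nat_lit 0x82410) (.br (nat_lit 0x200e16) (.dif (.dif (.dif (.lit 0) (.nb 1)) (.nb 2)) (.nb 3)) [] 0
 (.many [(.cnt (.and (.and (.im 8 (.nb 1)) (.im 4 (.nb 3))) (.lit 0))),
 (.mem 0 1537),
 (.cnt (.and (.and (.im 4 (.nb 1)) (.nb 3)) (.lit 0))),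
 (.mem 0 1025)] 40 16 (nat_lit 0x2a0e1e0322202210030026040e030626040e030e12260e03001c2a1e0300182a1803001c26140300262410032c082a0e030c2c200e0324182204030026240e030022282a02001c06040128141e0e00) .nil))
 (.cons (nat_lit 0x22282a) (.br (nat_lit 0x200e16) (.dif (.dif (.dif (.lit 0) (.nb 1)) (.nb 2)) (.nb 3)) [] 0
 (.many [(.mem 0 1537),
 (.cnt (.and (.and (.im 4 (.nb 1)) (.nb 3)) (.lit 0))),
 (.cnt (.and (.and (.im 8 (.nb 1)) (.im 4 (.nb 3))) (.lit 0))),
 (.mem 0 1025)] 40 16 (nat_lit 0x2a0e1e03222022100300201c1e03001c2a1e0310221804030022182a0300262410030010220e0300182204032c082a0e030c2c200e03000e2c2603000624100300200e160200082410010000060e00) .nil))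
 (.cons (nat_lit 0x22182a) (.br 4 (.dif (.dif (.and (.lit 0) (.nb 3)) (.nb 1)) (.nb 2)) [(0, (nat_lit 0x60806))] 2
 (.many [(.mem 0 1025)] 40 11 (nat_lit 0x8281c04000014281e00001e28040000122204000024262000001c0822002c1220040000221c2400001c22240022242a100000221c2800) .nil))
 (.cons (nat_lit 0x182a18) (.br (nat_lit 0x200e16) (.dif (.dif (.dif (.lit 0) (.nb 1)) (.nb 2)) (.nb 3)) [] 0
 (.many [(.mem 0 1025),
 (.cnt (.and (.and (.im 4 (.nb 1)) (.nb 3)) (.lit 0)))] 40 16 (nat_lit 0x2220221000002c240401002a222c0100261c28000018220400001e2c160000142224000028220400002c2a1000000a241000000c241400000e2c26000026240e0000200e160000082410000000060e00) .nil))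
 (.many [(.mem 0 514),
 (.cnt (.and (.and (.im 2 (.nb 3)) (.nb 2)) (.lit 0)))] 32 3 (nat_lit 0x1c2614011822040100060e00) .nil))))))
 (.cons 9232 (.br 14 (.dif (.dif (.lit 0) (.nb 1)) (.nb 2)) [(0, (nat_lit 0x60806)),
 (0, (nat_lit 0x80a08))] 1026
 (.cons (nat_lit 0x180a1e) (.br (nat_lit 0x200e16) (.dif (.dif (.dif (.lit 0) (.nb 1)) (.nb 2)) (.nb 3)) [] 0
 (.many [(.mem 0 1025),
 (.mem 0 1537)] 40 16 (nat_lit 0x241e240e002220221000002c2404000a26040e0020182a0400001c2a1e000c2c24040000282026001228100400001e2c1600002c2a100000262804001c08060401122628040000200e160028141e0e00) .nil))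
 (.cons (nat_lit 0xe2c26) (.br (nat_lit 0x200e16) (.dif (.dif (.dif (.lit 0) (.nb 1)) (.nb 2)) (.nb 3)) [] 0
 (.cons (nat_lit 0x24182204) (.br (nat_lit 0x262a10) (.dif (.dif (.dif (.dif (.lit 0) (.nb 2)) (.nb 3)) (.nb 4)) (.nb 1)) [] 0
 (.many [(.mem 0 1537)] 40 8 (nat_lit 0x22202210001e10060400001c2a1e00000828180000102c14000018081e0012262804002a24260400) .nil))
 (.many [(.mem 0 1025)] 40 15 (nat_lit 0x2c082c00241e240e0022202210000626040e001e10060400001c2a1e0000182a18000008281800042a280400122810040000102c14000018081e00122628040000200e16002a24260400) .nil)))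
 (.cons (nat_lit 0x200e16) (.br (nat_lit 0x200e16) (.dif (.dif (.dif (.lit 0) (.nb 1)) (.nb 2)) (.nb 3)) [] 0
 (.cons (nat_lit 0x28141e0e) (.br (nat_lit 0x262a10) (.dif (.dif (.dif (.dif (.lit 0) (.nb 2)) (.nb 3)) (.nb 4)) (.nb 1)) [] 0
 (.many [(.mem 0 1537)] 40 8 (nat_lit 0x2c24040000222404000c2c240400002a261400242616040000262a1000002628040000180a1e00) .nil))
 (.many [(.mem 0 1025)] 40 15 (nat_lit 0x1e161e00002c2404000a26040e000626040e000022240400002c160e000c2c240400002820260000182a1800002a261400242616040000262a1000000e2c2600002628040000180a1e00) .nil)))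
 (.cons (nat_lit 0x102c14) (.br 4 (.dif (.dif (.and (.lit 0) (.nb 3)) (.nb 1)) (.nb 2)) [(0, (nat_lit 0x80a08))] 2
 (.many [(.mem 0 1025),
 (.mem 0 (nat_lit 0x804020a0803))] 40 11 (nat_lit 0xe2a2600001c081e00002c200e0000202a140000222826000000221400001c06220000001c220024061e0e010010200e000e1c241000) .nil))
 (.cons (nat_lit 0x182a18) (.br (nat_lit 0x200e16) (.dif (.dif (.dif (.lit 0) (.nb 1)) (.nb 2)) (.nb 3)) [] 0
 (.many [(.mem 0 1025),
 (.cnt (.and (.and (.im 4 (.nb 1)) (.nb 3)) (.lit 0))),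
 (.cnt (.and (.and (.im 8 (.nb 1)) (.im 4 (.nb 3))) (.lit 0)))] 40 16 (nat_lit 0x2c082c012220221000002c2404020a26040e00001e061e00002c160e000008281800002a261400042a280401001e2c1600002c2a10000018081e0000262a1000000e2c260000200e160000001c0400) .nil))
 (.cons (nat_lit 0x1e061e) (.br 4 (.dif (.dif (.and (.lit 0) (.nb 3)) (.nb 1)) (.nb 2)) [(0, (nat_lit 0x80a08))] 2
 (.many [(.mem 0 1025),
 (.mem 0 (nat_lit 0x804020a0803))] 32 11 (nat_lit 0x18100400281c04000e2a26001610040122282601001c220010200e002a060e00201c2a002606200000000400) .nil))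
 (.cons (nat_lit 0x201c1e) (.br (nat_lit 0x200e16) (.dif (.dif (.dif (.lit 0) (.nb 1)) (.nb 2)) (.nb 3)) [] 0
 (.many [(.mem 0 1025),
 (.cnt (.and (.and (.im 8 (.nb 1)) (.im 4 (.nb 3))) (.lit 0))),
 (.cnt (.and (.and (.im 4 (.nb 1)) (.nb 3)) (.lit 0)))] 40 16 (nat_lit 0x2c082c000a26040e0020182a04001e100604000022240400001c2a1e00002c160e020c2c2404011228100400001e2c1600002c2a10000018081e0000262a1000241822040028141e0e0000001c0400) .nil))
 (.cons (nat_lit 0x1e161e) (.br (nat_lit 0x200e16) (.dif (.dif (.dif (.lit 0) (.nb 1)) (.nb 2)) (.nb 3)) [] 0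
 (.many [(.mem 0 1025),
 (.cnt (.and (.and (.im 4 (.nb 1)) (.nb 3)) (.lit 0)))] 40 16 (nat_lit 0x22202210000626040e001e10060400001c2a1e011022180400002a2614002426160400002c2a10000c2c200e0000262a100024182204001c08060400122628040000200e16002a2426040000001c0400) .nil))
 (.many [(.mem 0 514),
 (.cnt (.and (.and (.im 2 (.nb 3)) (.nb 2)) (.lit 0)))] 40 6 (nat_lit 0x222404010028202601002a2614011228100401002628040000001c0400) .nil))))))))))
 (.cons (nat_lit 0x22282a) (.br 14 (.dif (.dif (.lit 0) (.nb 1)) (.nb 2)) [(0, (nat_lit 0x120a0602)),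
 (0, 10)] 516
 (.cons 6174 (.br (nat_lit 0x200e16) (.dif (.dif (.dif (.lit 0) (.nb 1)) (.nb 2)) (.nb 3)) [] 0
 (.many [(.mem 0 1537),
 (.mem 0 1025)] 40 16 (nat_lit 0x2a0e1e01222022100100201c1e01001c2a1e0110221804010022182a0100262410010010220e0100182204012c082a0e010c2c200e01000e2c2601000624100100200e160100082410010000060e00) .nil))
 (.cons (nat_lit 0xe2c26) (.br (nat_lit 0x200e16) (.dif (.dif (.dif (.lit 0) (.nb 1)) (.nb 2)) (.nb 3)) [] 0
 (.cons (nat_lit 0x62410) (.br (nat_lit 0x262a10) (.dif (.dif (.dif (.dif (.lit 0) (.nb 2)) (.nb 3)) (.nb 4)) (.nb 1)) [] 0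
 (.many [(.mem 0 1537)] 40 8 (nat_lit 0x241e240e00002806040000002818001228100400002c220e000000181e00001424180000200e1600) .nil))
 (.many [(.mem 0 1025)] 40 15 (nat_lit 0x241e240e0022202210000028060400001c2a1e00002c262c0000002818002026060e0012281004000010220e000018220400002c220e000000181e001226280400001424180000200e1600) .nil)))
 (.cons 3628 (.br (nat_lit 0x200e16) (.dif (.dif (.dif (.lit 0) (.nb 1)) (.nb 2)) (.nb 3)) [] 0
 (.cons (nat_lit 0x162628) (.br (nat_lit 0x262a10) (.dif (.dif (.dif (.dif (.lit 0) (.nb 2)) (.nb 3)) (.nb 4)) (.nb 1)) [] 0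
 (.many [(.mem 0 1537)] 32 8 (nat_lit 0x201c1e002806040000281800182204002c220e00262a1000180a1e00200e1600) .nil))
 (.many [(.mem 0 1025)] 40 15 (nat_lit 0x241e240e002220221000001e161e0000201c1e000028060400002c262c0018241e0400000028180000262410000018220400002c220e002c082a0e0000262a100000180a1e0000200e1600) .nil)))
 (.cons (nat_lit 0x182204) (.br (nat_lit 0x200e16) (.dif (.dif (.dif (.lit 0) (.nb 1)) (.nb 2)) (.nb 3)) [] 0
 (.many [(.mem 0 1025),
 (.cnt (.and (.and (.im 4 (.nb 1)) (.nb 3)) (.lit 0))),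
 (.cnt (.and (.and (.im 8 (.nb 1)) (.nb 3)) (.lit 0)))] 40 16 (nat_lit 0x2a0e1e00241e240e00001e061e00002c262c0218241e040110221804000010220e00002c220e002426160400001626280000000e2c000000181e0000262a1000000e2c2600122628040000001c0400) .nil))
 (.cons (nat_lit 0x262410) (.br 4 (.dif (.dif (.and (.lit 0) (.nb 3)) (.nb 1)) (.nb 2)) [(0, 10)] 2
 (.cons (nat_lit 0x282004) (.br (nat_lit 0x82410) (.dif (.dif (.dif (.and (.lit 0) (.nb 2)) (.nb 1)) (.nb 3)) (.nb 4)) [(0, 10)] 2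
 (.many [(.mem 0 1025),
 (.eq 1 3)] 32 5 (nat_lit 0x201c1e0022240400262410011224100014241800) .nil))
 (.many [(.mem 0 1025),
 (.cnt (.and (.and (.nb 4) (.nb 1)) (.lit 0))),
 (.mem 0 (nat_lit 0x804020a0803))] 40 10 (nat_lit 0x61e1402001810240100082824000e261c0400001c06220000142816001e2a1804000010200e00001c2224000000000400) .nil)))
 (.cons (nat_lit 0x2a2614) (.br 4 (.dif (.dif (.and (.lit 0) (.nb 3)) (.nb 1)) (.nb 2)) [(0, 10)] 2
 (.many [(.mem 0 1025),
 (.mem 0 (nat_lit 0x804020a0803))] 40 11 (nat_lit 0x61e140000202c2a000018102400000828240000001c1e00001c081e00002c200e01001c062200001428160000042418001e2a220400) .nil))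
 (.cons (nat_lit 0x22182a) (.br 4 (.dif (.dif (.and (.lit 0) (.nb 3)) (.nb 1)) (.nb 2)) [(0, 10)] 2
 (.cons (nat_lit 0xe261c04) (.br (nat_lit 0x82410) (.dif (.dif (.dif (.and (.lit 0) (.nb 2)) (.nb 1)) (.nb 3)) (.nb 4)) [(0, 10)] 2
 (.many [(.mem 0 1025),
 (.eq 1 3),
 (.mem 0 (nat_lit 0x60401))] 40 5 (nat_lit 0x10221804020022182a01002c220e00001224100000000e2c00) .nil))
 (.many [(.mem 0 1025),
 (.cnt (.and (.and (.nb 4) (.nb 1)) (.lit 0)))] 40 10 (nat_lit 0x16102401001810240000001c1e000024262000002c200e0000241c2200001c2224001c221e0e0000042418000000060400) .nil)))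
 (.cons (nat_lit 0x201c1e) (.br (nat_lit 0x200e16) (.dif (.dif (.dif (.lit 0) (.nb 1)) (.nb 2)) (.nb 3)) [] 0
 (.many [(.mem 0 1025),
 (.cnt (.and (.and (.im 4 (.nb 1)) (.nb 3)) (.lit 0))),
 (.cnt (.and (.and (.im 8 (.nb 1)) (.nb 3)) (.lit 0)))] 40 16 (nat_lit 0x2a0e1e0000280604000022240400001c2a1e00002c160e0218241e0401002810040112281004000010220e00001626280000000e2c000000181e0000262a10000012241000000624100000001c0400) .nil))
 (.many [(.mem 0 514),
 (.cnt (.and (.and (.im 2 (.nb 3)) (.nb 2)) (.lit 0)))] 32 6 (nat_lit 0x1c2a1e012c262c01002818012c220e0108241000001c0400) .nil))))))))))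
 (.cons (nat_lit 0x2c220e) (.br 14 (.dif (.dif (.lit 0) (.nb 1)) (.nb 2)) [(0, (nat_lit 0x1206080a0602))] (nat_lit 0x202020202)
 (.cons 3628 (.br 4 (.dif (.dif (.and (.lit 0) (.nb 3)) (.nb 1)) (.nb 2)) [(0, (nat_lit 0x60806))] 2
 (.cons (nat_lit 0x22242a10) (.br (nat_lit 0x82410) (.dif (.dif (.dif (.and (.lit 0) (.nb 2)) (.nb 1)) (.nb 3)) (.nb 4)) [(0, (nat_lit 0x60806))] 2
 (.many [(.eq 1 3),
 (.mem 0 1025)] 40 5 (nat_lit 0x1e061e01002c0e200112281004010010220e0100000e2c00) .nil))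
 (.many [(.mem 0 1025)] 40 10 (nat_lit 0x2204000014281e00001e28040000242c180006261e040000222826000028221600001c0822002c12200400221e100e00) .nil)))
 (.cons (nat_lit 0x182204) (.br 4 (.dif (.dif (.and (.lit 0) (.nb 3)) (.nb 1)) (.nb 2)) [(0, (nat_lit 0x60806))] 2
 (.many [(.mem 0 1025),
 (.mem 0 (nat_lit 0x804020a0803))] 40 11 (nat_lit 0xa1e1401042c20040000001c24000000182c00000024140006261e0400201e22100000222826002c12200400061e24040000221c2800) .nil))
 (.cons (nat_lit 0x2a2614) (.br 4 (.dif (.dif (.and (.lit 0) (.nb 3)) (.nb 1)) (.nb 2)) [(0, 10)] 2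
 (.cons (nat_lit 0x222c1e) (.br (nat_lit 0x82410) (.dif (.dif (.dif (.and (.lit 0) (.nb 2)) (.nb 1)) (.nb 3)) (.nb 4)) [(0, 10)] 2
 (.many [(.mem 0 1025),
 (.eq 1 3)] 40 5 (nat_lit 0x2a0e1e00001e061e002c26180e00002a2614010018220400) .nil))
 (.many [(.mem 0 1025),
 (.cnt (.and (.and (.nb 4) (.nb 1)) (.lit 0))),
 (.mem 0 515)] 40 10 (nat_lit 0x102018040000002204001e1220040000001c240200001c1e00002c200e010006221400001c0622002c122004000014281600) .nil)))
 (.cons (nat_lit 0x2c0e20) (.br 4 (.dif (.dif (.and (.lit 0) (.nb 3)) (.nb 1)) (.nb 2)) [(0, 10)] 2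
 (.cons (nat_lit 0xe261c04) (.br (nat_lit 0x82410) (.dif (.dif (.dif (.and (.lit 0) (.nb 2)) (.nb 1)) (.nb 3)) (.nb 4)) [(0, 10)] 2
 (.many [(.mem 0 1025),
 (.eq 1 3)] 32 5 (nat_lit 0x2a0e1e002c0e20011c161e00000e2c0022282a00) .nil))
 (.many [(.mem 0 1025),
 (.mem 0 (nat_lit 0x804020a0803))] 40 10 (nat_lit 0xe2a260000001c24001e28180400002c122a000000182c0000222c1e0000202a14010008221400221e1c04001c221e0e00) .nil)))
 (.cons (nat_lit 0x261c28) (.br 4 (.dif (.dif (.and (.lit 0) (.nb 3)) (.nb 1)) (.nb 2)) [(0, (nat_lit 0x60806))] 2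
 (.cons (nat_lit 0x6261e04) (.br (nat_lit 0x82410) (.dif (.dif (.dif (.and (.lit 0) (.nb 2)) (.nb 1)) (.nb 3)) (.nb 4)) [(0, (nat_lit 0x60806))] 2
 (.many [(.mem 0 1025),
 (.eq 1 3),
 (.mem 0 (nat_lit 0x60401))] 32 5 (nat_lit 0x2c24040222240400261c28011c161e0008241000) .nil))
 (.many [(.mem 0 (nat_lit 0x804020a0803)),
 (.mem 0 1025)] 40 10 (nat_lit 0xa1e14010e221e1401000e2a260100001c24010014281e0100001c1e010000182c010e2616040000222826010008221400) .nil)))
 (.many [(.mem 0 514),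
 (.cnt (.and (.and (.im 2 (.nb 3)) (.nb 2)) (.lit 0)))] 32 3 (nat_lit 0x28180022282a0100060e00) .nil)))))))
 (.cons (nat_lit 0x182204) (.br 7172 (.dif (.and (.lit 0) (.nb 1)) (.nb 2)) [(0, 1544),
 (0, 8)] (nat_lit 0x40204)
 (.cons 14 (.br 14 (.dif (.dif (.dif (.lit 0) (.nb 1)) (.nb 2)) (.nb 3)) [(0, 8)] 2
 (.cons 7172 (.br (nat_lit 0x221c28) (.dif (.dif (.dif (.and (.lit 0) (.nb 4)) (.nb 1)) (.nb 3)) (.nb 2)) [(0, 8)] 2
 (.cons (nat_lit 0x221c28) (.br (nat_lit 0x22182a) (.dif (.dif (.dif (.dif (.dif (.lit 0) (.nb 2)) (.nb 4)) (.nb 3)) (.nb 5)) (.nb 1)) [] 0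
 (.cons (nat_lit 0x20182a04) (.br (nat_lit 0x200e16) (.dif (.dif (.dif (.dif (.and (.lit 0) (.nb 4)) (.nb 3)) (.nb 1)) (.nb 5)) (.nb 6)) [] 0
 .nil)
 (.many [(.mem 0 2561)] 40 3 (nat_lit 0x2a222c002c16060400002c262c00) .nil)))
 (.many [(.eq 1027 1),
 (.mem 0 1025)] 32 4 (nat_lit 0x16241001200428010000100100000400) .nil)))
 (.cons (nat_lit 0x28141e0e) (.br (nat_lit 0x262a10) (.dif (.dif (.dif (.dif (.lit 0) (.nb 1)) (.nb 3)) (.nb 2)) (.nb 4)) [] 0
 (.many [(.mem 0 1025)] 40 8 (nat_lit 0x2c082c000e12260e0000261c280018241e040010221804000010220e00242616040000262a1000) .nil))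
 (.many [(.cnt (.and (.and (.im 2 (.nb 4)) (.nb 3)) (.lit 0))),
 (.cnt (.and (.and (.im 2 (.nb 2)) (.nb 4)) (.lit 0))),
 (.mem 0 514)] 40 10 (nat_lit 0x2c082c02002a222c020e12260e022c16060402002c262c0200261c2802001c2614020010220e02242616040100262a1000) .nil))))
 (.cons (nat_lit 0x142418) (.br 14 (.dif (.dif (.dif (.lit 0) (.nb 1)) (.nb 2)) (.nb 3)) [(0, (nat_lit 0x60806))] 2
 (.cons 7172 (.br (nat_lit 0x262a10) (.dif (.dif (.dif (.dif (.lit 0) (.nb 1)) (.nb 3)) (.nb 2)) (.nb 4)) [] 0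
 (.many [(.mem 0 1537),
 (.mem 0 1025)] 40 8 (nat_lit 0x2c082c01241e240e0120182a0401001e061e01002c262c010014222400000a2410000022282a00) .nil))
 (.many [(.mem 0 514)] 32 7 (nat_lit 0x2c082c001e061e002c262c00142224000a24100022282a000e2c2600) .nil)))
 (.cons 9232 (.br 14 (.dif (.dif (.dif (.lit 0) (.nb 1)) (.nb 2)) (.nb 3)) [(0, (nat_lit 0x60806))] 2
 (.cons 7172 (.br (nat_lit 0x262a10) (.dif (.dif (.dif (.dif (.lit 0) (.nb 1)) (.nb 3)) (.nb 2)) (.nb 4)) [] 0
 (.many [(.mem 0 (nat_lit 0x2060404)),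
 (.mem 0 1537),
 (.mem 0 1025)] 40 8 (nat_lit 0x2c082c02241e240e0220182a0402001e061e0200182a1802242616040100262a10010026280400) .nil))
 (.cons (nat_lit 0x262804) (.br (nat_lit 0x262a10) (.dif (.dif (.dif (.dif (.lit 0) (.nb 1)) (.nb 3)) (.nb 2)) (.nb 4)) [] 0
 (.many [(.mem 0 (nat_lit 0x2060404)),
 (.mem 0 1025)] 40 8 (nat_lit 0x241e240e01001e061e0100102c140124261604010018081e0100262a100128141e0e0100001c0400) .nil))
 (.many [(.mem 0 514)] 32 6 (nat_lit 0x2c082c001e061e00182a1800102c1400262a10000e2c2600) .nil))))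
 (.cons (nat_lit 0x200e16) (.br 14 (.dif (.dif (.dif (.lit 0) (.nb 1)) (.nb 2)) (.nb 3)) [(0, 6)] 2
 (.cons (nat_lit 0x22282a) (.br (nat_lit 0x262a10) (.dif (.dif (.dif (.dif (.lit 0) (.nb 1)) (.nb 3)) (.nb 2)) (.nb 4)) [] 0
 (.many [(.mem 0 1025)] 40 8 (nat_lit 0x2c262c00002c220e002426160400001626280000000e2c000000181e0000262a1000000e2c2600) .nil))
 (.many [(.mem 0 514)] 32 7 (nat_lit 0x261c28001c2614002c220e0014222400000e2c0000181e0026280400) .nil)))
 (.cons (nat_lit 0x222616) (.br 14 (.dif (.dif (.dif (.lit 0) (.nb 1)) (.nb 2)) (.nb 3)) [(0, (nat_lit 0x60806))] 2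
 (.many [(.mem 0 514),
 (.cnt (.and (.and (.im 2 (.nb 4)) (.nb 3)) (.lit 0)))] 32 12 (nat_lit 0x2a222c0026221600261c2800182a1800141e260010220e002c220e001422240028220401000e2c01262a10000e2c2600) .nil))
 (.cons (nat_lit 0x42428) (.br 14 (.dif (.dif (.dif (.lit 0) (.nb 1)) (.nb 3)) (.nb 2)) [(0, 2054)] 514
 (.many [(.cnt (.and (.and (.im 2 (.nb 2)) (.nb 4)) (.lit 0))),
 (.mem 0 514)] 32 8 (nat_lit 0x1e061e01262216001c261401141e26001422240128220400000e2c010c241400) .nil))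
 (.cons (nat_lit 0x281004) (.br 14 (.dif (.dif (.dif (.lit 0) (.nb 1)) (.nb 2)) (.nb 3)) [(0, 6)] 2
 (.many [(.mem 0 514),
 (.cnt (.and (.and (.im 2 (.nb 2)) (.nb 4)) (.lit 0)))] 40 12 (nat_lit 0x241e240e0020182a04012c160604001022180400002c220e00001e201e000014222400000c2414000018081e001c080604000026240e000022282a00) .nil))
 (.cons (nat_lit 0x2c0e20) (.br 14 (.dif (.dif (.dif (.lit 0) (.nb 1)) (.nb 2)) (.nb 3)) [(0, 8)] 2
 (.many [(.mem 0 514),
 (.cnt (.and (.and (.im 2 (.nb 4)) (.nb 3)) (.lit 0)))] 40 12 (nat_lit 0x2c082c01002a222c000e12260e00002622160000182a18000010220e00002c220e000028220400000c24140000262a1000001c06040028141e0e00) .nil))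
 (.cons (nat_lit 0x282026) (.br 14 (.dif (.dif (.dif (.lit 0) (.nb 1)) (.nb 2)) (.nb 3)) [] 0
 (.cons (nat_lit 0x20182a04) (.br (nat_lit 0x262a10) (.dif (.dif (.dif (.dif (.lit 0) (.nb 1)) (.nb 3)) (.nb 2)) (.nb 4)) [] 0
 (.many [(.mem 0 1025)] 40 8 (nat_lit 0x102218040000141e2600001e201e00000c2414000018081e001c080604000026240e0000001c0400) .nil))
 (.many [(.mem 0 514)] 40 15 (nat_lit 0x2a0e1e00001e061e00002c262c00102218040000141e260000102c1400001e201e000016262800000a241000000c2414000018081e0000262804001c080604000026240e0000001c0400) .nil)))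
 (.cons (nat_lit 0x222404) (.br 14 (.dif (.dif (.dif (.lit 0) (.nb 1)) (.nb 2)) (.nb 3)) [(0, 8)] 2
 (.many [(.cnt (.and (.and (.im 2 (.nb 2)) (.nb 4)) (.lit 0))),
 (.mem 0 514)] 40 12 (nat_lit 0x2a0e1e01001e061e012c16060401002c262c0100141e2601002c220e0124261604000014222401000a2410010022282a0128141e0e0100001c0400) .nil))
 (.cons (nat_lit 0x2c2404) (.br 14 (.dif (.dif (.dif (.lit 0) (.nb 1)) (.nb 2)) (.nb 3)) [] 0
 (.cons (nat_lit 0x182a18) (.br (nat_lit 0x262a10) (.dif (.dif (.dif (.dif (.lit 0) (.nb 1)) (.nb 3)) (.nb 2)) (.nb 4)) [] 0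
 (.many [(.mem 0 1025),
 (.mem 0 1537)] 40 8 (nat_lit 0x2c082c01001e061e00002622160018241e04000028220400000a2410000000181e000026240e00) .nil))
 (.many [(.mem 0 514)] 40 15 (nat_lit 0x2c082c00001e061e00002622160018241e04001022180400002c220e00001e201e00002822040000000e2c00000a2410000000181e001c080604000026240e00001c06040028141e0e00) .nil)))
 (.many [(.mem 0 (nat_lit 0x602080602)),
 (.eq 2 1)] 32 5 (nat_lit 0x26040e000028180026241000182204011c161e00) .nil)))))))))))))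
 (.cons 10264 (.br 7172 (.dif (.and (.lit 0) (.nb 1)) (.nb 2)) [(0, (nat_lit 0x6080a06)),
 (0, 10)] (nat_lit 0x40204)
 (.cons 14 (.br 14 (.dif (.dif (.dif (.lit 0) (.nb 1)) (.nb 2)) (.nb 3)) [(0, 10)] 2
 (.cons (nat_lit 0x28141e0e) (.br (nat_lit 0x221c28) (.dif (.dif (.dif (.and (.lit 0) (.nb 4)) (.nb 1)) (.nb 3)) (.nb 2)) [(0, 10)] 2
 (.many [(.eq 1027 1),
 (.mem 0 1025)] 32 5 (nat_lit 0x1e1401181024011c061e01001c2201221c2800) .nil))
 (.cons (nat_lit 0x222404) (.br (nat_lit 0x221c28) (.dif (.dif (.dif (.and (.lit 0) (.nb 4)) (.nb 1)) (.nb 3)) (.nb 2)) [(0, 10)] 2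
 (.many [(.mem 0 1025),
 (.eq 1027 1)] 32 5 (nat_lit 0x1e14000e2a26011c061e002022180000001000) .nil))
 (.many [(.cnt (.and (.and (.im 2 (.nb 4)) (.nb 3)) (.lit 0))),
 (.cnt (.and (.and (.im 2 (.nb 2)) (.nb 4)) (.lit 0))),
 (.mem 0 514)] 40 10 (nat_lit 0x2c240402002a222c022c16220402002c262c02001c26140210221804020022182a02000c1e1402242616040100200e1600) .nil))))
 (.cons 7172 (.br 14 (.dif (.dif (.dif (.lit 0) (.nb 1)) (.nb 2)) (.nb 3)) [(0, 10)] 2
 (.many [(.cnt (.and (.and (.im 2 (.nb 4)) (.nb 3)) (.lit 0))),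
 (.cnt (.and (.and (.im 2 (.nb 2)) (.nb 4)) (.lit 0))),
 (.mem 0 514)] 40 12 (nat_lit 0x2a0e1e02002a222c02001e061e0200222404012c16220402002c262c0200182a18020022182a02002624100224261604010022282a000008241000) .nil))
 (.cons (nat_lit 0x142418) (.br 14 (.dif (.dif (.dif (.lit 0) (.nb 1)) (.nb 2)) (.nb 3)) [(0, (nat_lit 0x60806))] 2
 (.many [(.mem 0 514)] 40 8 (nat_lit 0x1e061e0000282026002024100e00002c262c0000200e16000022282a00000e2c26000008241000) .nil))
 (.cons 9232 (.br 14 (.dif (.dif (.dif (.lit 0) (.nb 1)) (.nb 2)) (.nb 3)) [(0, (nat_lit 0x60806))] 2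
 (.many [(.mem 0 514)] 32 8 (nat_lit 0x2c2404001e061e002224040028202600182a1800102c1400200e16000e2c2600) .nil))
 (.cons (nat_lit 0x262804) (.br 14 (.dif (.dif (.dif (.lit 0) (.nb 1)) (.nb 2)) (.nb 3)) [] 0
 (.many [(.mem 0 514)] 40 16 (nat_lit 0x2a0e1e00001e061e001e1006040000222404002c162204000028202600002c262c00001c261400000c1e1400002624100000102c140024261604000026240e00000624100000200e160028141e0e00) .nil))
 (.cons (nat_lit 0x122410) (.br 14 (.dif (.dif (.dif (.lit 0) (.nb 1)) (.nb 2)) (.nb 3)) [(0, (nat_lit 0x60806))] 2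
 (.many [(.mem 0 514)] 40 8 (nat_lit 0x2c24040000222404002024100e00002c262c0000182a180000102c14000022282a000008241000) .nil))
 (.cons (nat_lit 0x10220e) (.br 14 (.dif (.dif (.dif (.lit 0) (.nb 1)) (.nb 2)) (.nb 3)) [(0, (nat_lit 0x60806))] 2
 (.many [(.mem 0 514),
 (.cnt (.and (.and (.im 2 (.nb 2)) (.nb 4)) (.lit 0))),
 (.cnt (.and (.and (.im 2 (.nb 4)) (.nb 3)) (.lit 0)))] 32 12 (nat_lit 0x2a0e1e022a222c01262216002c262c0022182a002c220e00102c14001c161e002226160022282a000e2c260000060e00) .nil))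
 (.cons (nat_lit 0x2c0e20) (.br 14 (.dif (.dif (.dif (.lit 0) (.nb 1)) (.nb 2)) (.nb 3)) [(0, 10)] 2
 (.many [(.mem 0 514)] 40 12 (nat_lit 0x2c240400002a222c000026221600002806040000182a1800000c1e140000102c1400002c220e0000200e1600001c06040028141e0e000000060e00) .nil))
 (.cons (nat_lit 0x261c28) (.br 14 (.dif (.dif (.dif (.lit 0) (.nb 1)) (.nb 2)) (.nb 3)) [(0, (nat_lit 0x60806))] 2
 (.many [(.mem 0 514)] 40 12 (nat_lit 0x2a222c0000280604002024100e0000182a18000026241000002c220e00002226160000000e2c0000200e1600001c060400000e2c26000000060e00) .nil))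
 (.cons (nat_lit 0xe12260e) (.br 14 (.dif (.dif (.dif (.lit 0) (.nb 3)) (.nb 1)) (.nb 2)) [(0, (nat_lit 0xa060806))] 514
 (.many [(.mem 0 514),
 (.cnt (.and (.and (.im 2 (.nb 2)) (.nb 4)) (.lit 0)))] 32 8 (nat_lit 0x280604001c2614000c1e140126241001102c14001c0604000e2c2600000e2c00) .nil))
 (.cons (nat_lit 0x201c1e) (.br 14 (.dif (.dif (.dif (.lit 0) (.nb 1)) (.nb 2)) (.nb 3)) [] 0
 (.cons (nat_lit 0x18241e04) (.br (nat_lit 0x262a10) (.dif (.dif (.dif (.dif (.lit 0) (.nb 1)) (.nb 3)) (.nb 2)) (.nb 4)) [] 0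
 (.many [(.mem 0 1025),
 (.mem 0 1537)] 40 8 (nat_lit 0x2a0e1e0120182a04011e10060400002c160e0000000e2c0024182204000022282a0028141e0e00) .nil))
 (.cons (nat_lit 0x2c160e) (.br (nat_lit 0x262a10) (.dif (.dif (.dif (.dif (.lit 0) (.nb 1)) (.nb 3)) (.nb 2)) (.nb 4)) [] 0
 (.many [(.mem 0 1025)] 40 8 (nat_lit 0x2a0e1e0020182a0400002224040018241e04000016262800241822040000062410000022282a00) .nil))
 (.many [(.mem 0 514)] 40 14 (nat_lit 0x2a0e1e0020182a04001e10060400002806040000222404002c162204000004242800001626280000000e2c00241822040000062410000022282a00001c06040028141e0e00) .nil))))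
 (.many [(.mem 0 (nat_lit 0x602080602)),
 (.eq 2 1)] 32 5 (nat_lit 0x26040e00002818012a2614001822040000181e00) .nil)))))))))))))
 (.cons (nat_lit 0x2c0e20) (.br 14 (.dif (.dif (.lit 0) (.nb 2)) (.nb 1)) [(0, 2058)] 514
 (.cons (nat_lit 0x142418) (.br 4 (.dif (.dif (.and (.lit 0) (.nb 3)) (.nb 1)) (.nb 2)) [(0, (nat_lit 0x80a08))] 2
 (.cons (nat_lit 0x242c1004) (.br (nat_lit 0x82410) (.dif (.dif (.dif (.and (.lit 0) (.nb 2)) (.nb 1)) (.nb 3)) (.nb 4)) [(0, (nat_lit 0x80a08))] 2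
 (.many [(.mem 0 1025),
 (.eq 1 3)] 32 5 (nat_lit 0x2a222c00182a18002a26140014241801262a1000) .nil))
 (.many [(.mem 0 1025)] 40 10 (nat_lit 0xe2a2600001c061e00002c122a000000182c0000222c1e0000082214001e2a1804000010200e00000e2a24000020261400) .nil)))
 (.cons 1550 (.br 4 (.dif (.dif (.and (.lit 0) (.nb 3)) (.nb 1)) (.nb 2)) [(0, 10)] 2
 (.cons (nat_lit 0x1e2a2204) (.br (nat_lit 0x82410) (.dif (.dif (.dif (.and (.lit 0) (.nb 2)) (.nb 1)) (.nb 3)) (.nb 4)) [(0, 10)] 2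
 (.many [(.eq 1 3),
 (.mem 0 1025)] 40 5 (nat_lit 0x2a2614010012241001122628040100142418010000060e00) .nil))
 (.cons (nat_lit 0x221e1c04) (.br (nat_lit 0x200e16) (.dif (.dif (.dif (.dif (.lit 0) (.nb 1)) (.nb 3)) (.nb 2)) (.nb 4)) [] 0
 (.many [(.mem 0 1025),
 (.mem 0 1537)] 40 8 (nat_lit 0x1e161e01002a222c01002806040000182a18012026060e010010220e01002c220e002a24260400) .nil))
 (.cons (nat_lit 0x10200e) (.br (nat_lit 0x200e16) (.dif (.dif (.dif (.dif (.lit 0) (.nb 1)) (.nb 3)) (.nb 2)) (.nb 4)) [] 0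
 (.cons (nat_lit 0x1c0604) (.br (nat_lit 0xc1e14) (.dif (.dif (.dif (.dif (.dif (.lit 0) (.nb 2)) (.nb 4)) (.nb 1)) (.nb 3)) (.nb 5)) [] 0
 (.many [(.mem 0 (nat_lit 0xc08060e0c01)),
 (.mem 0 (nat_lit 0xc02060e0c02))] 40 3 (nat_lit 0x2c240400002a222c0120182a0400) .nil))
 (.many [(.mem 0 1025),
 (.mem 0 1537)] 40 7 (nat_lit 0x2c240401002a222c0120182a040100182a18012026060e010010220e0100200e1600) .nil)))
 (.many [(.mem 0 (nat_lit 0x804020a0803)),
 (.mem 0 1025),
 (.cnt (.and (.and (.nb 4) (.nb 1)) (.lit 0)))] 40 8 (nat_lit 0x1810040100181024011e28180401002814280200202a140100002214010008221401000c281800) .nil)))))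
 (.cons (nat_lit 0x28141e0e) (.br 4 (.dif (.dif (.and (.lit 0) (.nb 3)) (.nb 1)) (.nb 2)) [(0, 10)] 2
 (.many [(.mem 0 (nat_lit 0x804020a0803)),
 (.mem 0 1025)] 40 11 (nat_lit 0x161024010018102401001c061e01002814280100222c1e010e261c04010010200e01000c281801221e1c040100202614010000000400) .nil))
 (.cons (nat_lit 0x1c0604) (.br 4 (.dif (.dif (.and (.lit 0) (.nb 3)) (.nb 1)) (.nb 2)) [(0, 10)] 2
 (.cons (nat_lit 0x1c221e0e) (.br (nat_lit 0x200e16) (.dif (.dif (.dif (.dif (.lit 0) (.nb 1)) (.nb 3)) (.nb 2)) (.nb 4)) [] 0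
 (.many [(.mem 0 1025),
 (.mem 0 1537)] 40 8 (nat_lit 0x2c082c01002c041601002a222c010626040e010028060400042a280401002c220e002a24260400) .nil))
 (.cons (nat_lit 0xc2818) (.br (nat_lit 0x200e16) (.dif (.dif (.dif (.dif (.lit 0) (.nb 1)) (.nb 3)) (.nb 2)) (.nb 4)) [] 0
 (.cons 1550 (.br (nat_lit 0xc1e14) (.dif (.dif (.dif (.dif (.dif (.lit 0) (.nb 2)) (.nb 4)) (.nb 1)) (.nb 3)) (.nb 5)) [] 0
 (.many [(.mem 0 (nat_lit 0xc08060e0c01)),
 (.mem 0 (nat_lit 0xc02060e0c02))] 40 3 (nat_lit 0x20182a0401001c2a1e00000c1e1400) .nil))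
 (.many [(.mem 0 1025),
 (.mem 0 1537)] 40 7 (nat_lit 0x2c041601102418040120182a0401001c2a1e01000c1e1401042a28040128141e0e00) .nil)))
 (.cons (nat_lit 0x242620) (.br (nat_lit 0x82410) (.dif (.dif (.dif (.and (.lit 0) (.nb 2)) (.nb 1)) (.nb 3)) (.nb 4)) [(0, 10)] 2
 (.many [(.eq 1 3),
 (.mem 0 1025)] 32 5 (nat_lit 0x26221601182a1801102c1401200e16011c060400) .nil))
 (.many [(.mem 0 (nat_lit 0x804020a0803)),
 (.mem 0 1025)] 40 8 (nat_lit 0x1610240100161004011e28180401001c061e010e261c040100002214010010200e001e2a220400) .nil)))))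
 (.cons (nat_lit 0x200e16) (.br 4 (.dif (.dif (.and (.lit 0) (.nb 3)) (.nb 1)) (.nb 2)) [(0, 10)] 2
 (.cons 4 (.br (nat_lit 0x82410) (.dif (.dif (.dif (.and (.lit 0) (.nb 2)) (.nb 1)) (.nb 3)) (.nb 4)) [(0, 10)] 2
 (.many [(.eq 1 3),
 (.mem 0 (nat_lit 0x60401)),
 (.mem 0 1025)] 40 5 (nat_lit 0x1c2a1e020010220e020012241001122628040100200e1600) .nil))
 (.many [(.mem 0 1025)] 40 10 (nat_lit 0x181004000016100400002426200000222c1e0000202a140000082214000010200e00000c2818001c221e0e000020261400) .nil)))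
 (.cons (nat_lit 0x2c220e) (.br 4 (.dif (.dif (.and (.lit 0) (.nb 3)) (.nb 1)) (.nb 2)) [(0, 10)] 2
 (.many [(.mem 0 1025),
 (.cnt (.and (.and (.nb 4) (.nb 1)) (.lit 0)))] 40 11 (nat_lit 0xe2a260000001c24011e28180400002c122a000000182c0000222c1e000e261c040000202a14000008221400221e1c04001c221e0e00) .nil))
 (.cons (nat_lit 0x10220e) (.br 4 (.dif (.dif (.and (.lit 0) (.nb 3)) (.nb 1)) (.nb 2)) [(0, 8)] 2
 (.cons (nat_lit 0x102416) (.br (nat_lit 0x200e16) (.dif (.dif (.dif (.dif (.lit 0) (.nb 1)) (.nb 3)) (.nb 2)) (.nb 4)) [] 0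
 (.many [(.mem 0 1537),
 (.mem 0 1025)] 40 8 (nat_lit 0x2c082c0100102c140000282204000c2c200e0000262a10000008060e0028141e0e000000000e00) .nil))
 (.many [(.mem 0 1025),
 (.mem 0 515)] 40 10 (nat_lit 0x181004000016102401000e2a260000001c240000281428000e26160400000e2a240000202614000010200e000000000400) .nil)))
 (.cons (nat_lit 0x182a18) (.br 4 (.dif (.dif (.and (.lit 0) (.nb 3)) (.nb 1)) (.nb 2)) [(0, 8)] 2
 (.many [(.mem 0 1025)] 40 11 (nat_lit 0x1c24000014281e000012220400001c061e000000182c000e261604000000002400000e2a24000010200e001e2a2204000000000400) .nil))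
 (.cons (nat_lit 0x280604) (.br 4 (.dif (.dif (.and (.lit 0) (.nb 3)) (.nb 1)) (.nb 2)) [(0, 10)] 2
 (.cons 36 (.br (nat_lit 0x82410) (.dif (.dif (.dif (.and (.lit 0) (.nb 2)) (.nb 1)) (.nb 3)) (.nb 4)) [(0, 10)] 2
 (.many [(.mem 0 1025),
 (.eq 1 3),
 (.mem 0 (nat_lit 0x60401))] 32 5 (nat_lit 0x2c2404002a222c002622160228060401182a1800) .nil))
 (.many [(.mem 0 1025)] 40 10 (nat_lit 0x1810040000161024001e28180400002c122a000000182c0000222c1e0000002214001e2a180400221e1c04001c221e0e00) .nil)))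
 (.cons (nat_lit 0x2a222c) (.br 4 (.dif (.dif (.and (.lit 0) (.nb 3)) (.nb 1)) (.nb 2)) [(0, 8)] 2
 (.many [(.mem 0 1025),
 (.mem 0 515),
 (.cnt (.and (.and (.nb 4) (.nb 1)) (.lit 0)))] 40 11 (nat_lit 0x16102400000e2a2600001810240200122204000e2616040100261e04000000002400002a060e000010200e001c221e0e001e2a220400) .nil))
 (.many [(.cnt (.and (.and (.im 2 (.nb 3)) (.nb 2)) (.lit 0))),
 (.mem 0 514)] 40 6 (nat_lit 0x1e161e01002c240400002a2614002026060e01042a2804010000000e00) .nil))))))))))))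
 .nil)))))))) = true := by decide +kernel

theorem np_1 {G : Type*} [Group G] [Finite G] (M : Md G par12) : M.Ch np_0D [Ap] np_1W 48 :=
  Md.Ch.step np_1b (np_2 M)

noncomputable def np_0W : List (ℕ × ℕ) := apd [(0, 0),
 (0, (nat_lit 0x16260e2c0e26160a))] np_1W

theorem np_0b : stepB par12 [(0, 0)] [Ap] np_0W np_1W 5668 (.dif .all (.nb 1)) (nat_lit 0x6060604060806060604060806040608060806040608060604060806060402) 810 (nat_lit 0x606080604060608040608060604060406080602)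
 (.cons 20 (.br 14 (.dif (.lit 0) (.nb 1)) [(0, (nat_lit 0x162006082016120a02)),
 (0, (nat_lit 0x62422041822240a0c0a))] (nat_lit 0x204020402040204020402)
 (.cons 9232 (.br 7172 (.dif (.dif (.lit 0) (.nb 1)) (.nb 2)) [(0, (nat_lit 0x2a1626221e0e222c1e)),
 (0, (nat_lit 0xc24140608062402))] (nat_lit 0x20204020402040204)
 (.many [(.mem 0 1025),
 (.cnt (.and (.and (.im 4 (.nb 1)) (.nb 3)) (.lit 0)))] 32 2 (nat_lit 0x2628040126062000) .nil))
 .nil))
 (.cons 9240 (.br 14 (.dif (.lit 0) (.nb 1)) [(0, (nat_lit 0x8120c0a060802)),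
 (0, (nat_lit 0x2c2a081c2610041e10))] (nat_lit 0x402040204020402)
 (.cons 14 (.br 7172 (.dif (.dif (.lit 0) (.nb 1)) (.nb 2)) [(0, (nat_lit 0x2422180422240c)),
 (0, (nat_lit 0xc242218042224))] (nat_lit 0x202020402)
 (.cons (nat_lit 0x221c28) (.br 16 (.dif (.dif (.and (.lit 0) (.nb 3)) (.nb 2)) (.nb 1)) [(0, (nat_lit 0x24220422240c)),
 (0, (nat_lit 0x2422042224))] (nat_lit 0x20402)
 (.many [(.mem 0 515),
 (.mem 0 (nat_lit 0x80402060a04)),
 (.cnt (.and (.and (.nb 4) (.nb 1)) (.lit 0)))] 40 7 (nat_lit 0x242c1802001c26140200282216020000001001001e240400000424180028141e0e00) .nil))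
 (.many [(.cnt (.and (.and (.im 4 (.nb 1)) (.nb 3)) (.lit 0))),
 (.mem 0 1025)] 40 7 (nat_lit 0x6221401001c062201001c08220100122410001226280400001424180000001c0400) .nil)))
 (.cons (nat_lit 0x221c28) (.br 7172 (.dif (.dif (.lit 0) (.nb 1)) (.nb 2)) [(0, (nat_lit 0x26060c2816241e0c1e02)),
 (0, (nat_lit 0xa2a2c0a2c2a0a))] (nat_lit 0x40204020402)
 (.cons 14 (.br 16 (.dif (.dif (.and (.lit 0) (.nb 3)) (.nb 2)) (.nb 1)) [(0, (nat_lit 0xc2422042224)),
 (0, 12)] (nat_lit 0x40204)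
 (.many [(.mem 0 515),
 (.mem 0 514),
 (.mem 0 (nat_lit 0x80402060a04)),
 (.cnt (.and (.and (.nb 4) (.nb 1)) (.lit 0)))] 40 7 (nat_lit 0x242c1803001c26140300282216030000001002001e240401000424180128141e0e00) .nil))
 (.cons (nat_lit 0x2a242604) (.br (nat_lit 0x200e16) (.dif (.dif (.and (.lit 0) (.nb 1)) (.nb 2)) (.nb 3)) [(0, (nat_lit 0x24220422240c)),
 (0, 12)] (nat_lit 0x40204)
 (.many [(.eq 1 2),
 (.mem 0 1537)] 40 7 (nat_lit 0x200428010020221801001c081e01001c0822010000181e0100180a1e012a24260400) .nil))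
 (.many [(.mem 0 1025)] 32 7 (nat_lit 0x200428001c0622001c08220000181e002628040000241000180a1e00) .nil))))
 (.cons (nat_lit 0x142418) (.br 7172 (.dif (.dif (.lit 0) (.nb 1)) (.nb 2)) [(0, (nat_lit 0x40e1c20102012)),
 (0, (nat_lit 0x12182816281802))] (nat_lit 0x40404020404020402)
 (.many [(.cnt (.and (.and (.im 4 (.nb 1)) (.nb 3)) (.lit 0))),
 (.mem 0 1025)] 32 2 (nat_lit 0x1c08220100000e00) .nil))
 (.cons 9232 (.br 7172 (.dif (.dif (.lit 0) (.nb 1)) (.nb 2)) [(0, (nat_lit 0x61e082c0e280e2c06)),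
 (0, (nat_lit 0x80a082422042224))] (nat_lit 0x2020202040402)
 (.many [(.cnt (.and (.and (.im 4 (.nb 1)) (.nb 3)) (.lit 0))),
 (.mem 0 1025)] 32 4 (nat_lit 0x822140126280400221c2801001c0400) .nil))
 (.cons (nat_lit 0x262804) (.br 7172 (.dif (.dif (.lit 0) (.nb 1)) (.nb 2)) [(0, (nat_lit 0x8120c0a060802)),
 (0, (nat_lit 0x2422041822240c))] (nat_lit 0x20204020402)
 (.many [(.cnt (.and (.and (.im 4 (.nb 1)) (.nb 3)) (.lit 0))),
 (.mem 0 1025)] 32 4 (nat_lit 0x822140100241000221c2801001c0400) .nil))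
 (.cons 6174 (.br 7172 (.dif (.dif (.lit 0) (.nb 1)) (.nb 2)) [(0, 4610),
 (0, (nat_lit 0x80a08)),
 (0, (nat_lit 0x80a0608))] (nat_lit 0x60402)
 (.cons (nat_lit 0xc2818) (.br 16 (.dif (.dif (.and (.lit 0) (.nb 3)) (.nb 2)) (.nb 1)) [(0, (nat_lit 0x60806))] 2
 (.many [(.mem 0 515),
 (.cnt (.and (.and (.nb 4) (.nb 1)) (.lit 0))),
 (.mem 0 (nat_lit 0x80402060a04))] 40 13 (nat_lit 0x2a0e1e01001c2a1e012c16060401000c1e1401001e2c16020014222402002822040000200e16010022282a01001c060400000e2c260100082410010000060e00) .nil))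
 (.many [(.mem 0 1025)] 32 6 (nat_lit 0x1c081e0028142800002204001c08220014281600221c2800) .nil)))
 (.cons (nat_lit 0x1c0822) (.br 4 (.dif (.and (.lit 0) (.nb 2)) (.nb 1)) [(0, (nat_lit 0x60c0a2010200a06))] 514
 (.cons (nat_lit 0x1c2a1e) (.br (nat_lit 0x200e16) (.dif (.dif (.dif (.lit 0) (.nb 1)) (.nb 2)) (.nb 3)) [(0, (nat_lit 0x60a2010200a06))] 2
 (.many [(.mem 0 1537),
 (.mem 0 1025),
 (.eq 1538 1)] 32 13 (nat_lit 0xa1e14001e161e021e061e002c262c012c160e0108281800242620001c0622002c220e0000181e001224100008060e00180a1e00) .nil))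
 (.many [(.mem 0 1025),
 (.cnt (.and (.and (.nb 3) (.nb 1)) (.lit 0)))] 40 15 (nat_lit 0x2a0e1e01000028240100001e1400002228260000282216000000221400000e2c26000006241000242c10040000200e160000002414000008241000002606200000000604000000000400) .nil)))
 .nil))))))))
 .nil)) = true := by decide +kernel

theorem np_0 {G : Type*} [Group G] [Finite G] (M : Md G par12) : M.Ch [(0, 0)] [Ap] np_0W 38880 :=
  Md.Ch.step np_0b (np_1 M)

theorem np_p : presB par12 np_0W [(0, 0)] [Ap] = true := by decide +kernel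

theorem np {G : Type*} [Group G] [Finite G] (M : Md G par12) : M.KE (M.st [(0, 0)] [Ap]) np_0W 38880 :=
  (np_0 M).ke np_p

theorem np_t : cnd (presB par12 [(0, 0)] [(0, 0)] [Ap]) (neB (apS parV (0, 0) O1) O1) false = true := by decide +kernel

noncomputable def O2 : ℕ := (nat_lit 0x6ca1ca61a6c1111eca61a6c16ca1111ea6c16ca1ca61111e111e111e111eeee0ca61a6c16ca1111ea6c16ca1ca61111e6ca1ca61a6c1111e111e111e111eeee0a6c16ca1ca61111e6ca1ca61a6c1111eca61a6c16ca1111e111e111e111eeee0111e111e111eeee0111e111e111eeee0111e111e111eeee0eee0eee0eee00000ca61a6c16ca1111ea6c16ca1ca61111e6ca1ca61a6c1111e111e111e111eeee0a6c16ca1ca61111e6ca1ca61a6c1111eca61a6c16ca1111e111e111e111eeee06ca1ca61a6c1111eca61a6c16ca1111ea6c16ca1ca61111e111e111e111eeee0111e111e111eeee0111e111e111eeee0111e111e111eeee0eee0eee0eee00000a6c16ca1ca61111e6ca1ca61a6c1111eca61a6c16ca1111e111e111e111eeee06ca1ca61a6c1111eca61a6c16ca1111ea6c16ca1ca61111e111e111e111eeee0ca61a6c16ca1111ea6c16ca1ca61111e6ca1ca61a6c1111e111e111e111eeee0111e111e111eeee0111e111e111eeee0111e111e111eeee0eee0eee0eee00000111e111e111eeee0111e111e111eeee0111e111e111eeee0eee0eee0eee00000111e111e111eeee0111e111e111eeee0111e111e111eeee0eee0eee0eee00000111e111e111eeee0111e111e111eeee0111e111e111eeee0eee0eee0eee00000eee0eee0eee00000eee0eee0eee00000eee0eee0eee000000000000000000000)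

theorem O2_orb : orbV parV K1W (nat_lit 0xa0c040602060c040a060c0408060a0c04060c08) 85 O2 1701 = true := by decide +kernel

theorem O2_inv : invS parV NW O2 = true := by decide +kernel

theorem O_all : cnd (Nat.beq (Nat.lor (Nat.lor O1 O2) (Nat.lor QT 1)) (ones 4096)) (Nat.beq (Nat.land (Nat.lor O1 O2) (Nat.lor QT 1)) 0) false = true := by decide +kernel

end Cfsg.Lib.Fi.A12
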