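import Cfsg.Agent.Lib.Fi.A12b
import Cfsg.Agent.Lib.Fi.Rep2
import Cfsg.Agent.Lib.Comp.Sy6.Main
import Cfsg.Agent.Lib.Comp.We6.Main

set_option maxRecDepth 100000

namespace Cfsg.Lib.Fi.A12

open Cfsg.Lib.Comp Cfsg.Lib.Fi

noncomputable def yA : List (ℕ × ℕ) := [(0, (nat_lit 0x6121008040604)),
 (0, (nat_lit 0x1e0416081e2c0a)),
 (0, (nat_lit 0x62022280e2c0e0a)),
 (0, (nat_lit 0x2c082c0c0804)),
 (0, (nat_lit 0x406121008040604)),
 (0, (nat_lit 0x6080406)),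
 (0, (nat_lit 0x281e18061e28)),
 (0, 4108),
 (0, 2052)]

theorem yb : pcB (rbG par12 yA) 2 9 9
 [[18,
 0,
 0,
 0,
 0,
 0,
 0,
 0,
 0,
 0],
 [18,
 0,
 0,
 0,
 0,
 0,
 0,
 0,
 0,
 0],
 [14,
 18,
 2062,
 0,
 0,
 0,
 0,
 0,
 0,
 0],
 [0,
 0,
 16,
 4114,
 0,
 0,
 0,
 0,
 0,
 0],
 [0,
 18,
 18,
 18,
 0,
 0,
 0,
 0,
 0,
 0],
 [0,
 18,
 16,
 14,
 4114,
 0,
 0,
 0,
 0,
 0],
 [0,
 0,
 4114,
 0,
 18,
 0,
 0,
 0,
 0,
 0],
 [0,
 0,
 0,
 18,
 0,
 0,
 0,
 0,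
 0,
 0],
 [0,
 0,
 0,
 0,
 0,
 0,
 0,
 0,
 0,
 0]] = true := by decide +kernel

noncomputable def yL_1W : List (ℕ × ℕ) := apd [(0, (nat_lit 0x220820282c28200822))] []

theorem yL_1b : lvB par12 yL_1W [] 0 2 2 = true := by decide +kernel

theorem yL_1 {G : Type*} [Group G] [Finite G] (M : Md G par12) : M.LB yL_1W 2 :=
  Md.LB.step yL_1b (Md.LB.one M _)

noncomputable def yL_0W : List (ℕ × ℕ) := apd [(0, (nat_lit 0x810281e18061e28)),
 (0, (nat_lit 0x1c1424202a202414)),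
 (0, (nat_lit 0x2c082c06080406)),
 (0, (nat_lit 0x42c1024282628242c))] yL_1W

theorem yL_0b : lvB par12 yL_0W yL_1W 30 (nat_lit 0x60604020604020806040206) 256 = true := by decide +kernel

theorem yL_0 {G : Type*} [Group G] [Finite G] (M : Md G par12) : M.LB yL_0W 512 :=
  Md.LB.step yL_0b (yL_1 M)

theorem yLb : cnd (Nat.ble 9 (List.length yA)) (leA par12 (List.take 9 yA) yL_0W [(nat_lit 0x4080c12),
 (nat_lit 0x406080a0c),
 (nat_lit 0x2040a0e),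
 (nat_lit 0x2060a0c0e12),
 (nat_lit 0x60a0c10)]) false = true := by decide +kernel

theorem yPc {G : Type*} [Group G] [Finite G] (M : Md G par12) : Pc (M.d yA) 2 9 9 :=
  Pc.of (M.relT yA) (by norm_num) (by norm_num) (by norm_num) yb (M.lb_PS (yL_0 M) yLb)

theorem y_in : cnd (invS parV yA O1) (fixV parV yA 85) false = true := by decide +kernel

noncomputable def yl_1W : List (ℕ × ℕ) := apd [(0, (nat_lit 0xc2c0824100a24082c)),
 (0, (nat_lit 0x424220422240604))] []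

theorem yl_1b : lvB par12 yl_1W [] 4126 (nat_lit 0x2040204020402040204) 36 = true := by decide +kernel

theorem yl_1 {G : Type*} [Group G] [Finite G] (M : Md G par12) : M.LB yl_1W 36 :=
  Md.LB.step yl_1b (Md.LB.one M _)

noncomputable def yl_0W : List (ℕ × ℕ) := apd [(0, (nat_lit 0x101c121e1622161e))] yl_1W

theorem yl_0b : lvB par12 yl_0W yl_1W 14 (nat_lit 0x202040206040206040206040204060202) 640 = true := by decide +kernel

theorem yl_0 {G : Type*} [Group G] [Finite G] (M : Md G par12) : M.LB yl_0W 23040 :=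
  Md.LB.step yl_0b (yl_1 M)

noncomputable def YW : List (ℕ × ℕ) := yl_0W

theorem y_lb {G : Type*} [Group G] [Finite G] (M : Md G par12) : M.LB YW 23040 := (yl_0 M)

theorem yw_in : cnd (invS parV YW O1) (fixV parV YW 85) false = true := by decide +kernel

theorem yo1 : cnd (Nat.beq (List.length yA) 9) (cnd (Nat.ble 4 9) (nrL par12 (List.drop 4 yA) YW [[(nat_lit 0x2060a),
 (nat_lit 0x4060a),
 1032,
 (nat_lit 0x4080a),
 6],
 [(nat_lit 0x206080a),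
 10,
 (nat_lit 0x406080a),
 1546,
 4],
 [(nat_lit 0x20406080a),
 4,
 (nat_lit 0x4080a),
 1546,
 1034]]) false) false = true := by decide +kernel

theorem yo2 : cosB (npB par12 yA YW 2 [(0, 0, 0),
 (2, 8, 3),
 (7, 8, 5),
 (7, 8, 3),
 (2, 8, 3),
 (7, 8, 3),
 (7, 8, 5),
 (6, 8, 5),
 (516, 8, 3),
 (7, 8, 3),
 (7, 8, 3),
 (5, 8, 3),
 ((nat_lit 0x40603), 1371, 3),
 (1283, 8, 3),
 (2, 8, 3),
 (3, 8, 3)]) 2 4 0 0 0 = true := by decide +kernel

noncomputable def s6E : List (ℕ × ℕ) := [(0, (nat_lit 0x240c12241c0c240804)),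
 (0, (nat_lit 0x6082c082c1006)),
 (0, (nat_lit 0x61c1e1622161e1c06)),
 (0, (nat_lit 0x2c081c261c082c)),
 (0, (nat_lit 0x1e0622061e))]

theorem s6_r0 : relQ (rbG par12 (s6E ++ List.drop 4 yA)) 5 10 Sy6.Rz [4628,
 0,
 (nat_lit 0xc101214),
 0,
 4114,
 (nat_lit 0xc0e1014),
 0,
 (nat_lit 0xe1214),
 0,
 0,
 0,
 3604,
 0,
 0,
 0,
 4628,
 0,
 0,
 0,
 0] = true := by decide +kernel

theorem s6_r {G : Type*} [Group G] (M : Md G par12) : RelM (M.d (s6E ++ List.drop 4 yA)) (PS (M.d (s6E ++ List.drop 4 yA)) 10 5) Sy6.Rz :=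
  (RelM.of (M.relT _) s6_r0)

theorem s6_w : cnd (Nat.beq (List.length s6E) 5) (cnd (Nat.beq (List.length (s6E ++ List.drop 4 yA)) 10) (cnd (allN 5 fun i => Nat.testBit (msk Sy6.L) (Nat.succ i)) (leA par12 (s6E ++ List.drop 4 yA) YW [(nat_lit 0xc0e1014040a0208040a020806040a08060a080a0204),
 (nat_lit 0xc140a02040a08060a080a0204),
 (nat_lit 0xe10040206040a0602040608020a0406)]) false) false) false = true := by decide +kernel

theorem s6_in : cnd (invS parV (s6E ++ List.drop 4 yA) O1) (fixV parV (s6E ++ List.drop 4 yA) 85) false = true := by decide +kernel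

theorem e1_le : leA par12 K1W (List.drop 5 yA) [1030,
 (nat_lit 0x30a06020c070d0b070d070c0b070b),
 (nat_lit 0x9070d070c070804090207020a0c060d09070d070c0708),
 1287] = true := by decide +kernel

theorem e0_x : pwB par12 (ent yA 4) x0 2 = true := by decide +kernel

theorem e0_ab : eaB par12 (List.drop 4 yA) 2 = true := by decide +kernel

noncomputable def HW : List (ℕ × ℕ) := ent yA 4 :: K1W

theorem t_le : leA par12 HW (List.drop 1 yA) [(nat_lit 0xa050707080e0b060b09070f09070a),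
 (nat_lit 0x60a0204040f0c080e08080c0e080f080a),
 (nat_lit 0x40f0904070f060b0b090e090f0d09),
 2,
 1544,
 (nat_lit 0x50c08040e090f0d09070e09070a0c),
 (nat_lit 0x7080205090a090402080d0a0d),
 1801] = true := by decide +kernel

noncomputable def vA : List (ℕ × ℕ) := [(0, (nat_lit 0x40c14220e2214)),
 (0, (nat_lit 0x60c0a200a2006)),
 (0, (nat_lit 0x281c202a2c160e0a22)),
 (0, (nat_lit 0x61e061e0a06)),
 (0, (nat_lit 0xe12201428160e0c2c)),
 (0, (nat_lit 0xa1828162818)),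
 (0, (nat_lit 0x2004180420)),
 (0, 4)]

theorem vb : pcB (rbG par12 vA) 2 8 8
 [[0,
 0,
 0,
 0,
 0,
 0,
 0,
 0,
 0],
 [8,
 8,
 0,
 0,
 0,
 0,
 0,
 0,
 0],
 [(nat_lit 0x80a0c0e),
 (nat_lit 0x80a0c0e),
 (nat_lit 0xa0c10),
 0,
 0,
 0,
 0,
 0,
 0],
 [0,
 0,
 0,
 (nat_lit 0xc0e10),
 0,
 0,
 0,
 0,
 0],
 [3600,
 3600,
 12,
 12,
 3600,
 0,
 0,
 0,
 0],
 [0,
 3600,
 3600,
 3600,
 0,
 0,
 0,
 0,
 0],
 [0,
 0,
 0,
 0,
 0,
 0,
 0,
 0,
 0],
 [0,
 0,
 0,
 0,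
 0,
 0,
 0,
 0,
 0]] = true := by decide +kernel

noncomputable def vL_1W : List (ℕ × ℕ) := apd [(0, (nat_lit 0xc14220e2214))] []

theorem vL_1b : lvB par12 vL_1W [] 0 2 2 = true := by decide +kernel

theorem vL_1 {G : Type*} [Group G] [Finite G] (M : Md G par12) : M.LB vL_1W 2 :=
  Md.LB.step vL_1b (Md.LB.one M _)

noncomputable def vL_0W : List (ℕ × ℕ) := apd [(0, (nat_lit 0x40a200816202c042c)),
 (0, (nat_lit 0xa24082c1c14280428)),
 (0, 4)] vL_1W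

theorem vL_0b : lvB par12 vL_0W vL_1W 34 (nat_lit 0x202080402080208040206) 128 = true := by decide +kernel

theorem vL_0 {G : Type*} [Group G] [Finite G] (M : Md G par12) : M.LB vL_0W 256 :=
  Md.LB.step vL_0b (vL_1 M)

theorem vLb : cnd (Nat.ble 8 (List.length vA)) (leA par12 (List.take 8 vA) vL_0W [(nat_lit 0x40a0c10),
 (nat_lit 0x60c0e),
 16,
 528]) false = true := by decide +kernel

theorem vPc {G : Type*} [Group G] [Finite G] (M : Md G par12) : Pc (M.d vA) 2 8 8 :=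
  Pc.of (M.relT vA) (by norm_num) (by norm_num) (by norm_num) vb (M.lb_PS (vL_0 M) vLb)

theorem v_in : cnd (invS parV vA O1) (fixV parV vA 5) false = true := by decide +kernel

noncomputable def vl_2W : List (ℕ × ℕ) := apd [(0, (nat_lit 0xa0c0a))] []

theorem vl_2b : lvB par12 vl_2W [] 36 2 2 = true := by decide +kernel

theorem vl_2 {G : Type*} [Group G] [Finite G] (M : Md G par12) : M.LB vl_2W 2 :=
  Md.LB.step vl_2b (Md.LB.one M _)

noncomputable def vl_1W : List (ℕ × ℕ) := apd [(0, (nat_lit 0x282a062a202820261c))] vl_2W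

theorem vl_1b : lvB par12 vl_1W vl_2W 7720 (nat_lit 0x2040204020402040204020402) 60 = true := by decide +kernel

theorem vl_1 {G : Type*} [Group G] [Finite G] (M : Md G par12) : M.LB vl_1W 120 :=
  Md.LB.step vl_1b (vl_2 M)

noncomputable def vl_0W : List (ℕ × ℕ) := apd [(0, (nat_lit 0x121e200620161e0a0c))] vl_1W

theorem vl_0b : lvB par12 vl_0W vl_1W 30 (nat_lit 0x602040602040602040602060406020604060202) 864 = true := by decide +kernel

theorem vl_0 {G : Type*} [Group G] [Finite G] (M : Md G par12) : M.LB vl_0W 103680 :=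
  Md.LB.step vl_0b (vl_1 M)

noncomputable def VW : List (ℕ × ℕ) := vl_0W

theorem v_lb {G : Type*} [Group G] [Finite G] (M : Md G par12) : M.LB VW 103680 := (vl_0 M)

theorem vw_in : cnd (invS parV VW O1) (fixV parV VW 5) false = true := by decide +kernel

theorem vo1 : cnd (Nat.beq (List.length vA) 8) (cnd (Nat.ble 7 8) (nrL par12 (List.drop 7 vA) VW [[2],
 [2],
 [2]]) false) false = true := by decide +kernel

theorem vo2 : cosB (npB par12 vA VW 2 (apd [(0, 0, 0),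
 (5, 0, 3),
 ((nat_lit 0x40602), 1954, 3),
 (5, 0, 3),
 (3, 0, 5),
 (2, 0, 5),
 (772, 0, 3),
 (3, 0, 5),
 (1797, 713, 3),
 (1283, 713, 3),
 (1541, 0, 5),
 (1285, 1449, 3),
 (2, 0, 5),
 (3, 0, 5),
 (3, 0, 5),
 (1541, 1770, 3),
 (2, 0, 5),
 (2, 0, 5),
 (3, 0, 5),
 (5, 98, 3),
 (2, 0, 5),
 (4, 0, 5),
 (5, 842, 3),
 (2, 0, 5),
 (4, 0, 5),
 (3, 0, 5),
 (4, 1954, 3),
 (4, 0, 5),
 (4, 0, 5),
 (4, 398, 3),
 (2, 0, 5),
 (3, 0, 5),
 (7, 0, 3),
 (6, 0, 3),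
 (7, 0, 3),
 (7, 0, 3),
 (7, 0, 3),
 (6, 0, 3),
 (7, 0, 3),
 (7, 0, 3)]
 (apd [(7, 0, 3),
 (6, 0, 3),
 (3, 0, 5),
 (6, 0, 3),
 (7, 0, 3),
 (6, 0, 3),
 (7, 0, 3),
 (6, 0, 3),
 (6, 0, 3),
 (6, 0, 3),
 (6, 0, 3),
 (6, 0, 3),
 (6, 1240, 3),
 (6, 1240, 3),
 (3, 1262, 3),
 (6, 713, 3),
 (7, 713, 3),
 (7, 713, 3),
 (6, 713, 3),
 (7, 713, 3),
 (7, 0, 3),
 (7, 0, 3),
 (7, 0, 3),
 (7, 0, 3),
 (5, 0, 3),
 (3, 0, 5),
 (3, 0, 5),
 (1794, 0, 3),
 (3, 0, 5),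
 (4, 0, 3),
 (2, 0, 5),
 (2, 0, 5),
 (3, 0, 5),
 (2, 0, 5),
 (2, 0, 5),
 (2, 0, 5),
 (3, 0, 5),
 (3, 0, 5),
 (2, 0, 5),
 (3, 0, 5)]
 (apd [((nat_lit 0x60407), 1954, 3),
 (5, 0, 3),
 (1285, 1770, 3),
 (5, 0, 3),
 (3, 0, 3),
 (4, 0, 3),
 (2, 1262, 3),
 (4, 1240, 3),
 (5, 1998, 3),
 (4, 713, 3),
 (4, 1221, 3),
 (4, 1976, 3),
 (2, 1449, 3),
 (3, 0, 3),
 (3, 0, 3),
 (4, 1221, 3),
 (7, 1240, 3),
 (6, 1240, 3),
 (6, 713, 3),
 (6, 713, 3),
 (7, 0, 3),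
 (6, 0, 3),
 (6, 0, 3),
 (7, 0, 3),
 (6, 0, 3),
 (7, 0, 3),
 (7, 0, 3),
 (7, 0, 3),
 (7, 713, 3),
 (7, 713, 3),
 (7, 713, 3),
 (6, 713, 3),
 (7, 0, 3),
 (6, 0, 3),
 (6, 0, 3),
 (7, 0, 3),
 (7, 0, 3),
 (7, 0, 3),
 (7, 0, 3),
 (6, 0, 3)]
 [(4, 0, 5),
 (7, 0, 3),
 (7, 0, 3),
 (6, 0, 3),
 (7, 0, 3),
 (6, 0, 3),
 (6, 0, 3),
 (6, 0, 3)])))) 2 7 0 0 0 = true := by decide +kernel

noncomputable def xl_1W : List (ℕ × ℕ) := apd [(0, (nat_lit 0xa0c161e2826202a26)),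
 (0, (nat_lit 0x10220c2c0c2210))] []

theorem xl_1b : lvB par12 xl_1W [] 5160 (nat_lit 0x204020402040204020402040204) 60 = true := by decide +kernel

theorem xl_1 {G : Type*} [Group G] [Finite G] (M : Md G par12) : M.LB xl_1W 60 :=
  Md.LB.step xl_1b (Md.LB.one M _)

noncomputable def xl_0W : List (ℕ × ℕ) := apd [(0, (nat_lit 0x1024142c240a242a))] xl_1W

theorem xl_0b : lvB par12 xl_0W xl_1W 30 (nat_lit 0x402060402060204060204020604020602) 864 = true := by decide +kernel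

theorem xl_0 {G : Type*} [Group G] [Finite G] (M : Md G par12) : M.LB xl_0W 51840 :=
  Md.LB.step xl_0b (xl_1 M)

noncomputable def XW : List (ℕ × ℕ) := xl_0W

theorem x_lb {G : Type*} [Group G] [Finite G] (M : Md G par12) : M.LB XW 51840 := (xl_0 M)

theorem xw_le : leA par12 HW XW [(nat_lit 0x408050705090a0904020b0f0b080e08),
 (nat_lit 0xc0b020e02070e080f0b060b09070f09070a0d0b09070e09070a0c),
 (nat_lit 0x7020f02050f0b080e080f0c080e08)] = true := by decide +kernel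

theorem xw_f : fixV parV XW 5 = true := by decide +kernel

noncomputable def w6E : List (ℕ × ℕ) := [(0, (nat_lit 0x20042a2422242a0420)),
 (0, (nat_lit 0x6261e1c2a1c1e2606)),
 (0, (nat_lit 0x1c0e220c240c220e1c)),
 (0, (nat_lit 0x1c220e2a0e221c)),
 (0, 4624),
 (0, (nat_lit 0x6220c2c242c0c2206))]

theorem w6_r0 : relQ (rbG par12 (w6E ++ [])) 6 6 We6.Rz [0,
 0,
 0,
 0,
 0,
 0,
 0,
 0,
 0,
 0,
 0,
 0,
 0,
 0,
 0,
 0,
 0,
 0,
 0,
 0,
 0,
 0,
 0,
 0,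
 0,
 0,
 0] = true := by decide +kernel

theorem w6_r {G : Type*} [Group G] (M : Md G par12) : RelM (M.d (w6E ++ [])) (PS (M.d (w6E ++ [])) 6 6) We6.Rz :=
  (RelM.of (M.relT _) w6_r0)

theorem w6_w : cnd (Nat.beq (List.length w6E) 6) (cnd (Nat.beq (List.length (w6E ++ [])) 6) (cnd (allN 6 fun i => Nat.testBit (msk We6.L) (Nat.succ i)) (leA par12 (w6E ++ []) XW [(nat_lit 0x204020a0804060a0204080c02040a080204060c080408),
 (nat_lit 0xa08040c020a020406080a040204080a0604020a08040a0c0806),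
 (nat_lit 0x8040c08040206040a02040a080c020a0604080c020a04060a04020a)]) false) false) false = true := by decide +kernel

theorem w6_le : leA par12 XW (w6E ++ []) [(nat_lit 0x306030306030605020602040605050603),
 (nat_lit 0x2020202060403060303060304040604060206020503),
 (nat_lit 0x20406030502050304060202060506020602020204060206020503),
 (nat_lit 0x6030304020603050205030406020206050602060202),
 (nat_lit 0x6020602020603050205020604030403050306040304060206020503),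
 (nat_lit 0x60505020506040402040605050604030603060503)] = true := by decide +kernel

end Cfsg.Lib.Fi.A12
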