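import Cfsg.Agent.Lib.Fi.S22

set_option maxRecDepth 100000

namespace Cfsg.Lib.Fi.A22

open Cfsg.Lib.Comp Cfsg.Lib.Fi

noncomputable def e5 : ℕ × ℕ := (0, 1038)

noncomputable def e5A : ℕ := (nat_lit 0x80000000000000000000000004000000000000000000000000000000000000000000000000000000000000000000000000000080000000000000000000000000000000000000000000000000000000000000000000000000000000000000000000000000000000000000000000000000000000000000000000000000000000000000000000000000000000000000000000000000000000000000000000000000000000000000000000000000000000000000000000000000000000000000000000000000000000000000000000000000000000000000000000000000000000002000000000004000000000000000000000000000000000000000000000000000000000000000000000000000000000000000000000000000000000000000004000000100000000000000000000000000000000000000000000000000000000000000000000000000000000000000000000000000000000000000000000000000000000000000000000000000000000000000000000000000000000002000000000000000000000000000000800000000000000000000001)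

theorem e5_fix : fixB par22 e5 e5A = true := by decide +kernel

theorem e5_ord : ordB par22 e5 5 1 = true := by decide +kernel

noncomputable def e5_cM_0D : List (ℕ × ℕ) := ((0, 0) :: [e5])

noncomputable def e5_cM_1D : List (ℕ × ℕ) := (((nat_lit 0x100c1218), 0) :: e5_cM_0D)

noncomputable def e5_cM_2D : List (ℕ × ℕ) := (((nat_lit 0xa181418), 0) :: e5_cM_1D)

noncomputable def e5_cM_3D : List (ℕ × ℕ) := (((nat_lit 0x6081a0e16), 0) :: e5_cM_2D)

noncomputable def e5_cM_4D : List (ℕ × ℕ) := (((nat_lit 0x14060a0e16), 0) :: e5_cM_3D)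

theorem e5_cM_5b : endB parA e5_cM_4D [(nat_lit 0x6080d020d01),
 (nat_lit 0xd020c020d0d0a0801),
 (nat_lit 0x4020d0d060d0a0801),
 (nat_lit 0x80c020d060a01),
 (nat_lit 0x80c04060a01),
 (nat_lit 0xa020d020c0c0a0801)] = true := by decide +kernel

theorem e5_cM_5 {G : Type*} [Group G] (M : Md G parA) : M.Ch e5_cM_4D [e5A] [] 1 := Md.Ch.base e5_cM_5b

theorem e5_cM_4b : stepB parA e5_cM_3D [e5A] (apd [] []) [] (nat_lit 0x14060a0e16) (.dif (.dif (.dif (.dif (.dif (.dif (.and (.and (.im 2824 (.nb 1)) (.im 2827 (.nb 2))) (.im 2570 (.nb 2))) (.nb 4)) (.im 8 (.nb 3))) (.nb 3)) (.im 8 (.nb 1))) (.nb 1)) (.im 2568 (.nb 1))) 0 1 0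
 .nil = true := by decide +kernel

theorem e5_cM_4 {G : Type*} [Group G] [Finite G] (M : Md G parA) : M.Ch e5_cM_3D [e5A] (apd [] []) 1 :=
  Md.Ch.step e5_cM_4b (e5_cM_5 M)

theorem e5_cM_3b : stepB parA e5_cM_2D [e5A] (apd [] (apd [] [])) (apd [] []) (nat_lit 0x6081a0e16) (.dif (.dif (.and (.and (.and (.and (.im 6 (.nb 2)) (.im 8 (.nb 1))) (.im 9 (.nb 1))) (.im 2313 (.nb 1))) (.im 2056 (.nb 1))) (.lit 0)) (.nb 3)) 0 1 0
 .nil = true := by decide +kernel

theorem e5_cM_3 {G : Type*} [Group G] [Finite G] (M : Md G parA) : M.Ch e5_cM_2D [e5A] (apd [] (apd [] [])) 1 :=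
  Md.Ch.step e5_cM_3b (e5_cM_4 M)

noncomputable def e5_cM_2W : List (ℕ × ℕ) := apd [((nat_lit 0x804161418), 0),
 (0, (nat_lit 0x161a06161a04080a140814040c0e1c))] (apd [] (apd [] []))

theorem e5_cM_2b : stepB parA e5_cM_1D [e5A] e5_cM_2W (apd [] (apd [] [])) (nat_lit 0xa181418) (.dif (.and (.nb 2) (.nb 1)) (.lit 0)) (nat_lit 0x4040404040404040402) 20 (nat_lit 0x4040404040404040204)
 (.many [(.fx 1 (nat_lit 0x90901)),
 (.fx 1 2049),
 (.fx 1 (nat_lit 0x808020801)),
 (.cnt (.and (.nb 1) (.lit 0))),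
 (.fx 1 (nat_lit 0x8020801))] 40 10 (nat_lit 0xc061a160108180a180406180a180108061a16030008161a001a161416020a041a1601001814180100141a16000016141800) .nil) = true := by decide +kernel

theorem e5_cM_2 {G : Type*} [Group G] [Finite G] (M : Md G parA) : M.Ch e5_cM_1D [e5A] e5_cM_2W 20 :=
  Md.Ch.step e5_cM_2b (e5_cM_3 M)

noncomputable def e5_cM_1W : List (ℕ × ℕ) := apd [(0, 0),
 ((nat_lit 0x12160a0616), 0)] e5_cM_2W

theorem e5_cM_1b : stepB parA e5_cM_0D [e5A] e5_cM_1W e5_cM_2W (nat_lit 0x100c1218) (.dif (.lit 0) (.nb 1)) (nat_lit 0x60402) 6 0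
 .nil = true := by decide +kernel

theorem e5_cM_1 {G : Type*} [Group G] [Finite G] (M : Md G parA) : M.Ch e5_cM_0D [e5A] e5_cM_1W 120 :=
  Md.Ch.step e5_cM_1b (e5_cM_2 M)

noncomputable def e5_cM_0W : List (ℕ × ℕ) := apd [((nat_lit 0x16101416), 0)] e5_cM_1W

theorem e5_cM_0b : stepB parA [e5] [e5A] e5_cM_0W e5_cM_1W 0 (.lit 0) (nat_lit 0x80206080402) 10 0
 .nil = true := by decide +kernel

theorem e5_cM_0 {G : Type*} [Group G] [Finite G] (M : Md G parA) : M.Ch [e5] [e5A] e5_cM_0W 1200 :=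
  Md.Ch.step e5_cM_0b (e5_cM_1 M)

theorem e5_cM_p : presB parA e5_cM_0W [e5] [e5A] = true := by decide +kernel

theorem e5_cM {G : Type*} [Group G] [Finite G] (M : Md G parA) : M.KE (M.st [e5] [e5A]) e5_cM_0W 1200 :=
  (e5_cM_0 M).ke e5_cM_p

noncomputable def e5_cL_1W : List (ℕ × ℕ) := apd [(0, 0)] []

theorem e5_cL_1b : lvB par22 e5_cL_1W [] (nat_lit 0x8161a18) 2 2 = true := by decide +kernel

theorem e5_cL_1 {G : Type*} [Group G] [Finite G] (M : Md G par22) : M.LB e5_cL_1W 2 :=
  Md.LB.step e5_cL_1b (Md.LB.one M _)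

noncomputable def e5_cL_0W : List (ℕ × ℕ) := apd [((nat_lit 0x100c1218), 0),
 ((nat_lit 0x16101416), 0),
 ((nat_lit 0x1a0e080616), 0),
 (0, (nat_lit 0x120a140c12140a0c120c0e))] e5_cL_1W

theorem e5_cL_0b : lvB par22 e5_cL_0W e5_cL_1W 6678 (nat_lit 0x40a0608080a0802080a060a040a02) 300 = true := by decide +kernel

theorem e5_cL_0 {G : Type*} [Group G] [Finite G] (M : Md G par22) : M.LB e5_cL_0W 600 :=
  Md.LB.step e5_cL_0b (e5_cL_1 M)

theorem e5_co : oddB par22 parA 14 [e5] [e5A] e5_cL_0W (nat_lit 0x100c18061404120e14080c0a0c101c) = true := by decide +kernel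

theorem e5_c {G : Type*} [Group G] [Finite G] (S : S22 G) : S.M.KE (S.M.st [e5] [e5A]) e5_cL_0W 600 :=
  S.X.oddKE (e5_cM S.A) e5_co (e5_cL_0 S.M) (by norm_num)

noncomputable def e5W : List (ℕ × ℕ) := [(0, 0),
 ((nat_lit 0x100c1218), 0),
 ((nat_lit 0x12160a0616), 0),
 ((nat_lit 0x804161418), 0)]

noncomputable def e5h : ℕ × ℕ := (0, (nat_lit 0x40a060c1206080a040804))

theorem e5_dp : cnd (dpB par22 e5 e5h 2 4 e5W 2823) (cnd (clB par22 e5W e5A (nat_lit 0x80602)) (coxB par22 e5W 4) false) false = true := by decide +kernel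

noncomputable def e5_lbl_0W : List (ℕ × ℕ) := apd [(0, 0),
 ((nat_lit 0x100c1218), 0),
 ((nat_lit 0x12160a0616), 0),
 ((nat_lit 0x804161418), 0)] []

theorem e5_lbl_0b : lvB par22 e5_lbl_0W [] 26 (nat_lit 0x2040602040806020402) 120 = true := by decide +kernel

theorem e5_lbl_0 {G : Type*} [Group G] [Finite G] (M : Md G par22) : M.LB e5_lbl_0W 120 :=
  Md.LB.step e5_lbl_0b (Md.LB.one M _)

theorem e5_lbw : leA par22 e5W e5_lbl_0W [2,
 4,
 6,
 8] = true := by decide +kernel

theorem e5_lb {G : Type*} [Group G] [Finite G] (M : Md G par22) : M.LB e5W 120 := Md.LB.of_leA (e5_lbl_0 M) e5_lbw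

noncomputable def f5 : ℕ × ℕ := (0, (nat_lit 0x100c1218040a10040c0e120e041210))

noncomputable def f5A : ℕ := (nat_lit 0x800000010000001000000000000000000000000000000000000000000002000000000010000000000200000100000000000000000020000000000004000000000000000000000000000000000000000000000008000000000000000000000000000000000000000000000000000000000000000000000000000000000000000000000000000000000000000000000000000000000000000000000000000000000000000000000000000000000000000000000000000000000000000000000000000000000000000000000000000000000000000000000000000000000000000000000000000000000000000000000000000000000000000000000000000000000000000000000000000000000000000000000000000000000000000000000000000000000000000000000000000000000000000000000000000000000000000000000000000000000000000000000000000000000000000000000000000000000000000000000000000000000000000000000000000000000000000000000000000000000000000000000000000000000000000000000000000000000000000000000000000000000000000000000000000000000)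

theorem f5_fix : fixB par22 f5 f5A = true := by decide +kernel

theorem f5_ord : ordB par22 f5 5 0 = true := by decide +kernel

theorem f5_mem : memB par22 e5W f5 (nat_lit 0x2040608) = true := by decide +kernel

theorem f5_out : outP par22 [f5] e5 2823 = true := by decide +kernel

noncomputable def E_cM_0D : List (ℕ × ℕ) := (((nat_lit 0x161418), 0) :: [e5,
 f5])

noncomputable def E_cM_1D : List (ℕ × ℕ) := (((nat_lit 0xc14161a), 0) :: E_cM_0D)

noncomputable def E_cM_2D : List (ℕ × ℕ) := (((nat_lit 0x180216), 0) :: E_cM_1D)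

theorem E_cM_3b : endB parA E_cM_2D [(nat_lit 0xa090209040a080801),
 (nat_lit 0x408020b0b090202),
 (nat_lit 0xa090409020a0a080601),
 (nat_lit 0xa06020a0a0801),
 (nat_lit 0x40a08040a0a090901),
 (nat_lit 0xa0808020808040b0b0901)] = true := by decide +kernel

theorem E_cM_3 {G : Type*} [Group G] (M : Md G parA) : M.Ch E_cM_2D [e5A,
 f5A] [] 1 := Md.Ch.base E_cM_3b

theorem E_cM_2b : stepB parA E_cM_1D [e5A,
 f5A] (apd [] []) [] (nat_lit 0x180216) (.dif (.dif (.and (.and (.and (.im 7 (.nb 1)) (.im 6 (.nb 1))) (.im 1799 (.nb 2))) (.im 1030 (.nb 2))) (.lit 0)) (.lit 1)) 0 1 0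
 (.many [(.fx 1 2817),
 (.fx 2 2817)] 48 6 (nat_lit 0x81a160000000a1a16001a1412141600101416041600001a0c0a1a01000218021600) .nil) = true := by decide +kernel

theorem E_cM_2 {G : Type*} [Group G] [Finite G] (M : Md G parA) : M.Ch E_cM_1D [e5A,
 f5A] (apd [] []) 1 :=
  Md.Ch.step E_cM_2b (E_cM_3 M)

noncomputable def E_cM_1W : List (ℕ × ℕ) := apd [(0, (nat_lit 0x16120c1a0a1406040c12060c041014121c))] (apd [] [])

theorem E_cM_1b : stepB parA E_cM_0D [e5A,
 f5A] E_cM_1W (apd [] []) (nat_lit 0xc14161a) (.dif (.and (.and (.im 4 (.nb 1)) (.im 1028 (.nb 1))) (.im 1285 (.nb 1))) (.lit 0)) (nat_lit 0x20202020202020202) 10 (nat_lit 0x2020202)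
 (.many [(.fx 1 2305),
 (.fx 1 (nat_lit 0x90901))] 40 2 (nat_lit 0xa061801141a081600) .nil) = true := by decide +kernel

theorem E_cM_1 {G : Type*} [Group G] [Finite G] (M : Md G parA) : M.Ch E_cM_0D [e5A,
 f5A] E_cM_1W 10 :=
  Md.Ch.step E_cM_1b (E_cM_2 M)

noncomputable def E_cM_0W : List (ℕ × ℕ) := apd [(0, (nat_lit 0x12160a06160414060e0a140a100414))] E_cM_1W

theorem E_cM_0b : stepB parA [e5,
 f5] [e5A,
 f5A] E_cM_0W E_cM_1W (nat_lit 0x161418) (.lit 1) (nat_lit 0x2020202) 5 (nat_lit 0x2020202)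
 (.many [(.fx 1 1281)] 40 1 (nat_lit 0xc061a1600) .nil) = true := by decide +kernel

theorem E_cM_0 {G : Type*} [Group G] [Finite G] (M : Md G parA) : M.Ch [e5,
 f5] [e5A,
 f5A] E_cM_0W 50 :=
  Md.Ch.step E_cM_0b (E_cM_1 M)

theorem E_cM_p : presB parA E_cM_0W [e5,
 f5] [e5A,
 f5A] = true := by decide +kernel

theorem E_cM {G : Type*} [Group G] [Finite G] (M : Md G parA) : M.KE (M.st [e5,
 f5] [e5A,
 f5A]) E_cM_0W 50 :=
  (E_cM_0 M).ke E_cM_p

noncomputable def E_cL_0W : List (ℕ × ℕ) := apd [(0, (nat_lit 0x61a0a1a08140810120e14040c1404)),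
 (0, 3588)] []

theorem E_cL_0b : lvB par22 E_cL_0W [] (nat_lit 0x1a0a18) (nat_lit 0x202020204040404) 25 = true := by decide +kernel

theorem E_cL_0 {G : Type*} [Group G] [Finite G] (M : Md G par22) : M.LB E_cL_0W 25 :=
  Md.LB.step E_cL_0b (Md.LB.one M _)

theorem E_co : oddB par22 parA 14 [e5,
 f5] [e5A,
 f5A] E_cL_0W (nat_lit 0x12161a04100a10080a1006140a06081c) = true := by decide +kernel

theorem E_c {G : Type*} [Group G] [Finite G] (S : S22 G) : S.M.KE (S.M.st [e5,
 f5] [e5A,
 f5A]) E_cL_0W 25 :=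
  S.X.oddKE (E_cM S.A) E_co (E_cL_0 S.M) (by norm_num)

noncomputable def N5_1W : List (ℕ × ℕ) := apd [(0, (nat_lit 0x1614180a0e060c100810060e060410))] []

theorem N5_1b : lvB par22 N5_1W [] 0 2 2 = true := by decide +kernel

theorem N5_1 {G : Type*} [Group G] [Finite G] (M : Md G par22) : M.LB N5_1W 2 :=
  Md.LB.step N5_1b (Md.LB.one M _)

noncomputable def N5_0W : List (ℕ × ℕ) := apd [(0, (nat_lit 0xc08180e10060a0e120c04100e12)),
 (0, (nat_lit 0xc0818140614080e08040c060e))] N5_1W

theorem N5_0b : lvB par22 N5_0W N5_1W 24 (nat_lit 0x40204060402040602040206040204) 1200 = true := by decide +kernel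

theorem N5_0 {G : Type*} [Group G] [Finite G] (M : Md G par22) : M.LB N5_0W 2400 :=
  Md.LB.step N5_0b (N5_1 M)

theorem N5_n : nrL par22 [e5, f5] N5_0W [[(nat_lit 0x5050202),
 773],
 [772,
 773],
 [4,
 2]] = true := by decide +kernel

theorem N5 {G : Type*} [Group G] [Finite G] (M : Md G par22) : M.LB N5_0W 2400 := (N5_0 M)

noncomputable def p5A : List (ℕ × ℕ) := [(0, (nat_lit 0x80416141808140c0a0408100c040608)),
 (0, (nat_lit 0x12160a0616080a1406120814120c0612))]

theorem p5b : pcB (rbG par22 p5A) 5 2 2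
 [[0,
 0,
 0],
 [0,
 0,
 0]] = true := by decide +kernel

noncomputable def p5L_0W : List (ℕ × ℕ) := apd [(0, (nat_lit 0xe040e04)),
 (0, (nat_lit 0x12160a0616080a1406120814120c0612))] []

theorem p5L_0b : lvB par22 p5L_0W [] (nat_lit 0x1a0a18) (nat_lit 0x404040204020202) 25 = true := by decide +kernel

theorem p5L_0 {G : Type*} [Group G] [Finite G] (M : Md G par22) : M.LB p5L_0W 25 :=
  Md.LB.step p5L_0b (Md.LB.one M _)

theorem p5Lb : cnd (Nat.ble 2 (List.length p5A)) (leA par22 (List.take 2 p5A) p5L_0W [(nat_lit 0x2020404),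
 4]) false = true := by decide +kernel

theorem p5Pc {G : Type*} [Group G] [Finite G] (M : Md G par22) : Pc (M.d p5A) 5 2 2 :=
  Pc.of (M.relT p5A) (by norm_num) (by norm_num) (by norm_num) p5b (M.lb_PS (p5L_0 M) p5Lb)

theorem cov5b : cnd (Nat.ble 0 2) (cnd (inW 0 2 0) (ptB (rbG par22 p5A) (lfC par22 p5A [e5] 2) 5 2 2
 (.split (.sub (.split (.sub (.leaf 1 0 0)
 (.sub (.leaf (nat_lit 0xe0c061a16041214061206040c120e0a) 0 1)
 (.ali 0 3 1 0 (.ali 0 2 1 0 (.ali 0 2 3 0 .nil))))))
 (.sub (.split (.sub (.leaf (nat_lit 0x16140e1a0a0c0a060c100c04080c) 0 1)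
 (.sub (.leaf (nat_lit 0x81210041610140c100c0a041208120a) 0 1)
 (.sub (.leaf (nat_lit 0x80e14021610121004140a06140c0a1004) 0 1)
 (.sub (.leaf (nat_lit 0x1406141804120e12061004100c081004) 0 1)
 (.sub (.leaf (nat_lit 0x610161a16060e040a12100e1208140e12) 0 1)
 .nil))))))
 (.ali 0 3 1 0 (.ali 0 2 1 0 (.ali 0 2 3 0 .nil)))))) false 0 0 0) false) false = true := by decide +kernel

theorem cov5 {G : Type*} [Group G] [Finite G] (M : Md G par22) : Good (M.d p5A) 5 2 (M.QC [e5]) 0 (wv (M.d p5A) 0) :=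
  (p5Pc M).cover (M.relT p5A) ((M.inv_QC _ (by norm_num)).mono le_top) (M.lfC_sound _ _ _ _) cov5b

end Cfsg.Lib.Fi.A22
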