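import Cfsg.Agent.Lib.Fi.Tup2
import Cfsg.Agent.Lib.Fi.S22

set_option maxRecDepth 100000

namespace Cfsg.Lib.Fi.B22

open Cfsg.Lib.Comp Cfsg.Lib.Fi

noncomputable def Ua : ℕ := 0

noncomputable def Ub : ℕ := 6678

noncomputable def Uc : ℕ := (nat_lit 0x41a16)

noncomputable def Un : ℕ := 26

noncomputable def G_4W : List (ℕ × ℕ) := apd [((nat_lit 0x18121a16), 0),
 ((nat_lit 0xc16121416), 0),
 ((nat_lit 0x1a10061a16), 0),
 ((nat_lit 0x1a100a0e16), 0),
 ((nat_lit 0xa160c0616), 0),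
 (0, (nat_lit 0x4060c060a14080e0414))] []

theorem G_4b : lvB par22 G_4W [] (nat_lit 0x60818) (nat_lit 0x2060c0a08040c02) 96 = true := by decide +kernel

theorem G_4 {G : Type*} [Group G] [Finite G] (M : Md G par22) : M.LB G_4W 96 :=
  Md.LB.step G_4b (Md.LB.one M _)

noncomputable def G_3W : List (ℕ × ℕ) := apd [((nat_lit 0x6161a), 0)] G_4W

theorem G_3b : lvB par22 G_3W G_4W 24 (nat_lit 0x20e0602040e020c0e020a06020e04020a060e0402) 1536 = true := by decide +kernel

theorem G_3 {G : Type*} [Group G] [Finite G] (M : Md G par22) : M.LB G_3W 147456 :=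
  Md.LB.step G_3b (G_4 M)

noncomputable def G_2W : List (ℕ × ℕ) := apd [((nat_lit 0xc1a16), 0)] G_3W

theorem G_2b : lvB par22 G_2W G_3W Uc (nat_lit 0x61010020408020e0410060402) 180 = true := by decide +kernel

theorem G_2 {G : Type*} [Group G] [Finite G] (M : Md G par22) : M.LB G_2W 26542080 :=
  Md.LB.step G_2b (G_3 M)

noncomputable def G_1W : List (ℕ × ℕ) := apd [(5658, 0)] G_2W

theorem G_1b : lvB par22 G_1W G_2W Ub (nat_lit 0x80212060402120806021204060212080402) 693 = true := by decide +kernel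

theorem G_1 {G : Type*} [Group G] [Finite G] (M : Md G par22) : M.LB G_1W 18393661440 :=
  Md.LB.step G_1b (G_2 M)

noncomputable def G_0W : List (ℕ × ℕ) := apd [(22, 0)] G_1W

theorem G_0b : lvB par22 G_0W G_1W Ua (nat_lit 0x1408060402140204060208020414020604020a0208060402) 3510 = true := by decide +kernel

theorem G_0 {G : Type*} [Group G] [Finite G] (M : Md G par22) : M.LB G_0W 64561751654400 :=
  Md.LB.step G_0b (G_1 M)

theorem K0 {G : Type*} [Group G] [Finite G] (S : S22 G) : S.M.KE (S.M.st [] []) G_0W 64561751654400 := Md.KE.top (G_0 S.M) S.card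

theorem K1p : presB par22 G_1W [] [] = true := by decide +kernel

theorem K1 {G : Type*} [Group G] [Finite G] (S : S22 G) : S.M.KE (S.M.st [(Ua, 0)] []) G_1W 18393661440 :=
  (K0 S).dn G_0b K1p (G_1 S.M) (by norm_num)

theorem K2p : presB par22 G_2W [(Ua, 0)] [] = true := by decide +kernel

theorem K2 {G : Type*} [Group G] [Finite G] (S : S22 G) : S.M.KE (S.M.st [(Ub, 0),
 (Ua, 0)] []) G_2W 26542080 :=
  (K1 S).dn G_1b K2p (G_2 S.M) (by norm_num)

theorem K3p : presB par22 G_3W [(Ub, 0),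
 (Ua, 0)] [] = true := by decide +kernel

theorem K3 {G : Type*} [Group G] [Finite G] (S : S22 G) : S.M.KE (S.M.st [(Uc, 0),
 (Ub, 0),
 (Ua, 0)] []) G_3W 147456 :=
  (K2 S).dn G_2b K3p (G_3 S.M) (by norm_num)

theorem t2 : trB par22 G_1W [(Ua, 0)] [] (nat_lit 0x80212060402120806021204060212080402) Ub = true := by decide +kernel

theorem t3 : trB par22 G_2W [(Ub, 0),
 (Ua, 0)] [] (nat_lit 0x61010020408020e0410060402) Uc = true := by decide +kernel

theorem tN : trB par22 G_1W [] [(Ua, 0)] (nat_lit 0x40206120204080212060402120608020412020604) Un = true := by decide +kernel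

theorem cntD : Nat.beq (pc par22.w par22.K (Nat.land (ones par22.n) (ones par22.n))) 3510 = true := by decide +kernel

theorem wDu : wchk par22 (.br [(0, 0),
 (22, 0),
 (24, 0),
 (1562, 0),
 (5656, 0),
 (26, 0)] (nat_lit 0x806020c0602040a0208020406020c020604020a02080c020604) Ua
 (.br [(6678, 0),
 (5658, 0),
 ((nat_lit 0x1a081a), 0),
 ((nat_lit 0x4161a), 0),
 ((nat_lit 0x61a16), 0),
 ((nat_lit 0xc161a), 0)] (nat_lit 0xa060c02080a0602080c0a0402060a0c08020604) Ub
 (.br [((nat_lit 0x181416), 0),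
 ((nat_lit 0x141a16), 0),
 ((nat_lit 0xa1a16), 0),
 ((nat_lit 0x6161a), 0),
 ((nat_lit 0xc1a16), 0),
 ((nat_lit 0x61a16), 0)] (nat_lit 0x4020c080602040c0a08060402) Uc
 (.br [((nat_lit 0x180e18), 0),
 ((nat_lit 0x1a140416), 0),
 ((nat_lit 0x14161a), 0),
 ((nat_lit 0x6161a), 0),
 ((nat_lit 0xa1a16), 0),
 ((nat_lit 0x160e1416), 0)] (nat_lit 0x40c0a08060204) (nat_lit 0x14161a)
 .small .small) .small) .small) .small) (ones par22.n) 22 = true := by decide +kernel

theorem wDl : cliqB par22 [(0, 0),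
 (5658, 0),
 ((nat_lit 0xc161a), 0),
 ((nat_lit 0x4161a), 0),
 ((nat_lit 0x16180418), 0),
 ((nat_lit 0x18100616), 0),
 ((nat_lit 0x160a0616), 0),
 ((nat_lit 0x1a060416), 0),
 ((nat_lit 0x12161418), 0),
 ((nat_lit 0x61a081a), 0),
 ((nat_lit 0x160a0e16), 0),
 ((nat_lit 0x80a1a16), 0),
 ((nat_lit 0x16060416), 0),
 ((nat_lit 0x14180e0216), 0),
 ((nat_lit 0x16060a0416), 0),
 ((nat_lit 0x180a060e16), 0),
 ((nat_lit 0x180a100a16), 0),
 ((nat_lit 0x416060416), 0),
 ((nat_lit 0x180a0e0616), 0),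
 ((nat_lit 0x616120416), 0),
 ((nat_lit 0x61a100a16), 0),
 ((nat_lit 0x180e1a0616), 0)] (ones par22.n) 22 = true := by decide +kernel

theorem wD {G : Type*} [Group G] (M : Md G par22) : commutingWidth (M.T (ones par22.n)) = 22 := M.width wDu wDl

noncomputable def X1 : List (ℕ × ℕ) := [((nat_lit 0x1a081a), 0),
 ((nat_lit 0x180a18), 0),
 ((nat_lit 0x161418), 0),
 ((nat_lit 0x180818), 0),
 ((nat_lit 0x181416), 0),
 ((nat_lit 0xe1a16), 0)]

theorem H1w : leA par22 X1 G_1W [(nat_lit 0x802080c020408080402060c0a0208060c060208020a060c060a020806080c0806),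
 (nat_lit 0xc0a060202080c060a0402080a080c040c0406080c0806),
 (nat_lit 0xa040c06020604080a06040c0a020804060a08020c08020c0602080c02060204020c080a0604080c02040c02080a04020c02040a08020c06020c0604020a08040c020402040208020a040608020a080c040c080a0208),
 (nat_lit 0xc0408040c020c04080c040c04),
 (nat_lit 0x8020c080a0204020a080c0208),
 (nat_lit 0x208040a060c040204020a08060a06020a040c0208020c04020a06020c06040a04060c0206080c08060604020c04020c04080c0a0204020c08020c06),
 (nat_lit 0x402080a06020a0804060a0408040604020a0406080204080a06040a020604),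
 (nat_lit 0xc04080c0602080c08060c08040c06),
 (nat_lit 0x2040c02080208040c06020a040208020c080604020802040c06020a040c0608040c040204020a06080a0202080a04020c02040a08020604020c04020c04080c0a0204020c08020c0608020a080c040c080a0208)] = true := by decide +kernel

theorem H1p : presB par22 X1 [(Ua, 0)] [] = true := by decide +kernel

theorem H1 {G : Type*} [Group G] [Finite G] (S : S22 G) : S.M.KE (S.M.st [(Ua, 0)] []) X1 18393661440 :=
  (K1 S).of_leA H1w (S.M.le_st H1p)

theorem perf1 : perfB par22 X1 (candS par22 [(Ua, 0)] []) (nat_lit 0xa060c020804060c0208040a060c080204) (nat_lit 0x20c04020c080406020c0a0804060c0a020804) [10,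
 6,
 8,
 2,
 4,
 10,
 6,
 12,
 8,
 4,
 10,
 12,
 4,
 2,
 8,
 12,
 10,
 8,
 2,
 12,
 4,
 2,
 6,
 12,
 2,
 8,
 6,
 4,
 2] = true := by decide +kernel

noncomputable def Z1M_0D : List (ℕ × ℕ) := (((nat_lit 0x1410160416), 0) :: X1)

theorem Z1M_1b : endB parA Z1M_0D [(nat_lit 0xc0806020a0e02),
 (nat_lit 0xc0a060401),
 (nat_lit 0x204060c020802),
 (nat_lit 0xe040a020c03),
 (nat_lit 0x40a040e060401),
 (nat_lit 0x40802040e05)] = true := by decide +kernel

theorem Z1M_1 {G : Type*} [Group G] (M : Md G parA) : M.Ch Z1M_0D [] [] 1 := Md.Ch.base Z1M_1b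

noncomputable def Z1M_0W : List (ℕ × ℕ) := apd [(0, 0)] []

theorem Z1M_0b : stepB parA X1 [] Z1M_0W [] (nat_lit 0x1410160416) (.dif (.dif (.dif (.dif (.dif (.dif (.and (.and (.im 6 (.nb 2)) (.im 10 (.nb 3))) (.im 8 (.nb 1))) (.nb 1)) (.nb 6)) (.im 4 (.nb 6))) (.im 12 (.nb 1))) (.im 4 (.nb 4))) (.im 10 (.nb 4))) 2 2 0
 .nil = true := by decide +kernel

theorem Z1M_0 {G : Type*} [Group G] [Finite G] (M : Md G parA) : M.Ch X1 [] Z1M_0W 2 :=
  Md.Ch.step Z1M_0b (Z1M_1 M)

theorem Z1M_p : presB parA Z1M_0W X1 [] = true := by decide +kernel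

theorem Z1M {G : Type*} [Group G] [Finite G] (M : Md G parA) : M.KE (M.st X1 []) Z1M_0W 2 :=
  (Z1M_0 M).ke Z1M_p

theorem Z1e : cnd (freeL 14 par22.c0 X1) (freeL 14 par22.c0 Z1M_0W) false = true := by decide +kernel

theorem Z1 {G : Type*} [Group G] [Finite G] (S : S22 G) : S.M.KE (S.M.st X1 []) Z1M_0W 2 := S.X.even (Z1M S.A) Z1e

noncomputable def KNL_2W : List (ℕ × ℕ) := apd [((nat_lit 0x616121416), 0),
 ((nat_lit 0x1204180818), 0),
 (0, (nat_lit 0x6081410060e08040a040e)),
 (0, (nat_lit 0x8100a12040804060a0414))] []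

theorem KNL_2b : lvB par22 KNL_2W [] (nat_lit 0x8161a18) (nat_lit 0x8060402) 16 = true := by decide +kernel

theorem KNL_2 {G : Type*} [Group G] [Finite G] (M : Md G par22) : M.LB KNL_2W 16 :=
  Md.LB.step KNL_2b (Md.LB.one M _)

noncomputable def KNL_1W : List (ℕ × ℕ) := apd [((nat_lit 0x141a16), 0),
 ((nat_lit 0x12141a16), 0)] KNL_2W

theorem KNL_1b : lvB par22 KNL_1W KNL_2W 6680 (nat_lit 0x20a0402080604020c0a0402) 243 = true := by decide +kernel

theorem KNL_1 {G : Type*} [Group G] [Finite G] (M : Md G par22) : M.LB KNL_1W 3888 :=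
  Md.LB.step KNL_1b (KNL_2 M)

noncomputable def KNL_0W : List (ℕ × ℕ) := apd [(5658, 0)] KNL_1W

theorem KNL_0b : lvB par22 KNL_0W KNL_1W 24 (nat_lit 0x20802040c06020e02040c06020e04020c0a0802) 1680 = true := by decide +kernel

theorem KNL_0 {G : Type*} [Group G] [Finite G] (M : Md G par22) : M.LB KNL_0W 6531840 :=
  Md.LB.step KNL_0b (KNL_1 M)

theorem KNb : lvB par22 G_1W KNL_0W Un (nat_lit 0x40206120204080212060402120608020412020604) 2816 = true := by decide +kernel

theorem KNp : presB par22 KNL_0W [(Ua, 0)] [] = true := by decide +kernel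

theorem KN {G : Type*} [Group G] [Finite G] (S : S22 G) : S.M.KE (S.M.st [(Un, 0),
 (Ua, 0)] []) KNL_0W 6531840 :=
  (K1 S).dn KNb KNp (KNL_0 S.M) (by norm_num)

noncomputable def XN : List (ℕ × ℕ) := [((nat_lit 0xa14161a), 0),
 ((nat_lit 0x61a061a), 0),
 ((nat_lit 0x160c0e16), 0),
 (5658, 0),
 ((nat_lit 0x14121a16), 0),
 ((nat_lit 0xc0a161a), 0)]

theorem HNw : leA par22 XN KNL_0W [8,
 (nat_lit 0x80604080a0806080a08040608),
 (nat_lit 0x204060c080a0608040806080c04060c04060204080a0204080a0806080a04020804060804020604020608020a08020c080a0406020804080c0602040806080c040802),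
 (nat_lit 0xc0a06020604020c0a08020406020a08040604080a020406080c0806020a080402080c0a0602040c080208020406040a0c080a040802060c08040a0c02080a020a04060402),
 (nat_lit 0x80608),
 (nat_lit 0x80c0a040604080a04080c06020c04020a08040206040c020806080402080a08060402080206040a0c080a08040202040806080c04020a0806080c0a04040c080208020406040a0c080a040802060c08040a0c02080a020a04060402),
 (nat_lit 0x305070b02060a080c0406020c08040604080c080c0a08060c0402080608040604080a08040c0602080a080c060804060c0a08)] = true := by decide +kernel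

theorem HNp : presB par22 XN [(Un, 0),
 (Ua, 0)] [] = true := by decide +kernel

theorem HN {G : Type*} [Group G] [Finite G] (S : S22 G) : S.M.KE (S.M.st [(Un, 0),
 (Ua, 0)] []) XN 6531840 :=
  (KN S).of_leA HNw (S.M.le_st HNp)

theorem clN : clB par22 XN (candS par22 [(Ua, 0),
 (Un, 0)] []) (nat_lit 0x2080c06080a020408060402080a0c060408) = true := by decide +kernel

noncomputable def ZNM_0D : List (ℕ × ℕ) := (((nat_lit 0x6101a), 0) :: XN)

theorem ZNM_1b : endB parA ZNM_0D [(nat_lit 0x20c040a0203),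
 (nat_lit 0x8060a040c02060a04),
 (nat_lit 0xc0e0a02040e0a0203),
 (nat_lit 0x40a06020e0a08020a03),
 (nat_lit 0x204020c0e02060a04),
 (nat_lit 0xe02060a04080a01)] = true := by decide +kernel

theorem ZNM_1 {G : Type*} [Group G] (M : Md G parA) : M.Ch ZNM_0D [] [] 1 := Md.Ch.base ZNM_1b

noncomputable def ZNM_0W : List (ℕ × ℕ) := apd [(0, 0),
 (26, 0)] []

theorem ZNM_0b : stepB parA XN [] ZNM_0W [] (nat_lit 0x6101a) (.dif (.dif (.dif (.and (.and (.and (.im 8 (.nb 5)) (.im 4 (.nb 3))) (.im 12 (.nb 3))) (.im 4 (.nb 1))) (.nb 4)) (.im 8 (.nb 2))) (.im 8 (.nb 3))) (nat_lit 0x20402) 6 0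
 .nil = true := by decide +kernel

theorem ZNM_0 {G : Type*} [Group G] [Finite G] (M : Md G parA) : M.Ch XN [] ZNM_0W 6 :=
  Md.Ch.step ZNM_0b (ZNM_1 M)

theorem ZNM_p : presB parA ZNM_0W XN [] = true := by decide +kernel

theorem ZNM {G : Type*} [Group G] [Finite G] (M : Md G parA) : M.KE (M.st XN []) ZNM_0W 6 :=
  (ZNM_0 M).ke ZNM_p

theorem ZNe : cnd (freeL 14 par22.c0 XN) (freeL 14 par22.c0 ZNM_0W) false = true := by decide +kernel

theorem ZN {G : Type*} [Group G] [Finite G] (S : S22 G) : S.M.KE (S.M.st XN []) ZNM_0W 6 := S.X.even (ZNM S.A) ZNe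

theorem coxN : coxB par22 [(Ua, 0),
 (Un, 0)] 2 = true := by decide +kernel

noncomputable def SNl_0W : List (ℕ × ℕ) := apd [(0, 0),
 (26, 0)] []

theorem SNl_0b : lvB par22 SNl_0W [] (nat_lit 0x8161a18) (nat_lit 0x20402) 6 = true := by decide +kernel

theorem SNl_0 {G : Type*} [Group G] [Finite G] (M : Md G par22) : M.LB SNl_0W 6 :=
  Md.LB.step SNl_0b (Md.LB.one M _)

theorem SNw : leA par22 [(Ua, 0),
 (Un, 0)] SNl_0W [2,
 4] = true := by decide +kernel

theorem SN {G : Type*} [Group G] [Finite G] (M : Md G par22) : M.LB [(Ua, 0),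
 (Un, 0)] 6 := Md.LB.of_leA (SNl_0 M) SNw

noncomputable def x3 : ℕ × ℕ := (0, (nat_lit 0x1a060c041204060e14040e0604))

noncomputable def x3A : ℕ := (nat_lit 0x15404a200018601a04c250400018000081901080622043088100040990341210852204b00ca88aa4814060000002221090c0081401010080048b00890c00000110021004400303000001800304008188220068000210000000000000000000000000000000000000000000000000000000000000000000000000000000000000000000000000000000000000000000000000000000000000000000000000000000000000000000000000000000000000000000000000000000000000000000000000000000000000000000000000000000000000000000000000000000000000000000000000000000000000000000000000000000000000000000000000000000000000000000000000000000000000000000000000000000000000000000000000000000000000000000000000000000000000000000000000000000000000000000000000000000000000000000000000000000000000000000000000000000000000000000000000000000000000000000000000000000000000000000000000000000000000000000000000000000000000000000000000000000000000000000000000000000000000000000000000000000000)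

theorem x3_fix : fixB par22 x3 x3A = true := by decide +kernel

theorem x3_ord : ordB par22 x3 3 0 = true := by decide +kernel

theorem x3_mul : mulB par22 x3 (Ua, 0) (Un, 0) = true := by decide +kernel

noncomputable def x3_cM_0D : List (ℕ × ℕ) := ((5658, 0) :: [x3])

noncomputable def x3_cM_1D : List (ℕ × ℕ) := ((24, 0) :: x3_cM_0D)

noncomputable def x3_cM_2D : List (ℕ × ℕ) := (((nat_lit 0x80a18), 0) :: x3_cM_1D)

noncomputable def x3_cM_3D : List (ℕ × ℕ) := (((nat_lit 0x100c0818), 0) :: x3_cM_2D)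

theorem x3_cM_4b : endB parA x3_cM_3D [(nat_lit 0xb0408060206040a0604),
 (nat_lit 0xa08040a020604),
 (nat_lit 0x608020604060a0602),
 (nat_lit 0x804060802060b020602),
 (nat_lit 0xa0602060402060b060802),
 (nat_lit 0x40a0604020b080602)] = true := by decide +kernel

theorem x3_cM_4 {G : Type*} [Group G] (M : Md G parA) : M.Ch x3_cM_3D [x3A] [] 1 := Md.Ch.base x3_cM_4b

noncomputable def x3_cM_3W : List (ℕ × ℕ) := apd [((nat_lit 0x160c160416), 0)] []

theorem x3_cM_3b : stepB parA x3_cM_2D [x3A] x3_cM_3W [] (nat_lit 0x100c0818) (.dif (.and (.and (.and (.im 516 (.nb 3)) (.im 8 (.nb 1))) (.im 8 (.nb 2))) (.im 2308 (.nb 3))) (.im 4 (.nb 1))) 2 2 0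
 .nil = true := by decide +kernel

theorem x3_cM_3 {G : Type*} [Group G] [Finite G] (M : Md G parA) : M.Ch x3_cM_2D [x3A] x3_cM_3W 2 :=
  Md.Ch.step x3_cM_3b (x3_cM_4 M)

noncomputable def x3_cM_2W : List (ℕ × ℕ) := apd [((nat_lit 0x141a16), 0),
 ((nat_lit 0x12141a16), 0),
 ((nat_lit 0xe1a141816), 0),
 (0, (nat_lit 0x814040e16060a0e10080c0a06040c041c))] x3_cM_3W

theorem x3_cM_2b : stepB parA x3_cM_1D [x3A] x3_cM_2W x3_cM_3W (nat_lit 0x80a18) (.dif (.dif (.dif (.dif (.dif (.im (nat_lit 0x20702) (.nb 2)) (.nb 2)) (.nb 1)) (.lit 0)) (.im 2 (.nb 2))) (.im 7 (.nb 1))) (nat_lit 0x808080a080804060402) 108 (nat_lit 0x80804020a060402)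
 (.many [(.fx 1 (nat_lit 0x90601))] 24 1 (nat_lit 0xa1600) .nil) = true := by decide +kernel

theorem x3_cM_2 {G : Type*} [Group G] [Finite G] (M : Md G parA) : M.Ch x3_cM_1D [x3A] x3_cM_2W 216 :=
  Md.Ch.step x3_cM_2b (x3_cM_3 M)

noncomputable def x3_cM_1W : List (ℕ × ℕ) := apd [((nat_lit 0x12161a), 0)] x3_cM_2W

theorem x3_cM_1b : stepB parA x3_cM_0D [x3A] x3_cM_1W x3_cM_2W 24 (.dif (.dif .all (.nb 1)) (.lit 0)) (nat_lit 0x208020a02080c020a0206040c08020a04020a040c0802) 1440 (nat_lit 0x20c0a02040a020c080a0602040a020c08060402)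
 (.many [(.fx 1 (nat_lit 0x70202))] 16 1 5632 .nil) = true := by decide +kernel

theorem x3_cM_1 {G : Type*} [Group G] [Finite G] (M : Md G parA) : M.Ch x3_cM_0D [x3A] x3_cM_1W 311040 :=
  Md.Ch.step x3_cM_1b (x3_cM_2 M)

noncomputable def x3_cM_0W : List (ℕ × ℕ) := apd [((nat_lit 0x180a18), 0)] x3_cM_1W

theorem x3_cM_0b : stepB parA [x3] [x3A] x3_cM_0W x3_cM_1W 5658 (.lit 0) (nat_lit 0xc02080a0602040c0a06020c080602) 126 0
 .nil = true := by decide +kernel

theorem x3_cM_0 {G : Type*} [Group G] [Finite G] (M : Md G parA) : M.Ch [x3] [x3A] x3_cM_0W 39191040 :=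
  Md.Ch.step x3_cM_0b (x3_cM_1 M)

theorem x3_cM_p : presB parA x3_cM_0W [x3] [x3A] = true := by decide +kernel

theorem x3_cM {G : Type*} [Group G] [Finite G] (M : Md G parA) : M.KE (M.st [x3] [x3A]) x3_cM_0W 39191040 :=
  (x3_cM_0 M).ke x3_cM_p

noncomputable def x3_cL_2W : List (ℕ × ℕ) := apd [((nat_lit 0x1614161a), 0),
 ((nat_lit 0x14061a16), 0),
 (0, (nat_lit 0xa060c1008140e12040e0a)),
 (0, (nat_lit 0xe0a1404060a12140612))] []

theorem x3_cL_2b : lvB par22 x3_cL_2W [] (nat_lit 0x81218) (nat_lit 0x6080402) 16 = true := by decide +kernel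

theorem x3_cL_2 {G : Type*} [Group G] [Finite G] (M : Md G par22) : M.LB x3_cL_2W 16 :=
  Md.LB.step x3_cL_2b (Md.LB.one M _)

noncomputable def x3_cL_1W : List (ℕ × ℕ) := apd [((nat_lit 0x6121a16), 0)] x3_cL_2W

theorem x3_cL_1b : lvB par22 x3_cL_1W x3_cL_2W 2072 (nat_lit 0x20a0206040208020a060402080a060402) 720 = true := by decide +kernel

theorem x3_cL_1 {G : Type*} [Group G] [Finite G] (M : Md G par22) : M.LB x3_cL_1W 11520 :=
  Md.LB.step x3_cL_1b (x3_cL_2 M)

noncomputable def x3_cL_0W : List (ℕ × ℕ) := apd [(5658, 0),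
 (0, (nat_lit 0x21a10140a1208141006140a0c))] x3_cL_1W

theorem x3_cL_0b : lvB par22 x3_cL_0W x3_cL_1W 22 (nat_lit 0x804020c04020e04020a08060c020e020402) 1701 = true := by decide +kernel

theorem x3_cL_0 {G : Type*} [Group G] [Finite G] (M : Md G par22) : M.LB x3_cL_0W 19595520 :=
  Md.LB.step x3_cL_0b (x3_cL_1 M)

theorem x3_co : oddB par22 parA 14 [x3] [x3A] x3_cL_0W (nat_lit 0xa141a160c140a0e08100e14060c121c) = true := by decide +kernel

theorem x3_c {G : Type*} [Group G] [Finite G] (S : S22 G) : S.M.KE (S.M.st [x3] [x3A]) x3_cL_0W 19595520 :=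
  S.X.oddKE (x3_cM S.A) x3_co (x3_cL_0 S.M) (by norm_num)

theorem x3_A : Nat.beq x3A (candS par22 [(Ua, 0),
 (Un, 0)] []) = true := by decide +kernel

theorem wNu : wchk par22 (.br [(5658, 0),
 ((nat_lit 0xe1a16), 0),
 ((nat_lit 0x1614161a), 0),
 ((nat_lit 0x141a16), 0),
 ((nat_lit 0x180a18), 0),
 ((nat_lit 0x10161418), 0)] (nat_lit 0xc080a0204060a0408020c040a08020604) 5658
 (.br [((nat_lit 0x141a16), 0),
 ((nat_lit 0xe14161a), 0),
 ((nat_lit 0x6121a16), 0),
 ((nat_lit 0x12161a), 0),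
 ((nat_lit 0x16080e18), 0)] (nat_lit 0x60408060a08020604) (nat_lit 0x141a16)
 (.br [((nat_lit 0x12161a), 0),
 ((nat_lit 0x160a0e16), 0),
 ((nat_lit 0x40a161a), 0),
 ((nat_lit 0x12141a16), 0)] (nat_lit 0x408060204) (nat_lit 0x12161a)
 .small .small) .small) .small) x3A 6 = true := by decide +kernel

theorem wNl : cliqB par22 [(5658, 0),
 ((nat_lit 0x12161a), 0),
 ((nat_lit 0x141a16), 0),
 ((nat_lit 0x40a161a), 0),
 ((nat_lit 0x12141a16), 0),
 ((nat_lit 0x180a180a16), 0)] x3A 6 = true := by decide +kernel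

theorem wN {G : Type*} [Group G] (M : Md G par22) : commutingWidth (M.T x3A) = 6 := M.width wNu wNl

noncomputable def Uu : ℕ := 5658

noncomputable def Uw : ℕ := (nat_lit 0xe1a16)

theorem tK1 : trB par22 XN [(Ua, 0),
 (Un, 0)] [] (nat_lit 0xc080204080a0604080a060c0804080a0602) Uu = true := by decide +kernel

noncomputable def WK2 : List (ℕ × ℕ) := [(5658, 0),
 ((nat_lit 0x141a16), 0),
 ((nat_lit 0xe14161a), 0),
 ((nat_lit 0x6121a16), 0),
 ((nat_lit 0x12161a), 0),
 ((nat_lit 0x16080e18), 0)]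

theorem tK2 : trB par22 WK2 [(Ua, 0),
 (Un, 0)] [(Uu, 0)] (nat_lit 0x40a0c08040c06080a0402) Uw = true := by decide +kernel

theorem inK1 : inC par22 [(Ua, 0),
 (Un, 0)] [] Uu = true := by decide +kernel

theorem inK2 : inC par22 [(Ua, 0),
 (Un, 0)] [(Uu, 0)] Uw = true := by decide +kernel

end Cfsg.Lib.Fi.B22
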