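import Cfsg.Agent.Lib.Fi.B22a

set_option maxRecDepth 100000

namespace Cfsg.Lib.Fi.B22

open Cfsg.Lib.Comp Cfsg.Lib.Fi

noncomputable def aA : ℕ := (nat_lit 0x3ffffffffffffffffffffffffffffffffffffffffffffffffffffffffffffffffffffffffffffffffffffffffffffffffffffffffffffffffffffffffffffffffffffffffffffffffffffffffffffffffffffffffffffe00000000000000000000000000000000000000000000000000000000000000000000000000000000000000000000000000000000000000000000000000000000000000000000000000000000000000000000000000000000000000000000000000000000000000000000000000000000000000000000000000000000000000000000000000000000000000000000000000000000000000000000000000000000000000000000000000000000000000000000000000000000000000000000000000000000000000000000000000000000000000000000000000000000000000000000000000000000000000000000000000000000000000000000000000000000000000000000000000000000000000000000000000000000000000000000000000000000000000000000000000000000000000000000000000000000000000000000000000000000000000000000000000000000000000000000000000000001)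

theorem a_fix : fixB par22 (Ua, 0) aA = true := by decide +kernel

noncomputable def j2 : ℕ × ℕ := (0, (nat_lit 0xe100c120e04100c0a1412))

noncomputable def j2A : ℕ := (nat_lit 0x21cc31a8c002a20c28b69a830f000028f031643000c0000c000040400bfc600009000651c6056015018a9410060012018660a98511801a48c1004456140060064c184a3250088802400242d0612546001a4d0a090100200000000000000000000000000000000000000000000000000000000000000000000000000000000000000000000000000000000000000000000000000000000000000000000000000000000000000000000000000000000000000000000000000000000000000000000000000000000000000000000000000000000000000000000000000000000000000000000000000000000000000000000000000000000000000000000000000000000000000000000000000000000000000000000000000000000000000000000000000000000000000000000000000000000000000000000000000000000000000000000000000000000000000000000000000000000000000000000000000000000000000000000000000000000000000000000000000000000000000000000000000000000000000000000000000000000000000000000000000000000000000000000000000000000000000000000000000000001)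

theorem j2_fix : fixB par22 j2 j2A = true := by decide +kernel

theorem j2_ord : ordB par22 j2 2 1 = true := by decide +kernel

noncomputable def j3 : ℕ × ℕ := (0, (nat_lit 0x101410060e06101410))

noncomputable def j3A : ℕ := (nat_lit 0x1482000400020000880108004000020a010002000000004000000000a184000010000008000000001021000000000008040210010000800000040001000400000000010100800020000428020210200124808080000000000000000000000000000000000000000000000000000000000000000000000000000000000000000000000000000000000000000000000000000000000000000000000000000000000000000000000000000000000000000000000000000000000000000000000000000000000000000000000000000000000000000000000000000000000000000000000000000000000000000000000000000000000000000000000000000000000000000000000000000000000000000000000000000000000000000000000000000000000000000000000000000000000000000000000000000000000000000000000000000000000000000000000000000000000000000000000000000000000000000000000000000000000000000000000000000000000000000000000000000000000000000000000000000000000000000000000000000000000000000000000000000000000000000000000000000000000001)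

theorem j3_fix : fixB par22 j3 j3A = true := by decide +kernel

theorem j3_ord : ordB par22 j3 2 1 = true := by decide +kernel

theorem j2_fac : facB par22 [(Ua, 0),
 (Ub, 0)] j2 0x204 = true := by decide +kernel

theorem j3_fac : facB par22 [(Ua, 0),
 (Ub, 0),
 (Uc, 0)] j3 0x20406 = true := by decide +kernel

noncomputable def j2_cM_0D : List (ℕ × ℕ) := ((26, 0) :: [j2])

noncomputable def j2_cM_1D : List (ℕ × ℕ) := ((24, 0) :: j2_cM_0D)

noncomputable def j2_cM_2D : List (ℕ × ℕ) := ((5146, 0) :: j2_cM_1D)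

noncomputable def j2_cM_3D : List (ℕ × ℕ) := (((nat_lit 0x1a0e0c18), 0) :: j2_cM_2D)

noncomputable def j2_cM_4D : List (ℕ × ℕ) := (((nat_lit 0x16140416), 0) :: j2_cM_3D)

theorem j2_cM_5b : endB parA j2_cM_4D [(nat_lit 0x8020a06080c06080a01),
 (nat_lit 0x6080a0c0a0601),
 (nat_lit 0x40a02080c0a0202),
 (nat_lit 0x60a01),
 (nat_lit 0x20a06080a0c080601),
 (nat_lit 0x20a06080c0601)] = true := by decide +kernel

theorem j2_cM_5 {G : Type*} [Group G] (M : Md G parA) : M.Ch j2_cM_4D [j2A] [] 1 := Md.Ch.base j2_cM_5b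

theorem j2_cM_4b : stepB parA j2_cM_3D [j2A] (apd [] []) [] (nat_lit 0x16140416) (.dif (.dif (.dif (.dif (.and (.and (.lit 0) (.im 4 (.nb 1))) (.im 1030 (.nb 4))) (.im 6 (.nb 2))) (.nb 4)) (.nb 3)) (.nb 2)) 0 1 0
 .nil = true := by decide +kernel

theorem j2_cM_4 {G : Type*} [Group G] [Finite G] (M : Md G parA) : M.Ch j2_cM_3D [j2A] (apd [] []) 1 :=
  Md.Ch.step j2_cM_4b (j2_cM_5 M)

noncomputable def j2_cM_3W : List (ℕ × ℕ) := apd [((nat_lit 0x616121416), 0),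
 ((nat_lit 0x616120816), 0)] (apd [] [])

theorem j2_cM_3b : stepB parA j2_cM_2D [j2A] j2_cM_3W (apd [] []) (nat_lit 0x1a0e0c18) (.dif (.dif (.and (.and (.and (.im 4 (.nb 1)) (.im 6 (.nb 1))) (.im 8 (.nb 2))) (.im 8 (.nb 3))) (.im 8 (.nb 1))) (.nb 3)) (nat_lit 0x20402) 6 0
 .nil = true := by decide +kernel

theorem j2_cM_3 {G : Type*} [Group G] [Finite G] (M : Md G parA) : M.Ch j2_cM_2D [j2A] j2_cM_3W 6 :=
  Md.Ch.step j2_cM_3b (j2_cM_4 M)

noncomputable def j2_cM_2W : List (ℕ × ℕ) := apd [((nat_lit 0x141a16), 0),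
 ((nat_lit 0x1a10061a16), 0),
 (0, (nat_lit 0x1a16060e100a04140e0c08100c)),
 (0, (nat_lit 0x1a0602161206080a060a0408100e041c))] j2_cM_3W

theorem j2_cM_2b : stepB parA j2_cM_1D [j2A] j2_cM_2W j2_cM_3W 5146 (.dif (.dif (.dif (.and (.im 6 (.nb 1)) (.im 6 (.nb 2))) (.nb 2)) (.nb 1)) (.im 2 (.nb 2))) (nat_lit 0x60a08060402) 24 0
 .nil = true := by decide +kernel

theorem j2_cM_2 {G : Type*} [Group G] [Finite G] (M : Md G parA) : M.Ch j2_cM_1D [j2A] j2_cM_2W 144 :=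
  Md.Ch.step j2_cM_2b (j2_cM_3 M)

noncomputable def j2_cM_1W : List (ℕ × ℕ) := apd [((nat_lit 0xe1a16), 0)] j2_cM_2W

theorem j2_cM_1b : stepB parA j2_cM_0D [j2A] j2_cM_1W j2_cM_2W 24 (.dif (.im 4 (.nb 1)) (.nb 1)) (nat_lit 0xe020408020a0406020804020a0c0402) 320 (nat_lit 0xa04020a040c020a04080e0602)
 (.many [(.fx 1 1537)] 24 1 (nat_lit 0xe1a00) .nil) = true := by decide +kernel

theorem j2_cM_1 {G : Type*} [Group G] [Finite G] (M : Md G parA) : M.Ch j2_cM_0D [j2A] j2_cM_1W 46080 :=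
  Md.Ch.step j2_cM_1b (j2_cM_2 M)

noncomputable def j2_cM_0W : List (ℕ × ℕ) := apd [((nat_lit 0x61a16), 0)] j2_cM_1W

theorem j2_cM_0b : stepB parA [j2] [j2A] j2_cM_0W j2_cM_1W 26 (.dif .all (.lit 0)) (nat_lit 0x602040c020e0602040c0604020e0604020c060804020e060402) 2304 (nat_lit 0xe02080a0602040c0e0204060a0402100602)
 (.many [(.fx 1 1025)] 24 1 (nat_lit 0xe1a00) .nil) = true := by decide +kernel

theorem j2_cM_0 {G : Type*} [Group G] [Finite G] (M : Md G parA) : M.Ch [j2] [j2A] j2_cM_0W 106168320 :=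
  Md.Ch.step j2_cM_0b (j2_cM_1 M)

theorem j2_cM_p : presB parA j2_cM_0W [j2] [j2A] = true := by decide +kernel

theorem j2_cM {G : Type*} [Group G] [Finite G] (M : Md G parA) : M.KE (M.st [j2] [j2A]) j2_cM_0W 106168320 :=
  (j2_cM_0 M).ke j2_cM_p

noncomputable def j2_cL_2W : List (ℕ × ℕ) := apd [((nat_lit 0x1a10061a16), 0),
 ((nat_lit 0x1a100a0e16), 0),
 (0, (nat_lit 0x60a0414080a0604060e0c)),
 (0, (nat_lit 0x10120e060c060806140604)),
 (0, (nat_lit 0x1a160c140a140c120604140e12))] []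

theorem j2_cL_2b : lvB par22 j2_cL_2W [] (nat_lit 0x180c1a) (nat_lit 0xa08060402) 32 = true := by decide +kernel

theorem j2_cL_2 {G : Type*} [Group G] [Finite G] (M : Md G par22) : M.LB j2_cL_2W 32 :=
  Md.LB.step j2_cL_2b (Md.LB.one M _)

noncomputable def j2_cL_1W : List (ℕ × ℕ) := apd [((nat_lit 0x14161a), 0)] j2_cL_2W

theorem j2_cL_1b : lvB par22 j2_cL_1W j2_cL_2W 24 (nat_lit 0x20a0204020a06020408020a0208060402) 720 = true := by decide +kernel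

theorem j2_cL_1 {G : Type*} [Group G] [Finite G] (M : Md G par22) : M.LB j2_cL_1W 23040 :=
  Md.LB.step j2_cL_1b (j2_cL_2 M)

noncomputable def j2_cL_0W : List (ℕ × ℕ) := apd [((nat_lit 0xa1a16), 0)] j2_cL_1W

theorem j2_cL_0b : lvB par22 j2_cL_0W j2_cL_1W 22 (nat_lit 0xe0a04020c0804020c0a04020c02040a080602) 2304 = true := by decide +kernel

theorem j2_cL_0 {G : Type*} [Group G] [Finite G] (M : Md G par22) : M.LB j2_cL_0W 53084160 :=
  Md.LB.step j2_cL_0b (j2_cL_1 M)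

theorem j2_co : oddB par22 parA 14 [j2] [j2A] j2_cL_0W (nat_lit 0x4141a16140e1006100a100e140a041c) = true := by decide +kernel

theorem j2_c {G : Type*} [Group G] [Finite G] (S : S22 G) : S.M.KE (S.M.st [j2] [j2A]) j2_cL_0W 53084160 :=
  S.X.oddKE (j2_cM S.A) j2_co (j2_cL_0 S.M) (by norm_num)

noncomputable def j3_cM_0D : List (ℕ × ℕ) := ((24, 0) :: [j3])

noncomputable def j3_cM_1D : List (ℕ × ℕ) := (((nat_lit 0xa1a16), 0) :: j3_cM_0D)

noncomputable def j3_cM_2D : List (ℕ × ℕ) := (((nat_lit 0x8161a), 0) :: j3_cM_1D)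

noncomputable def j3_cM_3D : List (ℕ × ℕ) := (((nat_lit 0x1218040216), 0) :: j3_cM_2D)

noncomputable def j3_cM_4D : List (ℕ × ℕ) := (((nat_lit 0x61a1016), 0) :: j3_cM_3D)

theorem j3_cM_5b : endB parA j3_cM_4D [(nat_lit 0xc060a04020c05),
 (nat_lit 0x8020a0406080a0c020a02),
 (nat_lit 0xa020806020c01),
 (nat_lit 0x60408020a0c08060a01),
 (nat_lit 0xc0a0408020c0601),
 (nat_lit 0xc02040a0801)] = true := by decide +kernel

theorem j3_cM_5 {G : Type*} [Group G] (M : Md G parA) : M.Ch j3_cM_4D [j3A] [] 1 := Md.Ch.base j3_cM_5b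

theorem j3_cM_4b : stepB parA j3_cM_3D [j3A] (apd [] []) [] (nat_lit 0x61a1016) (.dif (.dif (.dif (.dif (.and (.and (.and (.im 10 (.nb 2)) (.im 1032 (.nb 1))) (.im 2058 (.nb 4))) (.im 2568 (.nb 3))) (.nb 4)) (.nb 2)) (.nb 1)) (.im 6 (.nb 1))) 0 1 0
 .nil = true := by decide +kernel

theorem j3_cM_4 {G : Type*} [Group G] [Finite G] (M : Md G parA) : M.Ch j3_cM_3D [j3A] (apd [] []) 1 :=
  Md.Ch.step j3_cM_4b (j3_cM_5 M)

noncomputable def j3_cM_3W : List (ℕ × ℕ) := apd [(0, (nat_lit 0x10061a160a0812100e12040e08120c))] (apd [] [])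

theorem j3_cM_3b : stepB parA j3_cM_2D [j3A] j3_cM_3W (apd [] []) (nat_lit 0x1218040216) (.dif (.and (.lit 0) (.im 6 (.nb 2))) (.nb 1)) (nat_lit 0x20202) 4 0
 .nil = true := by decide +kernel

theorem j3_cM_3 {G : Type*} [Group G] [Finite G] (M : Md G parA) : M.Ch j3_cM_2D [j3A] j3_cM_3W 4 :=
  Md.Ch.step j3_cM_3b (j3_cM_4 M)

noncomputable def j3_cM_2W : List (ℕ × ℕ) := apd [(0, (nat_lit 0xe0c0418060414120a100e06080e101c))] j3_cM_3W

theorem j3_cM_2b : stepB parA j3_cM_1D [j3A] j3_cM_2W j3_cM_3W (nat_lit 0x8161a) (.and (.and (.nb 2) (.nb 1)) (.im 6 (.nb 2))) (nat_lit 0x2040404020402040402) 18 0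
 .nil = true := by decide +kernel

theorem j3_cM_2 {G : Type*} [Group G] [Finite G] (M : Md G parA) : M.Ch j3_cM_1D [j3A] j3_cM_2W 72 :=
  Md.Ch.step j3_cM_2b (j3_cM_3 M)

noncomputable def j3_cM_1W : List (ℕ × ℕ) := apd [((nat_lit 0x18121a16), 0)] j3_cM_2W

theorem j3_cM_1b : stepB parA j3_cM_0D [j3A] j3_cM_1W j3_cM_2W (nat_lit 0xa1a16) (.dif (.lit 0) (.im 516 (.nb 1))) (nat_lit 0x2060204060206020602) 32 0
 .nil = true := by decide +kernel

theorem j3_cM_1 {G : Type*} [Group G] [Finite G] (M : Md G parA) : M.Ch j3_cM_0D [j3A] j3_cM_1W 2304 :=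
  Md.Ch.step j3_cM_1b (j3_cM_2 M)

noncomputable def j3_cM_0W : List (ℕ × ℕ) := apd [((nat_lit 0x6161a), 0)] j3_cM_1W

theorem j3_cM_0b : stepB parA [j3] [j3A] j3_cM_0W j3_cM_1W 24 (.dif .all (.lit 0)) (nat_lit 0x2040802040602040802040806020408020408060204080402) 1536 (nat_lit 0x8020408020604080206040802040608020402)
 (.many [(.fx 1 1025),
 (.cnt (.and (.nb 1) (.lit 0)))] 24 2 (nat_lit 0x1a010e1a00) .nil) = true := by decide +kernel

theorem j3_cM_0 {G : Type*} [Group G] [Finite G] (M : Md G parA) : M.Ch [j3] [j3A] j3_cM_0W 3538944 :=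
  Md.Ch.step j3_cM_0b (j3_cM_1 M)

theorem j3_cM_p : presB parA j3_cM_0W [j3] [j3A] = true := by decide +kernel

theorem j3_cM {G : Type*} [Group G] [Finite G] (M : Md G parA) : M.KE (M.st [j3] [j3A]) j3_cM_0W 3538944 :=
  (j3_cM_0 M).ke j3_cM_p

noncomputable def j3_cL_2W : List (ℕ × ℕ) := apd [(0, (nat_lit 0x180e160a181408140c06040e12040812))] []

theorem j3_cL_2b : lvB par22 j3_cL_2W [] 0 (nat_lit 0x20202) 4 = true := by decide +kernel

theorem j3_cL_2 {G : Type*} [Group G] [Finite G] (M : Md G par22) : M.LB j3_cL_2W 4 :=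
  Md.LB.step j3_cL_2b (Md.LB.one M _)

noncomputable def j3_cL_1W : List (ℕ × ℕ) := apd [((nat_lit 0xc16121416), 0),
 ((nat_lit 0x18121a16), 0),
 (0, (nat_lit 0x10061a16140c1006121404121408))] j3_cL_2W

theorem j3_cL_1b : lvB par22 j3_cL_1W j3_cL_2W 3610 (nat_lit 0x20806080406080204060204) 288 = true := by decide +kernel

theorem j3_cL_1 {G : Type*} [Group G] [Finite G] (M : Md G par22) : M.LB j3_cL_1W 1152 :=
  Md.LB.step j3_cL_1b (j3_cL_2 M)

noncomputable def j3_cL_0W : List (ℕ × ℕ) := apd [((nat_lit 0x180e18), 0)] j3_cL_1W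

theorem j3_cL_0b : lvB par22 j3_cL_0W j3_cL_1W 24 (nat_lit 0x206020806020a0208040602080204060208040602) 1536 = true := by decide +kernel

theorem j3_cL_0 {G : Type*} [Group G] [Finite G] (M : Md G par22) : M.LB j3_cL_0W 1769472 :=
  Md.LB.step j3_cL_0b (j3_cL_1 M)

theorem j3_co : oddB par22 parA 14 [j3] [j3A] j3_cL_0W (nat_lit 0x818040a0e0a0c12040610120a141c) = true := by decide +kernel

theorem j3_c {G : Type*} [Group G] [Finite G] (S : S22 G) : S.M.KE (S.M.st [j3] [j3A]) j3_cL_0W 1769472 :=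
  S.X.oddKE (j3_cM S.A) j3_co (j3_cL_0 S.M) (by norm_num)

theorem j2_un : cnd (ptsB [(Ua, 0),
 (Ub, 0)]) (presB par22 j2_cL_0W [] [ptS par22 [(Ua, 0),
 (Ub, 0)]]) false = true := by decide +kernel

noncomputable def Ux : ℕ := (nat_lit 0x616060416)

noncomputable def Uy : ℕ := (nat_lit 0x1808140816)

noncomputable def Uz : ℕ := (nat_lit 0x10061a16)

theorem j3_fac' : facB par22 [(Ux, 0),
 (Uy, 0),
 (Uz, 0)] j3 0x20406 = true := by decide +kernel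

theorem j3_sw : cnd (ptsB [(Ua, 0),
 (Ub, 0),
 (Uc, 0)]) (cnd (ptsB [(Ux, 0),
 (Uy, 0),
 (Uz, 0)]) (cnd (swB par22 j3_cL_0W (ptS par22 [(Ua, 0),
 (Ub, 0),
 (Uc, 0)]) (ptS par22 [(Ux, 0),
 (Uy, 0),
 (Uz, 0)])) (neB (ptS par22 [(Ua, 0),
 (Ub, 0),
 (Uc, 0)]) (ptS par22 [(Ux, 0),
 (Uy, 0),
 (Uz, 0)])) false) false) false = true := by decide +kernel

theorem ne12 : neB (pc par22.w par22.K aA) (pc par22.w par22.K j2A) = true := by decide +kernel

theorem ne13 : neB (pc par22.w par22.K aA) (pc par22.w par22.K j3A) = true := by decide +kernel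

theorem ne23 : neB (pc par22.w par22.K j2A) (pc par22.w par22.K j3A) = true := by decide +kernel

theorem j2_no : no3B par22 j2 24 1 = true := by decide +kernel

theorem j3_no : no3B par22 j3 8 1 = true := by decide +kernel

noncomputable def p2A : List (ℕ × ℕ) := [(0, (nat_lit 0x140c0814040e080e0a1206)),
 (0, (nat_lit 0x60e14120c061412040c10)),
 (0, (nat_lit 0x1a160c0e060c0e0a06080c0604)),
 (0, (nat_lit 0x1a160e0410080e0c0e100c0a)),
 (0, (nat_lit 0xc10080612140a12060c06)),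
 (0, (nat_lit 0x10040a1012080a080a0e)),
 (0, (nat_lit 0xe080e14060a0e08100410)),
 (0, (nat_lit 0xe061004140410060e)),
 (0, (nat_lit 0xa1208140c14060a1210)),
 (0, (nat_lit 0x81412040a10041410120c)),
 (0, (nat_lit 0x80a0810060c0a121408)),
 (0, (nat_lit 0x120a0e040a040e0a12)),
 (0, 0),
 (0, (nat_lit 0xc06141014060c140c14)),
 (0, (nat_lit 0x60c040a060a040c06)),
 (0, (nat_lit 0x80c12040c140c120804)),
 (0, (nat_lit 0xe100c120e04100c0a1412))]

theorem p2b : pcB (rbG par22 p2A) 2 17 17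
 [[(nat_lit 0x14181a20),
 0,
 0,
 0,
 0,
 0,
 0,
 0,
 0,
 0,
 0,
 0,
 0,
 0,
 0,
 0,
 0,
 0],
 [(nat_lit 0x101214181c1e22),
 (nat_lit 0xe101216181e2022),
 0,
 0,
 0,
 0,
 0,
 0,
 0,
 0,
 0,
 0,
 0,
 0,
 0,
 0,
 0,
 0],
 [(nat_lit 0xa1016181a1c1e20),
 (nat_lit 0xc0e16181a1e2022),
 (nat_lit 0xa1012181a2022),
 0,
 0,
 0,
 0,
 0,
 0,
 0,
 0,
 0,
 0,
 0,
 0,
 0,
 0,
 0],
 [(nat_lit 0x14161a22),
 (nat_lit 0xc0e121e),
 (nat_lit 0xa1014161a1c1e20),
 (nat_lit 0xa10141c22),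
 0,
 0,
 0,
 0,
 0,
 0,
 0,
 0,
 0,
 0,
 0,
 0,
 0,
 0],
 [(nat_lit 0x1c1e22),
 (nat_lit 0x1216181a1c22),
 (nat_lit 0x1416181c20),
 (nat_lit 0x181c1e),
 7200,
 0,
 0,
 0,
 0,
 0,
 0,
 0,
 0,
 0,
 0,
 0,
 0,
 0],
 [(nat_lit 0x1416181c1e2022),
 (nat_lit 0x1416181e20),
 (nat_lit 0x1012161e2022),
 (nat_lit 0x10121a1c1e20),
 (nat_lit 0x101a1e20),
 (nat_lit 0x1416181e2022),
 0,
 0,
 0,
 0,
 0,
 0,
 0,
 0,
 0,
 0,
 0,
 0],
 [0,
 (nat_lit 0x161e22),
 (nat_lit 0x161a1e2022),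
 (nat_lit 0x101620),
 (nat_lit 0x1016181e2022),
 24,
 5660,
 0,
 0,
 0,
 0,
 0,
 0,
 0,
 0,
 0,
 0,
 0],
 [0,
 5660,
 (nat_lit 0x181a2022),
 (nat_lit 0x181a1c),
 7712,
 (nat_lit 0x1c1e20),
 (nat_lit 0x1c1e20),
 0,
 0,
 0,
 0,
 0,
 0,
 0,
 0,
 0,
 0,
 0],
 [0,
 (nat_lit 0x1a1e20),
 (nat_lit 0x181c2022),
 (nat_lit 0x14161a1e22),
 (nat_lit 0x14161a2022),
 30,
 7714,
 (nat_lit 0x1a1e2022),
 30,
 0,
 0,
 0,
 0,
 0,
 0,
 0,
 0,
 0],
 [0,
 (nat_lit 0x1a1e22),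
 (nat_lit 0x1a1c1e),
 (nat_lit 0x1a1c20),
 7198,
 34,
 8226,
 30,
 8226,
 34,
 0,
 0,
 0,
 0,
 0,
 0,
 0,
 0],
 [0,
 7714,
 (nat_lit 0x1a2022),
 (nat_lit 0x1a1c22),
 (nat_lit 0x1c1e22),
 8226,
 7712,
 0,
 0,
 0,
 34,
 0,
 0,
 0,
 0,
 0,
 0,
 0],
 [0,
 6686,
 7712,
 (nat_lit 0x1c1e22),
 7198,
 0,
 7712,
 0,
 0,
 34,
 34,
 0,
 0,
 0,
 0,
 0,
 0,
 0],
 [0,
 0,
 0,
 34,
 34,
 0,
 0,
 0,
 0,
 0,
 0,
 0,
 0,
 0,
 0,
 0,
 0,
 0],
 [0,
 7712,
 32,
 32,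
 32,
 34,
 32,
 0,
 0,
 34,
 0,
 0,
 0,
 0,
 0,
 0,
 0,
 0],
 [0,
 34,
 34,
 32,
 8226,
 34,
 34,
 0,
 0,
 0,
 0,
 0,
 0,
 0,
 0,
 0,
 0,
 0],
 [0,
 34,
 34,
 34,
 0,
 0,
 0,
 0,
 0,
 0,
 0,
 0,
 0,
 0,
 0,
 0,
 0,
 0],
 [0,
 0,
 0,
 0,
 0,
 0,
 0,
 0,
 0,
 0,
 0,
 0,
 0,
 0,
 0,
 0,
 0,
 0]] = true := by decide +kernel

noncomputable def p2L_1W : List (ℕ × ℕ) := apd [(0, (nat_lit 0x1a160a06040e060e080e040a0e)),
 (0, (nat_lit 0x214040a0e0a0414)),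
 (0, (nat_lit 0x14061014100a0c0a080c040a))] []

theorem p2L_1b : lvB par22 p2L_1W [] 6680 (nat_lit 0x606040604020604020604) 128 = true := by decide +kernel

theorem p2L_1 {G : Type*} [Group G] [Finite G] (M : Md G par22) : M.LB p2L_1W 128 :=
  Md.LB.step p2L_1b (Md.LB.one M _)

noncomputable def p2L_0W : List (ℕ × ℕ) := apd [((nat_lit 0x41a16), 0)] p2L_1W

theorem p2L_0b : lvB par22 p2L_0W p2L_1W 4118 (nat_lit 0x204060204020608020402060802040602080602) 1024 = true := by decide +kernel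

theorem p2L_0 {G : Type*} [Group G] [Finite G] (M : Md G par22) : M.LB p2L_0W 131072 :=
  Md.LB.step p2L_0b (p2L_1 M)

theorem p2Lb : cnd (Nat.ble 17 (List.length p2A)) (leA par22 (List.take 17 p2A) p2L_0W [(nat_lit 0x406080c1214161a1c1e20),
 (nat_lit 0x204060a0e10121a1c22),
 (nat_lit 0x6080a14161a2022),
 (nat_lit 0x20c101214181a1c1e)]) false = true := by decide +kernel

theorem p2Pc {G : Type*} [Group G] [Finite G] (M : Md G par22) : Pc (M.d p2A) 2 17 17 :=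
  Pc.of (M.relT p2A) (by norm_num) (by norm_num) (by norm_num) p2b (M.lb_PS (p2L_0 M) p2Lb)

theorem cov2_0b : cnd (Nat.ble 8 17) (cnd (inW 0 17 0) (ptB (rbG par22 p2A) (lfC par22 p2A [(Ua, 0), j2, j3] 17) 2 17 17
 (.split (.sub (.split (.sub (.split (.sub (.split (.sub (.split (.sub (.split (.sub (.split (.sub (.split (.sub (.split (.sub (.leaf 1 0 0)
 (.sub (.leaf 1 1 1)
 .nil)))
 (.sub (.mv 6 0 (.leaf (nat_lit 0x100a1a16081204100a0e0812081210) 1 1))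
 .nil)))
 (.sub (.mv 8 34 (.mv 12 0 (.leaf (nat_lit 0xe1412040a0c0e0a060a08) 2 1)))
 .nil)))
 (.sub (.mv 2 32 (.mv 12 0 (.mv 18 0 (.leaf (nat_lit 0x1a120a1a04061206040c08141208040a) 1 1))))
 .nil)))
 (.sub (.split (.sub (.split (.sub (.split (.sub (.mv 8 0 (.leaf 1 0 1))
 (.sub (.mv 8 0 (.leaf (nat_lit 0x616060416040c1012140e080c0a120814) 2 1))
 .nil)))
 (.sub (.mv 8 0 (.mv 12 0 (.leaf (nat_lit 0x1a120a1a080408060a120a12100a0604) 1 1)))
 .nil)))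
 (.sub (.mv 2 32 (.mv 12 0 (.mv 18 0 (.leaf (nat_lit 0x61606041614060414120e060e0c121404) 2 1))))
 .nil)))
 .nil)))
 (.sub (.mv 2 30 (.mv 8 30 (.mv 12 32 (.split (.sub (.mv 20 0 (.leaf (nat_lit 0x80612080e061404060a140804) 2 1))
 (.sub (.mv 20 0 (.leaf (nat_lit 0x16081206160e081014120e0c14040c0a) 1 1))
 .nil))))))
 .nil)))
 (.sub (.split (.sub (.mv 6 7202 (.mv 8 7714 (.mv 12 32 (.mv 10 34 (.mv 20 0 (.leaf (nat_lit 0x1a100a0e160e0a06120a06121404120604) 2 1))))))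
 (.sub (.mv 6 30 (.split (.sub (.mv (nat_lit 0x2060c0e161820) 0 (.mv 10 34 (.mv 18 0 (.leaf (nat_lit 0x180a041016080a141004140a12040c10) 2 1))))
 (.sub (.split (.sub (.mv 12 0 (.mv (nat_lit 0x80c101a22) 0 (.leaf (nat_lit 0x100c120e060a060c080e0804) 1 1)))
 (.sub (.mv 12 34 (.split (.sub (.leaf (nat_lit 0x8161808160a0c0406120a080e0410040e) 0 1)
 (.sub (.leaf (nat_lit 0xe10080c0a0810040a0c0e) 2 1)
 .nil))))
 .nil)))
 .nil))))
 .nil)))
 .nil)))
 (.sub (.split (.sub (.split (.sub (.mv 6 7200 (.mv 8 30 (.mv 14 0 (.mv 16 34 (.mv 24 0 (.leaf (nat_lit 0x1a100a0e160e041004120810120410) 2 1))))))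
 (.sub (.mv 6 (nat_lit 0x1e2022) (.mv (nat_lit 0x4060a101214161c1e22) (nat_lit 0x1e2022) (.mv 14 0 (.mv 16 34 (.mv 24 0 (.kill 17 1 0))))))
 .nil)))
 (.sub (.split (.sub (.mv 2 0 (.mv 4 (nat_lit 0x1e2022) (.mv 14 0 (.mv 16 34 (.mv 24 0 (.kill 17 1 0))))))
 (.sub (.split (.sub (.mv 8 7714 (.mv 14 0 (.mv 16 34 (.mv 24 0 (.leaf (nat_lit 0x160e180a160e06100c100a04060e0a04) 1 1)))))
 (.sub (.mv 8 30 (.mv 14 0 (.mv 16 34 (.mv 24 0 (.leaf (nat_lit 0x6160604160c0614120e0608120810) 2 1)))))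
 .nil)))
 .nil)))
 .nil)))
 .nil)))
 (.sub (.mv 8 (nat_lit 0x161a2022) (.split (.sub (.mv 4 (nat_lit 0x1c2022) (.mv 14 (nat_lit 0x1e2022) (.split (.sub (.mv 16 0 (.split (.sub (.mv 28 0 (.leaf (nat_lit 0xc1612141606080e04140e061008100e) 1 1))
 (.sub (.mv 28 0 (.leaf (nat_lit 0x140604101410060e0c140e) 2 1))
 .nil))))
 (.sub (.mv 16 0 (.mv (nat_lit 0xc101c1e22) 34 (.mv 28 0 (.kill 17 1 0))))
 .nil)))))
 (.sub (.mv 4 6684 (.mv 14 (nat_lit 0x1e2022) (.split (.sub (.mv 16 0 (.mv 12 34 (.mv 28 0 (.leaf (nat_lit 0xa18160816120a12040a1404140c14060a) 2 1))))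
 (.sub (.mv 16 0 (.mv (nat_lit 0xa101c1e20) 0 (.mv 28 0 (.kill 17 1 0))))
 .nil)))))
 .nil))))
 .nil))) false 8 0 0) false) false = true := by decide +kernel

theorem cov2_0 {G : Type*} [Group G] [Finite G] (M : Md G par22) : Good (M.d p2A) 2 17 (M.QC [(Ua, 0), j2, j3]) 8 (wv (M.d p2A) 0) :=
  (p2Pc M).cover (M.relT p2A) ((M.inv_QC _ (by norm_num)).mono le_top) (M.lfC_sound _ _ _ _) cov2_0b

theorem cov2_1b : cnd (Nat.ble 8 17) (cnd (inW 0 17 16) (ptB (rbG par22 p2A) (lfC par22 p2A [(Ua, 0), j2, j3] 17) 2 17 17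
 (.split (.sub (.split (.sub (.mv 2 28 (.mv 6 6684 (.split (.sub (.mv 12 7712 (.mv 18 0 (.mv 20 34 (.mv (nat_lit 0x812161a1c1e2022) 0 (.leaf (nat_lit 0x614041004060e0c0a0e06) 2 1)))))
 (.sub (.mv 12 7712 (.mv 18 0 (.mv 20 34 (.split (.sub (.leaf (nat_lit 0x18040616040a040a0610060810061204) 1 1)
 (.sub (.leaf (nat_lit 0xa1816081606080c0e0a060c06040a1410) 2 1)
 .nil))))))
 .nil)))))
 (.sub (.mv 2 (nat_lit 0x1a1c1e) (.mv 6 8226 (.split (.sub (.mv 12 7714 (.mv 18 34 (.mv 20 34 (.kill 16 1 34))))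
 (.sub (.mv 12 7714 (.mv 18 34 (.mv 20 34 (.kill 16 1 34))))
 .nil)))))
 .nil)))
 (.sub (.mv 8 (nat_lit 0x161a1e22) (.mv 2 (nat_lit 0x1a1c1e2022) (.mv (nat_lit 0x6080a10141e22) 6686 (.mv 14 (nat_lit 0x1e2022) (.mv 12 32 (.mv 18 0 (.kill 15 1 0)))))))
 .nil))) false 8 16 0) false) false = true := by decide +kernel

theorem cov2_1 {G : Type*} [Group G] [Finite G] (M : Md G par22) : Good (M.d p2A) 2 17 (M.QC [(Ua, 0), j2, j3]) 8 (wv (M.d p2A) 16) :=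
  (p2Pc M).cover (M.relT p2A) ((M.inv_QC _ (by norm_num)).mono le_top) (M.lfC_sound _ _ _ _) cov2_1b

theorem cov2_2b : cnd (Nat.ble 7 17) (cnd (inW 0 17 14) (ptB (rbG par22 p2A) (lfC par22 p2A [(Ua, 0), j2, j3] 17) 2 17 17
 (.mv 8 (nat_lit 0x16181e2022) (.split (.sub (.split (.sub (.mv 12 28 (.mv 10 0 (.mv 18 (nat_lit 0x1e2022) (.mv (nat_lit 0x6081014181c1e) 7712 (.mv 20 0 (.split (.sub (.split (.sub (.leaf (nat_lit 0xc1612141604060c0614080612100c0a04) 2 1)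
 (.sub (.leaf (nat_lit 0x61606041606120812040e14080a0c1410) 2 1)
 .nil)))
 (.sub (.split (.sub (.leaf (nat_lit 0x10180406160c060810060c0e040c04) 1 1)
 (.sub (.leaf (nat_lit 0x1a100a0e160e0a060a140810140c100610) 2 1)
 .nil)))
 .nil))))))))
 (.sub (.mv 12 7200 (.mv 10 0 (.mv 18 7712 (.mv (nat_lit 0x608101214181c1e) 30 (.mv 20 0 (.kill 15 1 0))))))
 .nil)))
 (.sub (.split (.sub (.mv 12 7198 (.mv 10 7714 (.mv 18 (nat_lit 0x1e2022) (.kill 13 1 (nat_lit 0x1e2022)))))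
 (.sub (.mv 12 (nat_lit 0x1c1e20) (.mv 10 7714 (.mv 18 7712 (.kill 13 1 32))))
 .nil)))
 .nil)))) false 7 14 0) false) false = true := by decide +kernel

theorem cov2_2 {G : Type*} [Group G] [Finite G] (M : Md G par22) : Good (M.d p2A) 2 17 (M.QC [(Ua, 0), j2, j3]) 7 (wv (M.d p2A) 14) :=
  (p2Pc M).cover (M.relT p2A) ((M.inv_QC _ (by norm_num)).mono le_top) (M.lfC_sound _ _ _ _) cov2_2b

theorem cov2_3b : cnd (Nat.ble 6 17) (cnd (inW 0 17 12) (ptB (rbG par22 p2A) (lfC par22 p2A [(Ua, 0), j2, j3] 17) 2 17 17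
 (.split (.sub (.mv 8 (nat_lit 0x1a1e20) (.mv (nat_lit 0x6080a10141e22) (nat_lit 0x14161a1c1e22) (.mv 10 (nat_lit 0x16181e2022) (.kill 10 1 (nat_lit 0x16181c1e2022)))))
 (.sub (.mv 4 (nat_lit 0x121e2022) (.mv 6 (nat_lit 0x161c1e2022) (.mv 10 (nat_lit 0x162022) (.kill 10 1 6176))))
 .nil))) false 6 12 0) false) false = true := by decide +kernel

theorem cov2_3 {G : Type*} [Group G] [Finite G] (M : Md G par22) : Good (M.d p2A) 2 17 (M.QC [(Ua, 0), j2, j3]) 6 (wv (M.d p2A) 12) :=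
  (p2Pc M).cover (M.relT p2A) ((M.inv_QC _ (by norm_num)).mono le_top) (M.lfC_sound _ _ _ _) cov2_3b

theorem cov2_4b : cnd (Nat.ble 5 17) (cnd (inW 0 17 10) (ptB (rbG par22 p2A) (lfC par22 p2A [(Ua, 0), j2, j3] 17) 2 17 17
 (.split (.sub (.split (.sub (.split (.sub (.mv 2 (nat_lit 0x16181a1c22) (.mv 12 (nat_lit 0x16181e20) (.split (.sub (.mv 14 0 (.split (.sub (.mv 16 7712 (.kill 14 1 7714))
 (.sub (.mv 16 7712 (.kill 14 1 7714))
 .nil))))
 (.sub (.mv 14 0 (.mv (nat_lit 0x60e1016181c1e2022) 7714 (.mv 16 7712 (.kill 14 1 7712))))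
 .nil)))))
 (.sub (.mv 2 (nat_lit 0x181a1e22) (.mv 12 (nat_lit 0x16181c2022) (.split (.sub (.mv 14 0 (.mv 6 30 (.mv 16 7712 (.split (.sub (.mv 22 34 (.kill 16 1 34))
 (.sub (.mv 22 34 (.kill 16 1 0))
 .nil))))))
 (.sub (.mv 14 0 (.split (.sub (.mv 16 7712 (.split (.sub (.mv 22 34 (.mv 30 0 (.leaf (nat_lit 0xc080a100a060c080c1204) 2 1)))
 (.sub (.mv 22 34 (.mv 30 0 (.kill 17 1 0)))
 .nil))))
 (.sub (.mv 16 7712 (.split (.sub (.mv 22 34 (.mv 30 0 (.leaf (nat_lit 0x1a120a1a10040806140e120c0a0812) 1 1)))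
 (.sub (.mv 22 34 (.mv 30 0 (.kill 17 1 0)))
 .nil))))
 .nil))))
 .nil)))))
 .nil)))
 (.sub (.mv 8 (nat_lit 0x16181c1e22) (.mv 2 (nat_lit 0x181c2022) (.mv 12 (nat_lit 0x181c20) (.split (.sub (.mv 14 0 (.kill 12 1 (nat_lit 0x1c1e22)))
 (.sub (.mv 14 0 (.kill 12 1 (nat_lit 0x1c1e20)))
 .nil))))))
 .nil)))
 (.sub (.split (.sub (.mv 8 (nat_lit 0x1a1c1e20) (.mv (nat_lit 0x6080a10141e22) (nat_lit 0x1416181a20) (.mv 12 (nat_lit 0x16181e) (.mv 14 (nat_lit 0x181c20) (.split (.sub (.mv (nat_lit 0x206080a0e1016181c1e) 0 (.mv (nat_lit 0x4060c0e101216181e2022) 0 (.mv 24 8226 (.kill 15 1 0))))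
 (.sub (.split (.sub (.split (.sub (.mv 24 8226 (.mv 28 34 (.kill 16 1 34)))
 (.sub (.mv 24 8226 (.mv 28 34 (.split (.sub (.leaf (nat_lit 0xc16121416140604060e12060c0a1006) 2 1)
 (.sub (.leaf (nat_lit 0x1a120a1a06100412060a04081412060a) 1 1)
 .nil)))))
 .nil)))
 (.sub (.split (.sub (.mv 24 8226 (.mv 28 34 (.kill 16 1 34)))
 (.sub (.mv 24 8226 (.mv 28 34 (.mv (nat_lit 0x4060c0e1012161c2022) 0 (.leaf (nat_lit 0xa180e180610040e140a040a0406) 2 1))))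
 .nil)))
 .nil)))
 .nil)))))))
 (.sub (.mv 4 (nat_lit 0x121416181c20) (.mv 6 (nat_lit 0x16181e2022) (.mv 12 6172 (.mv 14 (nat_lit 0x181c20) (.kill 11 1 (nat_lit 0x181c1e20))))))
 .nil)))
 .nil))) false 5 10 0) false) false = true := by decide +kernel

theorem cov2_4 {G : Type*} [Group G] [Finite G] (M : Md G par22) : Good (M.d p2A) 2 17 (M.QC [(Ua, 0), j2, j3]) 5 (wv (M.d p2A) 10) :=
  (p2Pc M).cover (M.relT p2A) ((M.inv_QC _ (by norm_num)).mono le_top) (M.lfC_sound _ _ _ _) cov2_4b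

theorem cov2_5b : cnd (Nat.ble 4 17) (cnd (inW 0 17 8) (ptB (rbG par22 p2A) (lfC par22 p2A [(Ua, 0), j2, j3] 17) 2 17 17
 (.mv 6 (nat_lit 0x10141c22) (.mv 2 (nat_lit 0xe121e) (.split (.sub (.mv 14 5656 (.split (.sub (.mv 18 (nat_lit 0x161a2022) (.kill 10 1 (nat_lit 0x161a22)))
 (.sub (.mv 18 (nat_lit 0x161a20) (.mv (nat_lit 0xc0e161c1e22) (nat_lit 0x181c1e22) (.split (.sub (.split (.sub (.mv 24 7714 (.split (.sub (.mv 30 34 (.kill 16 1 34))
 (.sub (.mv 30 34 (.mv 26 0 (.leaf (nat_lit 0x616081806040e1006120a14120e080a) 2 1)))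
 .nil))))
 (.sub (.mv 24 7714 (.split (.sub (.mv 30 34 (.kill 16 1 0))
 (.sub (.mv 30 34 (.mv 26 0 (.kill 17 1 0)))
 .nil))))
 .nil)))
 (.sub (.split (.sub (.mv 24 7714 (.kill 14 1 7712))
 (.sub (.mv 24 7714 (.kill 14 1 (nat_lit 0x1e2022)))
 .nil)))
 .nil)))))
 .nil))))
 (.sub (.mv 14 5656 (.kill 8 1 (nat_lit 0x14181a20)))
 .nil))))) false 4 8 0) false) false = true := by decide +kernel

theorem cov2_5 {G : Type*} [Group G] [Finite G] (M : Md G par22) : Good (M.d p2A) 2 17 (M.QC [(Ua, 0), j2, j3]) 4 (wv (M.d p2A) 8) :=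
  (p2Pc M).cover (M.relT p2A) ((M.inv_QC _ (by norm_num)).mono le_top) (M.lfC_sound _ _ _ _) cov2_5b

theorem cov2_6b : cnd (Nat.ble 3 17) (cnd (inW 0 17 6) (ptB (rbG par22 p2A) (lfC par22 p2A [(Ua, 0), j2, j3] 17) 2 17 17
 (.split (.sub (.mv 8 (nat_lit 0x10141e20) (.kill 5 1 (nat_lit 0x1016181a1c1e20)))
 (.sub (.mv 8 (nat_lit 0x10141e22) (.split (.sub (.split (.sub (.split (.sub (.mv 12 6170 (.mv (nat_lit 0x20c1416182022) 6688 (.split (.sub (.mv 16 (nat_lit 0x1a1c1e22) (.kill 12 1 7202))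
 (.sub (.mv 16 (nat_lit 0x1a1c1e22) (.kill 12 1 (nat_lit 0x1a1c1e22)))
 .nil)))))
 (.sub (.mv 12 (nat_lit 0x181a1c20) (.mv (nat_lit 0x20c1416182022) (nat_lit 0x161a2022) (.split (.sub (.mv 16 (nat_lit 0x1a1c1e22) (.mv 22 30 (.kill 13 1 30)))
 (.sub (.mv 16 (nat_lit 0x1a1c1e22) (.mv 22 30 (.mv 14 32 (.split (.sub (.split (.sub (.mv 32 0 (.leaf (nat_lit 0x16081206161208100c060814040e1210) 1 1))
 (.sub (.mv 32 0 (.kill 17 1 0))
 .nil)))
 (.sub (.split (.sub (.mv 32 0 (.leaf (nat_lit 0x6160604160e12060a0e08060e0c100a04) 2 1))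
 (.sub (.mv 32 0 (.kill 17 1 0))
 .nil)))
 .nil))))))
 .nil)))))
 .nil)))
 (.sub (.split (.sub (.mv 12 (nat_lit 0x16181c1e2022) (.mv (nat_lit 0x20c1416182022) (nat_lit 0x1a1c1e) (.split (.sub (.mv 16 (nat_lit 0x1a1c1e22) (.kill 12 1 8226))
 (.sub (.mv 16 (nat_lit 0x1a1c1e22) (.kill 12 1 (nat_lit 0x1a1e2022)))
 .nil)))))
 (.sub (.mv 12 (nat_lit 0x16181e22) (.mv (nat_lit 0x20c1416182022) (nat_lit 0x161a1c1e22) (.split (.sub (.mv 16 (nat_lit 0x1a1c1e22) (.mv 22 30 (.kill 13 1 (nat_lit 0x1c1e20))))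
 (.sub (.mv 16 (nat_lit 0x1a1c1e22) (.mv 22 30 (.mv 14 32 (.kill 14 1 32))))
 .nil)))))
 .nil)))
 .nil)))
 (.sub (.split (.sub (.mv 4 (nat_lit 0x16181a1c1e2022) (.mv 12 (nat_lit 0x181a2022) (.kill 9 1 (nat_lit 0x1416181a1e20))))
 (.sub (.mv 4 6172 (.mv 12 (nat_lit 0x16181c1e) (.kill 9 1 (nat_lit 0x14181a2022))))
 .nil)))
 .nil))))
 .nil))) false 3 6 0) false) false = true := by decide +kernel

theorem cov2_6 {G : Type*} [Group G] [Finite G] (M : Md G par22) : Good (M.d p2A) 2 17 (M.QC [(Ua, 0), j2, j3]) 3 (wv (M.d p2A) 6) :=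
  (p2Pc M).cover (M.relT p2A) ((M.inv_QC _ (by norm_num)).mono le_top) (M.lfC_sound _ _ _ _) cov2_6b

theorem cov2_7b : cnd (Nat.ble 4 17) (cnd (inW 0 17 1030) (ptB (rbG par22 p2A) (lfC par22 p2A [(Ua, 0), j2, j3] 17) 2 17 17
 (.mv 6 (nat_lit 0x101214161c1e22) (.mv 2 (nat_lit 0x1214161a20) (.split (.sub (.mv 14 (nat_lit 0x181a20) (.kill 8 1 (nat_lit 0x14161a1c1e20)))
 (.sub (.mv 14 (nat_lit 0x181a20) (.split (.sub (.mv 18 (nat_lit 0x16181e) (.kill 10 1 (nat_lit 0x16181c1e2022)))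
 (.sub (.mv 18 (nat_lit 0x16181e) (.split (.sub (.split (.sub (.split (.sub (.mv 24 34 (.kill 14 1 8226))
 (.sub (.mv 24 34 (.kill 14 1 32))
 .nil)))
 (.sub (.split (.sub (.mv 24 34 (.split (.sub (.mv 30 0 (.kill 16 1 0))
 (.sub (.mv 30 0 (.mv 26 0 (.leaf (nat_lit 0x21610160a10040a12140410080a0e0a) 2 1)))
 .nil))))
 (.sub (.mv 24 34 (.split (.sub (.mv 30 0 (.kill 16 1 34))
 (.sub (.mv 30 0 (.mv 26 0 (.kill 17 1 0)))
 .nil))))
 .nil)))
 .nil)))
 (.sub (.split (.sub (.split (.sub (.mv 24 34 (.split (.sub (.mv 30 0 (.kill 16 1 34))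
 (.sub (.mv 30 0 (.mv 26 0 (.kill 17 1 0)))
 .nil))))
 (.sub (.mv 24 34 (.split (.sub (.mv 30 0 (.kill 16 1 0))
 (.sub (.mv 30 0 (.mv 26 0 (.leaf (nat_lit 0x1a0218160e12060c12060a0e12040e) 1 1)))
 .nil))))
 .nil)))
 (.sub (.split (.sub (.mv 24 34 (.kill 14 1 32))
 (.sub (.mv 24 34 (.kill 14 1 8226))
 .nil)))
 .nil)))
 .nil))))
 .nil))))
 .nil))))) false 4 1030 0) false) false = true := by decide +kernel

theorem cov2_7 {G : Type*} [Group G] [Finite G] (M : Md G par22) : Good (M.d p2A) 2 17 (M.QC [(Ua, 0), j2, j3]) 4 (wv (M.d p2A) 1030) :=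
  (p2Pc M).cover (M.relT p2A) ((M.inv_QC _ (by norm_num)).mono le_top) (M.lfC_sound _ _ _ _) cov2_7b

theorem cov2_8b : cnd (Nat.ble 4 17) (cnd (inW 0 17 (nat_lit 0x40608)) (ptB (rbG par22 p2A) (lfC par22 p2A [(Ua, 0), j2, j3] 17) 2 17 17
 (.split (.sub (.split (.sub (.mv 2 (nat_lit 0x1014161820) (.mv 12 (nat_lit 0x161a1c22) (.kill 8 1 (nat_lit 0x141a1e2022))))
 (.sub (.mv 2 (nat_lit 0x10161e2022) (.mv 12 (nat_lit 0x161a22) (.split (.sub (.mv (nat_lit 0x80c101a22) (nat_lit 0x161a1c1e) (.split (.sub (.mv 18 (nat_lit 0x1c2022) (.kill 12 1 8226))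
 (.sub (.mv 18 (nat_lit 0x1c2022) (.kill 12 1 32))
 .nil))))
 (.sub (.split (.sub (.split (.sub (.mv 18 (nat_lit 0x1c2022) (.split (.sub (.mv 20 0 (.kill 14 1 0))
 (.sub (.mv 20 0 (.kill 14 1 0))
 .nil))))
 (.sub (.mv 18 (nat_lit 0x1c2022) (.mv (nat_lit 0x60c10121416181a1c2022) 34 (.mv 20 34 (.kill 14 1 34))))
 .nil)))
 (.sub (.split (.sub (.mv 18 (nat_lit 0x1c2022) (.mv (nat_lit 0x60c10121416181a1c2022) (nat_lit 0x1e2022) (.mv 20 0 (.split (.sub (.mv (nat_lit 0xa12141e22) 34 (.mv (nat_lit 0x80a0c1012161e2022) 0 (.leaf (nat_lit 0x140a0614040e0c040c0e0804) 2 1)))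
 (.sub (.mv (nat_lit 0xa12141e22) 0 (.split (.sub (.leaf (nat_lit 0x1a120a1a060812080c120e0a140c) 1 1)
 (.sub (.leaf (nat_lit 0x1a100a0e16040c0e0a0c1004140a1404) 2 1)
 .nil))))
 .nil))))))
 (.sub (.mv 18 (nat_lit 0x1c2022) (.split (.sub (.mv 20 34 (.split (.sub (.mv (nat_lit 0x80c10141a1c1e2022) 34 (.mv (nat_lit 0xa12141e22) 0 (.leaf (nat_lit 0xc161214160a0c06040a10120c10120a) 2 1)))
 (.sub (.split (.sub (.mv (nat_lit 0x80c10141a1c1e2022) 0 (.leaf (nat_lit 0x180a041016080c06081204101408121412) 2 1))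
 (.sub (.mv (nat_lit 0x80c10141a1c1e2022) 0 (.leaf (nat_lit 0x10180406160604100a060e0c1206080604) 1 1))
 .nil)))
 .nil))))
 (.sub (.mv 20 34 (.split (.sub (.mv (nat_lit 0x80c10141a1c1e2022) 0 (.mv (nat_lit 0xa12141e22) 0 (.leaf (nat_lit 0x1a100a0e160c0e0806140c1406080608) 2 1)))
 (.sub (.split (.sub (.mv (nat_lit 0x60c10121618) 0 (.leaf (nat_lit 0xc16121416040a040a080e0a120e0c08) 2 1))
 (.sub (.split (.sub (.leaf (nat_lit 0xa080412100e04100a1204) 2 1)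
 (.sub (.leaf (nat_lit 0x812161a04080406140e040c1008100c) 0 1)
 .nil)))
 .nil)))
 .nil))))
 .nil))))
 .nil)))
 .nil)))
 .nil)))))
 .nil)))
 (.sub (.split (.sub (.mv 2 (nat_lit 0x101214181a1e20) (.mv 12 (nat_lit 0x14181a20) (.kill 8 1 (nat_lit 0x161a1c1e22))))
 (.sub (.mv 2 (nat_lit 0x10121a) (.mv 12 (nat_lit 0x14181a1c2022) (.split (.sub (.split (.sub (.split (.sub (.mv 18 (nat_lit 0x1c1e20) (.mv (nat_lit 0xe121a1e2022) 7202 (.mv 20 0 (.split (.sub (.mv 22 34 (.mv 30 0 (.kill 17 1 0)))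
 (.sub (.mv 22 34 (.mv 30 0 (.leaf (nat_lit 0xc161214160a0e06140814080a040e060e) 2 1)))
 .nil))))))
 (.sub (.mv 18 (nat_lit 0x1c1e20) (.mv (nat_lit 0xe121a1e2022) 7202 (.mv 20 34 (.mv (nat_lit 0x60c10121416181a1c2022) 0 (.mv 22 34 (.kill 16 1 0))))))
 .nil)))
 (.sub (.split (.sub (.mv 18 (nat_lit 0x1c1e20) (.mv (nat_lit 0xe121a1e2022) 7198 (.mv 20 0 (.kill 14 1 34))))
 (.sub (.mv 18 (nat_lit 0x1c1e20) (.mv (nat_lit 0xe121a1e2022) 7198 (.mv 20 34 (.kill 14 1 8226))))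
 .nil)))
 .nil)))
 (.sub (.mv (nat_lit 0x80c101a22) (nat_lit 0x16181c1e22) (.split (.sub (.mv 18 (nat_lit 0x1c1e20) (.kill 12 1 (nat_lit 0x1c1e2022)))
 (.sub (.mv 18 (nat_lit 0x1c1e20) (.kill 12 1 7198))
 .nil))))
 .nil)))))
 .nil)))
 .nil))) false 4 (nat_lit 0x40608) 0) false) false = true := by decide +kernel

theorem cov2_8 {G : Type*} [Group G] [Finite G] (M : Md G par22) : Good (M.d p2A) 2 17 (M.QC [(Ua, 0), j2, j3]) 4 (wv (M.d p2A) (nat_lit 0x40608)) :=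
  (p2Pc M).cover (M.relT p2A) ((M.inv_QC _ (by norm_num)).mono le_top) (M.lfC_sound _ _ _ _) cov2_8b

theorem cov2_9b : cnd (Nat.ble 3 17) (cnd (inW 0 17 4) (ptB (rbG par22 p2A) (lfC par22 p2A [(Ua, 0), j2, j3] 17) 2 17 17
 (.split (.sub (.mv 8 4124 (.split (.sub (.mv 2 (nat_lit 0x101216181e2022) (.mv 12 (nat_lit 0x12161e) (.kill 8 1 (nat_lit 0x1214181c1e22))))
 (.sub (.mv 2 (nat_lit 0x101214161e22) (.mv 12 (nat_lit 0x12161c20) (.split (.sub (.split (.sub (.split (.sub (.mv 18 (nat_lit 0x1c1e2022) (.mv 22 7714 (.mv (nat_lit 0x141622) 8226 (.mv (nat_lit 0x1012161e) 34 (.split (.sub (.mv 32 0 (.leaf (nat_lit 0x160e1416140e12040c100e0608060804) 2 1))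
 (.sub (.mv 32 0 (.kill 17 1 0))
 .nil)))))))
 (.sub (.mv 18 (nat_lit 0x1c1e2022) (.mv 22 7714 (.kill 13 1 7714)))
 .nil)))
 (.sub (.split (.sub (.mv 18 (nat_lit 0x1c1e2022) (.mv 22 30 (.kill 13 1 (nat_lit 0x1c1e20))))
 (.sub (.mv 18 (nat_lit 0x1c1e2022) (.mv 22 30 (.mv (nat_lit 0x141622) 8226 (.kill 14 1 32))))
 .nil)))
 .nil)))
 (.sub (.split (.sub (.split (.sub (.mv 18 (nat_lit 0x1c1e2022) (.kill 12 1 (nat_lit 0x1c1e2022)))
 (.sub (.mv 18 (nat_lit 0x1c1e2022) (.kill 12 1 (nat_lit 0x1a1c20)))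
 .nil)))
 (.sub (.split (.sub (.mv 18 (nat_lit 0x1c1e2022) (.kill 12 1 6690))
 (.sub (.mv 18 (nat_lit 0x1c1e2022) (.kill 12 1 7714))
 .nil)))
 .nil)))
 .nil)))))
 .nil))))
 (.sub (.mv 8 (nat_lit 0x101e2022) (.kill 5 1 (nat_lit 0x1216181a1c22)))
 .nil))) false 3 4 0) false) false = true := by decide +kernel

theorem cov2_9 {G : Type*} [Group G] [Finite G] (M : Md G par22) : Good (M.d p2A) 2 17 (M.QC [(Ua, 0), j2, j3]) 3 (wv (M.d p2A) 4) :=
  (p2Pc M).cover (M.relT p2A) ((M.inv_QC _ (by norm_num)).mono le_top) (M.lfC_sound _ _ _ _) cov2_9b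

theorem cov2_10b : cnd (Nat.ble 1 17) (cnd (inW 0 17 2) (ptB (rbG par22 p2A) (lfC par22 p2A [(Ua, 0), j2, j3] 17) 2 17 17
 (.split (.sub (.split (.sub (.split (.sub (.split (.sub (.mv 8 (nat_lit 0xe1214181e22) (.mv 4 (nat_lit 0x10121822) (.split (.sub (.mv 10 (nat_lit 0x16181a1c1e20) (.mv 12 5656 (.kill 10 1 (nat_lit 0x181a20))))
 (.sub (.mv 10 (nat_lit 0x16181a1e) (.mv 12 (nat_lit 0x16181c1e22) (.kill 10 1 (nat_lit 0x16181a1c))))
 .nil)))))
 (.sub (.mv 8 (nat_lit 0xe1216181c20) (.mv 4 (nat_lit 0x1012141618) (.split (.sub (.mv 10 (nat_lit 0x16181a1c) (.kill 9 1 (nat_lit 0x141622)))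
 (.sub (.mv 10 (nat_lit 0x16181a20) (.kill 9 1 (nat_lit 0x141e2022)))
 .nil)))))
 .nil)))
 (.sub (.mv 6 (nat_lit 0xc0e101214161a1c1e22) (.mv 8 (nat_lit 0xe121e22) (.kill 6 1 (nat_lit 0xe1214161e2022))))
 .nil)))
 (.sub (.split (.sub (.mv 8 (nat_lit 0xc0e1014182022) (.kill 5 1 (nat_lit 0xc0e1012181a1e22)))
 (.sub (.mv 8 (nat_lit 0xc0e1014161a1c1e22) (.split (.sub (.mv 4 (nat_lit 0x10181c1e20) (.split (.sub (.mv 12 (nat_lit 0x14161a20) (.kill 9 1 (nat_lit 0x181a1c1e)))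
 (.sub (.mv 12 (nat_lit 0x14161a1c2022) (.kill 9 1 (nat_lit 0x161a1c1e2022)))
 .nil))))
 (.sub (.mv 4 (nat_lit 0x12181c1e22) (.split (.sub (.mv 12 (nat_lit 0x14161a20) (.mv (nat_lit 0x6080a0c1012161a22) 6686 (.mv 16 (nat_lit 0x181c1e20) (.split (.sub (.mv 24 32 (.split (.sub (.mv 28 34 (.split (.sub (.split (.sub (.leaf (nat_lit 0x60e0a120c100c060e0c0e04) 2 1)
 (.sub (.leaf (nat_lit 0x1a100a0e160c06041004080608100a) 2 1)
 .nil)))
 (.sub (.split (.sub (.leaf (nat_lit 0x18141a16040a120a120c040e0a041404) 1 1)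
 (.sub (.leaf (nat_lit 0x8180608160e0c06120a060a141006100c) 2 1)
 .nil)))
 .nil))))
 (.sub (.mv 28 34 (.kill 15 1 34))
 .nil))))
 (.sub (.mv 24 32 (.kill 13 1 32))
 .nil))))))
 (.sub (.mv 12 (nat_lit 0x14161a1c2022) (.mv (nat_lit 0x6080a0c1012161a22) (nat_lit 0x181c1e20) (.mv 16 (nat_lit 0x181c1e20) (.kill 11 1 (nat_lit 0x181c1e20)))))
 .nil))))
 .nil))))
 .nil)))
 .nil)))
 (.sub (.split (.sub (.split (.sub (.mv 8 (nat_lit 0xc0e161c1e2022) (.split (.sub (.mv 4 (nat_lit 0x101216181a1c) (.kill 7 1 (nat_lit 0x181a1c1e2022)))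
 (.sub (.mv 4 (nat_lit 0x16181a1c1e22) (.kill 7 1 (nat_lit 0x101216181a1c1e22)))
 .nil))))
 (.sub (.mv 8 (nat_lit 0xc0e181a1c22) (.kill 5 1 (nat_lit 0xc14161c1e2022)))
 .nil)))
 (.sub (.split (.sub (.mv 6 (nat_lit 0xc0e14181a1c) (.mv 8 (nat_lit 0xe101214181a1c) (.kill 6 1 (nat_lit 0x10121c1e2022))))
 (.sub (.split (.sub (.mv 8 (nat_lit 0xe10121a1c1e22) (.mv 4 (nat_lit 0x1016182022) (.kill 7 1 (nat_lit 0x141a1e))))
 (.sub (.mv 8 (nat_lit 0xe101214161a1c1e2022) (.mv 4 (nat_lit 0x1014181e22) (.kill 7 1 (nat_lit 0x121c22))))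
 .nil)))
 .nil)))
 .nil)))
 .nil))) false 1 2 0) false) false = true := by decide +kernel

theorem cov2_10 {G : Type*} [Group G] [Finite G] (M : Md G par22) : Good (M.d p2A) 2 17 (M.QC [(Ua, 0), j2, j3]) 1 (wv (M.d p2A) 2) :=
  (p2Pc M).cover (M.relT p2A) ((M.inv_QC _ (by norm_num)).mono le_top) (M.lfC_sound _ _ _ _) cov2_10b

noncomputable def cov2L : List (ℕ × ℕ) := [(8, 0), (8, 16), (7, 14), (6, 12),
 (5, 10), (4, 8), (3, 6), (4, 1030),
 (4, (nat_lit 0x40608)), (3, 4), (1, 2)]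

theorem cov2b : cnd (Nat.ble 0 17) (cnd (inW 0 17 0) (ptB (rbG par22 p2A) (lfL cov2L) 2 17 17
 (.split (.sub (.split (.sub (.split (.sub (.split (.sub (.split (.sub (.split (.sub (.split (.sub (.split (.sub (.leaf 0 0 0)
 (.sub (.leaf 1 0 0)
 .nil)))
 (.sub (.leaf 2 0 0)
 .nil)))
 (.sub (.leaf 3 0 0)
 .nil)))
 (.sub (.leaf 4 0 0)
 .nil)))
 (.sub (.leaf 5 0 0)
 .nil)))
 (.sub (.leaf 6 0 0)
 .nil)))
 (.sub (.split (.sub (.leaf 9 0 0)
 (.sub (.split (.sub (.leaf 7 0 0)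
 (.sub (.leaf 8 0 0)
 .nil)))
 .nil)))
 .nil)))
 (.sub (.leaf 10 0 0)
 .nil))) false 0 0 0) false) false = true := by decide +kernel

theorem cov2 {G : Type*} [Group G] [Finite G] (M : Md G par22) : Good (M.d p2A) 2 17 (M.QC [(Ua, 0), j2, j3]) 0 (wv (M.d p2A) 0) :=
  (p2Pc M).cover (M.relT p2A) ((M.inv_QC _ (by norm_num)).mono le_top) (lfL_sound (L := cov2L) (goodL_cons (cov2_0 M) (goodL_cons (cov2_1 M) (goodL_cons (cov2_2 M) (goodL_cons (cov2_3 M)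
  (goodL_cons (cov2_4 M) (goodL_cons (cov2_5 M) (goodL_cons (cov2_6 M) (goodL_cons (cov2_7 M)
  (goodL_cons (cov2_8 M) (goodL_cons (cov2_9 M) (goodL_cons (cov2_10 M) goodL_nil)))))))))))) cov2b

end Cfsg.Lib.Fi.B22
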