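import Cfsg.Agent.Lib.Fi.Tup2
import Cfsg.Agent.Lib.Fi.S23

set_option maxRecDepth 100000

namespace Cfsg.Lib.Fi.B23

open Cfsg.Lib.Comp Cfsg.Lib.Fi

noncomputable def Ua : ℕ := 0

noncomputable def Ub : ℕ := 22

noncomputable def Uc : ℕ := 2070

noncomputable def Un : ℕ := 24

noncomputable def G_5W : List (ℕ × ℕ) := apd [((nat_lit 0x1a181c0a0616), 0)] []

theorem G_5b : lvB par23 G_5W [] (nat_lit 0x160c04141a) 2 2 = true := by decide +kernel

theorem G_5 {G : Type*} [Group G] [Finite G] (M : Md G par23) : M.LB G_5W 2 :=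
  Md.LB.step G_5b (Md.LB.one M _)

noncomputable def G_4W : List (ℕ × ℕ) := apd [((nat_lit 0x140416), 0),
 ((nat_lit 0x101416), 0),
 ((nat_lit 0x4101416), 0),
 ((nat_lit 0x14100816), 0),
 ((nat_lit 0x40a0816), 0),
 (0, (nat_lit 0xa1a041a081c160e0816060a0608100e0a0e0c040c))] G_5W

theorem G_4b : lvB par23 G_4W G_5W (nat_lit 0x140a18) (nat_lit 0x6040c0c08020604020a08060402) 1152 = true := by decide +kernel

theorem G_4 {G : Type*} [Group G] [Finite G] (M : Md G par23) : M.LB G_4W 2304 :=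
  Md.LB.step G_4b (G_5 M)

noncomputable def G_3W : List (ℕ × ℕ) := apd [((nat_lit 0x61c0c18), 0)] G_4W

theorem G_3b : lvB par23 G_3W G_4W Un (nat_lit 0x602040c06020c0a06080402060a0c040802100604020a0c08060402) 23040 = true := by decide +kernel

theorem G_3 {G : Type*} [Group G] [Finite G] (M : Md G par23) : M.LB G_3W 53084160 :=
  Md.LB.step G_3b (G_4 M)

noncomputable def G_2W : List (ℕ × ℕ) := apd [((nat_lit 0x41416), 0)] G_3W

theorem G_2b : lvB par23 G_2W G_3W Uc (nat_lit 0x4060a02080c020408060a020c080e040602) 693 = true := by decide +kernel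

theorem G_2 {G : Type*} [Group G] [Finite G] (M : Md G par23) : M.LB G_2W 36787322880 :=
  Md.LB.step G_2b (G_3 M)

noncomputable def G_1W : List (ℕ × ℕ) := apd [(4118, 0)] G_2W

theorem G_1b : lvB par23 G_1W G_2W Ub (nat_lit 0x204080a020406020a0804100e02040a02080c060402) 3510 = true := by decide +kernel

theorem G_1 {G : Type*} [Group G] [Finite G] (M : Md G par23) : M.LB G_1W 129123503308800 :=
  Md.LB.step G_1b (G_2 M)

noncomputable def G_0W : List (ℕ × ℕ) := apd [(0, (nat_lit 0x1a141a0a1c120c0e1808120c14121006040a100414))] G_1W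

theorem G_0b : lvB par23 G_0W G_1W Ua (nat_lit 0x80a0604020a040c06040e08040a0c060412100c040a060402) 31671 = true := by decide +kernel

theorem G_0 {G : Type*} [Group G] [Finite G] (M : Md G par23) : M.LB G_0W 4089470473293004800 :=
  Md.LB.step G_0b (G_1 M)

theorem K0 {G : Type*} [Group G] [Finite G] (S : S23 G) : S.M.KE (S.M.st [] []) G_0W 4089470473293004800 := Md.KE.top (G_0 S.M) S.card

theorem K1p : presB par23 G_1W [] [] = true := by decide +kernel

theorem K1 {G : Type*} [Group G] [Finite G] (S : S23 G) : S.M.KE (S.M.st [(Ua, 0)] []) G_1W 129123503308800 :=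
  (K0 S).dn G_0b K1p (G_1 S.M) (by norm_num)

theorem K2p : presB par23 G_2W [(Ua, 0)] [] = true := by decide +kernel

theorem K2 {G : Type*} [Group G] [Finite G] (S : S23 G) : S.M.KE (S.M.st [(Ub, 0),
 (Ua, 0)] []) G_2W 36787322880 :=
  (K1 S).dn G_1b K2p (G_2 S.M) (by norm_num)

theorem K3p : presB par23 G_3W [(Ub, 0),
 (Ua, 0)] [] = true := by decide +kernel

theorem K3 {G : Type*} [Group G] [Finite G] (S : S23 G) : S.M.KE (S.M.st [(Uc, 0),
 (Ub, 0),
 (Ua, 0)] []) G_3W 53084160 :=
  (K2 S).dn G_2b K3p (G_3 S.M) (by norm_num)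

theorem t2 : trB par23 G_1W [(Ua, 0)] [] (nat_lit 0x204080a020406020a0804100e02040a02080c060402) Ub = true := by decide +kernel

theorem t3 : trB par23 G_2W [(Ub, 0),
 (Ua, 0)] [] (nat_lit 0x4060a02080c020408060a020c080e040602) Uc = true := by decide +kernel

theorem tN : trB par23 G_1W [] [(Ua, 0)] (nat_lit 0x1002060a02040802060a040e020c080402100a0208040602) Un = true := by decide +kernel

theorem cntD : Nat.beq (pc par23.w par23.K (Nat.land (ones par23.n) (ones par23.n))) 31671 = true := by decide +kernel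

theorem wDu : wchk par23 (.br [(0, (nat_lit 0x6081c061c0a04120416081012040e08120e0614080e)),
 (0, (nat_lit 0xa0c061a021a0a16121812061408061208120c120c))] (nat_lit 0x404020402040204020402040204020402040204020402040204) Ua
 (.br [(22, 0),
 (4118, 0),
 (3606, 0),
 (4630, 0),
 ((nat_lit 0x1a0e1c), 0),
 (5142, 0)] (nat_lit 0x406020804020a0c06020408020c0602040a020c08020604) Ub
 (.br [(2070, 0),
 ((nat_lit 0x1a1c1a), 0),
 ((nat_lit 0x41016), 0),
 ((nat_lit 0x60816), 0),
 (1046, 0),
 ((nat_lit 0xa1416), 0)] (nat_lit 0x804020c06020a0408020a06040c020a08020604) Uc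
 (.br [(1046, 0),
 ((nat_lit 0x141016), 0),
 ((nat_lit 0x1c16061c), 0),
 ((nat_lit 0xa0816), 0),
 ((nat_lit 0x80416), 0),
 ((nat_lit 0x140416), 0)] (nat_lit 0x20604060c080204060a08020c04) 1046
 (.br [((nat_lit 0x80416), 0),
 ((nat_lit 0x41c0e1a), 0),
 ((nat_lit 0x101416), 0),
 ((nat_lit 0x8101416), 0),
 ((nat_lit 0xa080416), 0),
 ((nat_lit 0x40a0816), 0)] (nat_lit 0x40c0a08060204) (nat_lit 0x101416)
 .small .small) .small) .small) .small) .small) (ones par23.n) 23 = true := by decide +kernel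

theorem wDl : cliqB par23 [(0, 0),
 (22, 0),
 (2070, 0),
 (1046, 0),
 ((nat_lit 0xa0816), 0),
 ((nat_lit 0x80416), 0),
 ((nat_lit 0x101416), 0),
 ((nat_lit 0xa101416), 0),
 ((nat_lit 0x8101416), 0),
 ((nat_lit 0x4101416), 0),
 ((nat_lit 0xa080416), 0),
 ((nat_lit 0x10140816), 0),
 ((nat_lit 0x40a0816), 0),
 ((nat_lit 0x80a0816), 0),
 ((nat_lit 0x12060c16), 0),
 ((nat_lit 0xe060c16), 0),
 ((nat_lit 0x16041016), 0),
 ((nat_lit 0x16041416), 0),
 ((nat_lit 0x120a1016), 0),
 ((nat_lit 0xc0a1c0616), 0),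
 ((nat_lit 0x1206140c16), 0),
 ((nat_lit 0x140a040e16), 0),
 ((nat_lit 0x1a181c0a0616), 0)] (ones par23.n) 23 = true := by decide +kernel

theorem wD {G : Type*} [Group G] (M : Md G par23) : commutingWidth (M.T (ones par23.n)) = 23 := M.width wDu wDl

noncomputable def X1 : List (ℕ × ℕ) := [((nat_lit 0x41016), 0),
 ((nat_lit 0xe1416), 0),
 (1558, 0),
 (3094, 0),
 (4630, 0),
 ((nat_lit 0x1c0818), 0)]

theorem H1w : leA par23 X1 G_1W [(nat_lit 0x8020a0408060c0208040c0208060c06080602040a0602080a06020406020c060a0802040c0402080a060c04080208040a040a0608060a040c0802060c0802040c0a060c080a040c020a02060806020a020c040a080c020a08040802080c040a08020c060a0802040c0402080a060c02080a040c08020804080a020a020a0c0208040c0208060c0a040a08060206080a040a0c0608020c0408020c0a020a020804080206080a08060402080406080a0c08060208040c0a08020c0a),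
 (nat_lit 0xc0402080c060a02080c08040a06080c0208040c0208060c0a02040a08060206080a0802080a0c0608020c040a080602040a0608020c0208060a040c06080408060a0c040a0608020c0208060a040c0a040a08060206080a04020a0c0208040c0208060c0a040a08060206080a040a0c0608020c0408020c0a020a0206080602),
 (nat_lit 0x80a06020a08060a080c0608020c0408020c040a080c0a080a080406020406020c060a0802040c0402080a060c0208060408020a02080408020a020a08040802080c040a08020c060a0802040c0402080a060c02080a040c08020804080a020a020a0c0208040c0208060c0a040a08060206080a040a0c0608020c0408020c0a020a0206080602),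
 (nat_lit 0x80a0408020804080a06020a08060a080c0608020c0408020c0608040a060c02040a0c04080602080a02060c080a06020608040c0208060c0a0602060a0c0608020c040806020c060a08040204080a0604020c0608020c0408020c04080a040c0208040c0208060c04020608060804080206080a08060402080406080a0c08060208040c0a08020c0a),
 (nat_lit 0x8040a06020a0604020608020406020c060a0802040c0402080a060c0208040802040a08060206080a0802080a0c0608020c040a0806020c0a020c0608020c0408020c0a0602080a0802060a0c0208040c0208060c060a0602040c020a06080c060a02040c080a0802040c020608060804080206080a08060402080406080a0c08060208040c0a08020c0a),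
 (nat_lit 0x604080a0804060206080a060406020c060a0802040c0402080a060c040a08060206080a0802080a0c0608020c040a0806020c0604080a080602060c020a040c0a04080208040c020a040c040a08060206080a040a040a08060206080a04020a0c0208040c0208060c0a040a08060206080a040a0c0608020c0408020c0a020a0206080602),
 (nat_lit 0x6020a080206080a06020a08060a080c0608020c0408020c0a040806020608040a06040802080a0c0608020c040a0806020c040802080a0c0608020c040a0806020c060a08040204080a060a060a020a080a0604020406020c060a0802040c0402080a060c0806040a0804020804080206080a08060402080406080a0c08060208040c0a08020c0a),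
 (nat_lit 0xa0602080a0802060a),
 (nat_lit 0xc08060c02060802040c020a02080408020a08040a04020c06080602040c0206080a060406080a080206040c040a08020c060a0802040c0402080a060c02080a040c0a0c020608040c0208060c0a0602060a0c0608020c040806020c0804060a080a0604080a040a08060206080a040a04020c0608020c0408020c04080a040c0208040c0208060c040a020a0c0208040c0208060c0a040a08060206080a040a0c0608020c0408020c0a020a0206080602),
 (nat_lit 0x20804080206080a08060402080406080a0c08060208040c0a08020c0a)] = true := by decide +kernel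

theorem H1p : presB par23 X1 [(Ua, 0)] [] = true := by decide +kernel

theorem H1 {G : Type*} [Group G] [Finite G] (S : S23 G) : S.M.KE (S.M.st [(Ua, 0)] []) X1 129123503308800 :=
  (K1 S).of_leA H1w (S.M.le_st H1p)

theorem perf1 : perfB par23 X1 (candS par23 [(Ua, 0)] []) (nat_lit 0x602080a060c080a040608020a06080c02040a0806) (nat_lit 0x206080a020c08060a04080c0602080a0604080c060a0806) (apd [2,
 12,
 4,
 8,
 2,
 10,
 6,
 12,
 4,
 2,
 12,
 4,
 8,
 2,
 10,
 6,
 12,
 4,
 2,
 12,
 4,
 8,
 2,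
 10,
 6,
 12,
 4,
 2,
 12,
 4,
 8,
 2,
 10,
 6,
 12,
 4,
 2,
 12,
 4,
 8]
 [2,
 10,
 6,
 12,
 4,
 2,
 12,
 4,
 8,
 2,
 10,
 6,
 12,
 4,
 2,
 12,
 4,
 8,
 2,
 10,
 6,
 12,
 4]) = true := by decide +kernel

noncomputable def Z1M_0D : List (ℕ × ℕ) := (((nat_lit 0x1c1a0a1c), 0) :: X1)

theorem Z1M_1b : endB par23 Z1M_0D [(nat_lit 0xa0e0a080c06040a01),
 (nat_lit 0x80e0c02040c0805),
 (nat_lit 0x4060a0c080e0a0801),
 (nat_lit 0x80a0e0a0c02060c0a02),
 (nat_lit 0xe0802080a0c0807),
 (nat_lit 0x402040e060a0806)] = true := by decide +kernel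

theorem Z1M_1 {G : Type*} [Group G] (M : Md G par23) : M.Ch Z1M_0D [] [] 1 := Md.Ch.base Z1M_1b

noncomputable def Z1M_0W : List (ℕ × ℕ) := apd [(0, 0)] []

theorem Z1M_0b : stepB par23 X1 [] Z1M_0W [] (nat_lit 0x1c1a0a1c) (.dif (.dif (.dif (.dif (.dif (.dif (.dif (.dif (.dif (.and (.and (.nb 6) (.im 10 (.nb 1))) (.im 6 (.nb 2))) (.nb 4)) (.nb 5)) (.im 6 (.nb 1))) (.im 8 (.nb 1))) (.im 10 (.nb 4))) (.nb 3)) (.im 6 (.nb 5))) (.im 6 (.nb 4))) (.im 8 (.nb 2))) 2 2 0
 .nil = true := by decide +kernel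

theorem Z1M_0 {G : Type*} [Group G] [Finite G] (M : Md G par23) : M.Ch X1 [] Z1M_0W 2 :=
  Md.Ch.step Z1M_0b (Z1M_1 M)

theorem Z1M_p : presB par23 Z1M_0W X1 [] = true := by decide +kernel

theorem Z1M {G : Type*} [Group G] [Finite G] (M : Md G par23) : M.KE (M.st X1 []) Z1M_0W 2 :=
  (Z1M_0 M).ke Z1M_p

theorem Z1 {G : Type*} [Group G] [Finite G] (S : S23 G) : S.M.KE (S.M.st X1 []) Z1M_0W 2 := Z1M S.M

noncomputable def X2 : List (ℕ × ℕ) := [((nat_lit 0xa0816), 0),
 (1046, 0),
 ((nat_lit 0x141016), 0),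
 ((nat_lit 0x60816), 0),
 ((nat_lit 0x101416), 0),
 ((nat_lit 0x1c041c), 0)]

theorem H2w : leA par23 X2 G_2W [(nat_lit 0x2060a04080a040602),
 (nat_lit 0x80a0406040c04060a0408),
 (nat_lit 0xa04060a04),
 10,
 (nat_lit 0x6080406080a0806040806),
 (nat_lit 0x4020c060408060c0806020602080c060804060c040602),
 (nat_lit 0x802040c0406020c080604080c020602080c0a060204060a040604020602040a08040a0608060a0406040a06020c04060a06080c0604080a040c),
 (nat_lit 0xc040a0802060204060a06040206080a04080a040c0608060408060a040604060c08060a080c0608040c060c060208060c08060a080c060802060c040c060208060c08060a080c060802060c02080406080a0806040806080604080a060a0804060802040a08040a0608060a0406040a06020c04060a06080c0604080a040c),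
 (nat_lit 0x2040a08040a0608060a0406040a06020c04060a06080c0604080a040c)] = true := by decide +kernel

theorem H2p : presB par23 X2 [(Ub, 0),
 (Ua, 0)] [] = true := by decide +kernel

theorem H2 {G : Type*} [Group G] [Finite G] (S : S23 G) : S.M.KE (S.M.st [(Ub, 0),
 (Ua, 0)] []) X2 36787322880 :=
  (K2 S).of_leA H2w (S.M.le_st H2p)

theorem perf2 : perfB par23 X2 (candS par23 [(Ua, 0),
 (Ub, 0)] []) (nat_lit 0xa06040c08060a040c080602040a0c080406) (nat_lit 0x2080a0c04060a0804060c0a0408060a040c020806) (apd [10,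
 12,
 8,
 6,
 2,
 10,
 8,
 6,
 12,
 2,
 4,
 10,
 12,
 8,
 6,
 2,
 10,
 8,
 6,
 12,
 2,
 4,
 10,
 12,
 8,
 6,
 2,
 10,
 8,
 6,
 12,
 2,
 4,
 10,
 12,
 8,
 6,
 2,
 10,
 8]
 [6,
 12,
 2,
 4,
 10,
 12,
 8,
 6,
 2,
 10,
 8,
 6,
 12,
 2,
 4]) = true := by decide +kernel

noncomputable def Z2M_0D : List (ℕ × ℕ) := (((nat_lit 0x80c0a1a), 0) :: X2)

theorem Z2M_1b : endB par23 Z2M_0D [(nat_lit 0xe04020a0e040604),
 (nat_lit 0x8040c060a020e04),
 (nat_lit 0x80e0a0c08040601),
 (nat_lit 0xa080c0e0a08060a01),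
 (nat_lit 0xe0a0e0c06080a0401),
 (nat_lit 0x802040a0c0601)] = true := by decide +kernel

theorem Z2M_1 {G : Type*} [Group G] (M : Md G par23) : M.Ch Z2M_0D [] [] 1 := Md.Ch.base Z2M_1b

noncomputable def Z2M_0W : List (ℕ × ℕ) := apd [(0, 0),
 (22, 0)] []

theorem Z2M_0b : stepB par23 X2 [] Z2M_0W [] (nat_lit 0x80c0a1a) (.dif (.dif (.dif (.dif (.dif (.and (.and (.and (.im 4 (.nb 3)) (.im 4 (.nb 6))) (.im 6 (.nb 1))) (.im 10 (.nb 3))) (.nb 2)) (.im 8 (.nb 1))) (.nb 4)) (.im 4 (.nb 4))) (.im 8 (.nb 3))) 1026 4 0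
 .nil = true := by decide +kernel

theorem Z2M_0 {G : Type*} [Group G] [Finite G] (M : Md G par23) : M.Ch X2 [] Z2M_0W 4 :=
  Md.Ch.step Z2M_0b (Z2M_1 M)

theorem Z2M_p : presB par23 Z2M_0W X2 [] = true := by decide +kernel

theorem Z2M {G : Type*} [Group G] [Finite G] (M : Md G par23) : M.KE (M.st X2 []) Z2M_0W 4 :=
  (Z2M_0 M).ke Z2M_p

theorem Z2 {G : Type*} [Group G] [Finite G] (S : S23 G) : S.M.KE (S.M.st X2 []) Z2M_0W 4 := Z2M S.M

noncomputable def V2l_0W : List (ℕ × ℕ) := apd [(0, 0),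
 (22, 0)] []

theorem V2l_0b : lvB par23 V2l_0W [] (nat_lit 0x100818) 1026 4 = true := by decide +kernel

theorem V2l_0 {G : Type*} [Group G] [Finite G] (M : Md G par23) : M.LB V2l_0W 4 :=
  Md.LB.step V2l_0b (Md.LB.one M _)

theorem V2w : leA par23 [(Ua, 0),
 (Ub, 0)] V2l_0W [2,
 4] = true := by decide +kernel

theorem V2 {G : Type*} [Group G] [Finite G] (M : Md G par23) : M.LB [(Ua, 0),
 (Ub, 0)] 4 := Md.LB.of_leA (V2l_0 M) V2w

noncomputable def KNL_2W : List (ℕ × ℕ) := apd [(0, (nat_lit 0x60816041c04160a0e0c081412060e100412)),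
 (0, (nat_lit 0x1c080c1c0a1216081012080a10140c12040a14)),
 (0, (nat_lit 0x1c1216041a140a0818160c0a14060c0804060a080a))] []

theorem KNL_2b : lvB par23 KNL_2W [] (nat_lit 0x180c16) (nat_lit 0x60402060402) 27 = true := by decide +kernel

theorem KNL_2 {G : Type*} [Group G] [Finite G] (M : Md G par23) : M.LB KNL_2W 27 :=
  Md.LB.step KNL_2b (Md.LB.one M _)

noncomputable def KNL_1W : List (ℕ × ℕ) := apd [(4630, 0),
 (0, (nat_lit 0x1a16140c1a0a120818081008101206140e0c140406))] KNL_2W

theorem KNL_1b : lvB par23 KNL_1W KNL_2W 5656 (nat_lit 0x4020602080602040208060204020a020806020402) 7776 = true := by decide +kernel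

theorem KNL_1 {G : Type*} [Group G] [Finite G] (M : Md G par23) : M.LB KNL_1W 209952 :=
  Md.LB.step KNL_1b (KNL_2 M)

noncomputable def KNL_0W : List (ℕ × ℕ) := apd [(3094, 0)] KNL_1W

theorem KNL_0b : lvB par23 KNL_0W KNL_1W 26 (nat_lit 0x20802040a02040206040204080402040a040208020402060402080402) 21840 = true := by decide +kernel

theorem KNL_0 {G : Type*} [Group G] [Finite G] (M : Md G par23) : M.LB KNL_0W 4585351680 :=
  Md.LB.step KNL_0b (KNL_1 M)

theorem KNb : lvB par23 G_1W KNL_0W Un (nat_lit 0x1002060a02040802060a040e020c080402100a0208040602) 28160 = true := by decide +kernel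

theorem KNp : presB par23 KNL_0W [(Ua, 0)] [] = true := by decide +kernel

theorem KN {G : Type*} [Group G] [Finite G] (S : S23 G) : S.M.KE (S.M.st [(Un, 0),
 (Ua, 0)] []) KNL_0W 4585351680 :=
  (K1 S).dn KNb KNp (KNL_0 S.M) (by norm_num)

noncomputable def XN : List (ℕ × ℕ) := [((nat_lit 0x101a121a), 0),
 ((nat_lit 0x100816), 0),
 ((nat_lit 0x40e0816), 0),
 ((nat_lit 0x100616), 0),
 ((nat_lit 0x141216), 0),
 ((nat_lit 0x1a0e1c), 0),
 ((nat_lit 0x81216), 0)]

theorem HNw : leA par23 XN KNL_0W [(nat_lit 0x20e0a080e0a0e020e02080e08020a02080e08020a),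
 (nat_lit 0x806040e0804080e040a040e080e0802040a080608040e040a080e060e08040e04080e060e08040e04),
 (nat_lit 0x8020c02040a060a04020e08060c0e060a08040e020e060a0608020806040e040a040e040a02040a060a0402),
 (nat_lit 0x40a08060c040e0a0402040a0e0804020608020806020e08040e020a04080a060a02080e08020a060a08040208060a0e08040a0e0802040e080a060e0a0e020e08060a0804),
 (nat_lit 0xc0e040c060e040c08060c06040a02080402040a0e020e0802040a080608020e08040e02060802080602040a060a0408060a0e08040a0e0802040e080a060e0a0e020e08060a0804),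
 (nat_lit 0xc0e0a060c06040c08060a02080406040e0402080e06020e0802040a08060e060e0a080a02080e0a0608040a060a040204080a060a02080e08020a060a08040208060a0e08040a0e0802040e080a060e0a0e020e08060a0804)] = true := by decide +kernel

theorem HNp : presB par23 XN [(Un, 0),
 (Ua, 0)] [] = true := by decide +kernel

theorem HN {G : Type*} [Group G] [Finite G] (S : S23 G) : S.M.KE (S.M.st [(Un, 0),
 (Ua, 0)] []) XN 4585351680 :=
  (KN S).of_leA HNw (S.M.le_st HNp)

theorem clN : clB par23 XN (candS par23 [(Ua, 0),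
 (Un, 0)] []) (nat_lit 0x60c04080e0a040c06020e0c0a08040e) = true := by decide +kernel

noncomputable def ZNM_0D : List (ℕ × ℕ) := (((nat_lit 0x100c141c16), 0) :: XN)

theorem ZNM_1b : endB par23 ZNM_0D [(nat_lit 0xe0c081004060c01),
 (nat_lit 0xe020c100e0801),
 (nat_lit 0xe100a1004080e01),
 (nat_lit 0x100802060c100a0801),
 (nat_lit 0xa1008060a100801),
 (nat_lit 0x60c08100a080c01)] = true := by decide +kernel

theorem ZNM_1 {G : Type*} [Group G] (M : Md G par23) : M.Ch ZNM_0D [] [] 1 := Md.Ch.base ZNM_1b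

noncomputable def ZNM_0W : List (ℕ × ℕ) := apd [(0, 0),
 (24, 0)] []

theorem ZNM_0b : stepB par23 XN [] ZNM_0W [] (nat_lit 0x100c141c16) (.dif (.dif (.dif (.dif (.dif (.and (.and (.and (.im 10 (.nb 7)) (.im 8 (.nb 7))) (.im 12 (.nb 2))) (.im 14 (.nb 1))) (.nb 3)) (.im 14 (.nb 2))) (.nb 2)) (.nb 7)) (.im 10 (.nb 2))) (nat_lit 0x20402) 6 0
 .nil = true := by decide +kernel

theorem ZNM_0 {G : Type*} [Group G] [Finite G] (M : Md G par23) : M.Ch XN [] ZNM_0W 6 :=
  Md.Ch.step ZNM_0b (ZNM_1 M)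

theorem ZNM_p : presB par23 ZNM_0W XN [] = true := by decide +kernel

theorem ZNM {G : Type*} [Group G] [Finite G] (M : Md G par23) : M.KE (M.st XN []) ZNM_0W 6 :=
  (ZNM_0 M).ke ZNM_p

theorem ZN {G : Type*} [Group G] [Finite G] (S : S23 G) : S.M.KE (S.M.st XN []) ZNM_0W 6 := ZNM S.M

theorem coxN : coxB par23 [(Ua, 0),
 (Un, 0)] 2 = true := by decide +kernel

noncomputable def SNl_0W : List (ℕ × ℕ) := apd [(0, 0),
 (24, 0)] []

theorem SNl_0b : lvB par23 SNl_0W [] (nat_lit 0x16060a18) (nat_lit 0x20402) 6 = true := by decide +kernel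

theorem SNl_0 {G : Type*} [Group G] [Finite G] (M : Md G par23) : M.LB SNl_0W 6 :=
  Md.LB.step SNl_0b (Md.LB.one M _)

theorem SNw : leA par23 [(Ua, 0),
 (Un, 0)] SNl_0W [2,
 4] = true := by decide +kernel

theorem SN {G : Type*} [Group G] [Finite G] (M : Md G par23) : M.LB [(Ua, 0),
 (Un, 0)] 6 := Md.LB.of_leA (SNl_0 M) SNw

noncomputable def x3 : ℕ × ℕ := (0, (nat_lit 0x18101404100410140c100e0c06))

noncomputable def x3A : ℕ := (nat_lit 0x102140008040000000a20141480008010a8020800220150088420031028040040200082800220104000002100082202010210280400150080402012014000052104c0000020400088000408001000000800000000102000001000001000200080001020041800102080000000000000000000000000000000000000000004002c0000000004020c020800001000000040000000010000a0000004028000100114000000a800008451204102004201000001080a0000028008000c05000084001200104008442000088c00004002204408000200000420000040028040400800008840000000000000000000000000092400c00009002400240004000080000000200424000009000000000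000000000840030000200030040000000000018003402000000000800010000004008000000020000100000000100200000000400000002000003000000080000200000000000000000002414004285482140a2840228101030110100282cc0508402090088081049300064800112400632803000830410004a841480b010060804400030308088400884430001080484220060011020840003c20106000000000000000000000000000000000000000000000000000000000000000000000000000000000000000000000000000000000000000000000000000000000000000000000000000000000000000000000000000000000000000000000000000000000000000000000000000000000000000000000000000000000000000000000000000000000000000000000000000000000000000000000000000000000000000000000000000000000000000000000000000000000000000000000000000000000000000000000000000000000000000000000000000000000000000000000000000000000000000000000000000000000000000000000000000000000000000000000000000000000000000000000000000000000000000000000000000000000000000000000000000000000000000000000000000000000000000000000000000000000000000000000000000000000000000000000000000000000000001)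

theorem x3_fix : fixB par23 x3 x3A = true := by decide +kernel

theorem x3_ord : ordB par23 x3 3 1 = true := by decide +kernel

theorem x3_mul : mulB par23 x3 (Ua, 0) (Un, 0) = true := by decide +kernel

noncomputable def x3_cM_0D : List (ℕ × ℕ) := ((26, 0) :: [x3])

noncomputable def x3_cM_1D : List (ℕ × ℕ) := ((4634, 0) :: x3_cM_0D)

noncomputable def x3_cM_2D : List (ℕ × ℕ) := ((5658, 0) :: x3_cM_1D)

noncomputable def x3_cM_3D : List (ℕ × ℕ) := (((nat_lit 0x1a08161c), 0) :: x3_cM_2D)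

noncomputable def x3_cM_4D : List (ℕ × ℕ) := (((nat_lit 0x16100e1a0816), 0) :: x3_cM_3D)

theorem x3_cM_5b : endB par23 x3_cM_4D [(nat_lit 0x80c0406080a0c0801),
 (nat_lit 0xa060206080d08040a01),
 (nat_lit 0x80a0408060a0d080a0601),
 (nat_lit 0x6080d08020a02),
 (nat_lit 0xd0a04080d0a060401),
 (nat_lit 0xd0206040a0c0601)] = true := by decide +kernel

theorem x3_cM_5 {G : Type*} [Group G] (M : Md G par23) : M.Ch x3_cM_4D [x3A] [] 1 := Md.Ch.base x3_cM_5b

theorem x3_cM_4b : stepB par23 x3_cM_3D [x3A] (apd [] []) [] (nat_lit 0x16100e1a0816) (.dif (.dif (.and (.and (.lit 0) (.im 6 (.nb 1))) (.im 2052 (.nb 1))) (.im 8 (.nb 2))) (.im 4 (.nb 3))) 0 1 0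
 .nil = true := by decide +kernel

theorem x3_cM_4 {G : Type*} [Group G] [Finite G] (M : Md G par23) : M.Ch x3_cM_3D [x3A] (apd [] []) 1 :=
  Md.Ch.step x3_cM_4b (x3_cM_5 M)

noncomputable def x3_cM_3W : List (ℕ × ℕ) := apd [(0, (nat_lit 0x1a1206021a180a08101606140c0a0c14080c1214100a))] (apd [] [])

theorem x3_cM_3b : stepB par23 x3_cM_2D [x3A] x3_cM_3W (apd [] []) (nat_lit 0x1a08161c) (.dif (.dif (.dif (.dif (.and (.and (.im 1030 (.nb 1)) (.im 8 (.nb 3))) (.im 2310 (.nb 1))) (.nb 2)) (.nb 1)) (.im 9 (.nb 2))) (.im 8 (.nb 2))) 514 3 0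
 .nil = true := by decide +kernel

theorem x3_cM_3 {G : Type*} [Group G] [Finite G] (M : Md G par23) : M.Ch x3_cM_2D [x3A] x3_cM_3W 3 :=
  Md.Ch.step x3_cM_3b (x3_cM_4 M)

noncomputable def x3_cM_2W : List (ℕ × ℕ) := apd [((nat_lit 0xa0e0c16), 0),
 ((nat_lit 0x18100616), 0),
 (0, (nat_lit 0x101c160e1c12100c18140612060e12140a0c061204))] x3_cM_3W

theorem x3_cM_2b : stepB par23 x3_cM_1D [x3A] x3_cM_2W x3_cM_3W 5658 (.dif (.dif (.dif (.dif (.im 6 (.nb 1)) (.nb 1)) (.nb 2)) (.im 7 (.nb 2))) (.im 6 (.nb 2))) (nat_lit 0x204080206040208060402080402060402) 648 (nat_lit 0x6020608060204080602080204060204)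
 (.many [(.fx 1 (nat_lit 0x90202)),
 (.fx 1 (nat_lit 0x609040601))] 32 2 (nat_lit 0x140e180100041600) .nil) = true := by decide +kernel

theorem x3_cM_2 {G : Type*} [Group G] [Finite G] (M : Md G par23) : M.Ch x3_cM_1D [x3A] x3_cM_2W 1944 :=
  Md.Ch.step x3_cM_2b (x3_cM_3 M)

noncomputable def x3_cM_1W : List (ℕ × ℕ) := apd [(4630, 0),
 (0, (nat_lit 0x60816041c04160e0a0e04120e1014040c12))] x3_cM_2W

theorem x3_cM_1b : stepB par23 x3_cM_0D [x3A] x3_cM_1W x3_cM_2W 4634 (.dif (.and (.nb 1) (.im 5 (.nb 1))) (.lit 0)) (nat_lit 0x602080a040608020406020a02040602) 324 0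
 .nil = true := by decide +kernel

theorem x3_cM_1 {G : Type*} [Group G] [Finite G] (M : Md G par23) : M.Ch x3_cM_0D [x3A] x3_cM_1W 629856 :=
  Md.Ch.step x3_cM_1b (x3_cM_2 M)

noncomputable def x3_cM_0W : List (ℕ × ℕ) := apd [(3094, 0)] x3_cM_1W

theorem x3_cM_0b : stepB par23 [x3] [x3A] x3_cM_0W x3_cM_1W 26 (.dif .all (.lit 0)) (nat_lit 0x2040804020a0402060408020a0402060408020a04020602080a0402) 21840 (nat_lit 0x6080a04020602040e080e020a04020604020a080402060a040802)
 (.many [(.cnt (.and (.nb 1) (.lit 0))),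
 (.eq (nat_lit 0x20501) 1025)] 16 2 (nat_lit 0x16010000) .nil) = true := by decide +kernel

theorem x3_cM_0 {G : Type*} [Group G] [Finite G] (M : Md G par23) : M.Ch [x3] [x3A] x3_cM_0W 13756055040 :=
  Md.Ch.step x3_cM_0b (x3_cM_1 M)

theorem x3_cM_p : presB par23 x3_cM_0W [x3] [x3A] = true := by decide +kernel

theorem x3_cM {G : Type*} [Group G] [Finite G] (M : Md G par23) : M.KE (M.st [x3] [x3A]) x3_cM_0W 13756055040 :=
  (x3_cM_0 M).ke x3_cM_p

theorem x3_c {G : Type*} [Group G] [Finite G] (S : S23 G) : S.M.KE (S.M.st [x3] [x3A]) x3_cM_0W 13756055040 := x3_cM S.M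

theorem x3_A : Nat.beq x3A (candS par23 [(Ua, 0),
 (Un, 0)] []) = true := by decide +kernel

theorem wNu : wchk par23 (.br [(3094, 0),
 (4630, 0),
 ((nat_lit 0x1c0616), 0),
 ((nat_lit 0x100616), 0),
 ((nat_lit 0x181216), 0),
 ((nat_lit 0xa1c0c1c), 0),
 ((nat_lit 0x101416), 0)] (nat_lit 0x2080c04020604020a08060e040a0c08020604) 3094
 (.br [((nat_lit 0x100616), 0),
 ((nat_lit 0x101416), 0),
 ((nat_lit 0x6121416), 0),
 ((nat_lit 0xe0c16), 0),
 ((nat_lit 0x100816), 0),
 ((nat_lit 0x1a0a1a16), 0)] (nat_lit 0xc0a0406020408060204020a04060408020a06020c04) (nat_lit 0x100816)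
 (.br [((nat_lit 0xe0c16), 0),
 ((nat_lit 0x4180c16), 0),
 ((nat_lit 0x6160a1c), 0),
 ((nat_lit 0x100616), 0),
 ((nat_lit 0xc1c0616), 0)] (nat_lit 0x2060402060a02080604) (nat_lit 0x100616)
 (.br [((nat_lit 0xe0c16), 0),
 ((nat_lit 0xc1a0c0418), 0),
 ((nat_lit 0x10120616), 0),
 ((nat_lit 0x1c160a0c16), 0)] (nat_lit 0x20408060204) (nat_lit 0xe0c16)
 .small .small) .small) .small) .small) x3A 7 = true := by decide +kernel

theorem wNl : cliqB par23 [(4630, 0),
 ((nat_lit 0x141216), 0),
 ((nat_lit 0x1a0e1c), 0),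
 ((nat_lit 0x12160416), 0),
 ((nat_lit 0xa1c0e081c), 0),
 ((nat_lit 0x1c0c1c0616), 0),
 ((nat_lit 0x100c1a0e1016), 0)] x3A 7 = true := by decide +kernel

theorem wN {G : Type*} [Group G] (M : Md G par23) : commutingWidth (M.T x3A) = 7 := M.width wNu wNl

end Cfsg.Lib.Fi.B23
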