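import Cfsg.Agent.Lib.Fi.B23a

set_option maxRecDepth 100000

namespace Cfsg.Lib.Fi.B23

open Cfsg.Lib.Comp Cfsg.Lib.Fi

noncomputable def aA : ℕ := (nat_lit 0x7ffffffffffffffffffffffffffffffffffffffffffffffffffffffffffffffffffffffffffffffffffffffffffffffffffffffffffffffffffffffffffffffffffffffffffffffffffffffffffffffffffffffffffffffffffffffffffffffffffffffffffffffffffffffffffffffffffffffffffffffffffffffffffffffffffffffffffffffffffffffffffffffffffffffffffffffffffffffffffffffffffffffffffffffffffffffffffffffffffffffffffffffffffffffffffffffffffffffffffffffffffffffffffffffffffffffffffffffffffffffffffffffffffffffffffffffffffffffffffffffffffffffffffffffffffffffffffffffffffffffffffffffffffffffffffffffffffffffffffffffffffffffffffffffffffffffffffffffffffffffffffffffffffffffffffffffffffffffffffffffffffffffffffffffffffffffffffffffffffffffffffffffffffffffffffffffffffffffffffffffffffffffffffffffffffffffffffffffffffffffff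ffffffffffffffffffffffffffffffffffffffffffffffffffffffffffffffffffffffffffffffffffffffffffffffffffffffffffffffffffffc00000000000000000000000000000000000000000000000000000000000000000000000000000000000000000000000000000000000000000000000000000000000000000000000000000000000000000000000000000000000000000000000000000000000000000000000000000000000000000000000000000000000000000000000000000000000000000000000000000000000000000000000000000000000000000000000000000000000000000000000000000000000000000000000000000000000000000000000000000000000000000000000000000000000000000000000000000000000000000000000000000000000000000000000000000000000000000000000000000000000000000000000000000000000000000000000000000000000000000000000000000000000000000000000000000000000000000000000000000000000000000000000000000000000000000000000000000003)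

theorem a_fix : fixB par23 (Ua, 0) aA = true := by decide +kernel

noncomputable def j2 : ℕ × ℕ := (0, (nat_lit 0xc1014060c120e140c10140c06))

noncomputable def j2A : ℕ := (nat_lit 0x78678001981866798198180606006607800060180198001860000600000000000799e06180606000061e0006000000066018000006060001e60000000000000600000601e0619e001801980000600679818060000018000000001e0018000000000198180780001f0c005012220a4484408912818786001801e6180000000000006600000061800000000001800001ff80006000006781800000780000666180601818006187e1e0180660000000018600006000078060018018000060000001980067f801800601e60001818018000600198180000181e31438b04c024e402002e007080a5425244010a9060018000007980000001e000600000006180000007800180019801800000006181800000001800000600600018183409809a0d618424b4240a800200006000018060000619e0180000006208040a400000001a0a81860000600661800000000000000849144c02c06006202000004400001ff818180000607806618199801e60000079f81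800780018600180666060007805c8455018040ce061e001e19860018606000000092a8019818600060780038815129f8000860c0c0300cc0330000636009a0c00a01400000000000000000000000000000000000000000000000000000000000000000000000000000000000000000000000000000000000000000000000000000000000000000000000000000000000000000000000000000000000000000000000000000000000000000000000000000000000000000000000000000000000000000000000000000000000000000000000000000000000000000000000000000000000000000000000000000000000000000000000000000000000000000000000000000000000000000000000000000000000000000000000000000000000000000000000000000000000000000000000000000000000000000000000000000000000000000000000000000000000000000000000000000000000000000000000000000000000000000000000000000000000000000000000000000000000000000000000000000000000000000000000000000000000000000000000000000003)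

theorem j2_fix : fixB par23 j2 j2A = true := by decide +kernel

theorem j2_ord : ordB par23 j2 2 2 = true := by decide +kernel

noncomputable def j3 : ℕ × ℕ := (0, (nat_lit 0x40610120a080e0a08040e06))

noncomputable def j3A : ℕ := (nat_lit 0x78600000180000000180000600006601800060000180000000000000000000000000606000006000061800060000000060000000000000006000000000000000000000000001800000000000000000000000000000000000000000000000000000000000000000070800401020080000000000000000001801e000000000000000060000000000000000000180000001800060000007800000001800000001800000180000006000180660000000018000000000000000000000000000000000180000000000060006000181800000000000018000018003141830000006402000c0060000000000000000000000000000180000001800000000000000000000180000000000000000000000000000000180000000000000000340080000001040010000800000000000000000000000000000000000000000000000000000000000000000000000000000000000000000000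00000000000000000000000000000000000000018180000000000018000000000018600000600000007800c8400000000000018000600000000000000000080200180006000001800008101081800002000c0300000300000030000a0c00200400000000000000000000000000000000000000000000000000000000000000000000000000000000000000000000000000000000000000000000000000000000000000000000000000000000000000000000000000000000000000000000000000000000000000000000000000000000000000000000000000000000000000000000000000000000000000000000000000000000000000000000000000000000000000000000000000000000000000000000000000000000000000000000000000000000000000000000000000000000000000000000000000000000000000000000000000000000000000000000000000000000000000000000000000000000000000000000000000000000000000000000000000000000000000000000000000000000000000000000000000000000000000000000000000000000000000000000000000000000000000000000000000000000000000000000000000000003)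

theorem j3_fix : fixB par23 j3 j3A = true := by decide +kernel

theorem j3_ord : ordB par23 j3 2 2 = true := by decide +kernel

theorem j2_fac : facB par23 [(Ua, 0),
 (Ub, 0)] j2 0x204 = true := by decide +kernel

theorem j3_fac : facB par23 [(Ua, 0),
 (Ub, 0),
 (Uc, 0)] j3 0x20406 = true := by decide +kernel

noncomputable def j2_cM_0D : List (ℕ × ℕ) := ((28, 0) :: [j2])

noncomputable def j2_cM_1D : List (ℕ × ℕ) := ((26, 0) :: j2_cM_0D)

noncomputable def j2_cM_2D : List (ℕ × ℕ) := (((nat_lit 0x60a18), 0) :: j2_cM_1D)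

noncomputable def j2_cM_3D : List (ℕ × ℕ) := (((nat_lit 0x8141c1a), 0) :: j2_cM_2D)

theorem j2_cM_4b : endB par23 j2_cM_3D [(nat_lit 0x4060a08040602080a060401),
 (nat_lit 0x604020a08040206040a0601),
 (nat_lit 0x60a04060204060802040a04),
 (nat_lit 0xa040208060a0802060a060401),
 (nat_lit 0x60a08040a0402060a01),
 (nat_lit 0x6040a0804020a040801)] = true := by decide +kernel

theorem j2_cM_4 {G : Type*} [Group G] (M : Md G par23) : M.Ch j2_cM_3D [j2A] [] 1 := Md.Ch.base j2_cM_4b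

noncomputable def j2_cM_3W : List (ℕ × ℕ) := apd [((nat_lit 0x181c0c0a1c), 0),
 (0, (nat_lit 0x1204120a161a16040e1608060e100c1014100e0a04))] []

theorem j2_cM_3b : stepB par23 j2_cM_2D [j2A] j2_cM_3W [] (nat_lit 0x8141c1a) (.dif (.dif (.dif (.dif (.dif (.dif (.dif (.dif (.dif (.and (.im 2054 (.nb 2)) (.im 2054 (.nb 1))) (.im 6 (.nb 2))) (.im 4 (.nb 1))) (.im 6 (.nb 1))) (.nb 2)) (.nb 3)) (.nb 1)) (.im 1544 (.nb 1))) (.im 1032 (.nb 1))) (.im 8 (.nb 2))) 1026 4 1026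
 (.many [(.fx 1 2561)] 40 1 (nat_lit 0x1c0c0e1a00) .nil) = true := by decide +kernel

theorem j2_cM_3 {G : Type*} [Group G] [Finite G] (M : Md G par23) : M.Ch j2_cM_2D [j2A] j2_cM_3W 4 :=
  Md.Ch.step j2_cM_3b (j2_cM_4 M)

noncomputable def j2_cM_2W : List (ℕ × ℕ) := apd [((nat_lit 0x120a1016), 0),
 ((nat_lit 0xe181c021a), 0),
 ((nat_lit 0x12141a0e1c), 0),
 (0, (nat_lit 0x161006161a08061418080e060e08060c0e0c120814))] j2_cM_3W

theorem j2_cM_2b : stepB par23 j2_cM_1D [j2A] j2_cM_2W j2_cM_3W (nat_lit 0x60a18) (.dif (.dif (.dif (.and (.im 4 (.nb 1)) (.im 1540 (.nb 1))) (.nb 1)) (.lit 0)) (.im 6 (.nb 1))) (nat_lit 0x80c020402080a02060402) 324 (nat_lit 0x80c0804020c06020a)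
 (.many [(.fx 1 (nat_lit 0x6080401))] 40 2 (nat_lit 0x18160e180000021c1a00) .nil) = true := by decide +kernel

theorem j2_cM_2 {G : Type*} [Group G] [Finite G] (M : Md G par23) : M.Ch j2_cM_1D [j2A] j2_cM_2W 1296 :=
  Md.Ch.step j2_cM_2b (j2_cM_3 M)

noncomputable def j2_cM_1W : List (ℕ × ℕ) := apd [((nat_lit 0x101416), 0)] j2_cM_2W

theorem j2_cM_1b : stepB par23 j2_cM_0D [j2A] j2_cM_1W j2_cM_2W 26 (.dif (.im 4 (.nb 1)) (.nb 1)) (nat_lit 0x20a080a04020a080604020e080604020a080604020a0802) 2240 (nat_lit 0xa08040e020a020e020a06040e040c020806)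
 (.many [(.fx 1 1537)] 24 1 (nat_lit 0xc1600) .nil) = true := by decide +kernel

theorem j2_cM_1 {G : Type*} [Group G] [Finite G] (M : Md G par23) : M.Ch j2_cM_0D [j2A] j2_cM_1W 2903040 :=
  Md.Ch.step j2_cM_1b (j2_cM_2 M)

noncomputable def j2_cM_0W : List (ℕ × ℕ) := apd [(2070, 0)] j2_cM_1W

theorem j2_cM_0b : stepB par23 [j2] [j2A] j2_cM_0W j2_cM_1W 28 (.dif .all (.lit 0)) (nat_lit 0xc020e02080a020e0206080402100402060a0e02080604020c040a02060e0802) 25344 (nat_lit 0x20a040810020802100e0402100604020a0804020e0a060402)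
 (.many [(.fx 1 1025)] 24 1 (nat_lit 0x121800) .nil) = true := by decide +kernel

theorem j2_cM_0 {G : Type*} [Group G] [Finite G] (M : Md G par23) : M.Ch [j2] [j2A] j2_cM_0W 73574645760 :=
  Md.Ch.step j2_cM_0b (j2_cM_1 M)

theorem j2_cM_p : presB par23 j2_cM_0W [j2] [j2A] = true := by decide +kernel

theorem j2_cM {G : Type*} [Group G] [Finite G] (M : Md G par23) : M.KE (M.st [j2] [j2A]) j2_cM_0W 73574645760 :=
  (j2_cM_0 M).ke j2_cM_p

theorem j2_c {G : Type*} [Group G] [Finite G] (S : S23 G) : S.M.KE (S.M.st [j2] [j2A]) j2_cM_0W 73574645760 := j2_cM S.M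

noncomputable def j3_cM_0D : List (ℕ × ℕ) := ((26, 0) :: [j3])

noncomputable def j3_cM_1D : List (ℕ × ℕ) := ((1046, 0) :: j3_cM_0D)

noncomputable def j3_cM_2D : List (ℕ × ℕ) := (((nat_lit 0x140416), 0) :: j3_cM_1D)

noncomputable def j3_cM_3D : List (ℕ × ℕ) := (((nat_lit 0x1a10160818), 0) :: j3_cM_2D)

noncomputable def j3_cM_4D : List (ℕ × ℕ) := (((nat_lit 0x180c1c0616), 0) :: j3_cM_3D)

theorem j3_cM_5b : endB par23 j3_cM_4D [(nat_lit 0x80a0c0a02080a0c040a04),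
 (nat_lit 0xa0c02080a0602040a0c0a01),
 (nat_lit 0x604020a0c06080a01),
 (nat_lit 0x60a0c02080a06080a0c0a03),
 (nat_lit 0x80a0c060a0c0804060a01),
 (nat_lit 0x80a0c0a04060a01)] = true := by decide +kernel

theorem j3_cM_5 {G : Type*} [Group G] (M : Md G par23) : M.Ch j3_cM_4D [j3A] [] 1 := Md.Ch.base j3_cM_5b

theorem j3_cM_4b : stepB par23 j3_cM_3D [j3A] (apd [] []) [] (nat_lit 0x180c1c0616) (.and (.and (.and (.lit 0) (.im 2054 (.nb 1))) (.im 4 (.nb 1))) (.im 6 (.nb 2))) 0 1 0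
 .nil = true := by decide +kernel

theorem j3_cM_4 {G : Type*} [Group G] [Finite G] (M : Md G par23) : M.Ch j3_cM_3D [j3A] (apd [] []) 1 :=
  Md.Ch.step j3_cM_4b (j3_cM_5 M)

noncomputable def j3_cM_3W : List (ℕ × ℕ) := apd [(0, (nat_lit 0xc180c0a1a0c021808160806140a0e121014060a1410))] (apd [] [])

theorem j3_cM_3b : stepB par23 j3_cM_2D [j3A] j3_cM_3W (apd [] []) (nat_lit 0x1a10160818) (.and (.and (.lit 0) (.im 518 (.nb 2))) (.im 1544 (.nb 3))) 514 3 0
 .nil = true := by decide +kernel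

theorem j3_cM_3 {G : Type*} [Group G] [Finite G] (M : Md G par23) : M.Ch j3_cM_2D [j3A] j3_cM_3W 3 :=
  Md.Ch.step j3_cM_3b (j3_cM_4 M)

noncomputable def j3_cM_2W : List (ℕ × ℕ) := apd [((nat_lit 0x120a1016), 0),
 (0, (nat_lit 0x1a060c06021a16080e040a0c14041208060c)),
 (0, (nat_lit 0x1c0a1018121a181002180e040a0e0c0e08120e1404))] j3_cM_3W

theorem j3_cM_2b : stepB par23 j3_cM_1D [j3A] j3_cM_2W j3_cM_3W (nat_lit 0x140416) (.dif (.dif (.dif (.dif (.lit 0) (.nb 1)) (.nb 2)) (.im (nat_lit 0x20406) (.nb 2))) (.im 1030 (.nb 2))) (nat_lit 0x602060402060402) 36 (nat_lit 0x402060402)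
 (.many [(.mem 0 (nat_lit 0x608040601))] 40 1 (nat_lit 0xe100e1600) .nil) = true := by decide +kernel

theorem j3_cM_2 {G : Type*} [Group G] [Finite G] (M : Md G par23) : M.Ch j3_cM_1D [j3A] j3_cM_2W 108 :=
  Md.Ch.step j3_cM_2b (j3_cM_3 M)

noncomputable def j3_cM_1W : List (ℕ × ℕ) := apd [((nat_lit 0x18100616), 0),
 ((nat_lit 0x1a10120616), 0)] j3_cM_2W

theorem j3_cM_1b : stepB par23 j3_cM_0D [j3A] j3_cM_1W j3_cM_2W 1046 (.dif (.lit 0) (.im 516 (.nb 1))) (nat_lit 0x20a040806040208060402) 128 0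
 .nil = true := by decide +kernel

theorem j3_cM_1 {G : Type*} [Group G] [Finite G] (M : Md G par23) : M.Ch j3_cM_0D [j3A] j3_cM_1W 13824 :=
  Md.Ch.step j3_cM_1b (j3_cM_2 M)

noncomputable def j3_cM_0W : List (ℕ × ℕ) := apd [(1046, 0)] j3_cM_1W

theorem j3_cM_0b : stepB par23 [j3] [j3A] j3_cM_0W j3_cM_1W 26 (.dif .all (.lit 0)) (nat_lit 0x4020602040a0408020602040a0402060802040a0408020602040a0208060402) 23040 (nat_lit 0xa02040a060208040c02060a0402080c040a02080602040802)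
 (.many [(.cnt (.and (.nb 1) (.lit 0))),
 (.fx 1 1025)] 24 2 (nat_lit 0x1218010e1600) .nil) = true := by decide +kernel

theorem j3_cM_0 {G : Type*} [Group G] [Finite G] (M : Md G par23) : M.Ch [j3] [j3A] j3_cM_0W 318504960 :=
  Md.Ch.step j3_cM_0b (j3_cM_1 M)

theorem j3_cM_p : presB par23 j3_cM_0W [j3] [j3A] = true := by decide +kernel

theorem j3_cM {G : Type*} [Group G] [Finite G] (M : Md G par23) : M.KE (M.st [j3] [j3A]) j3_cM_0W 318504960 :=
  (j3_cM_0 M).ke j3_cM_p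

theorem j3_c {G : Type*} [Group G] [Finite G] (S : S23 G) : S.M.KE (S.M.st [j3] [j3A]) j3_cM_0W 318504960 := j3_cM S.M

theorem j2_un : cnd (ptsB [(Ua, 0),
 (Ub, 0)]) (presB par23 j2_cM_0W [] [ptS par23 [(Ua, 0),
 (Ub, 0)]]) false = true := by decide +kernel

theorem j3_un : cnd (ptsB [(Ua, 0),
 (Ub, 0),
 (Uc, 0)]) (presB par23 j3_cM_0W [] [ptS par23 [(Ua, 0),
 (Ub, 0),
 (Uc, 0)]]) false = true := by decide +kernel

theorem ne12 : neB (pc par23.w par23.K aA) (pc par23.w par23.K j2A) = true := by decide +kernel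

theorem ne13 : neB (pc par23.w par23.K aA) (pc par23.w par23.K j3A) = true := by decide +kernel

theorem ne23 : neB (pc par23.w par23.K j2A) (pc par23.w par23.K j3A) = true := by decide +kernel

theorem j2_no : no3B par23 j2 24 2 = true := by decide +kernel

theorem j3_no : no3B par23 j3 18 2 = true := by decide +kernel

noncomputable def p2A : List (ℕ × ℕ) := [(0, (nat_lit 0x1a041a081c1612081806080a140c0e140e0a1012)),
 (0, (nat_lit 0x1c04161a0c061618140804060e0a12060c141014)),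
 (0, (nat_lit 0x181c1a04101a12180e120a040e14060c041004)),
 (0, (nat_lit 0x1a041a081c160e0816060410080e060e120e100612)),
 (0, (nat_lit 0x1a08021a08160a1216080e120a0e080c121406140a)),
 (0, (nat_lit 0x18121a0c081a18060a0e161004101408120612140c)),
 (0, (nat_lit 0xa16041c0416120c0a041204060a080e0814)),
 (0, (nat_lit 0xa0c1c181a08041618061404140e04120a120c04)),
 (0, (nat_lit 0x161a121a0e18140416140414040a140408040e0406)),
 (0, (nat_lit 0x12061a121a081004061606140612140c121412060a)),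
 (0, (nat_lit 0x2080c0e040a040e0c080a)),
 (0, (nat_lit 0xe060e0612060806120e)),
 (0, (nat_lit 0x2140c0814080c14040804)),
 (0, 0),
 (0, (nat_lit 0xc1014060c120e140c10140c06)),
 (0, (nat_lit 0x1c0e0a0c1a0a160c160e0410120a040e04120c1406)),
 (0, (nat_lit 0x1c12141c061a12181604180a060c1412040c08100e14)),
 (0, (nat_lit 0x40610120a080e0a08040e06))]

theorem p2b : pcB (rbG par23 p2A) 2 18 18
 [[(nat_lit 0xa0e2224),
 0,
 0,
 0,
 0,
 0,
 0,
 0,
 0,
 0,
 0,
 0,
 0,
 0,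
 0,
 0,
 0,
 0,
 0],
 [(nat_lit 0xc101216181c1e202224),
 (nat_lit 0xa0c0e101416181c1e),
 0,
 0,
 0,
 0,
 0,
 0,
 0,
 0,
 0,
 0,
 0,
 0,
 0,
 0,
 0,
 0,
 0],
 [(nat_lit 0xa0c10161a1c1e202224),
 (nat_lit 0xc0e10142024),
 (nat_lit 0xa12181c1e2024),
 0,
 0,
 0,
 0,
 0,
 0,
 0,
 0,
 0,
 0,
 0,
 0,
 0,
 0,
 0,
 0],
 [(nat_lit 0x101214181a1c24),
 (nat_lit 0xa0e1012181c1e22),
 (nat_lit 0xc14161e2024),
 (nat_lit 0xc1012181a1e24),
 0,
 0,
 0,
 0,
 0,
 0,
 0,
 0,
 0,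
 0,
 0,
 0,
 0,
 0,
 0],
 [6692,
 (nat_lit 0x1012181e2024),
 (nat_lit 0x1012181e),
 (nat_lit 0x10121622),
 (nat_lit 0x10121822),
 0,
 0,
 0,
 0,
 0,
 0,
 0,
 0,
 0,
 0,
 0,
 0,
 0,
 0],
 [(nat_lit 0x161e24),
 (nat_lit 0x1214161e2224),
 (nat_lit 0x161a1e2024),
 (nat_lit 0x10121416181e20),
 7716,
 (nat_lit 0x161a1e2224),
 0,
 0,
 0,
 0,
 0,
 0,
 0,
 0,
 0,
 0,
 0,
 0,
 0],
 [(nat_lit 0x1416181a1c202224),
 (nat_lit 0x1012181c1e),
 (nat_lit 0x10141e22),
 (nat_lit 0x12141a1c1e202224),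
 (nat_lit 0x1012141622),
 (nat_lit 0x1618202224),
 (nat_lit 0x141a1e2022),
 0,
 0,
 0,
 0,
 0,
 0,
 0,
 0,
 0,
 0,
 0,
 0],
 [32,
 (nat_lit 0x14181c202224),
 (nat_lit 0x141c2022),
 (nat_lit 0x141824),
 (nat_lit 0x14161a1c1e202224),
 (nat_lit 0x1a1e202224),
 6686,
 (nat_lit 0x1c1e2224),
 0,
 0,
 0,
 0,
 0,
 0,
 0,
 0,
 0,
 0,
 0],
 [8740,
 (nat_lit 0x14161a1e20),
 (nat_lit 0x1416202224),
 (nat_lit 0x1416182022),
 (nat_lit 0x14161a1e24),
 (nat_lit 0x1a2224),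
 (nat_lit 0x1a2224),
 7716,
 (nat_lit 0x202224),
 0,
 0,
 0,
 0,
 0,
 0,
 0,
 0,
 0,
 0],
 [36,
 30,
 (nat_lit 0x1a2022),
 (nat_lit 0x1a1c202224),
 30,
 7716,
 (nat_lit 0x1e2022),
 7716,
 8740,
 34,
 0,
 0,
 0,
 0,
 0,
 0,
 0,
 0,
 0],
 [0,
 (nat_lit 0x1a1e2024),
 34,
 8740,
 0,
 8740,
 0,
 (nat_lit 0x1e2024),
 8740,
 8740,
 36,
 0,
 0,
 0,
 0,
 0,
 0,
 0,
 0],
 [0,
 (nat_lit 0x1a1c202224),
 (nat_lit 0x1a1c202224),
 (nat_lit 0x1a1c22),
 (nat_lit 0x1c2224),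
 36,
 8226,
 8226,
 36,
 36,
 36,
 36,
 0,
 0,
 0,
 0,
 0,
 0,
 0],
 [0,
 (nat_lit 0x1e2024),
 7712,
 (nat_lit 0x1e2022),
 7712,
 0,
 8740,
 34,
 36,
 0,
 0,
 0,
 0,
 0,
 0,
 0,
 0,
 0,
 0],
 [0,
 30,
 30,
 30,
 0,
 0,
 0,
 0,
 0,
 0,
 0,
 0,
 0,
 0,
 0,
 0,
 0,
 0,
 0],
 [0,
 0,
 0,
 0,
 0,
 0,
 0,
 0,
 0,
 0,
 0,
 0,
 0,
 0,
 0,
 0,
 0,
 0,
 0],
 [0,
 34,
 34,
 34,
 36,
 36,
 36,
 0,
 0,
 0,
 0,
 0,
 0,
 0,
 0,
 0,
 0,
 0,
 0],
 [0,
 36,
 36,
 0,
 36,
 0,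
 0,
 0,
 0,
 0,
 0,
 0,
 0,
 0,
 0,
 0,
 0,
 0,
 0],
 [0,
 0,
 0,
 0,
 0,
 0,
 0,
 0,
 0,
 0,
 0,
 0,
 0,
 0,
 0,
 0,
 0,
 0,
 0]] = true := by decide +kernel

noncomputable def p2L_1W : List (ℕ × ℕ) := apd [((nat_lit 0x1a10160818), 0),
 (0, (nat_lit 0x1a060c06021a16040610040a04100e0612080a)),
 (0, (nat_lit 0x1a060c06021a160a14100412060c08120a10))] []

theorem p2L_1b : lvB par23 p2L_1W [] (nat_lit 0x16060a18) (nat_lit 0x406040602) 16 = true := by decide +kernel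

theorem p2L_1 {G : Type*} [Group G] [Finite G] (M : Md G par23) : M.LB p2L_1W 16 :=
  Md.LB.step p2L_1b (Md.LB.one M _)

noncomputable def p2L_0W : List (ℕ × ℕ) := apd [((nat_lit 0xe18141c), 0),
 ((nat_lit 0xa1c1418), 0),
 (0, (nat_lit 0x18161a0c1c10060818040a06120414100c100e080e))] p2L_1W

theorem p2L_0b : lvB par23 p2L_0W p2L_1W 28 (nat_lit 0xa020c0204060a0206020c04020a020c080402060402) 16384 = true := by decide +kernel

theorem p2L_0 {G : Type*} [Group G] [Finite G] (M : Md G par23) : M.LB p2L_0W 262144 :=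
  Md.LB.step p2L_0b (p2L_1 M)

theorem p2Lb : cnd (Nat.ble 18 (List.length p2A)) (leA par23 (List.take 18 p2A) p2L_0W [(nat_lit 0x2040a0e101a1c1e202224),
 (nat_lit 0x2040c12181c1e22),
 (nat_lit 0x204060a0c14161e),
 (nat_lit 0x2040c14181a1c1e22),
 (nat_lit 0x6080a0c141a2024),
 (nat_lit 0x4080a1422)]) false = true := by decide +kernel

theorem p2Pc {G : Type*} [Group G] [Finite G] (M : Md G par23) : Pc (M.d p2A) 2 18 18 :=
  Pc.of (M.relT p2A) (by norm_num) (by norm_num) (by norm_num) p2b (M.lb_PS (p2L_0 M) p2Lb)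

theorem cov2_0b : cnd (Nat.ble 9 18) (cnd (inW 0 18 0) (ptB (rbG par23 p2A) (lfC par23 p2A [(Ua, 0), j2, j3] 18) 2 18 18
 (.split (.sub (.split (.sub (.split (.sub (.split (.sub (.split (.sub (.split (.sub (.split (.sub (.split (.sub (.split (.sub (.leaf 1 0 0)
 (.sub (.leaf 1 2 1)
 .nil)))
 (.sub (.mv 8 0 (.leaf (nat_lit 0x1a101a10041a04140804160e0a14060e080e08101408) 2 1))
 .nil)))
 (.sub (.mv 6 0 (.mv 12 0 (.leaf (nat_lit 0xe16041c0414101804080e060c060c10080e0a06) 2 1)))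
 .nil)))
 (.sub (.split (.sub (.split (.sub (.split (.sub (.leaf 1 1 1)
 (.sub (.leaf (nat_lit 0xa060e061604080c0e0c0410140c120e0c) 0 1)
 .nil)))
 (.sub (.mv 8 0 (.leaf (nat_lit 0x1c1018141a08120e180e10041410060e040c0a0814) 1 1))
 .nil)))
 (.sub (.mv 6 0 (.mv 12 0 (.leaf (nat_lit 0x80a1606081a02160c160e0c04080a0c040a0e0a10) 2 1)))
 .nil)))
 .nil)))
 (.sub (.mv 6 0 (.split (.sub (.split (.sub (.split (.sub (.leaf 1 0 1)
 (.sub (.leaf (nat_lit 0x6041614100e1412040a060e14) 1 1)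
 .nil)))
 (.sub (.mv 8 0 (.leaf (nat_lit 0x1c101c161a0804140416061404120c0a10140e0a) 2 1))
 .nil)))
 (.sub (.split (.sub (.mv 12 0 (.leaf (nat_lit 0x61012161a080c1808161012040c080c0e0604120c04) 2 1))
 (.sub (.mv 12 0 (.leaf (nat_lit 0x1c0e04181a04080c160e140c080c1204060c0806) 1 1))
 .nil)))
 .nil))))
 .nil)))
 (.sub (.split (.sub (.mv 8 32 (.split (.sub (.mv 14 0 (.mv 16 0 (.leaf (nat_lit 0x181018041c180218081606120c12100c101214041410) 1 1)))
 (.sub (.mv 14 0 (.mv 16 0 (.leaf (nat_lit 0x1a100e141a021816101604140a041204060e1014080e) 2 1)))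
 .nil))))
 (.sub (.mv 8 32 (.mv 6 34 (.mv 14 0 (.mv 16 0 (.leaf (nat_lit 0x80a16041c0416060a0812080a080c0e100a) 2 1)))))
 .nil)))
 .nil)))
 (.sub (.mv 6 7202 (.mv 8 8740 (.split (.sub (.mv 14 34 (.split (.sub (.mv 22 0 (.leaf (nat_lit 0x80a16041c041612060e140612040a100a) 2 1))
 (.sub (.mv 22 0 (.leaf (nat_lit 0xc1404141a120e04160a0e0c060c0a120610120410) 1 1))
 .nil))))
 (.sub (.mv 14 34 (.split (.sub (.mv 22 0 (.leaf (nat_lit 0xe101c0c061a060e0c18120614081206100e12060a) 2 1))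
 (.sub (.mv 22 0 (.leaf (nat_lit 0x141a060e041a0806161808120a0e040a080e0c060a06) 2 1))
 .nil))))
 .nil)))))
 .nil)))
 (.sub (.split (.sub (.mv 2 (nat_lit 0x1e2024) (.split (.sub (.mv 14 8228 (.split (.sub (.mv 18 36 (.mv 24 0 (.leaf (nat_lit 0x181018041c18021808160e14120a06141006081204) 1 1)))
 (.sub (.mv 18 36 (.mv 24 0 (.leaf (nat_lit 0x80610181a060c1806161014100e040812101210140e) 2 1)))
 .nil))))
 (.sub (.mv 14 8228 (.mv (nat_lit 0x60e1216181e24) 34 (.mv 18 36 (.mv 24 0 (.leaf (nat_lit 0x12040e06040a120a0e060e12) 2 1)))))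
 .nil))))
 (.sub (.mv 6 7204 (.mv 8 8740 (.mv 14 8740 (.mv 12 34 (.mv 18 0 (.mv 24 0 (.kill 18 1 0)))))))
 .nil)))
 .nil)))
 (.sub (.split (.sub (.split (.sub (.mv 6 (nat_lit 0x1c202224) (.mv (nat_lit 0x4060a10141a1e2224) (nat_lit 0x1e2024) (.mv 14 36 (.mv (nat_lit 0xc0e141a22) 8740 (.mv 18 0 (.mv 24 0 (.kill 18 1 0)))))))
 (.sub (.mv 2 (nat_lit 0x1c1e202224) (.mv 8 (nat_lit 0x1e2224) (.mv 14 (nat_lit 0x202224) (.mv (nat_lit 0xc0e141a22) 8740 (.mv 18 36 (.mv 24 0 (.leaf (nat_lit 0x1804141c180a18160e0a0e080c08120a10141206) 2 1)))))))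
 .nil)))
 (.sub (.split (.sub (.mv 6 7200 (.mv (nat_lit 0x4060a10141a1e2224) 7712 (.mv 12 8226 (.mv 14 0 (.mv (nat_lit 0x80c0e1012161a1c22) 0 (.mv 22 0 (.leaf (nat_lit 0x21c06101c0e0a10181214080c040a1408140c0a) 2 1)))))))
 (.sub (.split (.sub (.mv 8 (nat_lit 0x1e2224) (.mv 12 0 (.mv 6 34 (.mv 14 0 (.mv 16 0 (.leaf (nat_lit 0xa12061a1c120e0218060c040e0a120c0e10080a04) 2 1))))))
 (.sub (.mv 8 (nat_lit 0x202224) (.mv 12 8740 (.split (.sub (.mv (nat_lit 0x60c101214181e2022) 36 (.split (.sub (.leaf (nat_lit 0xe0a1606021a101210180a0c081210080a08060e0c14) 2 1)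
 (.sub (.leaf (nat_lit 0x1a0c16080a1a100a0c160414100614100e080e120412) 1 1)
 .nil))))
 (.sub (.split (.sub (.split (.sub (.leaf (nat_lit 0x18140e141c08040e180e040e0804100e08120814) 0 1)
 (.sub (.leaf (nat_lit 0xe041c04061a121416101604080412040c0a120806120604) 2 1)
 .nil)))
 (.sub (.split (.sub (.leaf (nat_lit 0x1a0e1a10081a0e180a0c16100e0c10060e120e040e0412) 2 1)
 (.sub (.leaf (nat_lit 0x6101c0c061a08180416040a040c060c14040c1206) 1 1)
 .nil)))
 .nil)))
 .nil)))))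
 .nil)))
 .nil)))
 .nil)))
 .nil))) false 9 0 0) false) false = true := by decide +kernel

theorem cov2_0 {G : Type*} [Group G] [Finite G] (M : Md G par23) : Good (M.d p2A) 2 18 (M.QC [(Ua, 0), j2, j3]) 9 (wv (M.d p2A) 0) :=
  (p2Pc M).cover (M.relT p2A) ((M.inv_QC _ (by norm_num)).mono le_top) (M.lfC_sound _ _ _ _) cov2_0b

theorem cov2_1b : cnd (Nat.ble 9 18) (cnd (inW 0 18 18) (ptB (rbG par23 p2A) (lfC par23 p2A [(Ua, 0), j2, j3] 18) 2 18 18
 (.mv 8 (nat_lit 0x161a1e24) (.split (.sub (.mv (nat_lit 0x6080c141c1e202224) (nat_lit 0x1a1c20) (.mv 12 8740 (.split (.sub (.mv 14 36 (.mv 16 8740 (.mv 22 36 (.kill 17 1 36))))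
 (.sub (.mv 14 36 (.mv 16 8740 (.mv 22 36 (.kill 17 1 36))))
 .nil)))))
 (.sub (.mv (nat_lit 0x6080c141c1e202224) (nat_lit 0x1a1c202224) (.mv 12 8740 (.split (.sub (.split (.sub (.mv 16 0 (.mv 22 36 (.split (.sub (.leaf (nat_lit 0x161c18021a180c04160408040e140a12080c140a0e) 2 1)
 (.sub (.leaf (nat_lit 0x1a0a14101a180a0608160a0e10140806080c0a10120c) 2 1)
 .nil)))))
 (.sub (.mv 16 0 (.mv 22 36 (.split (.sub (.leaf (nat_lit 0x18160e0a1a100a1406160810140c08100604100e0810) 1 1)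
 (.sub (.leaf (nat_lit 0x16040a12021a0412041604081012140c120e1004140e) 2 1)
 .nil)))))
 .nil)))
 (.sub (.mv (nat_lit 0x40814161a1e202224) 32 (.mv 16 0 (.mv 22 36 (.split (.sub (.leaf (nat_lit 0xa1c1406041a0e0a12181612040e08120c08140e101404) 2 1)
 (.sub (.leaf (nat_lit 0xa061808021a181408180c0e1006120a100e0a1006) 2 1)
 .nil))))))
 .nil)))))
 .nil)))) false 9 18 0) false) false = true := by decide +kernel

theorem cov2_1 {G : Type*} [Group G] [Finite G] (M : Md G par23) : Good (M.d p2A) 2 18 (M.QC [(Ua, 0), j2, j3]) 9 (wv (M.d p2A) 18) :=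
  (p2Pc M).cover (M.relT p2A) ((M.inv_QC _ (by norm_num)).mono le_top) (M.lfC_sound _ _ _ _) cov2_1b

theorem cov2_2b : cnd (Nat.ble 8 18) (cnd (inW 0 18 16) (ptB (rbG par23 p2A) (lfC par23 p2A [(Ua, 0), j2, j3] 18) 2 18 18
 (.split (.sub (.mv 8 (nat_lit 0x161a1c1e202224) (.mv (nat_lit 0x6080c141c1e202224) (nat_lit 0x181a2024) (.mv (nat_lit 0x4060a0c1214181a22) 8228 (.mv 12 30 (.mv 14 (nat_lit 0x1e2224) (.split (.sub (.mv 18 8740 (.kill 16 1 0))
 (.sub (.mv 18 8740 (.kill 16 1 0))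
 .nil))))))))
 (.sub (.split (.sub (.mv 6 8228 (.mv (nat_lit 0x2060c0e161c1e20) (nat_lit 0x1e2224) (.split (.sub (.mv 14 34 (.mv 12 8740 (.mv 18 8740 (.mv (nat_lit 0x80e101a1c1e22) 0 (.mv 26 0 (.leaf (nat_lit 0x10081a121a1806160818040a100608060a140a120812) 2 1))))))
 (.sub (.mv 14 0 (.mv 12 0 (.mv 18 8740 (.mv (nat_lit 0xa0c12161a1e) 0 (.mv 26 0 (.kill 18 1 0))))))
 .nil)))))
 (.sub (.mv 6 (nat_lit 0x1a1c2224) (.mv (nat_lit 0x2060c0e161c1e20) (nat_lit 0x1a1c2024) (.split (.sub (.mv 14 (nat_lit 0x1e2224) (.split (.sub (.mv 18 36 (.split (.sub (.mv 26 0 (.leaf (nat_lit 0x1a1c0a041a0a140e0218100812100614100c080c0406) 2 1))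
 (.sub (.mv 26 0 (.leaf (nat_lit 0x816121a021a1216120c04101208140a120e0a0c06) 2 1))
 .nil))))
 (.sub (.mv 18 36 (.split (.sub (.mv 26 0 (.leaf (nat_lit 0x1c1216141a04081804160e0c1014120e060e1408) 1 1))
 (.sub (.mv 26 0 (.leaf (nat_lit 0x140c1c06021a1418120816120a0804100a120c100814) 2 1))
 .nil))))
 .nil))))
 (.sub (.mv 14 7716 (.mv (nat_lit 0x80e101214161c1e2024) 34 (.mv 18 36 (.mv (nat_lit 0xc121a) 36 (.mv 26 0 (.kill 18 1 0))))))
 .nil)))))
 .nil)))
 .nil))) false 8 16 0) false) false = true := by decide +kernel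

theorem cov2_2 {G : Type*} [Group G] [Finite G] (M : Md G par23) : Good (M.d p2A) 2 18 (M.QC [(Ua, 0), j2, j3]) 8 (wv (M.d p2A) 16) :=
  (p2Pc M).cover (M.relT p2A) ((M.inv_QC _ (by norm_num)).mono le_top) (M.lfC_sound _ _ _ _) cov2_2b

theorem cov2_3b : cnd (Nat.ble 7 18) (cnd (inW 0 18 14) (ptB (rbG par23 p2A) (lfC par23 p2A [(Ua, 0), j2, j3] 18) 2 18 18
 (.mv 8 (nat_lit 0x12141622) (.mv 6 (nat_lit 0x141a1c1e202224) (.mv 12 (nat_lit 0x1a1e2022) (.kill 10 1 (nat_lit 0x16181a1c202224))))) false 7 14 0) false) false = true := by decide +kernel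

theorem cov2_3 {G : Type*} [Group G] [Finite G] (M : Md G par23) : Good (M.d p2A) 2 18 (M.QC [(Ua, 0), j2, j3]) 7 (wv (M.d p2A) 14) :=
  (p2Pc M).cover (M.relT p2A) ((M.inv_QC _ (by norm_num)).mono le_top) (M.lfC_sound _ _ _ _) cov2_3b

theorem cov2_4b : cnd (Nat.ble 6 18) (cnd (inW 0 18 12) (ptB (rbG par23 p2A) (lfC par23 p2A [(Ua, 0), j2, j3] 18) 2 18 18
 (.split (.sub (.mv 6 (nat_lit 0x121416181e20) (.mv 2 (nat_lit 0x14161e2224) (.mv 14 (nat_lit 0x1a1e24) (.mv 10 (nat_lit 0x1a1e2224) (.kill 11 1 7716)))))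
 (.sub (.mv 8 (nat_lit 0x1214161e2224) (.mv (nat_lit 0x6080c141c1e202224) (nat_lit 0x16181e24) (.mv 14 6690 (.split (.sub (.mv 10 (nat_lit 0x1a2224) (.kill 12 1 (nat_lit 0x1c2022)))
 (.sub (.mv 10 6692 (.kill 12 1 (nat_lit 0x1c1e2224)))
 .nil))))))
 .nil))) false 6 12 0) false) false = true := by decide +kernel

theorem cov2_4 {G : Type*} [Group G] [Finite G] (M : Md G par23) : Good (M.d p2A) 2 18 (M.QC [(Ua, 0), j2, j3]) 6 (wv (M.d p2A) 12) :=
  (p2Pc M).cover (M.relT p2A) ((M.inv_QC _ (by norm_num)).mono le_top) (M.lfC_sound _ _ _ _) cov2_4b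

theorem cov2_5b : cnd (Nat.ble 5 18) (cnd (inW 0 18 10) (ptB (rbG par23 p2A) (lfC par23 p2A [(Ua, 0), j2, j3] 18) 2 18 18
 (.split (.sub (.split (.sub (.mv 8 (nat_lit 0x121822) (.split (.sub (.split (.sub (.mv 14 (nat_lit 0x181e2022) (.mv (nat_lit 0xc0e141a22) (nat_lit 0x1a1e2224) (.mv 18 8740 (.kill 13 1 36))))
 (.sub (.mv 14 (nat_lit 0x18202224) (.mv (nat_lit 0xc0e141a22) (nat_lit 0x1a1e2024) (.mv 18 36 (.kill 13 1 7716))))
 .nil)))
 (.sub (.split (.sub (.mv 14 (nat_lit 0x182024) (.mv (nat_lit 0xc0e141a22) 34 (.mv 18 8740 (.split (.sub (.mv 20 8740 (.split (.sub (.split (.sub (.mv 32 0 (.kill 18 1 0))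
 (.sub (.mv 32 0 (.kill 18 1 0))
 .nil)))
 (.sub (.mv (nat_lit 0x6081014181a24) 0 (.mv 32 0 (.leaf (nat_lit 0x161a18040c1a16140218080604140e12101208060a0e) 2 1)))
 .nil))))
 (.sub (.mv 20 8740 (.split (.sub (.mv (nat_lit 0x60810181c202224) 0 (.mv 32 0 (.kill 18 1 0)))
 (.sub (.split (.sub (.mv 32 0 (.leaf (nat_lit 0x1a120c1a021a080c101612060a081008040e0a0e100a04) 2 1))
 (.sub (.mv 32 0 (.leaf (nat_lit 0x1a0e140c1c08120e041608120c1214060e120a140e) 1 1))
 .nil)))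
 .nil))))
 .nil))))))
 (.sub (.mv 14 (nat_lit 0x181e20) (.mv (nat_lit 0xc0e141a22) 32 (.mv 18 36 (.mv (nat_lit 0x60810121a20) (nat_lit 0x202224) (.mv 20 8740 (.kill 15 1 8740))))))
 .nil)))
 .nil))))
 (.sub (.mv 6 (nat_lit 0x14161a2224) (.mv 4 (nat_lit 0x14181c2024) (.mv 12 (nat_lit 0x161e2224) (.kill 10 1 (nat_lit 0x1c1e24)))))
 .nil)))
 (.sub (.split (.sub (.mv 8 (nat_lit 0x1218202224) (.mv (nat_lit 0x2080a0e101214162024) 6686 (.mv 14 (nat_lit 0x16181a24) (.mv 12 6686 (.split (.sub (.split (.sub (.split (.sub (.mv (nat_lit 0x40814161a1e202224) 32 (.mv 24 34 (.mv 26 36 (.kill 17 1 36))))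
 (.sub (.mv (nat_lit 0x60c0e1014161c1e2224) 0 (.mv 24 34 (.mv 26 36 (.kill 17 1 36))))
 .nil)))
 (.sub (.split (.sub (.mv (nat_lit 0x60c0e1014161c1e2224) 8226 (.mv 24 34 (.mv 26 36 (.split (.sub (.leaf (nat_lit 0x160e16141a1604160416060c0a0604120c1208040814) 2 1)
 (.sub (.leaf (nat_lit 0x616021a0402160418120a0c04140810040a0e1008) 2 1)
 .nil))))))
 (.sub (.split (.sub (.mv 24 34 (.mv 26 36 (.split (.sub (.leaf (nat_lit 0x60810181a0e100c0418060814080e0a080a0e0c0a1006) 2 1)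
 (.sub (.leaf (nat_lit 0x120a0e16021a180c1804160a0e0c140412060e14060a06) 2 1)
 .nil)))))
 (.sub (.mv 24 34 (.mv 26 36 (.split (.sub (.leaf (nat_lit 0x12040c141a0c080e160c100810080c060e0a080e08) 1 1)
 (.sub (.leaf (nat_lit 0x1c160a0e021a101816180c060e140a14040a141006) 2 1)
 .nil)))))
 .nil)))
 .nil)))
 .nil)))
 (.sub (.mv (nat_lit 0x60c0e1014161c1e2224) 7202 (.mv (nat_lit 0x406080a0c0e1016181a1c2224) (nat_lit 0x1e2024) (.split (.sub (.mv 24 34 (.kill 16 1 36))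
 (.sub (.mv 24 34 (.kill 16 1 36))
 .nil)))))
 .nil)))))))
 (.sub (.split (.sub (.mv 6 (nat_lit 0x181a1c202224) (.mv 14 (nat_lit 0x16181a24) (.split (.sub (.mv (nat_lit 0xc0e141a22) (nat_lit 0x1a1e2024) (.mv (nat_lit 0x80e101214161c1e2024) 7202 (.mv 16 7712 (.kill 14 1 8228))))
 (.sub (.mv (nat_lit 0xc0e141a22) 6692 (.mv (nat_lit 0x80e101214161c1e2024) (nat_lit 0x1c1e202224) (.mv 16 (nat_lit 0x1e202224) (.kill 14 1 (nat_lit 0x1e2224)))))
 .nil)))))
 (.sub (.mv 6 (nat_lit 0x141a1c) (.mv 14 (nat_lit 0x16181a1c1e22) (.split (.sub (.mv (nat_lit 0xc0e141a22) (nat_lit 0x1c1e20) (.mv (nat_lit 0x80c0e1012161a1c22) (nat_lit 0x1c2224) (.mv 16 7712 (.mv 22 8228 (.kill 15 1 8228)))))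
 (.sub (.mv (nat_lit 0xc0e141a22) 28 (.mv (nat_lit 0x80c0e1012161a1c22) (nat_lit 0x1c1e2022) (.mv 16 (nat_lit 0x1e202224) (.mv 22 8228 (.split (.sub (.split (.sub (.split (.sub (.leaf (nat_lit 0x1c0614121a0a04120218080c08040e040a1006100810) 1 1)
 (.sub (.leaf (nat_lit 0xe140a1c18100a141608140e100c08040a120a10) 2 1)
 .nil)))
 (.sub (.split (.sub (.leaf (nat_lit 0x80e16021a140a120218060c0612140c080c040c10) 2 1)
 (.sub (.leaf (nat_lit 0x1c0e161c081a1816181608140e061208060e04120a0c) 2 1)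
 .nil)))
 .nil)))
 (.sub (.split (.sub (.split (.sub (.leaf (nat_lit 0x18101c0c1a1806100c160c0a0c100a0e100c06080c08) 2 1)
 (.sub (.leaf (nat_lit 0x1c12101a1c0a140a061610080e0406120a120e1008) 2 1)
 .nil)))
 (.sub (.split (.sub (.leaf (nat_lit 0x120e1c08061a04080418040e0806120812040e120c0a06) 2 1)
 (.sub (.leaf (nat_lit 0x1c1a060a021a06120e08181206140e0c120c100410120a) 2 1)
 .nil)))
 .nil)))
 .nil)))))))
 .nil)))))
 .nil)))
 .nil)))
 .nil))) false 5 10 0) false) false = true := by decide +kernel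

theorem cov2_5 {G : Type*} [Group G] [Finite G] (M : Md G par23) : Good (M.d p2A) 2 18 (M.QC [(Ua, 0), j2, j3]) 5 (wv (M.d p2A) 10) :=
  (p2Pc M).cover (M.relT p2A) ((M.inv_QC _ (by norm_num)).mono le_top) (M.lfC_sound _ _ _ _) cov2_5b

theorem cov2_6b : cnd (Nat.ble 4 18) (cnd (inW 0 18 8) (ptB (rbG par23 p2A) (lfC par23 p2A [(Ua, 0), j2, j3] 18) 2 18 18
 (.mv 2 (nat_lit 0xe1012181c1e22) (.mv 6 (nat_lit 0x1012181a1e24) (.split (.sub (.mv 14 (nat_lit 0x1214161e2224) (.kill 8 1 (nat_lit 0x1214181a1c24)))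
 (.sub (.mv 14 (nat_lit 0x1214161c1e2024) (.split (.sub (.mv 18 (nat_lit 0x161a22) (.kill 10 1 (nat_lit 0x1e2024)))
 (.sub (.mv 18 (nat_lit 0x161a2224) (.mv (nat_lit 0xc121a) (nat_lit 0x1a202224) (.kill 11 1 (nat_lit 0x1a1e2024))))
 .nil))))
 .nil))))) false 4 8 0) false) false = true := by decide +kernel

theorem cov2_6 {G : Type*} [Group G] [Finite G] (M : Md G par23) : Good (M.d p2A) 2 18 (M.QC [(Ua, 0), j2, j3]) 4 (wv (M.d p2A) 8) :=
  (p2Pc M).cover (M.relT p2A) ((M.inv_QC _ (by norm_num)).mono le_top) (M.lfC_sound _ _ _ _) cov2_6b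

theorem cov2_7b : cnd (Nat.ble 3 18) (cnd (inW 0 18 6) (ptB (rbG par23 p2A) (lfC par23 p2A [(Ua, 0), j2, j3] 18) 2 18 18
 (.split (.sub (.mv 4 (nat_lit 0x12181c1e2024) (.kill 5 1 (nat_lit 0xc10161a1c1e202224)))
 (.sub (.mv 4 (nat_lit 0xc101e2024) (.kill 5 1 (nat_lit 0x12181a1c202224)))
 .nil))) false 3 6 0) false) false = true := by decide +kernel

theorem cov2_7 {G : Type*} [Group G] [Finite G] (M : Md G par23) : Good (M.d p2A) 2 18 (M.QC [(Ua, 0), j2, j3]) 3 (wv (M.d p2A) 6) :=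
  (p2Pc M).cover (M.relT p2A) ((M.inv_QC _ (by norm_num)).mono le_top) (M.lfC_sound _ _ _ _) cov2_7b

theorem cov2_8b : cnd (Nat.ble 3 18) (cnd (inW 0 18 4) (ptB (rbG par23 p2A) (lfC par23 p2A [(Ua, 0), j2, j3] 18) 2 18 18
 (.split (.sub (.mv 6 (nat_lit 0x1216181c24) (.mv 8 (nat_lit 0x14162224) (.kill 6 1 (nat_lit 0x101216181c1e202224))))
 (.sub (.mv 6 (nat_lit 0xc1214181a24) (.mv 8 (nat_lit 0x14162224) (.split (.sub (.split (.sub (.mv 14 (nat_lit 0x1a1c1e2024) (.split (.sub (.mv 16 7714 (.kill 11 1 (nat_lit 0x1a1e24)))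
 (.sub (.mv 16 30 (.kill 11 1 (nat_lit 0x202224)))
 .nil))))
 (.sub (.mv 14 26 (.split (.sub (.mv 16 7716 (.split (.sub (.mv 24 7712 (.kill 13 1 (nat_lit 0x202224)))
 (.sub (.mv 24 7712 (.split (.sub (.mv 28 0 (.kill 15 1 8740))
 (.sub (.mv 28 0 (.split (.sub (.mv 32 36 (.kill 17 1 36))
 (.sub (.mv 32 36 (.split (.sub (.leaf (nat_lit 0x1c101c100c08180e08040e121412040e100806) 2 1)
 (.sub (.leaf (nat_lit 0x120e16141a1814180418040a06140a0c141004121406) 1 1)
 .nil))))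
 .nil))))
 .nil))))
 .nil))))
 (.sub (.mv 16 (nat_lit 0x1e2224) (.split (.sub (.mv 24 (nat_lit 0x1e2024) (.split (.sub (.mv 28 0 (.kill 15 1 8740))
 (.sub (.mv 28 0 (.split (.sub (.mv 32 36 (.kill 17 1 36))
 (.sub (.mv 32 36 (.mv (nat_lit 0xc101a1c1e2224) 0 (.leaf (nat_lit 0x1a12141a12061610080c14041214100c0a0e0604) 2 1)))
 .nil))))
 .nil))))
 (.sub (.mv 24 (nat_lit 0x1e2024) (.kill 13 1 8226))
 .nil))))
 .nil))))
 .nil)))
 (.sub (.split (.sub (.mv 14 (nat_lit 0x1a1c2022) (.kill 9 1 (nat_lit 0x14181a24)))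
 (.sub (.mv 14 (nat_lit 0x1a1e2224) (.kill 9 1 (nat_lit 0x1416181a1c1e)))
 .nil)))
 .nil)))))
 .nil))) false 3 4 0) false) false = true := by decide +kernel

theorem cov2_8 {G : Type*} [Group G] [Finite G] (M : Md G par23) : Good (M.d p2A) 2 18 (M.QC [(Ua, 0), j2, j3]) 3 (wv (M.d p2A) 4) :=
  (p2Pc M).cover (M.relT p2A) ((M.inv_QC _ (by norm_num)).mono le_top) (M.lfC_sound _ _ _ _) cov2_8b

theorem cov2_9b : cnd (Nat.ble 3 18) (cnd (inW 0 18 1030) (ptB (rbG par23 p2A) (lfC par23 p2A [(Ua, 0), j2, j3] 18) 2 18 18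
 (.split (.sub (.mv 6 (nat_lit 0x10141a1e2224) (.split (.sub (.split (.sub (.mv 14 (nat_lit 0x121416202224) (.split (.sub (.split (.sub (.mv (nat_lit 0x80e101214161c1e2024) (nat_lit 0x181a1c1e202224) (.mv 18 28 (.mv (nat_lit 0xc0e12141e24) (nat_lit 0x202224) (.mv 20 8226 (.kill 14 1 (nat_lit 0x202224))))))
 (.sub (.mv (nat_lit 0x80e101214161c1e2024) (nat_lit 0x181a1c1e2022) (.mv 18 (nat_lit 0x1c2224) (.mv (nat_lit 0xc0e12141e24) 34 (.mv 20 8226 (.split (.sub (.split (.sub (.split (.sub (.mv 34 0 (.leaf (nat_lit 0x1812081c12181618100c0e1004120e100806100c) 1 1))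
 (.sub (.mv 34 0 (.kill 18 1 0))
 .nil)))
 (.sub (.split (.sub (.mv 34 0 (.kill 18 1 0))
 (.sub (.mv 34 0 (.leaf (nat_lit 0x120c1a121a08100406160a04060e0a080c1204140c12) 2 1))
 .nil)))
 .nil)))
 (.sub (.split (.sub (.split (.sub (.mv 34 0 (.leaf (nat_lit 0x80c060a081a18040c18080e06140e04120c0804100c) 2 1))
 (.sub (.mv 34 0 (.kill 18 1 0))
 .nil)))
 (.sub (.split (.sub (.mv 34 0 (.kill 18 1 0))
 (.sub (.mv 34 0 (.leaf (nat_lit 0xc16061a021606181614080a080a12140e0c0a0412) 2 1))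
 .nil)))
 .nil)))
 .nil)))))))
 .nil)))
 (.sub (.mv (nat_lit 0x80e101214161c1e2024) (nat_lit 0x181c1e22) (.split (.sub (.mv 18 7204 (.kill 12 1 32))
 (.sub (.mv 18 (nat_lit 0x1c2224) (.kill 12 1 (nat_lit 0x202224)))
 .nil))))
 .nil))))
 (.sub (.mv 14 (nat_lit 0x1214161c24) (.kill 8 1 (nat_lit 0x12181a202224)))
 .nil)))
 (.sub (.split (.sub (.mv 14 (nat_lit 0x12161a1e2224) (.kill 8 1 (nat_lit 0x1214181a1c1e2024)))
 (.sub (.mv 14 (nat_lit 0x12161a1c2022) (.split (.sub (.split (.sub (.mv 8 (nat_lit 0x181a1c22) (.mv 18 (nat_lit 0x1a1c1e22) (.mv 10 (nat_lit 0x1c1e24) (.kill 13 1 0))))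
 (.sub (.mv 8 (nat_lit 0x181a1c1e22) (.mv 18 (nat_lit 0x1a1c1e24) (.mv 10 28 (.kill 13 1 28))))
 .nil)))
 (.sub (.mv 8 (nat_lit 0x181c1e) (.split (.sub (.mv 18 (nat_lit 0x1a1c1e2224) (.kill 12 1 (nat_lit 0x1c1e24)))
 (.sub (.mv 18 (nat_lit 0x1a1c1e24) (.kill 12 1 (nat_lit 0x1c202224)))
 .nil))))
 .nil))))
 .nil)))
 .nil))))
 (.sub (.mv 6 (nat_lit 0xc10161c1e2224) (.split (.sub (.mv 2 (nat_lit 0x121416181a) (.mv 12 (nat_lit 0x121416181a1e22) (.split (.sub (.mv 18 (nat_lit 0x16181a1e202224) (.mv (nat_lit 0x80c1e24) 7712 (.split (.sub (.split (.sub (.mv 24 34 (.mv 26 32 (.split (.sub (.split (.sub (.split (.sub (.leaf (nat_lit 0x100e0c061a0a0e1404180c100e0a120a120c0a10140e) 2 1)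
 (.sub (.leaf (nat_lit 0x4181a06021a0816101806040e100a140c14080e0a04) 2 1)
 .nil)))
 (.sub (.split (.sub (.leaf (nat_lit 0x6041c0e1a18061408160812040608061406120c120a04) 2 1)
 (.sub (.leaf (nat_lit 0x180e100a1a140c02180a0e040e0c0a1014060e0806) 2 1)
 .nil)))
 .nil)))
 (.sub (.split (.sub (.split (.sub (.leaf (nat_lit 0x180a1c081a18040c0e1608060a080c0e0804140c1014) 2 1)
 (.sub (.leaf (nat_lit 0x6160e121a0a0e16080c0a0604120a12080604) 2 1)
 .nil)))
 (.sub (.split (.sub (.leaf (nat_lit 0x1a0216121a14041204160c06100e0814060c0e0c0a06) 2 1)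
 (.sub (.leaf (nat_lit 0xc180c181a1418120416060e060e040c120e141008) 1 1)
 .nil)))
 .nil)))
 .nil)))))
 (.sub (.mv 24 34 (.mv 26 32 (.kill 15 1 32)))
 .nil)))
 (.sub (.split (.sub (.mv 24 34 (.kill 14 1 34))
 (.sub (.mv 24 34 (.kill 14 1 (nat_lit 0x1e2022)))
 .nil)))
 .nil)))))
 (.sub (.mv 18 (nat_lit 0x16181a1e202224) (.kill 10 1 (nat_lit 0x16181a1e20)))
 .nil)))))
 (.sub (.mv 2 (nat_lit 0x14181a24) (.mv 12 (nat_lit 0x121416181a1e22) (.kill 8 1 (nat_lit 0x1214181a22))))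
 .nil))))
 .nil))) false 3 1030 0) false) false = true := by decide +kernel

theorem cov2_9 {G : Type*} [Group G] [Finite G] (M : Md G par23) : Good (M.d p2A) 2 18 (M.QC [(Ua, 0), j2, j3]) 3 (wv (M.d p2A) 1030) :=
  (p2Pc M).cover (M.relT p2A) ((M.inv_QC _ (by norm_num)).mono le_top) (M.lfC_sound _ _ _ _) cov2_9b

theorem cov2_10b : cnd (Nat.ble 2 18) (cnd (inW 0 18 2) (ptB (rbG par23 p2A) (lfC par23 p2A [(Ua, 0), j2, j3] 18) 2 18 18
 (.split (.sub (.split (.sub (.mv 8 (nat_lit 0xe1012181e2022) (.kill 5 1 (nat_lit 0xe2224)))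
 (.sub (.mv 8 (nat_lit 0xe101214162024) (.split (.sub (.mv 6 (nat_lit 0x1014161a1e22) (.split (.sub (.mv 12 (nat_lit 0x14161a1e2024) (.mv 14 7712 (.mv 16 (nat_lit 0x181e24) (.split (.sub (.mv 24 (nat_lit 0x1e2024) (.kill 13 1 8228))
 (.sub (.mv 24 (nat_lit 0x1e2024) (.split (.sub (.mv 28 0 (.kill 15 1 0))
 (.sub (.mv 28 0 (.split (.sub (.mv 32 36 (.mv (nat_lit 0x161824) 0 (.leaf (nat_lit 0x1c0a0c0e1a16100608160a1012041004140a060c1206) 2 1)))
 (.sub (.mv 32 36 (.kill 17 1 36))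
 .nil))))
 .nil))))
 .nil))))))
 (.sub (.mv 12 (nat_lit 0x14162224) (.mv 14 7200 (.mv 16 (nat_lit 0x181e2224) (.kill 11 1 (nat_lit 0x181a1e)))))
 .nil))))
 (.sub (.mv 6 (nat_lit 0x1214181a20) (.split (.sub (.mv 12 5142 (.kill 9 1 5156))
 (.sub (.mv 12 (nat_lit 0x14161a1e202224) (.kill 9 1 (nat_lit 0x1416181a24)))
 .nil))))
 .nil))))
 .nil)))
 (.sub (.split (.sub (.mv 8 (nat_lit 0xc0e121a1c1e2224) (.mv 6 (nat_lit 0xe161c1e20) (.split (.sub (.mv 14 (nat_lit 0x16181c2022) (.split (.sub (.split (.sub (.split (.sub (.mv 18 (nat_lit 0x1a1c1e22) (.mv 22 (nat_lit 0x1e202224) (.mv (nat_lit 0x141624) 8226 (.kill 14 1 8226))))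
 (.sub (.mv 18 (nat_lit 0x1a1c1e) (.mv 22 (nat_lit 0x1e202224) (.kill 13 1 (nat_lit 0x1c1e24))))
 .nil)))
 (.sub (.split (.sub (.mv 18 (nat_lit 0x1a1c1e24) (.mv 22 (nat_lit 0x1e2022) (.kill 13 1 (nat_lit 0x1e2022))))
 (.sub (.mv 18 (nat_lit 0x1a1c1e2224) (.mv 22 (nat_lit 0x1e2022) (.mv (nat_lit 0x141624) 8226 (.mv (nat_lit 0xc0e121e2024) (nat_lit 0x202224) (.mv (nat_lit 0x10162224) 34 (.split (.sub (.mv 34 0 (.leaf (nat_lit 0x81a0406041a0612040c1814060c10060e040a04101204) 2 1))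
 (.sub (.mv 34 0 (.kill 18 1 0))
 .nil))))))))
 .nil)))
 .nil)))
 (.sub (.split (.sub (.split (.sub (.mv 18 (nat_lit 0x1a1c1e2224) (.kill 12 1 (nat_lit 0x1a1e202224)))
 (.sub (.mv 18 (nat_lit 0x1a1c1e24) (.kill 12 1 8740))
 .nil)))
 (.sub (.split (.sub (.mv 18 (nat_lit 0x1a1c1e) (.kill 12 1 (nat_lit 0x1c2024)))
 (.sub (.mv 18 (nat_lit 0x1a1c1e22) (.kill 12 1 (nat_lit 0x1a1c1e)))
 .nil)))
 .nil)))
 .nil))))
 (.sub (.mv 14 (nat_lit 0x16182022) (.kill 8 1 (nat_lit 0x141a1c2022)))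
 .nil)))))
 (.sub (.mv 8 (nat_lit 0xc0e12181c) (.kill 5 1 (nat_lit 0xc0e1014181c1e24)))
 .nil)))
 .nil))) false 2 2 0) false) false = true := by decide +kernel

theorem cov2_10 {G : Type*} [Group G] [Finite G] (M : Md G par23) : Good (M.d p2A) 2 18 (M.QC [(Ua, 0), j2, j3]) 2 (wv (M.d p2A) 2) :=
  (p2Pc M).cover (M.relT p2A) ((M.inv_QC _ (by norm_num)).mono le_top) (M.lfC_sound _ _ _ _) cov2_10b

theorem cov2_11b : cnd (Nat.ble 2 18) (cnd (inW 0 18 516) (ptB (rbG par23 p2A) (lfC par23 p2A [(Ua, 0), j2, j3] 18) 2 18 18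
 (.split (.sub (.split (.sub (.mv 8 (nat_lit 0xc0e101624) (.split (.sub (.split (.sub (.mv (nat_lit 0x6080c141c1e202224) (nat_lit 0x1214161c1e20) (.mv 14 7716 (.kill 9 1 (nat_lit 0x14161a24))))
 (.sub (.split (.sub (.mv 14 0 (.split (.sub (.mv (nat_lit 0x6080c0e1016181a1c1e24) (nat_lit 0x1c1e20) (.mv 16 (nat_lit 0x1c1e24) (.kill 12 1 (nat_lit 0x1c1e2024))))
 (.sub (.mv (nat_lit 0x6080c0e1016181a1c1e24) (nat_lit 0x1a2024) (.mv 16 (nat_lit 0x1c1e2224) (.kill 12 1 (nat_lit 0x1a1c20))))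
 .nil))))
 (.sub (.mv 14 (nat_lit 0x1c1e20) (.split (.sub (.split (.sub (.mv 16 7198 (.mv 22 36 (.mv (nat_lit 0xc0e141a22) 8740 (.mv (nat_lit 0x141624) 8740 (.split (.sub (.mv 18 0 (.mv 32 0 (.leaf (nat_lit 0x1a060e181a180a0e1416040c0a0c10120c0e080e0804) 2 1)))
 (.sub (.mv 18 0 (.mv 32 0 (.kill 18 1 0)))
 .nil)))))))
 (.sub (.mv 16 (nat_lit 0x1c1e22) (.mv 22 36 (.kill 13 1 36)))
 .nil)))
 (.sub (.split (.sub (.mv 16 (nat_lit 0x1c1e22) (.mv 22 0 (.kill 13 1 (nat_lit 0x1e2224))))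
 (.sub (.mv 16 7198 (.mv 22 0 (.mv (nat_lit 0xc0e141a22) 7716 (.mv (nat_lit 0x141624) 8740 (.kill 15 1 8740)))))
 .nil)))
 .nil))))
 .nil)))
 .nil)))
 (.sub (.split (.sub (.split (.sub (.mv 14 20 (.split (.sub (.split (.sub (.mv 16 6686 (.mv 22 (nat_lit 0x1e2022) (.kill 13 1 (nat_lit 0x1e2022))))
 (.sub (.mv 16 (nat_lit 0x1a1e22) (.mv 22 (nat_lit 0x1e2022) (.mv (nat_lit 0x6080c1014181c202224) 8226 (.mv (nat_lit 0xc0e14161a1e2022) 8740 (.split (.sub (.split (.sub (.split (.sub (.leaf (nat_lit 0x1a0e06161a0e16180410080a141208100c120a0c) 2 1)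
 (.sub (.leaf (nat_lit 0x1418061a0e081804160e0a12060e040c120a0e08) 2 1)
 .nil)))
 (.sub (.split (.sub (.leaf (nat_lit 0x1c080c081a080a161816080a12140e0610080c0a14) 1 1)
 (.sub (.leaf (nat_lit 0x8141a081c061418141606140408040a080608100a04) 2 1)
 .nil)))
 .nil)))
 (.sub (.mv (nat_lit 0x4080c0e1012161e20) 0 (.split (.sub (.leaf (nat_lit 0x18021c0c041a0a0c180e16040a060e0806100412140608) 2 1)
 (.sub (.leaf (nat_lit 0x816121a021a12160c120c12060c0e0a0c140e0c) 2 1)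
 .nil))))
 .nil)))))))
 .nil)))
 (.sub (.split (.sub (.mv 16 (nat_lit 0x1a1e22) (.mv 22 (nat_lit 0x1e202224) (.split (.sub (.mv (nat_lit 0x6080c101416181c202224) 0 (.split (.sub (.split (.sub (.split (.sub (.leaf (nat_lit 0x160a0e121a080e12160e080c0a080e060c040a0c) 1 1)
 (.sub (.leaf (nat_lit 0x8160a1c06120a1808041408061004140a040812) 2 1)
 .nil)))
 (.sub (.mv (nat_lit 0x4060a0c0e161a1c1e24) 0 (.leaf (nat_lit 0x1408061a021a0e0a180e16060804120604080a100e1404) 2 1))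
 .nil)))
 (.sub (.split (.sub (.mv (nat_lit 0xc0e14161a1e2022) 0 (.leaf (nat_lit 0xa1208161a08140e180c04120e120a0c0812101406) 2 1))
 (.sub (.mv (nat_lit 0xc0e14161a1e2022) 0 (.leaf (nat_lit 0xa141a1c1a0e08040c16100e12140a10080a120c04) 2 1))
 .nil)))
 .nil))))
 (.sub (.split (.sub (.split (.sub (.split (.sub (.split (.sub (.leaf (nat_lit 0x100a1c0e1c0c1810121606040c101410040e040e1204) 0 1)
 (.sub (.leaf (nat_lit 0xa121c0e1c16041218040c0804080e0812140c0e06) 2 1)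
 .nil)))
 (.sub (.mv (nat_lit 0x6080c101416181c202224) 0 (.leaf (nat_lit 0x604120c1a1218140e180e06120a100e101412040a04) 2 1))
 .nil)))
 (.sub (.mv (nat_lit 0x6080c101416181c202224) 0 (.mv (nat_lit 0xc0e14161a1e2022) 0 (.leaf (nat_lit 0xe08040a081a160a1016060e0a14120a10040c0a0e10) 2 1)))
 .nil)))
 (.sub (.split (.sub (.split (.sub (.split (.sub (.leaf (nat_lit 0x10061c181c100406160e061014060814100a0c040e) 2 1)
 (.sub (.leaf (nat_lit 0x160c0e08041a1606140c16100c06080a0e141014120a0e) 1 1)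
 .nil)))
 (.sub (.mv (nat_lit 0x6080c101416181c202224) 0 (.leaf (nat_lit 0x61c08061a0616080c160a140a0c0414040a14101206) 2 1))
 .nil)))
 (.sub (.mv (nat_lit 0x6080c101416181c202224) 0 (.mv (nat_lit 0xc0e14161a1e2022) 0 (.leaf (nat_lit 0x1410040c1c160e0c16120c06041412040a0c0a140e) 2 1)))
 .nil)))
 .nil)))
 .nil)))))
 (.sub (.mv 16 6686 (.mv 22 (nat_lit 0x1e202224) (.kill 13 1 (nat_lit 0x1e202224))))
 .nil)))
 .nil))))
 (.sub (.mv 14 (nat_lit 0x141c1e202224) (.split (.sub (.mv (nat_lit 0x6080c141c1e202224) (nat_lit 0x1a1c2024) (.mv 16 6686 (.kill 12 1 34)))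
 (.sub (.mv (nat_lit 0x6080c141c1e202224) (nat_lit 0x202224) (.mv 16 (nat_lit 0x1a1e22) (.kill 12 1 (nat_lit 0x1a1e2022))))
 .nil))))
 .nil)))
 (.sub (.mv (nat_lit 0x6080c141c1e202224) (nat_lit 0x141820) (.mv 14 20 (.kill 9 1 (nat_lit 0x16181c1e))))
 .nil)))
 .nil))))
 (.sub (.mv 8 (nat_lit 0xc0e1016181a1c) (.kill 5 1 (nat_lit 0xc0e181c1e202224)))
 .nil)))
 (.sub (.split (.sub (.mv 8 (nat_lit 0xe101216181a1c22) (.mv (nat_lit 0x6080c141c1e202224) (nat_lit 0x10121a1c1e24) (.mv (nat_lit 0x406080a12181e24) (nat_lit 0x1214181a1c202224) (.kill 7 1 (nat_lit 0x101416202224)))))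
 (.sub (.mv 8 (nat_lit 0xe1012141a1c20) (.kill 5 1 (nat_lit 0x1014202224)))
 .nil)))
 .nil))) false 2 516 0) false) false = true := by decide +kernel

theorem cov2_11 {G : Type*} [Group G] [Finite G] (M : Md G par23) : Good (M.d p2A) 2 18 (M.QC [(Ua, 0), j2, j3]) 2 (wv (M.d p2A) 516) :=
  (p2Pc M).cover (M.relT p2A) ((M.inv_QC _ (by norm_num)).mono le_top) (M.lfC_sound _ _ _ _) cov2_11b

noncomputable def cov2L : List (ℕ × ℕ) := [(9, 0), (9, 18), (8, 16), (7, 14),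
 (6, 12), (5, 10), (4, 8), (3, 6),
 (3, 4), (3, 1030), (2, 2), (2, 516)]

theorem cov2b : cnd (Nat.ble 0 18) (cnd (inW 0 18 0) (ptB (rbG par23 p2A) (lfL cov2L) 2 18 18
 (.split (.sub (.split (.sub (.split (.sub (.split (.sub (.split (.sub (.split (.sub (.split (.sub (.split (.sub (.split (.sub (.leaf 0 0 0)
 (.sub (.leaf 1 0 0)
 .nil)))
 (.sub (.leaf 2 0 0)
 .nil)))
 (.sub (.leaf 3 0 0)
 .nil)))
 (.sub (.leaf 4 0 0)
 .nil)))
 (.sub (.leaf 5 0 0)
 .nil)))
 (.sub (.leaf 6 0 0)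
 .nil)))
 (.sub (.leaf 7 0 0)
 .nil)))
 (.sub (.split (.sub (.leaf 8 0 0)
 (.sub (.leaf 9 0 0)
 .nil)))
 .nil)))
 (.sub (.split (.sub (.leaf 10 0 0)
 (.sub (.leaf 11 0 0)
 .nil)))
 .nil))) false 0 0 0) false) false = true := by decide +kernel

theorem cov2 {G : Type*} [Group G] [Finite G] (M : Md G par23) : Good (M.d p2A) 2 18 (M.QC [(Ua, 0), j2, j3]) 0 (wv (M.d p2A) 0) :=
  (p2Pc M).cover (M.relT p2A) ((M.inv_QC _ (by norm_num)).mono le_top) (lfL_sound (L := cov2L) (goodL_cons (cov2_0 M) (goodL_cons (cov2_1 M) (goodL_cons (cov2_2 M) (goodL_cons (cov2_3 M)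
  (goodL_cons (cov2_4 M) (goodL_cons (cov2_5 M) (goodL_cons (cov2_6 M) (goodL_cons (cov2_7 M)
  (goodL_cons (cov2_8 M) (goodL_cons (cov2_9 M) (goodL_cons (cov2_10 M) (goodL_cons (cov2_11 M)
  goodL_nil))))))))))))) cov2b

end Cfsg.Lib.Fi.B23
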