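import Cfsg.Agent.Lib.Fi.W4
import Cfsg.Agent.Lib.Fi.S24

set_option maxRecDepth 100000
set_option Elab.async false

namespace Cfsg.Lib.Fi.B24

open Cfsg.Lib.Comp Cfsg.Lib.Fi

noncomputable def Ua : ℕ := (nat_lit 0x1e160a1e061c16)

noncomputable def Ub : ℕ := (nat_lit 0x1a1c121418)

noncomputable def Uc : ℕ := 0

noncomputable def Ud : ℕ := 6166

noncomputable def Un : ℕ := 30

noncomputable def G4_1W : List (ℕ × ℕ) := apd [(0, (nat_lit 0x4100a100c120a120e08)),
 (0, (nat_lit 0xc0608140c08120c04060c08)),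
 (0, (nat_lit 0xc0608140c08120c04060c08)),
 (0, (nat_lit 0xa0c08140a080e0c0e0c060e)),
 (0, (nat_lit 0x120c120406080a0c0e0c0a0e04)),
 (0, (nat_lit 0x40c040c08140a0c061406140a08)),
 (0, (nat_lit 0xc12100e1004080c1208041204)),
 (0, (nat_lit 0xc100a100a1210120c0a140c08)),
 (0, (nat_lit 0x40e0c12080e0c061204))] []

theorem G4_1b : lvB par24 G4_1W [] 5660 (nat_lit 0x20212020a1202081202041202) 648 = true := by decide +kernel

theorem G4_1 {G : Type*} [Group G] [Finite G] (M : Md G par24) : M.LB G4_1W 648 :=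
  Md.LB.step G4_1b (Md.LB.one M _)

noncomputable def G4_0W : List (ℕ × ℕ) := apd [(0, (nat_lit 0x100e1208)),
 (0, 2),
 (0, 4),
 (0, (nat_lit 0x1210080c)),
 (0, (nat_lit 0x140e040c))] G4_1W

theorem G4_0b : lvB par24 G4_0W G4_1W Un (nat_lit 0x2060a06080602060a06080602060a06080602060a060806020604) 163840 = true := by decide +kernel

theorem G4_0 {G : Type*} [Group G] [Finite G] (M : Md G par24) : M.LB G4_0W 106168320 :=
  Md.LB.step G4_0b (G4_1 M)

noncomputable def L3 : List (ℕ × ℕ) := [(0, 2),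
 (0, 4),
 (0, 6),
 (0, 8),
 (0, 10),
 (0, 12),
 (0, 14),
 (0, 16),
 (0, 18),
 (0, 20)]

noncomputable def L2 : List (ℕ × ℕ) := apd [(0, 22),
 (0, 24)] L3

noncomputable def L1 : List (ℕ × ℕ) := apd [(0, 26),
 (0, 28)] L2

noncomputable def L0 : List (ℕ × ℕ) := apd [(0, 30),
 (0, 32)] L1

theorem G3b : lvB par24 L3 G4_0W Ud (nat_lit 0x80e060a1214040e0c0a0806) 693 = true := by decide +kernel

theorem G3w : leA par24 L3 G4_0W [(nat_lit 0x100e1208),
 2,
 4,
 (nat_lit 0x1210080c),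
 (nat_lit 0x140e040c),
 (nat_lit 0x4100a100c120a120e08),
 (nat_lit 0xc0608140c08120c04060c08),
 (nat_lit 0xc0608140c08120c04060c08),
 (nat_lit 0xa0c08140a080e0c0e0c060e),
 (nat_lit 0x120c120406080a0c0e0c0a0e04),
 (nat_lit 0x40c040c08140a0c061406140a08),
 (nat_lit 0xc12100e1004080c1208041204),
 (nat_lit 0xc100a100a1210120c0a140c08),
 (nat_lit 0x40e0c12080e0c061204)] = true := by decide +kernel

theorem G3 {G : Type*} [Group G] [Finite G] (M : Md G par24) : M.LB L3 73574645760 :=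
  Md.LB.step' G3b G3w (G4_0 M)

theorem G2b : lvB par24 L2 L3 Uc (nat_lit 0x20c160a120402080e1614100c0a0402) 3510 = true := by decide +kernel

theorem G2 {G : Type*} [Group G] [Finite G] (M : Md G par24) : M.LB L2 258247006617600 :=
  Md.LB.step G2b (G3 M)

theorem G1b : lvB par24 L1 L2 Ub (nat_lit 0x20c1206161808040e021c1a12100c08060402) 31671 = true := by decide +kernel

theorem G1 {G : Type*} [Group G] [Finite G] (M : Md G par24) : M.LB L1 8178940946586009600 :=
  Md.LB.step G1b (G2 M)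

theorem G0b : lvB par24 L0 L1 Ua (nat_lit 0x21a0c02180a041c2016061e021a1812100c0a08060402) 306936 = true := by decide +kernel

theorem G0 {G : Type*} [Group G] [Finite G] (M : Md G par24) : M.LB L0 2510411418381323442585600 :=
  Md.LB.step G0b (G1 M)

theorem K0 {G : Type*} [Group G] [Finite G] (S : S24 G) : S.M.KE (S.M.st [] []) L0 2510411418381323442585600 := Md.KE.top (G0 S.M) S.card

theorem K1p : presB par24 L1 [] [] = true := by decide +kernel

theorem K1 {G : Type*} [Group G] [Finite G] (S : S24 G) : S.M.KE (S.M.st [(Ua, 0)] []) L1 8178940946586009600 :=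
  (K0 S).dn G0b K1p (G1 S.M) (by norm_num)

theorem K2p : presB par24 L2 [(Ua, 0)] [] = true := by decide +kernel

theorem K2 {G : Type*} [Group G] [Finite G] (S : S24 G) : S.M.KE (S.M.st [(Ub, 0),
 (Ua, 0)] []) L2 258247006617600 :=
  (K1 S).dn G1b K2p (G2 S.M) (by norm_num)

theorem K3p : presB par24 L3 [(Ub, 0),
 (Ua, 0)] [] = true := by decide +kernel

theorem K3 {G : Type*} [Group G] [Finite G] (S : S24 G) : S.M.KE (S.M.st [(Uc, 0),
 (Ub, 0),
 (Ua, 0)] []) L3 73574645760 :=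
  (K2 S).dn G2b K3p (G3 S.M) (by norm_num)

theorem K4p : presB par24 G4_0W [(Uc, 0),
 (Ub, 0),
 (Ua, 0)] [] = true := by decide +kernel

theorem K4 {G : Type*} [Group G] [Finite G] (S : S24 G) : S.M.KE (S.M.st [(Ud, 0),
 (Uc, 0),
 (Ub, 0),
 (Ua, 0)] []) G4_0W 106168320 :=
  (K3 S).dn G3b K4p (G4_0 S.M) (by norm_num)

theorem t2 : trB par24 L1 [(Ua, 0)] [] (nat_lit 0x20c1206161808040e021c1a12100c08060402) Ub = true := by decide +kernel

theorem t3 : trB par24 L2 [(Ub, 0),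
 (Ua, 0)] [] (nat_lit 0x20c160a120402080e1614100c0a0402) Uc = true := by decide +kernel

theorem t4 : trB par24 L3 [(Uc, 0),
 (Ub, 0),
 (Ua, 0)] [] (nat_lit 0x80e060a1214040e0c0a0806) Ud = true := by decide +kernel

theorem tN : trB par24 L1 [] [(Ua, 0)] (nat_lit 0x21c100e040c081a060212041018140e0c0a08060402) Un = true := by decide +kernel

theorem cntD : Nat.beq (pc par24.w par24.K (Nat.land (ones par24.n) (ones par24.n))) 306936 = true := by decide +kernel

noncomputable def oa : List (ℕ × ℕ) := [(0, 0),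
 (6166, 0),
 (5656, 0),
 ((nat_lit 0x61816), 0),
 ((nat_lit 0x16061816), 0),
 ((nat_lit 0x4121618), 0),
 ((nat_lit 0x604061816), 0)]

theorem oab : cnd (memB par24 oa (Ua, 0) 0x020406080a0c0e) (cnd (ptsB oa) (subS (ptS par24 oa) (candS par24 [(Ua, 0)] [])) false) false = true := by decide +kernel

noncomputable def oa2 : List (ℕ × ℕ) := [(0, 0),
 (6166, 0),
 (5656, 0),
 ((nat_lit 0x61816), 0),
 ((nat_lit 0x16061816), 0),
 ((nat_lit 0x4121618), 0),
 ((nat_lit 0x604061816), 0)]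

theorem oa2b : cnd (memB par24 oa2 (Ua, 0) 0x020406080a0c0e) (cnd (ptsB oa2) (subS (ptS par24 oa2) (candS par24 [(Ua, 0),
 (Ub, 0)] [])) false) false = true := by decide +kernel

noncomputable def ob2 : List (ℕ × ℕ) := [(0, 0),
 (6166, 0),
 (5656, 0),
 ((nat_lit 0x121816), 0),
 ((nat_lit 0x4121618), 0),
 ((nat_lit 0x1018040216), 0),
 ((nat_lit 0x1804180416), 0)]

theorem ob2b : cnd (memB par24 ob2 (Ub, 0) 0x020406080a0c0e) (cnd (ptsB ob2) (subS (ptS par24 ob2) (candS par24 [(Ua, 0),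
 (Ub, 0)] [])) false) false = true := by decide +kernel

noncomputable def oa3 : List (ℕ × ℕ) := [(6166, 0),
 (5656, 0),
 ((nat_lit 0x121816), 0),
 ((nat_lit 0x61816), 0),
 ((nat_lit 0x18161816), 0),
 ((nat_lit 0x1416080416), 0),
 ((nat_lit 0x1804180416), 0)]

theorem oa3b : cnd (memB par24 oa3 (Ua, 0) 0x020406080a0c0e) (cnd (ptsB oa3) (subS (ptS par24 oa3) (candS par24 [(Ua, 0),
 (Ub, 0),
 (Uc, 0)] [])) false) false = true := by decide +kernel

noncomputable def ob3 : List (ℕ × ℕ) := [(6166, 0),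
 (5656, 0),
 ((nat_lit 0x121816), 0),
 ((nat_lit 0x61816), 0),
 ((nat_lit 0x16061816), 0),
 ((nat_lit 0x4081816), 0),
 ((nat_lit 0x4180a1416), 0)]

theorem ob3b : cnd (memB par24 ob3 (Ub, 0) 0x020406080a0c0e) (cnd (ptsB ob3) (subS (ptS par24 ob3) (candS par24 [(Ua, 0),
 (Ub, 0),
 (Uc, 0)] [])) false) false = true := by decide +kernel

noncomputable def oc3 : List (ℕ × ℕ) := [(6166, 0),
 (5656, 0),
 ((nat_lit 0x121816), 0),
 ((nat_lit 0x61816), 0),
 ((nat_lit 0x16181618), 0),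
 ((nat_lit 0x1004180616), 0),
 ((nat_lit 0x1810160616), 0)]

theorem oc3b : cnd (memB par24 oc3 (Uc, 0) 0x020406080a0c0e) (cnd (ptsB oc3) (subS (ptS par24 oc3) (candS par24 [(Ua, 0),
 (Ub, 0),
 (Uc, 0)] [])) false) false = true := by decide +kernel

noncomputable def V2l_0W : List (ℕ × ℕ) := apd [((nat_lit 0x1e160a1e061c16), 0),
 ((nat_lit 0x1a1c121418), 0)] []

theorem V2l_0b : lvB par24 V2l_0W [] (nat_lit 0x1c1e080e1a) 516 4 = true := by decide +kernel

theorem V2l_0 {G : Type*} [Group G] [Finite G] (M : Md G par24) : M.LB V2l_0W 4 :=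
  Md.LB.step V2l_0b (Md.LB.one M _)

theorem V2w : leA par24 [(Ua, 0),
 (Ub, 0)] V2l_0W [2,
 4] = true := by decide +kernel

theorem V2 {G : Type*} [Group G] [Finite G] (M : Md G par24) : M.LB [(Ua, 0),
 (Ub, 0)] 4 := Md.LB.of_leA (V2l_0 M) V2w

noncomputable def V3l_0W : List (ℕ × ℕ) := apd [((nat_lit 0x1e160a1e061c16), 0),
 ((nat_lit 0x1a1c121418), 0),
 (0, 0)] []

theorem V3l_0b : lvB par24 V3l_0W [] (nat_lit 0x8101a20) (nat_lit 0x20406) 8 = true := by decide +kernel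

theorem V3l_0 {G : Type*} [Group G] [Finite G] (M : Md G par24) : M.LB V3l_0W 8 :=
  Md.LB.step V3l_0b (Md.LB.one M _)

theorem V3w : leA par24 [(Ua, 0),
 (Ub, 0),
 (Uc, 0)] V3l_0W [2,
 4,
 6] = true := by decide +kernel

theorem V3 {G : Type*} [Group G] [Finite G] (M : Md G par24) : M.LB [(Ua, 0),
 (Ub, 0),
 (Uc, 0)] 8 := Md.LB.of_leA (V3l_0 M) V3w

end Cfsg.Lib.Fi.B24
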