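import Cfsg.Agent.Lib.Fi.B24j

set_option maxRecDepth 100000
set_option Elab.async false

namespace Cfsg.Lib.Fi.B24

open Cfsg.Lib.Comp Cfsg.Lib.Fi

noncomputable def j2_cM_0D : List (ℕ × ℕ) := (((nat_lit 0x1e160a1e061c16), 0) :: [j2])

noncomputable def j2_cM_1D : List (ℕ × ℕ) := (((nat_lit 0x1a1c121418), 0) :: j2_cM_0D)

noncomputable def j2_cM_2D : List (ℕ × ℕ) := ((0, 0) :: j2_cM_1D)

noncomputable def j2_cM_3D : List (ℕ × ℕ) := ((30, 0) :: j2_cM_2D)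

noncomputable def j2_cM_4D : List (ℕ × ℕ) := ((1056, 0) :: j2_cM_3D)

noncomputable def j2_cM_5D : List (ℕ × ℕ) := (((nat_lit 0x1e12161c), 0) :: j2_cM_4D)

theorem j2_cM_6b : endB par24 j2_cM_5D [(nat_lit 0x40c0604080206040e080408060e01),
 (nat_lit 0x608040e080608040e040806040e0801),
 (nat_lit 0x80402060e060804080608020e0802),
 (nat_lit 0x4060e06040806040e020406080406),
 (nat_lit 0x4060a080604060e040806020e02),
 (nat_lit 0x80402060e080406020e080602)] = true := by decide +kernel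

theorem j2_cM_6 {G : Type*} [Group G] (M : Md G par24) : M.Ch j2_cM_5D [j2A] [] 1 := Md.Ch.base j2_cM_6b

noncomputable def j2_cM_5W : List (ℕ × ℕ) := apd [(0, (nat_lit 0x40e120e061410060a101206)),
 ((nat_lit 0xc141c0c16), 0)] []

theorem j2_cM_5b : stepB par24 j2_cM_4D [j2A] j2_cM_5W [] (nat_lit 0x1e12161c) (.dif (.and (.and (.and (.im 6 (.nb 1)) (.im 4 (.nb 1))) (.im 1540 (.nb 4))) (.im 4 (.nb 5))) (.lit 0)) (nat_lit 0x204020402040204) 24 (nat_lit 0x20204)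
 (.many [(.fx 1 (nat_lit 0xe0802))] 56 1 (nat_lit 0x160c200a1a1600) .nil) = true := by decide +kernel

theorem j2_cM_5 {G : Type*} [Group G] [Finite G] (M : Md G par24) : M.Ch j2_cM_4D [j2A] j2_cM_5W 24 :=
  Md.Ch.step j2_cM_5b (j2_cM_6 M)

noncomputable def j2_cM_4W : List (ℕ × ℕ) := apd [(0, (nat_lit 0x806100e100608))] j2_cM_5W

theorem j2_cM_4b : stepB par24 j2_cM_3D [j2A] j2_cM_4W j2_cM_5W 1056 (.dif (.dif (.dif (.dif (.dif (.dif (.dif (.im (nat_lit 0x20a04) (.nb 1)) (.nb 2)) (.nb 1)) (.im 4 (.nb 1))) (.nb 3)) (.nb 4)) (.im 2 (.nb 3))) (.im 1026 (.nb 3))) (nat_lit 0x4020602040602040602040602040602040602040602040602) 13824 0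
 .nil = true := by decide +kernel

theorem j2_cM_4 {G : Type*} [Group G] [Finite G] (M : Md G par24) : M.Ch j2_cM_3D [j2A] j2_cM_4W 331776 :=
  Md.Ch.step j2_cM_4b (j2_cM_5 M)

noncomputable def j2_cM_3W : List (ℕ × ℕ) := apd [(0, 4)] j2_cM_4W

theorem j2_cM_3b : stepB par24 j2_cM_2D [j2A] j2_cM_3W j2_cM_4W 30 (.dif (.dif (.dif .all (.nb 1)) (.nb 2)) (.nb 3)) (nat_lit 0x206020402040208020402060204020802040206020402080204020602040208020402) 221760 0
 .nil = true := by decide +kernel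

theorem j2_cM_3 {G : Type*} [Group G] [Finite G] (M : Md G par24) : M.Ch j2_cM_2D [j2A] j2_cM_3W 73574645760 :=
  Md.Ch.step j2_cM_3b (j2_cM_4 M)

noncomputable def j2_cM_2W : List (ℕ × ℕ) := apd [(0, 22)] j2_cM_3W

theorem j2_cM_2b : stepB par24 j2_cM_1D [j2A] j2_cM_2W j2_cM_3W 0 (.lit 0) (nat_lit 0x6020402040204060204020406020402040206040204020604020402) 3510 0
 (.many [(.eq 3 1),
 (.eq 2 1)] 64 2 (nat_lit 0x1a1c121418011e160a1e061c1600) .nil) = true := by decide +kernel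

theorem j2_cM_2 {G : Type*} [Group G] [Finite G] (M : Md G par24) : M.Ch j2_cM_1D [j2A] j2_cM_2W 258247006617600 :=
  Md.Ch.step j2_cM_2b (j2_cM_3 M)

theorem j2_cM_1b : stepB par24 j2_cM_0D [j2A] (apd [] j2_cM_2W) j2_cM_2W (nat_lit 0x1a1c121418) (.lit 0) 0 1 (nat_lit 0x6020402040204060204020406020402040206040204020604020402)
 (.many [(.eq 2 1),
 (.cnt (.and (.nb 1) (.lit 0)))] 64 2 (nat_lit 0x11e160a1e061c1600) .nil) = true := by decide +kernel

theorem j2_cM_1 {G : Type*} [Group G] [Finite G] (M : Md G par24) : M.Ch j2_cM_0D [j2A] (apd [] j2_cM_2W) 258247006617600 :=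
  Md.Ch.step j2_cM_1b (j2_cM_2 M)

noncomputable def j2_cM_0W : List (ℕ × ℕ) := apd [(0, (nat_lit 0x200a101e101e040c041c041a0c100e161014100e120a0408060e12))] (apd [] j2_cM_2W)

theorem j2_cM_0b : stepB par24 [j2] [j2A] j2_cM_0W (apd [] j2_cM_2W) (nat_lit 0x1e160a1e061c16) (.lit 0) 2 2 (nat_lit 0x8040604060406080406040608040604060408060406040806040604)
 (.many [(.cnt (.and (.nb 1) (.lit 0)))] 8 1 0 .nil) = true := by decide +kernel

theorem j2_cM_0 {G : Type*} [Group G] [Finite G] (M : Md G par24) : M.Ch [j2] [j2A] j2_cM_0W 516494013235200 :=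
  Md.Ch.step j2_cM_0b (j2_cM_1 M)

theorem j2_cM_p : presB par24 j2_cM_0W [j2] [j2A] = true := by decide +kernel

theorem j2_cM {G : Type*} [Group G] [Finite G] (M : Md G par24) : M.KE (M.st [j2] [j2A]) j2_cM_0W 516494013235200 :=
  (j2_cM_0 M).ke j2_cM_p

theorem j2_c {G : Type*} [Group G] [Finite G] (S : S24 G) : S.M.KE (S.M.st [j2] [j2A]) j2_cM_0W 516494013235200 := j2_cM S.M

theorem j2_un : cnd (ptsB [(Ua, 0),
 (Ub, 0)]) (presB par24 j2_cM_0W [] [ptS par24 [(Ua, 0),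
 (Ub, 0)]]) false = true := by decide +kernel

noncomputable def j3_cM_0D : List (ℕ × ℕ) := (((nat_lit 0x1e160a1e061c16), 0) :: [j3])

noncomputable def j3_cM_1D : List (ℕ × ℕ) := (((nat_lit 0x1a1c121418), 0) :: j3_cM_0D)

noncomputable def j3_cM_2D : List (ℕ × ℕ) := ((0, 0) :: j3_cM_1D)

noncomputable def j3_cM_3D : List (ℕ × ℕ) := ((30, 0) :: j3_cM_2D)

noncomputable def j3_cM_4D : List (ℕ × ℕ) := ((1056, 0) :: j3_cM_3D)

noncomputable def j3_cM_5D : List (ℕ × ℕ) := (((nat_lit 0x1e12161c), 0) :: j3_cM_4D)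

theorem j3_cM_6b : endB par24 j3_cM_5D [(nat_lit 0x4060a0604020c040608020e02),
 (nat_lit 0x804060a080608040e020406080406),
 (nat_lit 0x80402060e02040806040e02),
 (nat_lit 0x4060a0408060408060e020406080406),
 (nat_lit 0x806040c02040e0608040e01),
 (nat_lit 0x80402060e0406020e0602)] = true := by decide +kernel

theorem j3_cM_6 {G : Type*} [Group G] (M : Md G par24) : M.Ch j3_cM_5D [j3A] [] 1 := Md.Ch.base j3_cM_6b

noncomputable def j3_cM_5W : List (ℕ × ℕ) := apd [(0, (nat_lit 0x40e120e061410060a101206)),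
 ((nat_lit 0xc141c0c16), 0)] []

theorem j3_cM_5b : stepB par24 j3_cM_4D [j3A] j3_cM_5W [] (nat_lit 0x1e12161c) (.dif (.and (.and (.and (.im 6 (.nb 1)) (.im 4 (.nb 1))) (.im 1540 (.nb 4))) (.im 4 (.nb 5))) (.lit 0)) (nat_lit 0x204020402040204) 24 (nat_lit 0x20204)
 (.many [(.fx 1 3586)] 56 1 (nat_lit 0x160c200a1a1600) .nil) = true := by decide +kernel

theorem j3_cM_5 {G : Type*} [Group G] [Finite G] (M : Md G par24) : M.Ch j3_cM_4D [j3A] j3_cM_5W 24 :=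
  Md.Ch.step j3_cM_5b (j3_cM_6 M)

noncomputable def j3_cM_4W : List (ℕ × ℕ) := apd [(0, (nat_lit 0x806100e100608))] j3_cM_5W

theorem j3_cM_4b : stepB par24 j3_cM_3D [j3A] j3_cM_4W j3_cM_5W 1056 (.dif (.dif (.dif (.dif (.dif (.dif (.dif (.im 522 (.nb 1)) (.nb 2)) (.nb 1)) (.im 4 (.nb 1))) (.nb 3)) (.nb 4)) (.im 2 (.nb 3))) (.im 1026 (.nb 3))) (nat_lit 0x4020602040602040602040602040602040602040602040602) 13824 0
 .nil = true := by decide +kernel

theorem j3_cM_4 {G : Type*} [Group G] [Finite G] (M : Md G par24) : M.Ch j3_cM_3D [j3A] j3_cM_4W 331776 :=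
  Md.Ch.step j3_cM_4b (j3_cM_5 M)

noncomputable def j3_cM_3W : List (ℕ × ℕ) := apd [(0, 4)] j3_cM_4W

theorem j3_cM_3b : stepB par24 j3_cM_2D [j3A] j3_cM_3W j3_cM_4W 30 (.dif (.dif (.dif .all (.nb 1)) (.nb 2)) (.nb 3)) (nat_lit 0x206020402040208020402060204020802040206020402080204020602040208020402) 221760 0
 .nil = true := by decide +kernel

theorem j3_cM_3 {G : Type*} [Group G] [Finite G] (M : Md G par24) : M.Ch j3_cM_2D [j3A] j3_cM_3W 73574645760 :=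
  Md.Ch.step j3_cM_3b (j3_cM_4 M)

theorem j3_cM_2b : stepB par24 j3_cM_1D [j3A] (apd [] j3_cM_3W) j3_cM_3W 0 (.lit 0) 0 1 (nat_lit 0x6020402080204020602040208020402060204)
 (.many [(.eq 3 1),
 (.eq 2 1),
 (.cnt (.and (.nb 1) (.lit 0)))] 64 3 (nat_lit 0x18160200001a1c121418011e160a1e061c1600) .nil) = true := by decide +kernel

theorem j3_cM_2 {G : Type*} [Group G] [Finite G] (M : Md G par24) : M.Ch j3_cM_1D [j3A] (apd [] j3_cM_3W) 73574645760 :=
  Md.Ch.step j3_cM_2b (j3_cM_3 M)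

noncomputable def j3_cM_1W : List (ℕ × ℕ) := apd [(0, (nat_lit 0x1a081a021a0c160a180810140c10120c1014061408))] (apd [] j3_cM_3W)

theorem j3_cM_1b : stepB par24 j3_cM_0D [j3A] j3_cM_1W (apd [] j3_cM_3W) (nat_lit 0x1a1c121418) (.lit 0) 2 2 (nat_lit 0x80406040a040604080406040a040604080406)
 (.many [(.eq 2 1),
 (.cnt (.and (.nb 1) (.lit 0)))] 64 2 (nat_lit 0x1816011e160a1e061c1600) .nil) = true := by decide +kernel

theorem j3_cM_1 {G : Type*} [Group G] [Finite G] (M : Md G par24) : M.Ch j3_cM_0D [j3A] j3_cM_1W 147149291520 :=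
  Md.Ch.step j3_cM_1b (j3_cM_2 M)

noncomputable def j3_cM_0W : List (ℕ × ℕ) := apd [(0, (nat_lit 0x2004080a04081e0a180e0a1a0e16061216140a12080c14060a04120c06))] j3_cM_1W

theorem j3_cM_0b : stepB par24 [j3] [j3A] j3_cM_0W j3_cM_1W (nat_lit 0x1e160a1e061c16) (.lit 0) 1026 3 (nat_lit 0xa0608060c0608060a0608060c0608060a0608)
 (.many [(.cnt (.and (.nb 1) (.lit 0)))] 24 1 (nat_lit 0x181600) .nil) = true := by decide +kernel

theorem j3_cM_0 {G : Type*} [Group G] [Finite G] (M : Md G par24) : M.Ch [j3] [j3A] j3_cM_0W 441447874560 :=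
  Md.Ch.step j3_cM_0b (j3_cM_1 M)

theorem j3_cM_p : presB par24 j3_cM_0W [j3] [j3A] = true := by decide +kernel

theorem j3_cM {G : Type*} [Group G] [Finite G] (M : Md G par24) : M.KE (M.st [j3] [j3A]) j3_cM_0W 441447874560 :=
  (j3_cM_0 M).ke j3_cM_p

theorem j3_c {G : Type*} [Group G] [Finite G] (S : S24 G) : S.M.KE (S.M.st [j3] [j3A]) j3_cM_0W 441447874560 := j3_cM S.M

theorem j3_un : cnd (ptsB [(Ua, 0),
 (Ub, 0),
 (Uc, 0)]) (presB par24 j3_cM_0W [] [ptS par24 [(Ua, 0),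
 (Ub, 0),
 (Uc, 0)]]) false = true := by decide +kernel

end Cfsg.Lib.Fi.B24
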