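import Cfsg.Agent.Lib.Fi.B24j

set_option maxRecDepth 100000
set_option Elab.async false

namespace Cfsg.Lib.Fi.B24

open Cfsg.Lib.Comp Cfsg.Lib.Fi

noncomputable def j4_cM_0D : List (ℕ × ℕ) := (((nat_lit 0x1e160a1e061c16), 0) :: [j4])

noncomputable def j4_cM_1D : List (ℕ × ℕ) := (((nat_lit 0x1a1c121418), 0) :: j4_cM_0D)

noncomputable def j4_cM_2D : List (ℕ × ℕ) := ((0, 0) :: j4_cM_1D)

noncomputable def j4_cM_3D : List (ℕ × ℕ) := ((6166, 0) :: j4_cM_2D)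

noncomputable def j4_cM_4D : List (ℕ × ℕ) := ((28, 0) :: j4_cM_3D)

noncomputable def j4_cM_5D : List (ℕ × ℕ) := ((6678, 0) :: j4_cM_4D)

noncomputable def j4_cM_6D : List (ℕ × ℕ) := (((nat_lit 0x1e180a1e0216), 0) :: j4_cM_5D)

theorem j4_cM_7b : endB par24 j4_cM_6D [(nat_lit 0x6040c060204100208040a03),
 (nat_lit 0x61002040a060c0a060802040a06100a040601),
 (nat_lit 0x8040a0610040208060a0406100401),
 (nat_lit 0xa060a0406100a040a060402100604080a01),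
 (nat_lit 0xa060c04020a0608040a060804100601),
 (nat_lit 0x80a060a040c0a040a0602080a040a061004080a01)] = true := by decide +kernel

theorem j4_cM_7 {G : Type*} [Group G] (M : Md G par24) : M.Ch j4_cM_6D [j4A] [] 1 := Md.Ch.base j4_cM_7b

noncomputable def j4_cM_6W : List (ℕ × ℕ) := apd [((nat_lit 0x1614080618), 0),
 (0, (nat_lit 0x60a0608060c0e0c0e0c0608))] []

theorem j4_cM_6b : stepB par24 j4_cM_5D [j4A] j4_cM_6W [] (nat_lit 0x1e180a1e0216) (.dif (.dif (.and (.and (.and (.and (.im 8 (.nb 2)) (.im 8 (.nb 1))) (.nb 5)) (.im 4 (.nb 3))) (.im 2 (.nb 3))) (.nb 4)) (.nb 6)) 1026 4 0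
 .nil = true := by decide +kernel

theorem j4_cM_6 {G : Type*} [Group G] [Finite G] (M : Md G par24) : M.Ch j4_cM_5D [j4A] j4_cM_6W 4 :=
  Md.Ch.step j4_cM_6b (j4_cM_7 M)

noncomputable def j4_cM_5W : List (ℕ × ℕ) := apd [(0, (nat_lit 0xc04060c0e0a1012)),
 (0, (nat_lit 0xe10120812100e))] j4_cM_6W

theorem j4_cM_5b : stepB par24 j4_cM_4D [j4A] j4_cM_5W j4_cM_6W 6678 (.dif (.dif (.dif (.dif (.dif (.dif (.dif (.and (.nb 5) (.im 524 (.nb 1))) (.nb 3)) (.nb 1)) (.im 6 (.nb 1))) (.nb 2)) (.im 2 (.nb 2))) (.im 1538 (.nb 2))) (.nb 4)) (nat_lit 0x20402020402060204060202040602040204) 1152 0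
 .nil = true := by decide +kernel

theorem j4_cM_5 {G : Type*} [Group G] [Finite G] (M : Md G par24) : M.Ch j4_cM_4D [j4A] j4_cM_5W 4608 :=
  Md.Ch.step j4_cM_5b (j4_cM_6 M)

noncomputable def j4_cM_4W : List (ℕ × ℕ) := apd [(0, 4)] j4_cM_5W

theorem j4_cM_4b : stepB par24 j4_cM_3D [j4A] j4_cM_4W j4_cM_5W 28 (.dif (.dif (.dif (.nb 4) (.nb 2)) (.nb 1)) (.nb 3)) (nat_lit 0x204060204020602040206020402060204020602040206020402060204020602) 23040 0
 .nil = true := by decide +kernel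

theorem j4_cM_4 {G : Type*} [Group G] [Finite G] (M : Md G par24) : M.Ch j4_cM_3D [j4A] j4_cM_4W 106168320 :=
  Md.Ch.step j4_cM_4b (j4_cM_5 M)

theorem j4_cM_3b : stepB par24 j4_cM_2D [j4A] (apd [] j4_cM_4W) j4_cM_4W 6166 (.and (.lit 0) (.nb 1)) 0 1 (nat_lit 0x40602040204020602040204020602)
 (.many [(.eq 4 1),
 (.eq 3 1),
 (.eq 1 2),
 (.cnt (.and (.and (.nb 1) (.nb 2)) (.lit 0)))] 64 4 (nat_lit 0x161803000000000000000200001a1c121418011e160a1e061c1600) .nil) = true := by decide +kernel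

theorem j4_cM_3 {G : Type*} [Group G] [Finite G] (M : Md G par24) : M.Ch j4_cM_2D [j4A] (apd [] j4_cM_4W) 106168320 :=
  Md.Ch.step j4_cM_3b (j4_cM_4 M)

noncomputable def j4_cM_2W : List (ℕ × ℕ) := apd [(0, (nat_lit 0x181608120c1408120608060e140c04))] (apd [] j4_cM_4W)

theorem j4_cM_2b : stepB par24 j4_cM_1D [j4A] j4_cM_2W (apd [] j4_cM_4W) 0 (.and (.lit 0) (.nb 1)) 2 2 (nat_lit 0x60804060406040804060406040804)
 (.many [(.eq 3 1),
 (.eq 2 1),
 (.cnt (.and (.and (.nb 2) (.nb 1)) (.lit 0)))] 64 3 (nat_lit 0x16180200001a1c121418011e160a1e061c1600) .nil) = true := by decide +kernel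

theorem j4_cM_2 {G : Type*} [Group G] [Finite G] (M : Md G par24) : M.Ch j4_cM_1D [j4A] j4_cM_2W 212336640 :=
  Md.Ch.step j4_cM_2b (j4_cM_3 M)

noncomputable def j4_cM_1W : List (ℕ × ℕ) := apd [(0, (nat_lit 0x160a181a1c040a02180c04060c08041206140e0a0c))] j4_cM_2W

theorem j4_cM_1b : stepB par24 j4_cM_0D [j4A] j4_cM_1W j4_cM_2W (nat_lit 0x1a1c121418) (.and (.lit 0) (.nb 1)) 1026 3 (nat_lit 0x80a06080608060a06080608060a06)
 (.many [(.eq 2 1),
 (.cnt (.and (.and (.nb 2) (.nb 1)) (.lit 0)))] 64 2 (nat_lit 0x1618011e160a1e061c1600) .nil) = true := by decide +kernel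

theorem j4_cM_1 {G : Type*} [Group G] [Finite G] (M : Md G par24) : M.Ch j4_cM_0D [j4A] j4_cM_1W 637009920 :=
  Md.Ch.step j4_cM_1b (j4_cM_2 M)

noncomputable def j4_cM_0W : List (ℕ × ℕ) := apd [((nat_lit 0x1c0e1e), 0)] j4_cM_1W

theorem j4_cM_0b : stepB par24 [j4] [j4A] j4_cM_0W j4_cM_1W (nat_lit 0x1e160a1e061c16) (.lit 0) (nat_lit 0x2080a080a080c080a0802080c080a080c0802) 504 0
 .nil = true := by decide +kernel

theorem j4_cM_0 {G : Type*} [Group G] [Finite G] (M : Md G par24) : M.Ch [j4] [j4A] j4_cM_0W 321052999680 :=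
  Md.Ch.step j4_cM_0b (j4_cM_1 M)

theorem j4_cM_p : presB par24 j4_cM_0W [j4] [j4A] = true := by decide +kernel

theorem j4_cM {G : Type*} [Group G] [Finite G] (M : Md G par24) : M.KE (M.st [j4] [j4A]) j4_cM_0W 321052999680 :=
  (j4_cM_0 M).ke j4_cM_p

theorem j4_c {G : Type*} [Group G] [Finite G] (S : S24 G) : S.M.KE (S.M.st [j4] [j4A]) j4_cM_0W 321052999680 := j4_cM S.M

end Cfsg.Lib.Fi.B24
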