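import Cfsg.Agent.Lib.Fi.B24p

set_option maxRecDepth 100000
set_option Elab.async false

namespace Cfsg.Lib.Fi.B24

open Cfsg.Lib.Comp Cfsg.Lib.Fi

theorem cov2_0b : cnd (Nat.ble 13 22) (cnd (inW 0 22 0) (ptB (rbS 9 504 p2Z p2T [4,
 85,
 192,
 1,
 282,
 33,
 9]) (lfC par24 p2A [(Ua, 0), j2, j3, j4] 22) 2 22 22
 (.split (.sub (.split (.sub (.split (.sub (.split (.sub (.split (.sub (.split (.sub (.split (.sub (.split (.sub (.split (.sub (.leaf 1 0 0)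
 (.sub (.leaf 1 3 1)
 .nil)))
 (.sub (.mv 10 0 (.leaf (nat_lit 0x61816200e081e1410040a1c08041006160608100406101208100c14060a) 3 1))
 .nil)))
 (.sub (.mv 6 0 (.mv 14 0 (.leaf 1 1 1)))
 .nil)))
 (.sub (.split (.sub (.mv 6 44 (.mv 18 0 (.leaf (nat_lit 0x1a18100e1c181016101606100a040c10140a0614060a04) 3 1)))
 (.sub (.mv 4 0 (.mv 18 0 (.leaf (nat_lit 0x6041c101a100814181208120e10060a080e0a) 3 1)))
 .nil)))
 .nil)))
 (.sub (.mv 12 42 (.split (.sub (.mv 20 44 (.mv 24 0 (.leaf (nat_lit 0xa1c1e081a041e080a081a0c120802160c0e0c0a0406100812060c04) 1 1)))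
 (.sub (.mv 20 44 (.mv 24 0 (.leaf (nat_lit 0x61816200e081e1410040a1c100e12160814100c140c081204080614) 3 1)))
 .nil))))
 .nil)))
 (.sub (.split (.sub (.mv 6 (nat_lit 0x282a2c) (.mv (nat_lit 0x406101214182026282a) 42 (.split (.sub (.mv 24 0 (.leaf (nat_lit 0x61816200e081e040616061a10140218041008140a0612100810081204) 3 1))
 (.sub (.mv 24 0 (.leaf (nat_lit 0xa1c1e081a041e0a18101a06121618060e0c04100a100c120c080406) 1 1))
 .nil)))))
 (.sub (.mv 12 42 (.mv 6 0 (.mv 20 44 (.mv 22 0 (.leaf (nat_lit 0x14081a161a080e1218060a100c0a06040c0a08040e) 3 1)))))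
 .nil)))
 .nil)))
 (.sub (.mv 12 0 (.mv (nat_lit 0x40c2224262a) 9772 (.mv 20 (nat_lit 0x282a2c) (.split (.sub (.mv (nat_lit 0x60c101216181a1c1e20222628) 0 (.mv 28 0 (.leaf (nat_lit 0x61816200e081e1410040a1c0c060e041606080e0c0a140814040e120e) 3 1)))
 (.sub (.split (.sub (.mv 28 0 (.leaf (nat_lit 0xc160e1e10200e181c0812180608041412060a060408) 1 1))
 (.sub (.mv 28 0 (.leaf (nat_lit 0x612101c0a1e1a180c1c041a0e0a08160a0c060414060c040e120810) 3 1))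
 .nil)))
 .nil))))))
 .nil)))
 (.sub (.split (.sub (.mv 12 0 (.mv (nat_lit 0x40c2224262a) (nat_lit 0x262a2c) (.mv 20 (nat_lit 0x282a2c) (.mv 18 10796 (.mv 24 44 (.mv 28 0 (.leaf (nat_lit 0x41c0a081a0e040e1604060e1006100a080e0a140a14) 3 1)))))))
 (.sub (.mv 10 10284 (.split (.sub (.mv 14 44 (.mv 18 42 (.mv 24 0 (.split (.sub (.leaf (nat_lit 0x612101c0a1e0c0408181a12140a160c0412140414120e10140a08) 3 1)
 (.sub (.leaf (nat_lit 0xa1e0e140e1e18161a101a0a1418160c0414120c040a0c06100612) 1 1)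
 .nil))))))
 (.sub (.mv 14 44 (.mv 18 10796 (.mv 24 44 (.mv (nat_lit 0x16182628) 0 (.leaf (nat_lit 0x61816200e081e080a140a1a0a061604121404080a140810040a0c06) 3 1)))))
 .nil))))
 .nil)))
 .nil)))
 (.sub (.split (.sub (.split (.sub (.mv 12 44 (.mv (nat_lit 0x80c10121a1c1e26) 9768 (.mv 16 42 (.mv 20 10796 (.mv 26 0 (.mv 32 0 (.kill 22 1 0)))))))
 (.sub (.split (.sub (.mv 8 38 (.mv 20 0 (.mv 6 44 (.mv 26 44 (.mv 32 0 (.leaf (nat_lit 0xc1a16141a0c141216060c041210120c0a14100608) 3 1))))))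
 (.sub (.mv 8 9772 (.mv 20 0 (.split (.sub (.mv 26 44 (.mv 32 0 (.leaf (nat_lit 0xc201408041e0e021610041a180e0c16060414060c10080608101412) 1 1)))
 (.sub (.mv 26 44 (.mv 32 0 (.leaf (nat_lit 0x61816200e081e040616061a10140218120c101204140a06120c120e) 3 1)))
 .nil)))))
 .nil)))
 .nil)))
 (.sub (.split (.sub (.mv 10 9768 (.mv 8 (nat_lit 0x26282a) (.mv 20 0 (.mv 18 0 (.mv 26 44 (.mv 32 0 (.leaf (nat_lit 0x1a121c161a0416060e0610140a04080c14061404) 3 1)))))))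
 (.sub (.mv 12 44 (.mv (nat_lit 0x80c10121a1c1e26) 9770 (.mv 16 40 (.mv 20 10796 (.mv 26 0 (.mv 32 0 (.kill 22 1 0)))))))
 .nil)))
 .nil)))
 .nil))) false 13 0 0) false) false = true := by decide +kernel

theorem cov2_0 {G : Type*} [Group G] [Finite G] (M : Md G par24) : Good (M.d p2A) 2 22 (M.QC [(Ua, 0), j2, j3, j4]) 13 (wv (M.d p2A) 0) :=
  (p2Pc M).cover (p2Rel M) ((M.inv_QC _ (by norm_num)).mono le_top) (M.lfC_sound _ _ _ _) cov2_0b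

theorem cov2_1b : cnd (Nat.ble 13 22) (cnd (inW 0 22 26) (ptB (rbS 9 504 p2Z p2T [4,
 85,
 192,
 1,
 282,
 33,
 9]) (lfC par24 p2A [(Ua, 0), j2, j3, j4] 22) 2 22 22
 (.split (.sub (.mv 12 (nat_lit 0x202226282c) (.mv 10 8740 (.split (.sub (.mv 18 (nat_lit 0x26282a) (.mv 24 40 (.mv (nat_lit 0x14182224262a2c) 10796 (.mv 28 0 (.kill 21 1 44)))))
 (.sub (.mv 18 (nat_lit 0x26282a2c) (.mv 24 10284 (.mv (nat_lit 0x14182224262a2c) 42 (.mv 28 0 (.kill 21 1 44)))))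
 .nil)))))
 (.sub (.mv 12 (nat_lit 0x202628) (.mv 10 (nat_lit 0x222426) (.split (.sub (.mv 18 (nat_lit 0x26282c) (.mv 24 10282 (.split (.sub (.mv 28 0 (.mv (nat_lit 0xe12181c24282a) 0 (.leaf (nat_lit 0x61816200e081e0c1a160c1c16061608161004060c0e0a140c0a0c0612) 3 1)))
 (.sub (.mv 28 0 (.split (.sub (.leaf (nat_lit 0x61816200e081e0c10161a0418120c060e06100e060410140e06) 3 1)
 (.sub (.leaf (nat_lit 0xc201408041e161c081c12041006160a060810040c080e0a080612) 1 1)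
 .nil))))
 .nil)))))
 (.sub (.mv 18 9768 (.mv 24 (nat_lit 0x282a2c) (.mv (nat_lit 0x40c181c2022282a) 10796 (.mv 28 0 (.mv (nat_lit 0x161c2a) 0 (.leaf (nat_lit 0x1e06121a021e1c0216021a181004160e0c0e04120a060e12080a06) 3 1))))))
 .nil)))))
 .nil))) false 13 26 0) false) false = true := by decide +kernel

theorem cov2_1 {G : Type*} [Group G] [Finite G] (M : Md G par24) : Good (M.d p2A) 2 22 (M.QC [(Ua, 0), j2, j3, j4]) 13 (wv (M.d p2A) 26) :=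
  (p2Pc M).cover (p2Rel M) ((M.inv_QC _ (by norm_num)).mono le_top) (M.lfC_sound _ _ _ _) cov2_1b

theorem cov2_2b : cnd (Nat.ble 12 22) (cnd (inW 0 22 24) (ptB (rbS 9 504 p2Z p2T [4,
 85,
 192,
 1,
 282,
 33,
 9]) (lfC par24 p2A [(Ua, 0), j2, j3, j4] 22) 2 22 22
 (.split (.sub (.mv 12 (nat_lit 0x1e22262a2c) (.mv 4 (nat_lit 0x2022242628) (.mv 10 9768 (.mv 20 9254 (.mv 18 42 (.mv 26 40 (.kill 19 1 (nat_lit 0x282a2c))))))))
 (.sub (.mv 12 (nat_lit 0x20282c) (.split (.sub (.mv (nat_lit 0x80c10121a1c1e26) (nat_lit 0x22242a) (.mv 20 (nat_lit 0x242a2c) (.split (.sub (.mv 26 40 (.mv (nat_lit 0x20c141a1c1e20242a) 10796 (.mv 30 0 (.mv 36 0 (.leaf (nat_lit 0x1a161e021a021e0e12141a18160218060c100412081008140604) 3 1)))))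
 (.sub (.mv 26 40 (.mv (nat_lit 0x41a1e20222426282a2c) 44 (.mv 30 0 (.mv 36 0 (.kill 22 1 0)))))
 .nil)))))
 (.sub (.mv (nat_lit 0x80c10121a1c1e26) (nat_lit 0x2224262a2c) (.mv 20 (nat_lit 0x242628) (.mv 10 38 (.mv 26 10284 (.mv (nat_lit 0x121a2426282a) 42 (.mv 30 0 (.kill 21 1 0)))))))
 .nil))))
 .nil))) false 12 24 0) false) false = true := by decide +kernel

theorem cov2_2 {G : Type*} [Group G] [Finite G] (M : Md G par24) : Good (M.d p2A) 2 22 (M.QC [(Ua, 0), j2, j3, j4]) 12 (wv (M.d p2A) 24) :=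
  (p2Pc M).cover (p2Rel M) ((M.inv_QC _ (by norm_num)).mono le_top) (M.lfC_sound _ _ _ _) cov2_2b

theorem cov2_3b : cnd (Nat.ble 11 22) (cnd (inW 0 22 22) (ptB (rbS 9 504 p2Z p2T [4,
 85,
 192,
 1,
 282,
 33,
 9]) (lfC par24 p2A [(Ua, 0), j2, j3, j4] 22) 2 22 22
 (.split (.sub (.split (.sub (.mv 12 (nat_lit 0x1e262a2c) (.split (.sub (.mv 10 (nat_lit 0x22262a2c) (.split (.sub (.mv 20 0 (.mv 24 40 (.mv (nat_lit 0x80c1012181a1c1e202224282a) 44 (.mv 30 0 (.kill 21 1 0)))))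
 (.sub (.mv 20 0 (.mv 24 10284 (.mv (nat_lit 0x80c1012181a1c1e202224282a) 44 (.mv 30 0 (.kill 21 1 44)))))
 .nil))))
 (.sub (.mv 10 (nat_lit 0x26282a) (.split (.sub (.mv 20 (nat_lit 0x26282a2c) (.mv 24 (nat_lit 0x282a2c) (.mv (nat_lit 0x12141c262a) 44 (.mv 30 0 (.mv 34 0 (.leaf (nat_lit 0x1c16061e021e1a081404021a0c12101816100e040c080604060c0a0612) 3 1))))))
 (.sub (.mv 20 (nat_lit 0x26282a2c) (.mv 24 10282 (.mv (nat_lit 0x12141c262a) 0 (.mv 30 0 (.mv 34 0 (.kill 22 1 0))))))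
 .nil))))
 .nil))))
 (.sub (.mv 12 (nat_lit 0x2022282c) (.split (.sub (.split (.sub (.split (.sub (.mv 20 (nat_lit 0x262a2c) (.mv (nat_lit 0x60c101216181a1c1e20222628) 10284 (.mv (nat_lit 0x80c10121a1c1e26) 44 (.mv 30 44 (.mv 34 0 (.kill 22 1 0))))))
 (.sub (.mv 20 (nat_lit 0x262a2c) (.split (.sub (.mv (nat_lit 0x80c10121a1c1e26) 0 (.mv 30 44 (.mv 34 0 (.leaf (nat_lit 0x10041e080a1e0a1a061a061a12180a08160c14040a120a08100a0c10) 3 1))))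
 (.sub (.mv (nat_lit 0x80c10121a1c1e26) 44 (.mv 30 44 (.mv 34 0 (.leaf (nat_lit 0x1c141c1e1a1e0e061a08041a0a1804161214100e0c1404100a141206) 1 1))))
 .nil))))
 .nil)))
 (.sub (.split (.sub (.mv 20 40 (.mv (nat_lit 0x10141c1e202c) 10282 (.mv (nat_lit 0x80c12141c282a2c) 44 (.mv 30 44 (.mv 34 0 (.leaf (nat_lit 0x4201606141e0e0a12021c0a161816140414080e12141006100a04) 3 1))))))
 (.sub (.mv 20 40 (.mv (nat_lit 0x10141c1e202c) (nat_lit 0x282a2c) (.mv (nat_lit 0x80c12141c282a2c) 44 (.mv 30 44 (.mv 34 0 (.kill 22 1 0))))))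
 .nil)))
 .nil)))
 (.sub (.split (.sub (.mv 10 (nat_lit 0x2426282a2c) (.mv 20 40 (.mv (nat_lit 0x10141c1e202c) 0 (.mv 18 10796 (.mv 30 44 (.kill 21 1 0))))))
 (.sub (.mv 10 (nat_lit 0x2426282a2c) (.mv 20 (nat_lit 0x262a2c) (.mv 14 42 (.mv 18 42 (.mv 30 44 (.kill 21 1 44))))))
 .nil)))
 .nil))))
 .nil)))
 (.sub (.split (.sub (.mv 4 (nat_lit 0x20222426282a2c) (.split (.sub (.mv 8 (nat_lit 0x222426282c) (.mv 20 9772 (.split (.sub (.mv 26 40 (.mv (nat_lit 0xc141a22282c) 0 (.mv (nat_lit 0x10141c1e202c) 44 (.mv 36 0 (.kill 22 1 0)))))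
 (.sub (.mv 26 40 (.split (.sub (.split (.sub (.mv 36 0 (.leaf (nat_lit 0x612101c0a1e180a080e041a0408160c080608100612100c040a08) 3 1))
 (.sub (.mv 36 0 (.leaf (nat_lit 0xa1c1e081a041e0c040e0a081a06160416100812060c0e120412040608) 1 1))
 .nil)))
 (.sub (.mv (nat_lit 0x61a1e2022242c) 44 (.mv 36 0 (.leaf (nat_lit 0x1004081c1e160a0c061a1016180a0e080e060812140e0a10) 3 1)))
 .nil))))
 .nil)))))
 (.sub (.mv 8 9256 (.mv 20 10282 (.split (.sub (.mv 26 10284 (.mv (nat_lit 0x121a2426282a) 10796 (.mv (nat_lit 0x181a2628) 0 (.mv 36 0 (.leaf (nat_lit 0x61816200e081e1a141216021a14041804160c1004140406080e06080e04) 3 1)))))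
 (.sub (.mv 26 10284 (.mv (nat_lit 0x121a2426282a) 42 (.mv (nat_lit 0x181a2628) 44 (.mv 36 0 (.kill 22 1 0)))))
 .nil)))))
 .nil))))
 (.sub (.mv 4 (nat_lit 0x1e2a2c) (.mv 12 (nat_lit 0x202628) (.mv 10 (nat_lit 0x24282a2c) (.mv 20 42 (.mv 18 10796 (.mv 26 40 (.kill 19 1 10282)))))))
 .nil)))
 .nil))) false 11 22 0) false) false = true := by decide +kernel

theorem cov2_3 {G : Type*} [Group G] [Finite G] (M : Md G par24) : Good (M.d p2A) 2 22 (M.QC [(Ua, 0), j2, j3, j4]) 11 (wv (M.d p2A) 22) :=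
  (p2Pc M).cover (p2Rel M) ((M.inv_QC _ (by norm_num)).mono le_top) (M.lfC_sound _ _ _ _) cov2_3b

theorem cov2_4b : cnd (Nat.ble 10 22) (cnd (inW 0 22 20) (ptB (rbS 9 504 p2Z p2T [4,
 85,
 192,
 1,
 282,
 33,
 9]) (lfC par24 p2A [(Ua, 0), j2, j3, j4] 22) 2 22 22
 (.mv 10 (nat_lit 0x181e24262c) (.split (.sub (.mv 8 7718 (.mv 18 9772 (.mv (nat_lit 0x10122022262c) 32 (.kill 15 1 (nat_lit 0x2022262a)))))
 (.sub (.mv 8 (nat_lit 0x1c202224262c) (.mv 18 (nat_lit 0x24262c) (.mv (nat_lit 0x10122022262c) (nat_lit 0x202224262c) (.kill 15 1 (nat_lit 0x202426282a)))))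
 .nil)))) false 10 20 0) false) false = true := by decide +kernel

theorem cov2_4 {G : Type*} [Group G] [Finite G] (M : Md G par24) : Good (M.d p2A) 2 22 (M.QC [(Ua, 0), j2, j3, j4]) 10 (wv (M.d p2A) 20) :=
  (p2Pc M).cover (p2Rel M) ((M.inv_QC _ (by norm_num)).mono le_top) (M.lfC_sound _ _ _ _) cov2_4b

theorem cov2_5b : cnd (Nat.ble 9 22) (cnd (inW 0 22 18) (ptB (rbS 9 504 p2Z p2T [4,
 85,
 192,
 1,
 282,
 33,
 9]) (lfC par24 p2A [(Ua, 0), j2, j3, j4] 22) 2 22 22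
 (.split (.sub (.mv 12 (nat_lit 0x181e2628) (.mv 6 (nat_lit 0x1a1c1e26282a) (.split (.sub (.mv 20 (nat_lit 0x26282c) (.split (.sub (.mv 16 (nat_lit 0x22262c) (.split (.sub (.mv 26 (nat_lit 0x26282a) (.kill 18 1 9768))
 (.sub (.mv 26 (nat_lit 0x26282a) (.kill 18 1 (nat_lit 0x26282c)))
 .nil))))
 (.sub (.mv 16 (nat_lit 0x2226282a2c) (.mv 10 (nat_lit 0x2426282a2c) (.mv 26 (nat_lit 0x26282a2c) (.kill 18 1 (nat_lit 0x262a2c)))))
 .nil))))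
 (.sub (.mv 20 40 (.split (.sub (.mv 16 (nat_lit 0x22242a) (.split (.sub (.mv 26 (nat_lit 0x26282a) (.split (.sub (.mv 30 42 (.mv (nat_lit 0x406101214182026282a) 44 (.mv 38 0 (.kill 22 1 0))))
 (.sub (.mv 30 42 (.split (.sub (.mv 38 0 (.leaf (nat_lit 0x612101c0a1e0c0e1208021a0a160a160e0c0e080a040c1406120c04) 3 1))
 (.sub (.mv 38 0 (.leaf (nat_lit 0xa1a061e161e141c14101a04180a1614040c100e06120610041410) 1 1))
 .nil))))
 .nil))))
 (.sub (.mv 26 (nat_lit 0x26282a) (.split (.sub (.mv 30 42 (.mv (nat_lit 0x406101214181e20242a2c) 44 (.mv 38 0 (.leaf (nat_lit 0x612101c0a1e061418021a04100e0216120e060a100612140e040e12) 3 1))))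
 (.sub (.mv 30 42 (.split (.sub (.mv 38 0 (.kill 22 1 0))
 (.sub (.mv 38 0 (.kill 22 1 0))
 .nil))))
 .nil))))
 .nil))))
 (.sub (.mv 16 (nat_lit 0x222428) (.mv (nat_lit 0xa1022282c) (nat_lit 0x24262a) (.mv 26 (nat_lit 0x26282a2c) (.mv 14 10282 (.mv 30 42 (.kill 20 1 10796))))))
 .nil))))
 .nil)))))
 (.sub (.mv 12 (nat_lit 0x182022262c) (.mv 6 (nat_lit 0x1c1e2224282a2c) (.mv (nat_lit 0x80c10121a1c1e26) (nat_lit 0x1c1e242c) (.mv 20 9770 (.kill 14 1 (nat_lit 0x1e202224262a2c))))))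
 .nil))) false 9 18 0) false) false = true := by decide +kernel

theorem cov2_5 {G : Type*} [Group G] [Finite G] (M : Md G par24) : Good (M.d p2A) 2 22 (M.QC [(Ua, 0), j2, j3, j4]) 9 (wv (M.d p2A) 18) :=
  (p2Pc M).cover (p2Rel M) ((M.inv_QC _ (by norm_num)).mono le_top) (M.lfC_sound _ _ _ _) cov2_5b

theorem cov2_6b : cnd (Nat.ble 8 22) (cnd (inW 0 22 16) (ptB (rbS 9 504 p2Z p2T [4,
 85,
 192,
 1,
 282,
 33,
 9]) (lfC par24 p2A [(Ua, 0), j2, j3, j4] 22) 2 22 22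
 (.split (.sub (.split (.sub (.mv 12 (nat_lit 0x1820282a) (.mv 6 (nat_lit 0x22242a) (.mv (nat_lit 0x406101214182026282a) (nat_lit 0x2224262a2c) (.mv 20 (nat_lit 0x1e20282a) (.split (.sub (.mv 18 8742 (.kill 16 1 (nat_lit 0x242a2c)))
 (.sub (.mv 18 (nat_lit 0x2226282a2c) (.kill 16 1 (nat_lit 0x24282c)))
 .nil)))))))
 (.sub (.mv 12 (nat_lit 0x181e222a2c) (.mv 6 (nat_lit 0x1a262a2c) (.mv (nat_lit 0x80c10121a1c1e26) (nat_lit 0x1c202228) (.mv 20 (nat_lit 0x1e202c) (.kill 14 1 (nat_lit 0x20222426282a))))))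
 .nil)))
 (.sub (.split (.sub (.split (.sub (.split (.sub (.mv 6 (nat_lit 0x1c1e222c) (.mv 4 (nat_lit 0x1e262a2c) (.mv 20 (nat_lit 0x2026282a2c) (.mv 18 (nat_lit 0x22262c) (.mv 24 (nat_lit 0x24262a) (.kill 17 1 (nat_lit 0x282a2c)))))))
 (.sub (.mv 6 (nat_lit 0x222a2c) (.mv 12 (nat_lit 0x202226282a) (.mv 20 (nat_lit 0x202224282c) (.mv 18 (nat_lit 0x2224262a2c) (.mv 24 (nat_lit 0x24262a) (.mv 22 0 (.kill 18 1 42)))))))
 .nil)))
 (.sub (.split (.sub (.mv 6 (nat_lit 0x22262c) (.mv 12 (nat_lit 0x2026282a) (.mv 20 (nat_lit 0x202426282c) (.mv 18 (nat_lit 0x2224282a) (.mv 24 (nat_lit 0x24282a2c) (.kill 17 1 9254))))))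
 (.sub (.mv 6 (nat_lit 0x1c1e22262a) (.split (.sub (.mv 20 (nat_lit 0x2022282a) (.mv 18 (nat_lit 0x22282c) (.mv 24 (nat_lit 0x24282a2c) (.mv 22 0 (.mv 28 44 (.split (.sub (.split (.sub (.mv (nat_lit 0xa161c20222c) 0 (.leaf (nat_lit 0x1e180216141e140c1a0a021a0e160a180a0e10080c0a12140e120a0604) 3 1))
 (.sub (.split (.sub (.leaf (nat_lit 0xa1c1e081a041e0a0e14061c18120818100e0a0e12040c140c12040e) 1 1)
 (.sub (.leaf (nat_lit 0x616141c1a160816180a100a0414080e06080e1006) 3 1)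
 .nil)))
 .nil)))
 (.sub (.mv (nat_lit 0x414161e2024282a) 0 (.mv (nat_lit 0xe1c2c) 0 (.leaf (nat_lit 0x1004081c1e1a0616041a16180e06160c14040614060a040e0c0406) 3 1)))
 .nil))))))))
 (.sub (.mv 20 (nat_lit 0x20222c) (.mv 18 (nat_lit 0x22282a2c) (.mv 24 (nat_lit 0x24282c) (.mv 22 42 (.mv 28 44 (.kill 19 1 0))))))
 .nil))))
 .nil)))
 .nil)))
 (.sub (.mv 10 (nat_lit 0x181e22282c) (.split (.sub (.mv 8 (nat_lit 0x1e2224282c) (.mv 18 (nat_lit 0x202226282a) (.mv 20 (nat_lit 0x2026282a2c) (.split (.sub (.split (.sub (.split (.sub (.mv 32 10282 (.mv 12 0 (.mv 36 0 (.kill 21 1 0))))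
 (.sub (.mv 32 10282 (.mv (nat_lit 0x4141c22242c) 0 (.mv 36 0 (.mv (nat_lit 0x18242c) 0 (.leaf (nat_lit 0x612101c0a1e0c0408181a12140a16100e0a0c040e041012100e1406) 3 1)))))
 .nil)))
 (.sub (.split (.sub (.mv 32 10282 (.mv 12 0 (.mv 36 0 (.kill 21 1 0))))
 (.sub (.mv 32 10282 (.split (.sub (.mv 36 0 (.mv (nat_lit 0xe1224282a2c) 0 (.leaf (nat_lit 0x61816200e081e040616061a101402180e0c14080c060e0a0e100c14) 3 1)))
 (.sub (.mv 36 0 (.split (.sub (.leaf (nat_lit 0x1a101e1a0a1e041c0a181a0a12160c0e140e0408140408100604) 1 1)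
 (.sub (.leaf (nat_lit 0x612101c0a1e041412101c1810160e160a12080a0e060c0e1412) 3 1)
 .nil))))
 .nil))))
 .nil)))
 .nil)))
 (.sub (.mv 12 40 (.mv (nat_lit 0x40c141c202224282a) 42 (.mv 32 10282 (.kill 19 1 40))))
 .nil))))))
 (.sub (.mv 8 (nat_lit 0x1c2028) (.mv 18 (nat_lit 0x20222426282a) (.mv 20 (nat_lit 0x202224282c) (.split (.sub (.mv (nat_lit 0xc121416181c202a) 10796 (.mv (nat_lit 0x40c1214161a1c1e26) 9772 (.mv 32 (nat_lit 0x282a2c) (.kill 19 1 (nat_lit 0x282a2c)))))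
 (.sub (.split (.sub (.split (.sub (.mv 32 (nat_lit 0x282a2c) (.mv (nat_lit 0x20a0e14161822242c) 10796 (.mv 36 44 (.mv 34 0 (.leaf (nat_lit 0x6101a04101e06040a0c021a140c0a16140604120608121406100e04) 3 1)))))
 (.sub (.mv 32 (nat_lit 0x282a2c) (.mv (nat_lit 0xc121416181c202a) 44 (.mv 36 44 (.kill 21 1 44))))
 .nil)))
 (.sub (.split (.sub (.mv 32 (nat_lit 0x282a2c) (.mv (nat_lit 0x42022242a2c) 0 (.mv 36 44 (.mv 34 0 (.kill 22 1 0)))))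
 (.sub (.mv 32 (nat_lit 0x282a2c) (.mv (nat_lit 0xc121416181c202a) 0 (.mv 36 44 (.kill 21 1 0))))
 .nil)))
 .nil)))
 .nil))))))
 .nil))))
 .nil)))
 .nil))) false 8 16 0) false) false = true := by decide +kernel

theorem cov2_6 {G : Type*} [Group G] [Finite G] (M : Md G par24) : Good (M.d p2A) 2 22 (M.QC [(Ua, 0), j2, j3, j4]) 8 (wv (M.d p2A) 16) :=
  (p2Pc M).cover (p2Rel M) ((M.inv_QC _ (by norm_num)).mono le_top) (M.lfC_sound _ _ _ _) cov2_6b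

theorem cov2_7b : cnd (Nat.ble 9 22) (cnd (inW 0 22 14) (ptB (rbS 9 504 p2Z p2T [4,
 85,
 192,
 1,
 282,
 33,
 9]) (lfC par24 p2A [(Ua, 0), j2, j3, j4] 22) 2 22 22
 (.split (.sub (.mv 6 (nat_lit 0x1a222428) (.split (.sub (.split (.sub (.mv 20 (nat_lit 0x20222628) (.split (.sub (.split (.sub (.mv 10 40 (.mv 26 0 (.mv 30 0 (.kill 19 1 44))))
 (.sub (.mv (nat_lit 0xc141e202a2c) 9768 (.mv 26 44 (.mv 30 0 (.kill 19 1 0))))
 .nil)))
 (.sub (.split (.sub (.mv (nat_lit 0xc141e202a2c) 9768 (.mv 26 44 (.mv 30 0 (.split (.sub (.mv (nat_lit 0x40c1e2a) 0 (.mv 40 0 (.kill 22 1 0)))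
 (.sub (.split (.sub (.mv 40 0 (.leaf (nat_lit 0xc040c1a08200a0c08021a061806160c0410120406040e0a14100a) 1 1))
 (.sub (.mv 40 0 (.leaf (nat_lit 0xe16041c0a1e1c141c141a100a0e0216100e140a060a080c06120a0804) 3 1))
 .nil)))
 .nil))))))
 (.sub (.mv 8 (nat_lit 0x24282a) (.mv 26 0 (.mv 30 0 (.split (.sub (.mv (nat_lit 0xc141e202a2c) 44 (.mv 40 0 (.leaf (nat_lit 0x162006161e1c0a0e021a060e1816101208040a12040810060e0a) 3 1)))
 (.sub (.mv (nat_lit 0xc141e202a2c) 44 (.mv 40 0 (.kill 22 1 0)))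
 .nil))))))
 .nil)))
 .nil))))
 (.sub (.mv 20 (nat_lit 0x202228) (.mv (nat_lit 0xc141e202a2c) (nat_lit 0x2022282c) (.mv 10 9256 (.mv (nat_lit 0x80c1012141c262a) (nat_lit 0x2426282c) (.mv 26 0 (.kill 18 1 9770))))))
 .nil)))
 (.sub (.split (.sub (.mv 20 (nat_lit 0x2024282a) (.mv 12 (nat_lit 0x2026282a) (.mv 10 (nat_lit 0x22262c) (.mv 16 (nat_lit 0x24282a) (.mv 26 (nat_lit 0x26282c) (.kill 18 1 40))))))
 (.sub (.mv 20 (nat_lit 0x202426282a) (.split (.sub (.mv (nat_lit 0x8141a2028) (nat_lit 0x2224282c) (.mv 16 9768 (.mv 26 (nat_lit 0x26282c) (.mv 30 42 (.kill 19 1 42)))))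
 (.sub (.mv (nat_lit 0x8141a2028) (nat_lit 0x242a2c) (.mv 16 9770 (.mv 26 9768 (.mv 30 42 (.split (.sub (.mv 12 44 (.mv 40 0 (.leaf (nat_lit 0x121a10041420061808061c0c0a1816100610060c0804060e101206) 3 1)))
 (.sub (.mv 12 44 (.mv 40 0 (.kill 22 1 0)))
 .nil)))))))
 .nil))))
 .nil)))
 .nil))))
 (.sub (.mv 10 (nat_lit 0x181e222426282c) (.mv (nat_lit 0x60a0e12161a1c1e20222a) (nat_lit 0x1e202224282a) (.mv 8 (nat_lit 0x1e2224262a2c) (.mv 20 (nat_lit 0x202228) (.kill 14 1 (nat_lit 0x1e26282a2c))))))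
 .nil))) false 9 14 0) false) false = true := by decide +kernel

theorem cov2_7 {G : Type*} [Group G] [Finite G] (M : Md G par24) : Good (M.d p2A) 2 22 (M.QC [(Ua, 0), j2, j3, j4]) 9 (wv (M.d p2A) 14) :=
  (p2Pc M).cover (p2Rel M) ((M.inv_QC _ (by norm_num)).mono le_top) (M.lfC_sound _ _ _ _) cov2_7b

theorem cov2_8b : cnd (Nat.ble 9 22) (cnd (inW 0 22 3602) (ptB (rbS 9 504 p2Z p2T [4,
 85,
 192,
 1,
 282,
 33,
 9]) (lfC par24 p2A [(Ua, 0), j2, j3, j4] 22) 2 22 22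
 (.split (.sub (.mv 12 (nat_lit 0x181c1e2022262c) (.mv 4 (nat_lit 0x1a1c1e2a) (.split (.sub (.split (.sub (.split (.sub (.mv 20 (nat_lit 0x222a2c) (.mv 10 (nat_lit 0x2426282a2c) (.mv 18 (nat_lit 0x282a2c) (.mv 30 10282 (.mv (nat_lit 0x80a0c10141c1e282c) 44 (.mv 28 0 (.kill 21 1 44)))))))
 (.sub (.mv 20 (nat_lit 0x222628) (.mv (nat_lit 0x80c1012141c262a) 40 (.mv 18 0 (.mv 30 10282 (.kill 19 1 10284)))))
 .nil)))
 (.sub (.split (.sub (.mv 20 (nat_lit 0x22282c) (.mv 10 (nat_lit 0x24282a) (.mv 18 40 (.mv 30 (nat_lit 0x282a2c) (.split (.sub (.mv 28 0 (.mv 40 0 (.leaf (nat_lit 0x10140e18200a04120e1c080e0c02160e06140e080a14080a140a10) 3 1)))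
 (.sub (.mv 28 0 (.mv 40 0 (.kill 22 1 0)))
 .nil)))))))
 (.sub (.mv 20 (nat_lit 0x22262a) (.mv (nat_lit 0x80c1012141c262a) (nat_lit 0x242628) (.mv 18 10796 (.mv 30 (nat_lit 0x282a2c) (.kill 19 1 (nat_lit 0x282a2c))))))
 .nil)))
 .nil)))
 (.sub (.split (.sub (.split (.sub (.mv 20 (nat_lit 0x22262c) (.mv (nat_lit 0xa1416181e24262a2c) 9772 (.split (.sub (.mv 30 (nat_lit 0x282a2c) (.kill 19 1 (nat_lit 0x282a2c)))
 (.sub (.mv 30 (nat_lit 0x282a2c) (.kill 19 1 10282))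
 .nil)))))
 (.sub (.mv 20 (nat_lit 0x22282a) (.mv (nat_lit 0x80c1012141c262a) 10796 (.split (.sub (.mv 30 (nat_lit 0x282a2c) (.split (.sub (.mv (nat_lit 0x10141c1e202c) 44 (.mv 40 0 (.leaf (nat_lit 0x10080a10041e14061a041a10081816120e0a100a14040806140e0c) 3 1)))
 (.sub (.mv (nat_lit 0x10141c1e202c) 44 (.mv 40 0 (.kill 22 1 0)))
 .nil))))
 (.sub (.mv 30 (nat_lit 0x282a2c) (.split (.sub (.mv (nat_lit 0x60c101216181a1c1e20222628) 44 (.mv 40 0 (.kill 22 1 0)))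
 (.sub (.split (.sub (.mv 40 0 (.leaf (nat_lit 0x10201814161e180218041a1408040816080a14100806040c140c0a0c04) 3 1))
 (.sub (.mv 40 0 (.leaf (nat_lit 0x1014041e1c1e060e100e1a0a04080c16080614060c140a0612080c0a06) 1 1))
 .nil)))
 .nil))))
 .nil)))))
 .nil)))
 (.sub (.split (.sub (.mv 20 (nat_lit 0x2226282a2c) (.mv (nat_lit 0xa1416181e24262a2c) (nat_lit 0x282a2c) (.mv (nat_lit 0x80a0c101216181a1e2426282c) 9772 (.mv 30 10282 (.kill 19 1 10282)))))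
 (.sub (.mv 20 34 (.mv (nat_lit 0x80c1012141c262a) (nat_lit 0x24262a2c) (.mv (nat_lit 0x204080e16181c282a) (nat_lit 0x262a2c) (.mv 30 10282 (.split (.sub (.mv (nat_lit 0x1a1e2c) 0 (.mv 40 0 (.leaf (nat_lit 0x16081a16041e081c04181a0a060c02160e0c04120a04100e10140a06) 3 1)))
 (.sub (.mv (nat_lit 0x1a1e2c) 0 (.mv 40 0 (.kill 22 1 0)))
 .nil)))))))
 .nil)))
 .nil)))
 .nil)))))
 (.sub (.mv 12 (nat_lit 0x181c28) (.mv 4 (nat_lit 0x1a1e202224282c) (.mv (nat_lit 0x80c10121a1c1e26) (nat_lit 0x1e20282a) (.mv 18 (nat_lit 0x2426282c) (.mv (nat_lit 0x10122022262c) (nat_lit 0x2226282a) (.kill 15 1 9770))))))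
 .nil))) false 9 3602 0) false) false = true := by decide +kernel

theorem cov2_8 {G : Type*} [Group G] [Finite G] (M : Md G par24) : Good (M.d p2A) 2 22 (M.QC [(Ua, 0), j2, j3, j4]) 9 (wv (M.d p2A) 3602) :=
  (p2Pc M).cover (p2Rel M) ((M.inv_QC _ (by norm_num)).mono le_top) (M.lfC_sound _ _ _ _) cov2_8b

theorem cov2_9b : cnd (Nat.ble 8 22) (cnd (inW 0 22 3600) (ptB (rbS 9 504 p2Z p2T [4,
 85,
 192,
 1,
 282,
 33,
 9]) (lfC par24 p2A [(Ua, 0), j2, j3, j4] 22) 2 22 22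
 (.split (.sub (.split (.sub (.mv 12 (nat_lit 0x181c22262a) (.mv 4 (nat_lit 0x1a26282a2c) (.mv (nat_lit 0x60c10121416181c2426282a2c) (nat_lit 0x1c1e20222426282c) (.split (.sub (.mv 20 8748 (.mv 18 (nat_lit 0x222426282a) (.kill 16 1 40)))
 (.sub (.mv 20 (nat_lit 0x22282a2c) (.mv 18 (nat_lit 0x22242628) (.kill 16 1 (nat_lit 0x26282a2c))))
 .nil))))))
 (.sub (.mv 12 (nat_lit 0x181c1e20282a2c) (.mv 4 (nat_lit 0x1a1c202224) (.mv (nat_lit 0x80c10121a1c1e26) (nat_lit 0x2224262a2c) (.mv 18 (nat_lit 0x202224262a) (.mv 20 (nat_lit 0x2226282a) (.split (.sub (.mv (nat_lit 0xa0c121c2024262c) (nat_lit 0x26282c) (.split (.sub (.mv 32 10282 (.kill 19 1 (nat_lit 0x282a2c)))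
 (.sub (.mv 32 10282 (.kill 19 1 40))
 .nil))))
 (.sub (.mv (nat_lit 0x2040e12202426282c) (nat_lit 0x26282a2c) (.split (.sub (.mv 32 10282 (.split (.sub (.mv 36 44 (.mv 40 0 (.kill 22 1 0)))
 (.sub (.mv 36 44 (.mv 40 0 (.leaf (nat_lit 0x101a1814041e0216041a181618161210140a0e0814100a0e0a08) 3 1)))
 .nil))))
 (.sub (.mv 32 10282 (.mv (nat_lit 0xa0c121c2024262c) 10796 (.mv 36 44 (.kill 21 1 0))))
 .nil))))
 .nil))))))))
 .nil)))
 (.sub (.split (.sub (.mv 6 (nat_lit 0x1c1e26282a2c) (.split (.sub (.split (.sub (.mv 20 (nat_lit 0x1e22262a2c) (.mv 4 (nat_lit 0x20222426282a) (.mv 18 (nat_lit 0x222426282a) (.mv 24 9772 (.kill 17 1 10282)))))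
 (.sub (.mv 20 (nat_lit 0x1e222a2c) (.mv (nat_lit 0xc141e202a2c) (nat_lit 0x202226282c) (.mv 18 8748 (.mv 24 10284 (.kill 17 1 9260)))))
 .nil)))
 (.sub (.split (.sub (.mv 20 (nat_lit 0x1e242a2c) (.split (.sub (.mv 18 (nat_lit 0x2226282c) (.mv 24 38 (.mv 26 9772 (.mv 30 42 (.split (.sub (.mv 22 44 (.mv 40 0 (.leaf (nat_lit 0xe18201a04021e021614121a12081804160408040814100a0c0614) 3 1)))
 (.sub (.mv 22 44 (.mv 40 0 (.kill 22 1 0)))
 .nil)))))))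
 (.sub (.mv 18 (nat_lit 0x22262a) (.mv 24 (nat_lit 0x262a2c) (.mv 26 38 (.mv 30 42 (.kill 19 1 42)))))
 .nil))))
 (.sub (.mv 20 (nat_lit 0x1e24262a2c) (.mv 12 (nat_lit 0x202226282a) (.mv 18 (nat_lit 0x22242a) (.mv 24 40 (.mv 26 9772 (.kill 18 1 9770))))))
 .nil)))
 .nil))))
 (.sub (.mv 10 (nat_lit 0x181e2c) (.mv (nat_lit 0x60a0e12161a1c1e20222a) (nat_lit 0x1a1c222628) (.mv 8 (nat_lit 0x1e282a2c) (.mv 20 (nat_lit 0x1e222a2c) (.kill 14 1 (nat_lit 0x2022282a2c))))))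
 .nil)))
 .nil))) false 8 3600 0) false) false = true := by decide +kernel

theorem cov2_9 {G : Type*} [Group G] [Finite G] (M : Md G par24) : Good (M.d p2A) 2 22 (M.QC [(Ua, 0), j2, j3, j4]) 8 (wv (M.d p2A) 3600) :=
  (p2Pc M).cover (p2Rel M) ((M.inv_QC _ (by norm_num)).mono le_top) (M.lfC_sound _ _ _ _) cov2_9b

theorem cov2_10b : cnd (Nat.ble 6 22) (cnd (inW 0 22 12) (ptB (rbS 9 504 p2Z p2T [4,
 85,
 192,
 1,
 282,
 33,
 9]) (lfC par24 p2A [(Ua, 0), j2, j3, j4] 22) 2 22 22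
 (.split (.sub (.mv 8 (nat_lit 0x121a1c20222a) (.split (.sub (.mv (nat_lit 0x60814181e28) (nat_lit 0x16181c2224262a2c) (.mv 18 (nat_lit 0x181e282a) (.split (.sub (.split (.sub (.mv 24 (nat_lit 0x1e22262a) (.mv 26 (nat_lit 0x202226282c) (.split (.sub (.mv 32 0 (.kill 17 1 0))
 (.sub (.mv 32 0 (.split (.sub (.mv 36 42 (.mv (nat_lit 0xa12181a22282a2c) 44 (.mv (nat_lit 0xe181a2026282a2c) 0 (.mv (nat_lit 0x40e181a1c24262a2c) 0 (.leaf (nat_lit 0x1a1420101e1c10040e1c180e0c16060c080e140a0e0c14040608) 2 1)))))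
 (.sub (.mv 36 42 (.kill 19 1 42))
 .nil))))
 .nil)))))
 (.sub (.mv 24 (nat_lit 0x1e22282c) (.mv 26 (nat_lit 0x202226282c) (.kill 15 1 (nat_lit 0x2026282a))))
 .nil)))
 (.sub (.split (.sub (.mv 24 (nat_lit 0x1e22262a) (.kill 14 1 (nat_lit 0x1e282c)))
 (.sub (.mv 24 (nat_lit 0x1e22282c) (.kill 14 1 (nat_lit 0x202228)))
 .nil)))
 .nil)))))
 (.sub (.mv (nat_lit 0x60814181e28) (nat_lit 0x181a1c282a) (.mv 18 (nat_lit 0x181e26282c) (.kill 11 1 (nat_lit 0x181e2224262a))))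
 .nil))))
 (.sub (.mv 8 (nat_lit 0x121a1c20262a2c) (.split (.sub (.mv (nat_lit 0x60814181e28) (nat_lit 0x181a1c22242628) (.mv 18 (nat_lit 0x181e2426) (.split (.sub (.split (.sub (.mv 24 (nat_lit 0x1e2224) (.kill 14 1 (nat_lit 0x2026282a2c)))
 (.sub (.mv 24 (nat_lit 0x1e222426282a2c) (.kill 14 1 (nat_lit 0x1e222426)))
 .nil)))
 (.sub (.split (.sub (.mv 24 (nat_lit 0x1e22242c) (.mv 26 (nat_lit 0x202224262a) (.kill 15 1 (nat_lit 0x202224))))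
 (.sub (.mv 24 (nat_lit 0x1e222426282a) (.mv 26 (nat_lit 0x202224262a) (.split (.sub (.mv 32 44 (.split (.sub (.mv 36 10796 (.kill 19 1 44))
 (.sub (.mv 36 10796 (.mv (nat_lit 0xa12181a22282a2c) 0 (.mv (nat_lit 0xe181a2026282a2c) 0 (.kill 21 1 0))))
 .nil))))
 (.sub (.mv 32 44 (.kill 17 1 38))
 .nil)))))
 .nil)))
 .nil)))))
 (.sub (.mv (nat_lit 0x60814181e28) (nat_lit 0x16181c2c) (.mv 18 (nat_lit 0x181e242a2c) (.kill 11 1 (nat_lit 0x181c1e20262a))))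
 .nil))))
 .nil))) false 6 12 0) false) false = true := by decide +kernel

theorem cov2_10 {G : Type*} [Group G] [Finite G] (M : Md G par24) : Good (M.d p2A) 2 22 (M.QC [(Ua, 0), j2, j3, j4]) 6 (wv (M.d p2A) 12) :=
  (p2Pc M).cover (p2Rel M) ((M.inv_QC _ (by norm_num)).mono le_top) (M.lfC_sound _ _ _ _) cov2_10b

theorem cov2_11b : cnd (Nat.ble 6 22) (cnd (inW 0 22 10) (ptB (rbS 9 504 p2Z p2T [4,
 85,
 192,
 1,
 282,
 33,
 9]) (lfC par24 p2A [(Ua, 0), j2, j3, j4] 22) 2 22 22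
 (.mv 6 (nat_lit 0x12181a1c26282c) (.split (.sub (.mv (nat_lit 0x406101214182026282a) 8230 (.split (.sub (.mv 20 (nat_lit 0x181e222426282a) (.split (.sub (.split (.sub (.mv (nat_lit 0xc141e202a2c) (nat_lit 0x2024282c) (.split (.sub (.mv 26 (nat_lit 0x22242c) (.mv 30 10284 (.kill 17 1 (nat_lit 0x2426282c))))
 (.sub (.mv 26 8740 (.mv 30 10284 (.mv (nat_lit 0x181a1e26282a) 9770 (.kill 18 1 38))))
 .nil))))
 (.sub (.mv (nat_lit 0xc141e202a2c) (nat_lit 0x1e2224) (.split (.sub (.mv 26 8740 (.kill 16 1 (nat_lit 0x26282a2c)))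
 (.sub (.mv 26 (nat_lit 0x22242c) (.kill 16 1 (nat_lit 0x22262a2c)))
 .nil))))
 .nil)))
 (.sub (.split (.sub (.split (.sub (.mv (nat_lit 0xc141e202a2c) (nat_lit 0x202628) (.mv 26 (nat_lit 0x22242628) (.kill 16 1 (nat_lit 0x222426282a2c))))
 (.sub (.mv (nat_lit 0xc141e202a2c) (nat_lit 0x2022262a) (.mv 26 (nat_lit 0x222426282a2c) (.kill 16 1 (nat_lit 0x2224282c))))
 .nil)))
 (.sub (.split (.sub (.split (.sub (.mv 26 (nat_lit 0x222426282c) (.mv 30 10282 (.mv (nat_lit 0x181a1e26282a) (nat_lit 0x262a2c) (.mv 28 44 (.mv (nat_lit 0x12181a1c1e282a) 44 (.split (.sub (.mv 42 0 (.leaf (nat_lit 0x81e1c18121e100218021a1810060c160e140a061410080a04120608) 3 1))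
 (.sub (.mv 42 0 (.kill 22 1 0))
 .nil))))))))
 (.sub (.mv 26 (nat_lit 0x22242628) (.mv 30 10282 (.kill 17 1 10282)))
 .nil)))
 (.sub (.split (.sub (.mv 26 (nat_lit 0x222426282a) (.mv 30 (nat_lit 0x282a2c) (.mv (nat_lit 0x181a1e26282a) 9770 (.mv 28 44 (.kill 19 1 0)))))
 (.sub (.mv 26 (nat_lit 0x222426282a2c) (.mv 30 (nat_lit 0x282a2c) (.kill 17 1 (nat_lit 0x26282a2c))))
 .nil)))
 .nil)))
 .nil)))
 .nil))))
 (.sub (.mv 20 (nat_lit 0x181e24262a2c) (.kill 11 1 (nat_lit 0x18202226)))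
 .nil))))
 (.sub (.mv (nat_lit 0x406101214182026282a) (nat_lit 0x1a24262a2c) (.split (.sub (.mv 20 (nat_lit 0x181c2024282c) (.split (.sub (.split (.sub (.mv 12 (nat_lit 0x1e22282c) (.split (.sub (.mv 26 (nat_lit 0x22262a2c) (.kill 16 1 9770))
 (.sub (.mv 26 (nat_lit 0x22262a) (.kill 16 1 8742))
 .nil))))
 (.sub (.mv 12 (nat_lit 0x20262a2c) (.split (.sub (.mv 26 (nat_lit 0x22262a) (.mv 30 10796 (.kill 17 1 42)))
 (.sub (.mv 26 (nat_lit 0x22262a2c) (.mv 30 10796 (.mv (nat_lit 0x101e282a) 9770 (.split (.sub (.split (.sub (.split (.sub (.mv 42 0 (.kill 22 1 0))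
 (.sub (.mv 42 0 (.leaf (nat_lit 0x61816200e081e040616061a0a12040a16140c0a10080a100806140406) 3 1))
 .nil)))
 (.sub (.split (.sub (.mv 42 0 (.kill 22 1 0))
 (.sub (.mv 42 0 (.leaf (nat_lit 0xc201408041e140e1c0e1c0c0e1216080e061412140e06140e0a10) 1 1))
 .nil)))
 .nil)))
 (.sub (.split (.sub (.split (.sub (.mv 42 0 (.leaf (nat_lit 0x1004081c1e101204181a02161012160a0410140c04080612060e0c) 3 1))
 (.sub (.mv 42 0 (.kill 22 1 0))
 .nil)))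
 (.sub (.split (.sub (.mv 42 0 (.leaf (nat_lit 0x612101c0a1e180a080e041a04081614121004060e140e0c080c10) 3 1))
 (.sub (.mv 42 0 (.kill 22 1 0))
 .nil)))
 .nil)))
 .nil))))))
 .nil))))
 .nil)))
 (.sub (.split (.sub (.split (.sub (.split (.sub (.mv 26 (nat_lit 0x22282a2c) (.mv 30 0 (.kill 17 1 44)))
 (.sub (.mv 26 (nat_lit 0x22282a) (.mv 30 0 (.mv (nat_lit 0x8141a1e20222a2c) 9772 (.mv 16 10796 (.mv (nat_lit 0xc1016181e2022282a2c) 0 (.split (.sub (.mv 42 0 (.kill 22 1 0))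
 (.sub (.mv 42 0 (.leaf (nat_lit 0x12040620101e100e1a08021a10160c081610080e0c080c0412060c) 3 1))
 .nil))))))))
 .nil)))
 (.sub (.split (.sub (.mv 26 8744 (.mv 30 44 (.kill 17 1 44)))
 (.sub (.mv 26 (nat_lit 0x22282c) (.mv 30 44 (.split (.sub (.mv 12 (nat_lit 0x282a2c) (.mv (nat_lit 0x80c1012141c1e2026282a2c) 44 (.split (.sub (.mv 42 0 (.leaf (nat_lit 0xa201c160c1e0e181404021a08101816120c04100c100e100a12041204) 3 1))
 (.sub (.mv 42 0 (.kill 22 1 0))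
 .nil)))))
 (.sub (.split (.sub (.mv 12 44 (.split (.sub (.mv 42 0 (.kill 22 1 0))
 (.sub (.mv 42 0 (.leaf (nat_lit 0x60c1a0220161208141a080e121812100a0612040a0810140c0406) 1 1))
 .nil))))
 (.sub (.mv 12 44 (.split (.sub (.mv 42 0 (.leaf (nat_lit 0x141a1810041e140c1a0e1a16140c1416060c12080612140c06141014) 3 1))
 (.sub (.mv 42 0 (.kill 22 1 0))
 .nil))))
 .nil)))
 .nil)))))
 .nil)))
 .nil)))
 (.sub (.split (.sub (.mv 12 (nat_lit 0x20222a2c) (.mv 26 (nat_lit 0x22282a) (.kill 16 1 10284)))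
 (.sub (.mv 12 8234 (.mv 26 (nat_lit 0x22282c) (.kill 16 1 (nat_lit 0x282a2c))))
 .nil)))
 .nil)))
 .nil))))
 (.sub (.mv 20 (nat_lit 0x181c202224282a2c) (.kill 11 1 (nat_lit 0x181c1e202224282c)))
 .nil))))
 .nil)))) false 6 10 0) false) false = true := by decide +kernel

theorem cov2_11 {G : Type*} [Group G] [Finite G] (M : Md G par24) : Good (M.d p2A) 2 22 (M.QC [(Ua, 0), j2, j3, j4]) 6 (wv (M.d p2A) 10) :=
  (p2Pc M).cover (p2Rel M) ((M.inv_QC _ (by norm_num)).mono le_top) (M.lfC_sound _ _ _ _) cov2_11b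

theorem cov2_12b : cnd (Nat.ble 6 22) (cnd (inW 0 22 2572) (ptB (rbS 9 504 p2Z p2T [4,
 85,
 192,
 1,
 282,
 33,
 9]) (lfC par24 p2A [(Ua, 0), j2, j3, j4] 22) 2 22 22
 (.mv 6 (nat_lit 0x1014181a1c20222c) (.mv 8 (nat_lit 0x121a20222628) (.mv (nat_lit 0x40608161a2022242a) (nat_lit 0x1416181c20242a2c) (.split (.sub (.mv 20 (nat_lit 0x18202224282a) (.kill 11 1 (nat_lit 0x181c1e2024262c)))
 (.sub (.mv 20 (nat_lit 0x1820242a2c) (.split (.sub (.split (.sub (.mv 24 (nat_lit 0x1e202224262a) (.kill 14 1 (nat_lit 0x20282c)))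
 (.sub (.mv 24 (nat_lit 0x1e20222428) (.kill 14 1 (nat_lit 0x1e202224282a2c)))
 .nil)))
 (.sub (.split (.sub (.mv 24 (nat_lit 0x1e202224262a) (.mv 26 (nat_lit 0x222426282a) (.kill 15 1 8740)))
 (.sub (.mv 24 (nat_lit 0x1e20222428) (.mv 26 (nat_lit 0x222426282a2c) (.split (.sub (.mv 32 (nat_lit 0x26282a) (.split (.sub (.mv 36 0 (.kill 19 1 10284))
 (.sub (.mv 36 0 (.mv (nat_lit 0xc141e2224282c) 44 (.kill 20 1 44)))
 .nil))))
 (.sub (.mv 32 (nat_lit 0x26282a) (.kill 17 1 10796))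
 .nil)))))
 .nil)))
 .nil))))
 .nil)))))) false 6 2572 0) false) false = true := by decide +kernel

theorem cov2_12 {G : Type*} [Group G] [Finite G] (M : Md G par24) : Good (M.d p2A) 2 22 (M.QC [(Ua, 0), j2, j3, j4]) 6 (wv (M.d p2A) 2572) :=
  (p2Pc M).cover (p2Rel M) ((M.inv_QC _ (by norm_num)).mono le_top) (M.lfC_sound _ _ _ _) cov2_12b

theorem cov2_13b : cnd (Nat.ble 7 22) (cnd (inW 0 22 2060) (ptB (rbS 9 504 p2Z p2T [4,
 85,
 192,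
 1,
 282,
 33,
 9]) (lfC par24 p2A [(Ua, 0), j2, j3, j4] 22) 2 22 22
 (.mv 12 (nat_lit 0x121a1c1e26) (.split (.sub (.split (.sub (.mv 10 (nat_lit 0x181e202224282a2c) (.mv (nat_lit 0x60a0c0e1014161a22282a) (nat_lit 0x2024262a2c) (.mv 20 (nat_lit 0x2026282a) (.kill 13 1 (nat_lit 0x1e2224282a)))))
 (.sub (.mv (nat_lit 0x60c10121416181c2426282a2c) (nat_lit 0x1a1e20242a) (.split (.sub (.mv 20 (nat_lit 0x20262a) (.split (.sub (.split (.sub (.mv 24 8740 (.mv (nat_lit 0x101822262c) 9258 (.mv 28 0 (.kill 18 1 0))))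
 (.sub (.mv 24 (nat_lit 0x22242a2c) (.mv (nat_lit 0x101822262c) (nat_lit 0x24282a2c) (.mv 28 44 (.kill 18 1 10282))))
 .nil)))
 (.sub (.split (.sub (.mv 24 (nat_lit 0x22242a2c) (.mv (nat_lit 0x101822262c) (nat_lit 0x24262a) (.mv 28 0 (.split (.sub (.mv 30 10796 (.mv 26 0 (.mv 38 0 (.kill 22 1 0))))
 (.sub (.mv 30 10796 (.mv 26 0 (.mv 38 0 (.leaf (nat_lit 0x612101c0a1e121c0a04061a121606181204080e0a140408040a060c) 3 1))))
 .nil))))))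
 (.sub (.mv 24 8740 (.mv (nat_lit 0x101822262c) (nat_lit 0x2426282a2c) (.mv 28 44 (.mv (nat_lit 0xe101822282c) 10284 (.mv 30 10796 (.kill 20 1 42))))))
 .nil)))
 .nil))))
 (.sub (.mv 20 (nat_lit 0x20222426282a2c) (.mv (nat_lit 0x406161e2022242c) (nat_lit 0x262a2c) (.split (.sub (.mv 24 (nat_lit 0x22242c) (.kill 16 1 (nat_lit 0x2226282a2c)))
 (.sub (.mv 24 (nat_lit 0x22242a) (.kill 16 1 (nat_lit 0x22262a)))
 .nil)))))
 .nil))))
 .nil)))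
 (.sub (.split (.sub (.mv 10 (nat_lit 0x181e2022282a2c) (.split (.sub (.mv 20 (nat_lit 0x1c20242628) (.kill 13 1 (nat_lit 0x1c1e20242628)))
 (.sub (.mv 20 (nat_lit 0x1c2022262a) (.kill 13 1 (nat_lit 0x1c1e28)))
 .nil))))
 (.sub (.split (.sub (.split (.sub (.mv 20 (nat_lit 0x1c20242628) (.mv (nat_lit 0x40c2224262a) (nat_lit 0x1e24262a2c) (.mv (nat_lit 0x60c10121416181c2426282a2c) (nat_lit 0x24282a) (.mv 24 34 (.kill 16 1 (nat_lit 0x22262a))))))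
 (.sub (.mv 20 (nat_lit 0x1c2022262a) (.split (.sub (.mv (nat_lit 0x60c10121416181c2426282a2c) 8740 (.mv 24 34 (.mv 14 (nat_lit 0x2426282a) (.mv 28 44 (.mv 16 0 (.mv (nat_lit 0x161c2a) 0 (.kill 20 1 44)))))))
 (.sub (.mv (nat_lit 0x60c10121416181c2426282a2c) (nat_lit 0x222426) (.mv 24 (nat_lit 0x222a2c) (.mv 14 (nat_lit 0x2426282a2c) (.mv 28 44 (.kill 18 1 10284)))))
 .nil))))
 .nil)))
 (.sub (.split (.sub (.mv 20 (nat_lit 0x1c2026282a) (.mv (nat_lit 0x40c2224262a) (nat_lit 0x1e242a2c) (.mv (nat_lit 0x60c10121416181c2426282a2c) (nat_lit 0x24282a2c) (.mv 24 (nat_lit 0x2226282c) (.kill 16 1 8740)))))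
 (.sub (.mv 20 (nat_lit 0x1c202224262c) (.split (.sub (.mv (nat_lit 0x60c10121416181c2426282a2c) (nat_lit 0x22242c) (.mv 24 (nat_lit 0x2226282c) (.mv 14 (nat_lit 0x26282c) (.mv 28 10796 (.kill 18 1 42)))))
 (.sub (.mv (nat_lit 0x60c10121416181c2426282a2c) (nat_lit 0x2224262c) (.mv 24 (nat_lit 0x2226282a) (.mv 14 9768 (.mv 28 10796 (.split (.sub (.mv (nat_lit 0x161c2a) 0 (.split (.sub (.mv (nat_lit 0xa16182228) 0 (.leaf (nat_lit 0x1c0c1c061c120816041006080c12100a14100a08) 3 1))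
 (.sub (.split (.sub (.leaf (nat_lit 0xa1c1e081a041e141c0c1a061002160c100a120e10080a12060e12) 1 1)
 (.sub (.leaf (nat_lit 0x121a08021a0a1804021608120e1008140e0c0e10141206) 3 1)
 .nil)))
 .nil))))
 (.sub (.mv (nat_lit 0x161c2a) 0 (.mv (nat_lit 0x406181e24282a2c) 44 (.mv (nat_lit 0x12161826282a2c) 0 (.leaf (nat_lit 0x4101e100a1e080e04021a121410160604100c04080a120c081006) 3 1))))
 .nil)))))))
 .nil))))
 .nil)))
 .nil)))
 .nil)))
 .nil)))) false 7 2060 0) false) false = true := by decide +kernel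

theorem cov2_13 {G : Type*} [Group G] [Finite G] (M : Md G par24) : Good (M.d p2A) 2 22 (M.QC [(Ua, 0), j2, j3, j4]) 7 (wv (M.d p2A) 2060) :=
  (p2Pc M).cover (p2Rel M) ((M.inv_QC _ (by norm_num)).mono le_top) (M.lfC_sound _ _ _ _) cov2_13b

theorem cov2_14b : cnd (Nat.ble 7 22) (cnd (inW 0 22 (nat_lit 0x80c0e)) (ptB (rbS 9 504 p2Z p2T [4,
 85,
 192,
 1,
 282,
 33,
 9]) (lfC par24 p2A [(Ua, 0), j2, j3, j4] 22) 2 22 22
 (.mv 12 (nat_lit 0x121a1e20222426282a) (.split (.sub (.split (.sub (.mv 10 (nat_lit 0x181e2024262a2c) (.mv (nat_lit 0x40a0c0e1618242a) (nat_lit 0x1a1c1e2022242a2c) (.mv 20 (nat_lit 0x1c22242a2c) (.kill 13 1 (nat_lit 0x1c1e2022262a2c)))))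
 (.sub (.mv (nat_lit 0x40c2224262a) (nat_lit 0x1a1e22282a) (.split (.sub (.mv 20 (nat_lit 0x1c22242628) (.split (.sub (.mv (nat_lit 0x60c10121416181c2426282a2c) (nat_lit 0x202226282a) (.mv 24 8748 (.mv (nat_lit 0x101822262c) (nat_lit 0x24282a2c) (.kill 17 1 9258))))
 (.sub (.mv (nat_lit 0x60c10121416181c2426282a2c) (nat_lit 0x2022282a2c) (.mv 24 8746 (.mv (nat_lit 0x101822262c) (nat_lit 0x2426282a2c) (.kill 17 1 10796))))
 .nil))))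
 (.sub (.mv 20 (nat_lit 0x1c262a) (.split (.sub (.mv (nat_lit 0x60c10121416181c2426282a2c) (nat_lit 0x20262c) (.mv 24 8748 (.kill 16 1 (nat_lit 0x242628))))
 (.sub (.mv (nat_lit 0x60c10121416181c2426282a2c) 32 (.mv 24 8746 (.kill 16 1 (nat_lit 0x26282a))))
 .nil))))
 .nil))))
 .nil)))
 (.sub (.split (.sub (.mv 10 (nat_lit 0x181e20262a2c) (.mv (nat_lit 0x60a0c0e1014161a22282a) 9258 (.mv 20 8746 (.kill 13 1 (nat_lit 0x1e24282a2c)))))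
 (.sub (.mv (nat_lit 0x60c10121416181c2426282a2c) (nat_lit 0x1a1e22262a2c) (.split (.sub (.mv 20 (nat_lit 0x22262c) (.mv (nat_lit 0x40c2224262a) (nat_lit 0x1e262a2c) (.split (.sub (.mv 24 8740 (.kill 16 1 (nat_lit 0x2426282c)))
 (.sub (.mv 24 (nat_lit 0x22242a2c) (.kill 16 1 9256))
 .nil)))))
 (.sub (.mv 20 (nat_lit 0x242628) (.split (.sub (.mv (nat_lit 0x40c2224262a) (nat_lit 0x2024282a2c) (.mv 24 (nat_lit 0x22242c) (.mv 14 (nat_lit 0x2426282a2c) (.kill 17 1 42))))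
 (.sub (.mv (nat_lit 0x40c2224262a) (nat_lit 0x2026282c) (.mv 24 (nat_lit 0x22242a) (.mv 14 (nat_lit 0x2426282a) (.kill 17 1 9258))))
 .nil))))
 .nil))))
 .nil)))
 .nil)))) false 7 (nat_lit 0x80c0e) 0) false) false = true := by decide +kernel

theorem cov2_14 {G : Type*} [Group G] [Finite G] (M : Md G par24) : Good (M.d p2A) 2 22 (M.QC [(Ua, 0), j2, j3, j4]) 7 (wv (M.d p2A) (nat_lit 0x80c0e)) :=
  (p2Pc M).cover (p2Rel M) ((M.inv_QC _ (by norm_num)).mono le_top) (M.lfC_sound _ _ _ _) cov2_14b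

theorem cov2_15b : cnd (Nat.ble 6 22) (cnd (inW 0 22 8) (ptB (rbS 9 504 p2Z p2T [4,
 85,
 192,
 1,
 282,
 33,
 9]) (lfC par24 p2A [(Ua, 0), j2, j3, j4] 22) 2 22 22
 (.split (.sub (.mv 12 (nat_lit 0x121a1c1e222a2c) (.kill 8 1 (nat_lit 0x121c24262c)))
 (.sub (.mv 12 (nat_lit 0x121a1e202428) (.kill 8 1 (nat_lit 0x121c22262c)))
 .nil))) false 6 8 0) false) false = true := by decide +kernel

theorem cov2_15 {G : Type*} [Group G] [Finite G] (M : Md G par24) : Good (M.d p2A) 2 22 (M.QC [(Ua, 0), j2, j3, j4]) 6 (wv (M.d p2A) 8) :=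
  (p2Pc M).cover (p2Rel M) ((M.inv_QC _ (by norm_num)).mono le_top) (M.lfC_sound _ _ _ _) cov2_15b

theorem cov2_16b : cnd (Nat.ble 5 22) (cnd (inW 0 22 2058) (ptB (rbS 9 504 p2Z p2T [4,
 85,
 192,
 1,
 282,
 33,
 9]) (lfC par24 p2A [(Ua, 0), j2, j3, j4] 22) 2 22 22
 (.split (.sub (.mv 6 (nat_lit 0x121416182426) (.mv 12 (nat_lit 0x1216181a26) (.kill 8 1 (nat_lit 0x122224282a2c))))
 (.sub (.mv 6 (nat_lit 0x1016181c1e2022242a) (.mv 12 (nat_lit 0x1216181a2a2c) (.mv (nat_lit 0x406101214182026282a) (nat_lit 0x24262c) (.split (.sub (.mv 20 (nat_lit 0x181a1e222628) (.kill 11 1 (nat_lit 0x181a222426)))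
 (.sub (.mv 20 (nat_lit 0x181a1e2c) (.split (.sub (.split (.sub (.split (.sub (.split (.sub (.mv 26 (nat_lit 0x22242a2c) (.kill 16 1 (nat_lit 0x22242c)))
 (.sub (.mv 26 (nat_lit 0x22242a) (.kill 16 1 9258))
 .nil)))
 (.sub (.split (.sub (.mv 26 8740 (.kill 16 1 8742))
 (.sub (.mv 26 (nat_lit 0x22242c) (.kill 16 1 9770))
 .nil)))
 .nil)))
 (.sub (.split (.sub (.split (.sub (.mv 26 (nat_lit 0x22242a) (.mv 30 42 (.mv 28 9770 (.mv (nat_lit 0x181c1e2c) 42 (.mv (nat_lit 0x161a1c) 44 (.split (.sub (.mv 42 0 (.kill 22 1 0))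
 (.sub (.mv 42 0 (.leaf (nat_lit 0x61816200e081e140a1a1c120a12160e0812080c04061406101214) 3 1))
 .nil))))))))
 (.sub (.mv 26 (nat_lit 0x22242a2c) (.mv 30 42 (.kill 17 1 10796)))
 .nil)))
 (.sub (.split (.sub (.mv 26 (nat_lit 0x22242c) (.mv 30 10796 (.mv 28 9770 (.kill 18 1 9770))))
 (.sub (.mv 26 8740 (.mv 30 10796 (.kill 17 1 (nat_lit 0x24262c))))
 .nil)))
 .nil)))
 .nil)))
 (.sub (.split (.sub (.split (.sub (.split (.sub (.mv 26 (nat_lit 0x222426282a) (.kill 16 1 0))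
 (.sub (.mv 26 (nat_lit 0x222426282a2c) (.kill 16 1 8748))
 .nil)))
 (.sub (.split (.sub (.mv 26 (nat_lit 0x222426282c) (.kill 16 1 (nat_lit 0x24262a)))
 (.sub (.mv 26 (nat_lit 0x22242628) (.kill 16 1 (nat_lit 0x2224262a)))
 .nil)))
 .nil)))
 (.sub (.split (.sub (.split (.sub (.mv 26 (nat_lit 0x222426282a2c) (.mv 30 0 (.kill 17 1 (nat_lit 0x2426282c))))
 (.sub (.mv 26 (nat_lit 0x222426282a) (.mv 30 0 (.mv 28 38 (.kill 18 1 (nat_lit 0x26282c)))))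
 .nil)))
 (.sub (.split (.sub (.mv 26 (nat_lit 0x22242628) (.mv 30 44 (.kill 17 1 10284)))
 (.sub (.mv 26 (nat_lit 0x222426282c) (.mv 30 44 (.mv 28 38 (.mv (nat_lit 0x181c1e2c) 42 (.mv (nat_lit 0x161a1c) 44 (.kill 20 1 0))))))
 .nil)))
 .nil)))
 .nil)))
 .nil))))
 .nil))))))
 .nil))) false 5 2058 0) false) false = true := by decide +kernel

theorem cov2_16 {G : Type*} [Group G] [Finite G] (M : Md G par24) : Good (M.d p2A) 2 22 (M.QC [(Ua, 0), j2, j3, j4]) 5 (wv (M.d p2A) 2058) :=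
  (p2Pc M).cover (p2Rel M) ((M.inv_QC _ (by norm_num)).mono le_top) (M.lfC_sound _ _ _ _) cov2_16b

theorem cov2_17b : cnd (Nat.ble 4 22) (cnd (inW 0 22 6) (ptB (rbS 9 504 p2Z p2T [4,
 85,
 192,
 1,
 282,
 33,
 9]) (lfC par24 p2A [(Ua, 0), j2, j3, j4] 22) 2 22 22
 (.split (.sub (.split (.sub (.mv 10 (nat_lit 0x12161a1c1e2022262a2c) (.mv 12 (nat_lit 0x121416181c242c) (.kill 8 1 (nat_lit 0x1214181c222426282a2c))))
 (.sub (.mv 10 (nat_lit 0x12161a1e262a) (.mv 12 (nat_lit 0x121416181c2426282a2c) (.split (.sub (.split (.sub (.mv 18 (nat_lit 0x1a1c222426282c) (.kill 11 1 44))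
 (.sub (.mv 18 (nat_lit 0x1a22262c) (.kill 11 1 (nat_lit 0x1a222428)))
 .nil)))
 (.sub (.split (.sub (.mv 18 (nat_lit 0x1a1c222426282a2c) (.split (.sub (.mv 20 (nat_lit 0x1c1e20262a) (.kill 13 1 (nat_lit 0x1c222a)))
 (.sub (.mv 20 (nat_lit 0x1c1e20222426282a) (.kill 13 1 (nat_lit 0x1c24262a)))
 .nil))))
 (.sub (.mv 18 (nat_lit 0x1a22262a2c) (.split (.sub (.mv 20 (nat_lit 0x1c1e20282a) (.split (.sub (.mv (nat_lit 0x80c101a1e2a) (nat_lit 0x202628) (.split (.sub (.split (.sub (.split (.sub (.mv 34 10282 (.split (.sub (.mv 40 0 (.kill 21 1 0))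
 (.sub (.mv 40 0 (.mv (nat_lit 0x18222c) 0 (.leaf (nat_lit 0xc16181c041e040a081c1a180a18040e12140c0e04101206121404) 3 1)))
 .nil))))
 (.sub (.mv 34 10282 (.split (.sub (.mv 40 0 (.kill 21 1 0))
 (.sub (.mv 40 0 (.split (.sub (.leaf (nat_lit 0x62018080220161a18061c120e0c181006100e0412101206081404) 3 1)
 (.sub (.leaf (nat_lit 0x101c1408200e0c16101a12080414160a1410060a0c040a08120410) 1 1)
 .nil))))
 .nil))))
 .nil)))
 (.sub (.split (.sub (.mv 34 10282 (.kill 19 1 40))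
 (.sub (.mv 34 10282 (.kill 19 1 40))
 .nil)))
 .nil)))
 (.sub (.split (.sub (.mv (nat_lit 0x40c141c1e2224282a2c) 40 (.mv 34 10282 (.kill 19 1 10282)))
 (.sub (.mv (nat_lit 0x40c141c1e2224282a2c) (nat_lit 0x26282a) (.mv 34 10282 (.split (.sub (.mv 40 0 (.mv 28 0 (.leaf (nat_lit 0x121e0a201a1e10140c041a100610041612060c0e080a0e1206100c06) 3 1)))
 (.sub (.mv 40 0 (.kill 21 1 0))
 .nil)))))
 .nil)))
 .nil))))
 (.sub (.mv (nat_lit 0x80c101a1e2a) (nat_lit 0x20242a2c) (.split (.sub (.split (.sub (.mv (nat_lit 0x40c141c1e2224282a2c) (nat_lit 0x26282a2c) (.mv 34 10282 (.split (.sub (.mv 40 0 (.kill 21 1 44))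
 (.sub (.mv 40 0 (.mv (nat_lit 0x202228) 0 (.kill 22 1 0)))
 .nil)))))
 (.sub (.mv (nat_lit 0x40c141c1e2224282a2c) 10284 (.mv 34 10282 (.kill 19 1 10284)))
 .nil)))
 (.sub (.split (.sub (.mv (nat_lit 0x2080a0c0e101214181a1e22262c) (nat_lit 0x262a2c) (.mv 34 10282 (.kill 19 1 10282)))
 (.sub (.mv (nat_lit 0x2080a0c0e101214181a1e22262c) 44 (.mv 34 10282 (.split (.sub (.mv 40 0 (.mv (nat_lit 0x202228) 0 (.leaf (nat_lit 0x120c0a1e0c1e08121a021c1210141610080412140c14100c100c04) 3 1)))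
 (.sub (.mv 40 0 (.kill 21 1 0))
 .nil)))))
 .nil)))
 .nil))))
 .nil))))
 (.sub (.mv 20 (nat_lit 0x1c1e2022242a) (.mv (nat_lit 0x40c141c1e2224282a2c) (nat_lit 0x202226282a2c) (.mv (nat_lit 0x80c101a1e2a) (nat_lit 0x222a2c) (.mv (nat_lit 0x204080a1620222426) (nat_lit 0x22282c) (.split (.sub (.split (.sub (.mv 34 (nat_lit 0x282a2c) (.split (.sub (.mv 40 0 (.kill 21 1 0))
 (.sub (.mv 40 0 (.mv 36 0 (.leaf (nat_lit 0x1c181a10061e0a04080c1a0a181216040a0c08100c06120a0e0614) 3 1)))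
 .nil))))
 (.sub (.mv 34 (nat_lit 0x282a2c) (.split (.sub (.mv 40 0 (.kill 21 1 44))
 (.sub (.mv 40 0 (.mv 36 0 (.kill 22 1 0)))
 .nil))))
 .nil)))
 (.sub (.split (.sub (.mv 34 (nat_lit 0x282a2c) (.kill 19 1 10284))
 (.sub (.mv 34 (nat_lit 0x282a2c) (.kill 19 1 40))
 .nil)))
 .nil)))))))
 .nil))))
 .nil)))
 .nil)))))
 .nil)))
 (.sub (.split (.sub (.mv 10 (nat_lit 0x12161a1c1e20222a) (.kill 7 1 (nat_lit 0x101416181a1e242628)))
 (.sub (.mv 10 (nat_lit 0x12161a1e2a2c) (.kill 7 1 (nat_lit 0x121a1e24282a2c)))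
 .nil)))
 .nil))) false 4 6 0) false) false = true := by decide +kernel

theorem cov2_17 {G : Type*} [Group G] [Finite G] (M : Md G par24) : Good (M.d p2A) 2 22 (M.QC [(Ua, 0), j2, j3, j4]) 4 (wv (M.d p2A) 6) :=
  (p2Pc M).cover (p2Rel M) ((M.inv_QC _ (by norm_num)).mono le_top) (M.lfC_sound _ _ _ _) cov2_17b

theorem cov2_18b : cnd (Nat.ble 4 22) (cnd (inW 0 22 1544) (ptB (rbS 9 504 p2Z p2T [4,
 85,
 192,
 1,
 282,
 33,
 9]) (lfC par24 p2A [(Ua, 0), j2, j3, j4] 22) 2 22 22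
 (.split (.sub (.split (.sub (.mv 10 (nat_lit 0x12181a202224282a2c) (.split (.sub (.split (.sub (.mv 12 (nat_lit 0x161820222c) (.mv 18 (nat_lit 0x1a22262a2c) (.split (.sub (.mv (nat_lit 0x10122022262c) (nat_lit 0x1c1e24262a) (.kill 13 1 (nat_lit 0x1c262a)))
 (.sub (.mv (nat_lit 0x10122022262c) (nat_lit 0x1c1e2226282c) (.kill 13 1 (nat_lit 0x1c20242a2c)))
 .nil)))))
 (.sub (.mv 12 (nat_lit 0x1c1e2022262a2c) (.mv 18 (nat_lit 0x1a22262a2c) (.kill 11 1 (nat_lit 0x1c222426282a))))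
 .nil)))
 (.sub (.split (.sub (.mv 12 (nat_lit 0x1c1e2026282c) (.mv 18 (nat_lit 0x1a2024262a2c) (.kill 11 1 (nat_lit 0x1a1e2022242a))))
 (.sub (.mv 12 (nat_lit 0x16182026282a) (.mv 18 (nat_lit 0x1a2024262a) (.split (.sub (.mv (nat_lit 0x10122022262c) (nat_lit 0x1c1e24282a2c) (.mv (nat_lit 0x40c10121c26282c) (nat_lit 0x1e2026282a2c) (.mv 20 (nat_lit 0x2426282a) (.kill 15 1 (nat_lit 0x2224282a2c)))))
 (.sub (.mv (nat_lit 0x10122022262c) (nat_lit 0x1c1e22) (.split (.sub (.mv 20 8744 (.kill 15 1 (nat_lit 0x202428)))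
 (.sub (.mv 20 8746 (.kill 15 1 (nat_lit 0x20282c)))
 .nil))))
 .nil)))))
 .nil)))
 .nil))))
 (.sub (.mv 10 (nat_lit 0x12181a1c22242628) (.mv 8 (nat_lit 0x1214181a2024) (.split (.sub (.mv 12 (nat_lit 0x16181e222a2c) (.kill 10 1 (nat_lit 0x16181a1c20262a2c)))
 (.sub (.mv 12 (nat_lit 0x1c2226282a2c) (.kill 10 1 (nat_lit 0x161e242c)))
 .nil)))))
 .nil)))
 (.sub (.split (.sub (.mv 10 (nat_lit 0x12181a202224282c) (.kill 7 1 (nat_lit 0x12181c202a2c)))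
 (.sub (.mv 10 (nat_lit 0x12181a1c222426282a) (.kill 7 1 (nat_lit 0x12141620262a)))
 .nil)))
 .nil))) false 4 1544 0) false) false = true := by decide +kernel

theorem cov2_18 {G : Type*} [Group G] [Finite G] (M : Md G par24) : Good (M.d p2A) 2 22 (M.QC [(Ua, 0), j2, j3, j4]) 4 (wv (M.d p2A) 1544) :=
  (p2Pc M).cover (p2Rel M) ((M.inv_QC _ (by norm_num)).mono le_top) (M.lfC_sound _ _ _ _) cov2_18b

theorem cov2_19b : cnd (Nat.ble 6 22) (cnd (inW 0 22 4) (ptB (rbS 9 504 p2Z p2T [4,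
 85,
 192,
 1,
 282,
 33,
 9]) (lfC par24 p2A [(Ua, 0), j2, j3, j4] 22) 2 22 22
 (.mv 10 (nat_lit 0x16181c202228) (.mv 8 (nat_lit 0x12161c22262a) (.split (.sub (.mv (nat_lit 0x60814181e28) (nat_lit 0x16181a22262a2c) (.split (.sub (.mv 18 (nat_lit 0x1a1e202224282a2c) (.split (.sub (.mv 22 7722 (.mv 26 (nat_lit 0x20222426282a2c) (.split (.sub (.mv 32 (nat_lit 0x242a2c) (.split (.sub (.mv 36 42 (.kill 19 1 10796))
 (.sub (.mv 36 42 (.split (.sub (.mv 40 0 (.mv (nat_lit 0xc20222426282a) 0 (.kill 22 1 0)))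
 (.sub (.mv 40 0 (.kill 21 1 44))
 .nil))))
 .nil))))
 (.sub (.mv 32 (nat_lit 0x242a2c) (.kill 17 1 9254))
 .nil)))))
 (.sub (.mv 22 7724 (.mv 26 (nat_lit 0x20222426282a2c) (.kill 15 1 (nat_lit 0x202224282a2c))))
 .nil))))
 (.sub (.mv 18 (nat_lit 0x1a1e2022282a) (.split (.sub (.mv 22 7722 (.kill 14 1 (nat_lit 0x1e262a2c)))
 (.sub (.mv 22 7724 (.kill 14 1 (nat_lit 0x20222428)))
 .nil))))
 .nil))))
 (.sub (.mv (nat_lit 0x60814181e28) (nat_lit 0x18262a2c) (.mv 12 (nat_lit 0x181e222426282c) (.mv 18 (nat_lit 0x1a1e2022242628) (.kill 12 1 (nat_lit 0x1a1e2022)))))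
 .nil))))) false 6 4 0) false) false = true := by decide +kernel

theorem cov2_19 {G : Type*} [Group G] [Finite G] (M : Md G par24) : Good (M.d p2A) 2 22 (M.QC [(Ua, 0), j2, j3, j4]) 6 (wv (M.d p2A) 4) :=
  (p2Pc M).cover (p2Rel M) ((M.inv_QC _ (by norm_num)).mono le_top) (M.lfC_sound _ _ _ _) cov2_19b

theorem cov2_20b : cnd (Nat.ble 6 22) (cnd (inW 0 22 1036) (ptB (rbS 9 504 p2Z p2T [4,
 85,
 192,
 1,
 282,
 33,
 9]) (lfC par24 p2A [(Ua, 0), j2, j3, j4] 22) 2 22 22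
 (.mv 10 (nat_lit 0x1c1e20222628) (.split (.sub (.split (.sub (.split (.sub (.mv 18 (nat_lit 0x1a1c2224) (.split (.sub (.mv (nat_lit 0x612181a1e202224) (nat_lit 0x20222426) (.mv 24 (nat_lit 0x202426282a) (.mv (nat_lit 0x14182224262a2c) (nat_lit 0x2024262a) (.split (.sub (.mv 12 (nat_lit 0x24262a) (.mv 32 9772 (.kill 18 1 (nat_lit 0x262a2c))))
 (.sub (.split (.sub (.mv 32 9772 (.mv 34 42 (.split (.sub (.mv 40 0 (.kill 21 1 0))
 (.sub (.mv 40 0 (.mv (nat_lit 0x1622282c) 0 (.leaf (nat_lit 0xe100c061e021a060e1a061210061604120e060a120a100a101406) 3 1)))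
 .nil)))))
 (.sub (.mv 32 9772 (.mv 34 42 (.kill 19 1 0)))
 .nil)))
 .nil))))))
 (.sub (.mv (nat_lit 0x612181a1e202224) (nat_lit 0x1c1e202226282c) (.mv 24 (nat_lit 0x20242628) (.kill 14 1 (nat_lit 0x20262a))))
 .nil))))
 (.sub (.mv 18 (nat_lit 0x1a2228) (.split (.sub (.mv (nat_lit 0x81216181c1e2022242a2c) (nat_lit 0x1c1e2224282c) (.mv 24 (nat_lit 0x202226282a) (.kill 14 1 (nat_lit 0x20222428))))
 (.sub (.mv (nat_lit 0x81216181c1e2022242a2c) (nat_lit 0x20242c) (.mv 24 (nat_lit 0x20222628) (.mv (nat_lit 0x14182224262a2c) (nat_lit 0x2024262c) (.split (.sub (.mv (nat_lit 0xc181c1e22262a) (nat_lit 0x2426282c) (.mv 32 10284 (.kill 18 1 10284)))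
 (.sub (.split (.sub (.mv 32 10284 (.mv 34 10796 (.split (.sub (.mv 40 0 (.mv (nat_lit 0xe182224282a) 0 (.leaf (nat_lit 0x1e1416021c1e0e101c0c1a100804021608120c10140c0a040c141014) 3 1)))
 (.sub (.mv 40 0 (.kill 21 1 0))
 .nil)))))
 (.sub (.mv 32 10284 (.mv 34 10796 (.kill 19 1 10796)))
 .nil)))
 .nil))))))
 .nil))))
 .nil)))
 (.sub (.split (.sub (.mv 18 (nat_lit 0x1a1c22242a2c) (.kill 11 1 (nat_lit 0x1a1c2224282a2c)))
 (.sub (.mv 18 (nat_lit 0x1a22282a2c) (.kill 11 1 (nat_lit 0x1a1c20242c)))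
 .nil)))
 .nil)))
 (.sub (.split (.sub (.split (.sub (.mv 18 (nat_lit 0x1a1c20262a) (.kill 11 1 (nat_lit 0x1a2226282a2c)))
 (.sub (.mv 18 (nat_lit 0x1a20242a2c) (.kill 11 1 (nat_lit 0x1a1e262a2c)))
 .nil)))
 (.sub (.split (.sub (.mv 18 (nat_lit 0x1a1c20262c) (.split (.sub (.split (.sub (.mv 24 (nat_lit 0x202226282c) (.kill 14 1 (nat_lit 0x202224262c)))
 (.sub (.mv 24 (nat_lit 0x20222a) (.kill 14 1 (nat_lit 0x2022282a)))
 .nil)))
 (.sub (.split (.sub (.mv 24 (nat_lit 0x202226282a2c) (.mv (nat_lit 0x8121622262c) (nat_lit 0x20222426282a) (.split (.sub (.mv (nat_lit 0xc181c1e22262a) 9254 (.mv 32 9772 (.kill 18 1 (nat_lit 0x262a2c))))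
 (.sub (.split (.sub (.mv 32 9772 (.mv 34 10796 (.split (.sub (.mv 40 0 (.kill 21 1 0))
 (.sub (.mv 40 0 (.mv (nat_lit 0xe222c) 0 (.leaf (nat_lit 0x1a12021c081e161408101a1812100416140c04060c14040612080e) 3 1)))
 .nil)))))
 (.sub (.mv 32 9772 (.mv 34 10796 (.kill 19 1 44)))
 .nil)))
 .nil)))))
 (.sub (.mv 24 8226 (.mv (nat_lit 0xc181c1e22262a) (nat_lit 0x2024262a) (.split (.sub (.split (.sub (.mv 32 38 (.mv 34 10796 (.kill 19 1 44)))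
 (.sub (.mv 32 38 (.mv 34 10796 (.split (.sub (.mv 40 0 (.kill 21 1 0))
 (.sub (.mv 40 0 (.split (.sub (.leaf (nat_lit 0xe0c1c08021e0a0e16141c0818100416040a0c140a0e0a0e060e14) 1 1)
 (.sub (.leaf (nat_lit 0x121a080c101e1a0c08181c0618160a08040e08100e08140a1008) 3 1)
 .nil))))
 .nil)))))
 .nil)))
 (.sub (.mv (nat_lit 0x8121622262c) 10282 (.mv 32 38 (.kill 18 1 44)))
 .nil)))))
 .nil)))
 .nil))))
 (.sub (.mv 18 (nat_lit 0x1a2024) (.split (.sub (.mv (nat_lit 0x81216181c1e2022242a2c) (nat_lit 0x1c1e202226282a2c) (.mv 24 (nat_lit 0x202426282a) (.mv (nat_lit 0x10121820242a2c) (nat_lit 0x20262a) (.kill 15 1 (nat_lit 0x20242c)))))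
 (.sub (.mv (nat_lit 0x81216181c1e2022242a2c) 9770 (.mv 24 (nat_lit 0x20242628) (.kill 14 1 30)))
 .nil))))
 .nil)))
 .nil)))
 .nil)))) false 6 1036 0) false) false = true := by decide +kernel

theorem cov2_20 {G : Type*} [Group G] [Finite G] (M : Md G par24) : Good (M.d p2A) 2 22 (M.QC [(Ua, 0), j2, j3, j4]) 6 (wv (M.d p2A) 1036) :=
  (p2Pc M).cover (p2Rel M) ((M.inv_QC _ (by norm_num)).mono le_top) (M.lfC_sound _ _ _ _) cov2_20b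

theorem cov2_21b : cnd (Nat.ble 5 22) (cnd (inW 0 22 1034) (ptB (rbS 9 504 p2Z p2T [4,
 85,
 192,
 1,
 282,
 33,
 9]) (lfC par24 p2A [(Ua, 0), j2, j3, j4] 22) 2 22 22
 (.split (.sub (.mv 10 (nat_lit 0x16181c202226282a2c) (.kill 7 1 (nat_lit 0x16181c20242a)))
 (.sub (.mv 10 (nat_lit 0x1c1e2022282a2c) (.kill 7 1 (nat_lit 0x1e282a2c)))
 .nil))) false 5 1034 0) false) false = true := by decide +kernel

theorem cov2_21 {G : Type*} [Group G] [Finite G] (M : Md G par24) : Good (M.d p2A) 2 22 (M.QC [(Ua, 0), j2, j3, j4]) 5 (wv (M.d p2A) 1034) :=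
  (p2Pc M).cover (p2Rel M) ((M.inv_QC _ (by norm_num)).mono le_top) (M.lfC_sound _ _ _ _) cov2_21b

theorem cov2_22b : cnd (Nat.ble 4 22) (cnd (inW 0 22 1032) (ptB (rbS 9 504 p2Z p2T [4,
 85,
 192,
 1,
 282,
 33,
 9]) (lfC par24 p2A [(Ua, 0), j2, j3, j4] 22) 2 22 22
 (.split (.sub (.split (.sub (.mv 10 (nat_lit 0x1618282c) (.mv 12 (nat_lit 0x121a1c1e24262a) (.split (.sub (.split (.sub (.mv 18 (nat_lit 0x1a22282a2c) (.kill 11 1 (nat_lit 0x262a2c)))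
 (.sub (.mv 18 (nat_lit 0x1a1c2224282a) (.kill 11 1 (nat_lit 0x1a1c1e202224282c)))
 .nil)))
 (.sub (.split (.sub (.mv 18 (nat_lit 0x1a22282a) (.split (.sub (.mv 20 40 (.kill 13 1 (nat_lit 0x22242a)))
 (.sub (.mv 20 8740 (.kill 13 1 (nat_lit 0x1c242a)))
 .nil))))
 (.sub (.mv 18 (nat_lit 0x1a1c2224282a2c) (.split (.sub (.mv 20 (nat_lit 0x26282a2c) (.mv 24 (nat_lit 0x242a2c) (.mv (nat_lit 0x80c10141c242c) (nat_lit 0x2026282c) (.kill 15 1 (nat_lit 0x202426282a2c)))))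
 (.sub (.mv 20 (nat_lit 0x2224262a2c) (.mv 24 36 (.kill 14 1 (nat_lit 0x1e202a2c))))
 .nil))))
 .nil)))
 .nil)))))
 (.sub (.mv 10 (nat_lit 0x1e26282c) (.mv 12 (nat_lit 0x121a1c1e2224262a2c) (.kill 8 1 (nat_lit 0x12161a1c1e222628))))
 .nil)))
 (.sub (.split (.sub (.mv 10 (nat_lit 0x1618282a2c) (.kill 7 1 (nat_lit 0x18222a2c)))
 (.sub (.mv 10 (nat_lit 0x1e26282a2c) (.kill 7 1 (nat_lit 0x1012161a262a2c)))
 .nil)))
 .nil))) false 4 1032 0) false) false = true := by decide +kernel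

theorem cov2_22 {G : Type*} [Group G] [Finite G] (M : Md G par24) : Good (M.d p2A) 2 22 (M.QC [(Ua, 0), j2, j3, j4]) 4 (wv (M.d p2A) 1032) :=
  (p2Pc M).cover (p2Rel M) ((M.inv_QC _ (by norm_num)).mono le_top) (M.lfC_sound _ _ _ _) cov2_22b

theorem cov2_23b : cnd (Nat.ble 4 22) (cnd (inW 0 22 1030) (ptB (rbS 9 504 p2Z p2T [4,
 85,
 192,
 1,
 282,
 33,
 9]) (lfC par24 p2A [(Ua, 0), j2, j3, j4] 22) 2 22 22
 (.split (.sub (.split (.sub (.split (.sub (.mv 12 (nat_lit 0x121416181c2228) (.mv 10 (nat_lit 0x16181c1e2026282a) (.split (.sub (.mv 14 (nat_lit 0x1a2224282a) (.split (.sub (.mv 20 (nat_lit 0x1c1e2224262a) (.mv 24 (nat_lit 0x202224) (.kill 14 1 (nat_lit 0x202224262a))))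
 (.sub (.mv 20 (nat_lit 0x1c1e26282a2c) (.mv 24 (nat_lit 0x2022242a2c) (.split (.sub (.split (.sub (.split (.sub (.mv 32 (nat_lit 0x282a2c) (.mv (nat_lit 0x60c0e10121c1e2024282c) 10796 (.mv 34 42 (.kill 20 1 44))))
 (.sub (.mv 32 (nat_lit 0x282a2c) (.split (.sub (.mv 34 42 (.mv 38 44 (.kill 21 1 44)))
 (.sub (.mv 34 42 (.mv 38 44 (.mv (nat_lit 0x12182022242a2c) 0 (.leaf (nat_lit 0x612101c0a1e0a1c0e0a1a1012080e1606120806140c140c120c1404) 3 1))))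
 .nil))))
 .nil)))
 (.sub (.split (.sub (.mv 32 (nat_lit 0x282a2c) (.kill 18 1 42))
 (.sub (.mv 32 (nat_lit 0x282a2c) (.kill 18 1 40))
 .nil)))
 .nil)))
 (.sub (.split (.sub (.split (.sub (.mv 32 (nat_lit 0x282a2c) (.kill 18 1 40))
 (.sub (.mv 32 (nat_lit 0x282a2c) (.kill 18 1 42))
 .nil)))
 (.sub (.split (.sub (.mv 32 (nat_lit 0x282a2c) (.split (.sub (.mv 34 42 (.mv 38 44 (.kill 21 1 44)))
 (.sub (.mv 34 42 (.mv 38 44 (.split (.sub (.leaf (nat_lit 0x612101c0a1e040218021c040a1402161206100e0a0608060a0c) 3 1)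
 (.sub (.leaf (nat_lit 0xa1a061e161e140a0e081a0c0e12160e1210040a0c0a100e121408) 1 1)
 .nil)))))
 .nil))))
 (.sub (.mv 32 (nat_lit 0x282a2c) (.mv (nat_lit 0x60c0e10121c1e2024282c) 10796 (.mv 34 42 (.kill 20 1 44))))
 .nil)))
 .nil)))
 .nil)))))
 .nil))))
 (.sub (.mv 14 (nat_lit 0x1a1c20262c) (.split (.sub (.mv 20 (nat_lit 0x1c1e2224262a) (.kill 13 1 (nat_lit 0x22262c)))
 (.sub (.mv 20 (nat_lit 0x1c1e26282a2c) (.kill 13 1 (nat_lit 0x1c2022282a)))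
 .nil))))
 .nil)))))
 (.sub (.mv 12 (nat_lit 0x121416181c2226282a2c) (.mv 10 (nat_lit 0x16181c1e20222428) (.split (.sub (.mv 14 (nat_lit 0x1a2224282c) (.kill 11 1 (nat_lit 0x1a1c20282c)))
 (.sub (.mv 14 (nat_lit 0x1a1c20262a) (.kill 11 1 (nat_lit 0x1c20222c)))
 .nil)))))
 .nil)))
 (.sub (.split (.sub (.mv 12 (nat_lit 0x121416181c22) (.kill 8 1 (nat_lit 0x121416182022242628)))
 (.sub (.mv 12 (nat_lit 0x121416181c22262a) (.kill 8 1 (nat_lit 0x1214181a20282c)))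
 .nil)))
 .nil)))
 (.sub (.split (.sub (.mv 6 (nat_lit 0x101416181a1c1e202426282a) (.mv 12 (nat_lit 0x12141618202226) (.mv 10 (nat_lit 0x16181c1e202426282a2c) (.kill 9 1 (nat_lit 0x16181e262a)))))
 (.sub (.mv 6 (nat_lit 0x1216181a242a2c) (.mv 12 (nat_lit 0x12141618202226282c) (.kill 8 1 (nat_lit 0x141e2224262a2c))))
 .nil)))
 .nil))) false 4 1030 0) false) false = true := by decide +kernel

theorem cov2_23 {G : Type*} [Group G] [Finite G] (M : Md G par24) : Good (M.d p2A) 2 22 (M.QC [(Ua, 0), j2, j3, j4]) 4 (wv (M.d p2A) 1030) :=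
  (p2Pc M).cover (p2Rel M) ((M.inv_QC _ (by norm_num)).mono le_top) (M.lfC_sound _ _ _ _) cov2_23b

theorem cov2_24b : cnd (Nat.ble 4 22) (cnd (inW 0 22 (nat_lit 0x40608)) (ptB (rbS 9 504 p2Z p2T [4,
 85,
 192,
 1,
 282,
 33,
 9]) (lfC par24 p2A [(Ua, 0), j2, j3, j4] 22) 2 22 22
 (.split (.sub (.split (.sub (.split (.sub (.mv 8 (nat_lit 0x121416181a222426282a) (.mv 10 (nat_lit 0x1c2026282c) (.mv 12 (nat_lit 0x1618202426282c) (.kill 10 1 (nat_lit 0x16181e2224282a2c)))))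
 (.sub (.mv 8 (nat_lit 0x121416181a1c2022242c) (.mv 10 (nat_lit 0x1c20222426282a2c) (.mv 12 (nat_lit 0x1618202426282a2c) (.kill 10 1 (nat_lit 0x181a1c1e2028)))))
 .nil)))
 (.sub (.split (.sub (.split (.sub (.mv 10 (nat_lit 0x26282a) (.mv 12 (nat_lit 0x16181e24282c) (.mv 14 (nat_lit 0x1a1c20222426282a) (.split (.sub (.mv 16 (nat_lit 0x2224262c) (.mv 24 (nat_lit 0x2226282c) (.mv (nat_lit 0x14182224262a2c) (nat_lit 0x202628) (.split (.sub (.split (.sub (.mv 32 (nat_lit 0x262a2c) (.mv (nat_lit 0x60c10121416181c20242a2c) 10284 (.mv 34 42 (.kill 20 1 0))))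
 (.sub (.mv 32 (nat_lit 0x262a2c) (.split (.sub (.mv 34 42 (.mv 38 0 (.kill 21 1 0)))
 (.sub (.mv 34 42 (.mv 38 0 (.mv (nat_lit 0x1c2226) 0 (.leaf (nat_lit 0x420121e200e0a0e101a100e02160c06040a120a1214040e1012) 3 1))))
 .nil))))
 .nil)))
 (.sub (.split (.sub (.mv 32 (nat_lit 0x262a2c) (.kill 18 1 (nat_lit 0x26282a2c)))
 (.sub (.mv 32 (nat_lit 0x262a2c) (.kill 18 1 9772))
 .nil)))
 .nil))))))
 (.sub (.mv 16 (nat_lit 0x242628) (.mv 24 (nat_lit 0x2226282a) (.kill 14 1 (nat_lit 0x22282a))))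
 .nil))))))
 (.sub (.mv 10 (nat_lit 0x202a2c) (.mv 12 (nat_lit 0x1c222426282a2c) (.mv 14 (nat_lit 0x1a1c2022242a2c) (.split (.sub (.mv 16 8746 (.kill 13 1 (nat_lit 0x202226282a)))
 (.sub (.mv 16 10282 (.kill 13 1 (nat_lit 0x1c202226282a)))
 .nil))))))
 .nil)))
 (.sub (.split (.sub (.mv 10 (nat_lit 0x22242628) (.mv 12 (nat_lit 0x16181e2426282a) (.mv 14 (nat_lit 0x1a1c20222426282c) (.kill 11 1 (nat_lit 0x1a1c2022242a2c)))))
 (.sub (.mv 10 (nat_lit 0x202224) (.mv 12 (nat_lit 0x1c2224282c) (.mv 14 (nat_lit 0x1a1c202224) (.kill 11 1 (nat_lit 0x1c24282a)))))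
 .nil)))
 .nil)))
 .nil)))
 (.sub (.split (.sub (.mv 6 (nat_lit 0x10181a1c1e2022242c) (.mv 8 (nat_lit 0x12141a1c1e2022262a2c) (.mv 10 (nat_lit 0x1c202426282a2c) (.kill 9 1 (nat_lit 0x1416181e20282a)))))
 (.sub (.mv 6 (nat_lit 0x1214181a1c2022242a2c) (.split (.sub (.mv 10 (nat_lit 0x24282a2c) (.kill 9 1 28))
 (.sub (.mv 10 (nat_lit 0x2024262a2c) (.kill 9 1 (nat_lit 0x1a1c2428)))
 .nil))))
 .nil)))
 .nil))) false 4 (nat_lit 0x40608) 0) false) false = true := by decide +kernel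

theorem cov2_24 {G : Type*} [Group G] [Finite G] (M : Md G par24) : Good (M.d p2A) 2 22 (M.QC [(Ua, 0), j2, j3, j4]) 4 (wv (M.d p2A) (nat_lit 0x40608)) :=
  (p2Pc M).cover (p2Rel M) ((M.inv_QC _ (by norm_num)).mono le_top) (M.lfC_sound _ _ _ _) cov2_24b

theorem cov2_25b : cnd (Nat.ble 4 22) (cnd (inW 0 22 2) (ptB (rbS 9 504 p2Z p2T [4,
 85,
 192,
 1,
 282,
 33,
 9]) (lfC par24 p2A [(Ua, 0), j2, j3, j4] 22) 2 22 22
 (.split (.sub (.split (.sub (.mv 10 (nat_lit 0x16182022242a2c) (.kill 7 1 (nat_lit 0x16181c242a)))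
 (.sub (.mv 10 (nat_lit 0x1e2024) (.kill 7 1 (nat_lit 0x1c2022282a)))
 .nil)))
 (.sub (.split (.sub (.mv 10 (nat_lit 0x1618202224) (.split (.sub (.split (.sub (.split (.sub (.mv 18 6688 (.split (.sub (.mv (nat_lit 0x81216181c1e2022242a2c) (nat_lit 0x22242628) (.mv 24 (nat_lit 0x2024262c) (.kill 14 1 (nat_lit 0x2024282c))))
 (.sub (.mv (nat_lit 0x81216181c1e2022242a2c) (nat_lit 0x1c1e2024262c) (.mv 24 (nat_lit 0x2024262a2c) (.mv (nat_lit 0x10121820242a2c) (nat_lit 0x20282a) (.split (.sub (.split (.sub (.mv 32 40 (.mv 34 42 (.split (.sub (.mv 40 0 (.kill 21 1 44))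
 (.sub (.mv 40 0 (.mv (nat_lit 0xc2028) 0 (.kill 22 1 0)))
 .nil)))))
 (.sub (.mv 32 40 (.mv 34 42 (.kill 19 1 44)))
 .nil)))
 (.sub (.mv 12 (nat_lit 0x2426282c) (.mv 32 40 (.kill 18 1 (nat_lit 0x282a2c))))
 .nil))))))
 .nil))))
 (.sub (.mv 18 (nat_lit 0x1a1c202426282a2c) (.split (.sub (.split (.sub (.mv 24 (nat_lit 0x2022262c) (.mv (nat_lit 0x8121622262c) (nat_lit 0x20282c) (.kill 15 1 8230)))
 (.sub (.mv 24 (nat_lit 0x2022282a) (.mv (nat_lit 0xc181c1e22262a) (nat_lit 0x202224282a2c) (.kill 15 1 (nat_lit 0x202426))))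
 .nil)))
 (.sub (.split (.sub (.mv 24 (nat_lit 0x2022262a2c) (.kill 14 1 (nat_lit 0x1e2226282a)))
 (.sub (.mv 24 (nat_lit 0x202228) (.kill 14 1 (nat_lit 0x1e22242a2c)))
 .nil)))
 .nil))))
 .nil)))
 (.sub (.split (.sub (.mv 18 (nat_lit 0x1a202c) (.kill 11 1 (nat_lit 0x1a1c26)))
 (.sub (.mv 18 (nat_lit 0x1a1c202426282a) (.kill 11 1 (nat_lit 0x1a1c1e24262a)))
 .nil)))
 .nil)))
 (.sub (.split (.sub (.split (.sub (.mv 18 (nat_lit 0x1a2224) (.kill 11 1 (nat_lit 0x1a1e202228)))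
 (.sub (.mv 18 (nat_lit 0x1a1c222a) (.kill 11 1 (nat_lit 0x1a1e2224282c)))
 .nil)))
 (.sub (.split (.sub (.mv 18 (nat_lit 0x1a2224) (.split (.sub (.mv (nat_lit 0x81216181c1e2022242a2c) (nat_lit 0x202226282a) (.mv 24 (nat_lit 0x2022262a) (.mv (nat_lit 0x14182224262a2c) (nat_lit 0x2024262a) (.kill 15 1 (nat_lit 0x20262a)))))
 (.sub (.mv (nat_lit 0x81216181c1e2022242a2c) (nat_lit 0x1c1e262a) (.mv 24 (nat_lit 0x202226) (.kill 14 1 (nat_lit 0x1e2226282a2c))))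
 .nil))))
 (.sub (.mv 18 (nat_lit 0x1a1c222a) (.split (.sub (.mv (nat_lit 0x612181a1e202224) 7212 (.mv 24 (nat_lit 0x2024262c) (.kill 14 1 (nat_lit 0x1e242c))))
 (.sub (.mv (nat_lit 0x612181a1e202224) (nat_lit 0x1e24282a2c) (.mv 24 (nat_lit 0x2024262a2c) (.mv (nat_lit 0x14182224262a2c) (nat_lit 0x2024262c) (.kill 15 1 (nat_lit 0x20282a2c)))))
 .nil))))
 .nil)))
 .nil)))
 .nil))))
 (.sub (.mv 10 (nat_lit 0x1e20242a2c) (.mv 8 (nat_lit 0x12161a1e222426282a2c) (.split (.sub (.mv (nat_lit 0x60814181e28) (nat_lit 0x16181c2022242a2c) (.split (.sub (.mv 18 (nat_lit 0x1a1c1e2628) (.split (.sub (.mv 22 (nat_lit 0x1e282a) (.mv 26 (nat_lit 0x2022242628) (.kill 15 1 8234)))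
 (.sub (.mv 22 (nat_lit 0x1e282c) (.mv 26 (nat_lit 0x2022242628) (.split (.sub (.mv 32 (nat_lit 0x2426282a2c) (.kill 17 1 (nat_lit 0x2426282c)))
 (.sub (.mv 32 (nat_lit 0x2426282a2c) (.split (.sub (.mv 36 44 (.split (.sub (.mv 40 0 (.kill 21 1 0))
 (.sub (.mv 40 0 (.mv (nat_lit 0x181a2426282c) 0 (.leaf (nat_lit 0x60c161a1e0416140a1a100e0616060a100a0614060e1412061004) 3 1)))
 .nil))))
 (.sub (.mv 36 44 (.kill 19 1 10796))
 .nil))))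
 .nil)))))
 .nil))))
 (.sub (.mv 18 (nat_lit 0x1a1c1e2426282a) (.split (.sub (.mv 22 (nat_lit 0x1e282a) (.kill 14 1 (nat_lit 0x20282a)))
 (.sub (.mv 22 (nat_lit 0x1e282c) (.kill 14 1 (nat_lit 0x1e2224262a)))
 .nil))))
 .nil))))
 (.sub (.mv (nat_lit 0x60814181e28) (nat_lit 0x181a1c2026282a) (.mv 12 (nat_lit 0x181c2224282c) (.mv 18 (nat_lit 0x1a1c1e28) (.kill 12 1 (nat_lit 0x1a1c2024)))))
 .nil)))))
 .nil)))
 .nil))) false 4 2 0) false) false = true := by decide +kernel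

theorem cov2_25 {G : Type*} [Group G] [Finite G] (M : Md G par24) : Good (M.d p2A) 2 22 (M.QC [(Ua, 0), j2, j3, j4]) 4 (wv (M.d p2A) 2) :=
  (p2Pc M).cover (p2Rel M) ((M.inv_QC _ (by norm_num)).mono le_top) (M.lfC_sound _ _ _ _) cov2_25b

theorem cov2_26b : cnd (Nat.ble 4 22) (cnd (inW 0 22 520) (ptB (rbS 9 504 p2Z p2T [4,
 85,
 192,
 1,
 282,
 33,
 9]) (lfC par24 p2A [(Ua, 0), j2, j3, j4] 22) 2 22 22
 (.split (.sub (.split (.sub (.mv 10 (nat_lit 0x16181c2228) (.kill 7 1 (nat_lit 0x1012181c24262a2c)))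
 (.sub (.mv 10 (nat_lit 0x1c1e2628) (.kill 7 1 (nat_lit 0x161a1e2a2c)))
 .nil)))
 (.sub (.split (.sub (.mv 10 (nat_lit 0x16181c2226282a2c) (.mv 12 (nat_lit 0x121a22) (.kill 8 1 (nat_lit 0x1216242a2c))))
 (.sub (.mv 10 (nat_lit 0x1c1e282a2c) (.mv 12 (nat_lit 0x121a262a) (.split (.sub (.split (.sub (.mv 18 (nat_lit 0x1a1c2228) (.kill 11 1 (nat_lit 0x1a22262c)))
 (.sub (.mv 18 (nat_lit 0x1a22242a2c) (.kill 11 1 (nat_lit 0x1c1e2022282c)))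
 .nil)))
 (.sub (.split (.sub (.mv 18 (nat_lit 0x1a1c22282a) (.split (.sub (.mv 20 (nat_lit 0x2224282c) (.mv 24 (nat_lit 0x24282a2c) (.kill 14 1 9260)))
 (.sub (.mv 20 44 (.mv 24 9256 (.mv (nat_lit 0x80c10141c242c) (nat_lit 0x2026282c) (.split (.sub (.split (.sub (.mv 32 38 (.mv 34 42 (.kill 19 1 0)))
 (.sub (.mv 32 38 (.mv 34 42 (.split (.sub (.mv 40 0 (.kill 21 1 0))
 (.sub (.mv 40 0 (.mv 7208 0 (.leaf (nat_lit 0xa14081c041e1c0a14081a180c0602160a040e08141008140812080604) 2 1)))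
 .nil)))))
 .nil)))
 (.sub (.split (.sub (.mv 32 38 (.kill 18 1 0))
 (.sub (.mv 32 38 (.kill 18 1 9770))
 .nil)))
 .nil))))))
 .nil))))
 (.sub (.mv 18 (nat_lit 0x1a22242c) (.split (.sub (.mv 20 (nat_lit 0x222426282c) (.kill 13 1 (nat_lit 0x1c1e202628)))
 (.sub (.mv 20 9772 (.kill 13 1 (nat_lit 0x1e2022262a)))
 .nil))))
 .nil)))
 .nil)))))
 .nil)))
 .nil))) false 4 520 0) false) false = true := by decide +kernel

theorem cov2_26 {G : Type*} [Group G] [Finite G] (M : Md G par24) : Good (M.d p2A) 2 22 (M.QC [(Ua, 0), j2, j3, j4]) 4 (wv (M.d p2A) 520) :=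
  (p2Pc M).cover (p2Rel M) ((M.inv_QC _ (by norm_num)).mono le_top) (M.lfC_sound _ _ _ _) cov2_26b

theorem cov2_27b : cnd (Nat.ble 3 22) (cnd (inW 0 22 518) (ptB (rbS 9 504 p2Z p2T [4,
 85,
 192,
 1,
 282,
 33,
 9]) (lfC par24 p2A [(Ua, 0), j2, j3, j4] 22) 2 22 22
 (.split (.sub (.split (.sub (.split (.sub (.mv 6 (nat_lit 0x121a1c1e242c) (.mv 12 (nat_lit 0x12141c2022262a) (.kill 8 1 (nat_lit 0x14181a1e))))
 (.sub (.mv 6 (nat_lit 0x10141a20222426282c) (.mv 12 (nat_lit 0x12141c202226282a2c) (.mv 10 (nat_lit 0x16181c1e2426282c) (.kill 9 1 (nat_lit 0x181a1c1e222426282a)))))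
 .nil)))
 (.sub (.split (.sub (.split (.sub (.mv 12 4628 (.kill 8 1 (nat_lit 0x1214161a1c20282a2c)))
 (.sub (.mv 12 (nat_lit 0x1214262a2c) (.kill 8 1 (nat_lit 0x12141c2024282a2c)))
 .nil)))
 (.sub (.split (.sub (.mv 12 (nat_lit 0x121428) (.mv 10 (nat_lit 0x16181c1e26282a2c) (.split (.sub (.mv 14 (nat_lit 0x1a242c) (.kill 11 1 (nat_lit 0x1a1c2022282a)))
 (.sub (.mv 14 (nat_lit 0x1a1c202226282a) (.kill 11 1 (nat_lit 0x20222426)))
 .nil)))))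
 (.sub (.mv 12 (nat_lit 0x121426282a) (.mv 10 (nat_lit 0x16181c1e222428) (.split (.sub (.mv 14 (nat_lit 0x1a242a) (.split (.sub (.mv 20 7724 (.mv 24 (nat_lit 0x202228) (.kill 14 1 (nat_lit 0x20222426282a2c))))
 (.sub (.mv 20 (nat_lit 0x1e2224282a) (.mv 24 (nat_lit 0x2022282a) (.mv (nat_lit 0x60c101216181a1c1e20222628) (nat_lit 0x202428) (.split (.sub (.split (.sub (.mv 32 10282 (.kill 18 1 40))
 (.sub (.mv 32 10282 (.kill 18 1 10796))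
 .nil)))
 (.sub (.split (.sub (.mv 32 10282 (.split (.sub (.mv 34 10796 (.mv 38 0 (.kill 21 1 0)))
 (.sub (.mv 34 10796 (.mv 38 0 (.mv (nat_lit 0x1620222c) 0 (.leaf (nat_lit 0x80a161c1a101604121606140e10080e0c10080c14) 2 1))))
 .nil))))
 (.sub (.mv 32 10282 (.split (.sub (.mv 34 10796 (.kill 20 1 44))
 (.sub (.mv 34 10796 (.kill 20 1 10796))
 .nil))))
 .nil)))
 .nil))))))
 .nil))))
 (.sub (.mv 14 (nat_lit 0x1a1c202226282c) (.split (.sub (.mv 20 (nat_lit 0x1e282c) (.kill 13 1 (nat_lit 0x1c24282a2c)))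
 (.sub (.mv 20 (nat_lit 0x1e22242a) (.kill 13 1 (nat_lit 0x2026282a)))
 .nil))))
 .nil)))))
 .nil)))
 .nil)))
 .nil)))
 (.sub (.split (.sub (.split (.sub (.mv 6 (nat_lit 0x1214161c20222426282a2c) (.split (.sub (.mv 10 32 (.kill 9 1 (nat_lit 0x1620262a)))
 (.sub (.mv 10 9768 (.kill 9 1 (nat_lit 0x161a20282a2c)))
 .nil))))
 (.sub (.mv 6 (nat_lit 0x10161c22242a2c) (.mv 8 (nat_lit 0x121416181a1e20262a2c) (.mv 10 (nat_lit 0x1c222a) (.kill 9 1 (nat_lit 0x14162224262a)))))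
 .nil)))
 (.sub (.split (.sub (.split (.sub (.split (.sub (.mv 10 (nat_lit 0x2024262a2c) (.mv 12 (nat_lit 0x1c242a) (.mv 14 (nat_lit 0x1a1c202426) (.kill 11 1 (nat_lit 0x2224282c)))))
 (.sub (.mv 10 (nat_lit 0x24282a) (.mv 12 (nat_lit 0x16181e2426282a) (.mv 14 (nat_lit 0x1a1c202428) (.kill 11 1 (nat_lit 0x1a20222628)))))
 .nil)))
 (.sub (.split (.sub (.mv 10 (nat_lit 0x2022262c) (.mv 12 (nat_lit 0x1c242c) (.mv 14 (nat_lit 0x1a1c2024262a2c) (.split (.sub (.mv 16 40 (.kill 13 1 (nat_lit 0x1c2022282a2c)))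
 (.sub (.mv 16 8748 (.kill 13 1 (nat_lit 0x202226282a)))
 .nil))))))
 (.sub (.mv 10 (nat_lit 0x22282c) (.mv 12 (nat_lit 0x16181e2426282c) (.mv 14 (nat_lit 0x1a1c2024282a2c) (.split (.sub (.mv 16 (nat_lit 0x2426282a2c) (.mv 24 (nat_lit 0x22282c) (.kill 14 1 8740)))
 (.sub (.mv 16 (nat_lit 0x2224262a2c) (.mv 24 (nat_lit 0x22282a) (.mv (nat_lit 0x14182224262a2c) (nat_lit 0x2024282a2c) (.split (.sub (.split (.sub (.mv 32 (nat_lit 0x262a2c) (.kill 18 1 (nat_lit 0x262a2c)))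
 (.sub (.mv 32 (nat_lit 0x262a2c) (.kill 18 1 9768))
 .nil)))
 (.sub (.split (.sub (.mv 32 (nat_lit 0x262a2c) (.split (.sub (.mv 34 10796 (.mv 38 0 (.mv 7202 0 (.leaf (nat_lit 0xc1e0612081e061c1406041a0e100a160c041208040c140a1012040c08) 2 1))))
 (.sub (.mv 34 10796 (.mv 38 0 (.kill 21 1 0)))
 .nil))))
 (.sub (.mv 32 (nat_lit 0x262a2c) (.mv (nat_lit 0x60c1012161a1c1e2022242c) 10282 (.mv 34 10796 (.kill 20 1 10796))))
 .nil)))
 .nil))))))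
 .nil))))))
 .nil)))
 .nil)))
 (.sub (.split (.sub (.mv 8 (nat_lit 0x12141a1c20222426) (.mv 10 (nat_lit 0x1c22242a) (.mv 12 (nat_lit 0x1c1e202224262a) (.kill 10 1 (nat_lit 0x161c24282a2c)))))
 (.sub (.mv 8 (nat_lit 0x12141a2224282a) (.mv 10 7212 (.mv 12 (nat_lit 0x1c1e2022242c) (.kill 10 1 (nat_lit 0x1a202628)))))
 .nil)))
 .nil)))
 .nil)))
 .nil))) false 3 518 0) false) false = true := by decide +kernel

theorem cov2_27 {G : Type*} [Group G] [Finite G] (M : Md G par24) : Good (M.d p2A) 2 22 (M.QC [(Ua, 0), j2, j3, j4]) 3 (wv (M.d p2A) 518) :=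
  (p2Pc M).cover (p2Rel M) ((M.inv_QC _ (by norm_num)).mono le_top) (M.lfC_sound _ _ _ _) cov2_27b

theorem cov2_28b : cnd (Nat.ble 9 22) (cnd (inW 0 22 (nat_lit 0x2040a0c0e10)) (ptB (rbS 9 504 p2Z p2T [4,
 85,
 192,
 1,
 282,
 33,
 9]) (lfC par24 p2A [(Ua, 0), j2, j3, j4] 22) 2 22 22
 (.split (.sub (.mv 12 (nat_lit 0x181c1e202226282a2c) (.mv 6 (nat_lit 0x1e2022242a) (.mv (nat_lit 0x80c10121a1c1e26) (nat_lit 0x1c1e26) (.mv 20 9260 (.kill 14 1 (nat_lit 0x1e202224262a2c))))))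
 (.sub (.mv 12 (nat_lit 0x181c2a) (.mv 6 (nat_lit 0x1a1e20262a2c) (.split (.sub (.mv 20 (nat_lit 0x24282c) (.split (.sub (.mv 16 (nat_lit 0x22282a2c) (.mv 14 0 (.mv 26 (nat_lit 0x26282c) (.split (.sub (.mv 30 0 (.mv (nat_lit 0x181a1e26282a) 0 (.mv 38 0 (.kill 22 1 0))))
 (.sub (.mv 30 0 (.mv (nat_lit 0x181a1e26282a) 0 (.mv 38 0 (.leaf (nat_lit 0x200c1a14201a181a1c0a121808060a14080e060810081206) 2 1))))
 .nil))))))
 (.sub (.mv 16 8748 (.mv 14 38 (.mv 26 9768 (.split (.sub (.mv 30 0 (.kill 20 1 44))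
 (.sub (.mv 30 0 (.kill 20 1 0))
 .nil))))))
 .nil))))
 (.sub (.mv 20 (nat_lit 0x242628) (.split (.sub (.mv 16 (nat_lit 0x22242628) (.mv 14 36 (.mv 26 (nat_lit 0x26282c) (.kill 18 1 (nat_lit 0x26282a2c)))))
 (.sub (.mv 16 (nat_lit 0x2224262a) (.mv 14 9254 (.mv 26 9768 (.kill 18 1 9770))))
 .nil))))
 .nil)))))
 .nil))) false 9 (nat_lit 0x2040a0c0e10) 0) false) false = true := by decide +kernel

theorem cov2_28 {G : Type*} [Group G] [Finite G] (M : Md G par24) : Good (M.d p2A) 2 22 (M.QC [(Ua, 0), j2, j3, j4]) 9 (wv (M.d p2A) (nat_lit 0x2040a0c0e10)) :=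
  (p2Pc M).cover (p2Rel M) ((M.inv_QC _ (by norm_num)).mono le_top) (M.lfC_sound _ _ _ _) cov2_28b

theorem cov2_29b : cnd (Nat.ble 9 22) (cnd (inW 0 22 (nat_lit 0x2040a0c0e1012)) (ptB (rbS 9 504 p2Z p2T [4,
 85,
 192,
 1,
 282,
 33,
 9]) (lfC par24 p2A [(Ua, 0), j2, j3, j4] 22) 2 22 22
 (.split (.sub (.mv 10 (nat_lit 0x181e20222426282c) (.split (.sub (.mv 8 (nat_lit 0x1c22282a) (.mv 18 9256 (.mv (nat_lit 0x10122022262c) (nat_lit 0x202426282a) (.kill 15 1 (nat_lit 0x202224)))))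
 (.sub (.mv 8 (nat_lit 0x1e2024282a2c) (.mv 18 10284 (.mv (nat_lit 0x10122022262c) (nat_lit 0x2022282a) (.kill 15 1 (nat_lit 0x202628)))))
 .nil))))
 (.sub (.split (.sub (.split (.sub (.split (.sub (.mv 12 7714 (.mv (nat_lit 0x60c10121416181c2426282a2c) (nat_lit 0x20282a) (.mv 10 (nat_lit 0x26282a) (.mv 14 (nat_lit 0x24282a) (.mv 20 9768 (.mv 24 10796 (.mv 22 10796 (.kill 20 1 44))))))))
 (.sub (.mv 12 (nat_lit 0x2026282a) (.mv (nat_lit 0x60c10121416181c2426282a2c) 8228 (.split (.sub (.mv 14 10282 (.mv 20 (nat_lit 0x282a2c) (.mv (nat_lit 0x10141c1e202c) 10796 (.mv 24 10796 (.kill 20 1 10796)))))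
 (.sub (.mv 14 (nat_lit 0x282a2c) (.mv 20 38 (.split (.sub (.mv 24 42 (.kill 20 1 42))
 (.sub (.mv 24 42 (.kill 20 1 42))
 .nil)))))
 .nil)))))
 .nil)))
 (.sub (.split (.sub (.mv 4 (nat_lit 0x1e262a) (.mv 6 (nat_lit 0x2022262a2c) (.mv 8 (nat_lit 0x242628) (.mv 20 10284 (.split (.sub (.mv 26 10284 (.mv (nat_lit 0x181a2628) 42 (.mv (nat_lit 0x1014181c1e202426282c) 0 (.mv 36 0 (.kill 22 1 0)))))
 (.sub (.mv 26 10284 (.mv (nat_lit 0x181a2628) 10796 (.mv (nat_lit 0xe141c202228) 44 (.mv 36 0 (.leaf (nat_lit 0xa0e1a1e161e061a0a141a0e060a16100814040a0c060e0a08060c) 2 1)))))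
 .nil)))))))
 (.sub (.mv 4 (nat_lit 0x202224282a) (.mv 12 (nat_lit 0x2022282a) (.mv 10 (nat_lit 0x22242a2c) (.mv 20 (nat_lit 0x26282a) (.mv 18 10284 (.mv 26 10284 (.kill 19 1 (nat_lit 0x282a2c))))))))
 .nil)))
 .nil)))
 (.sub (.split (.sub (.split (.sub (.split (.sub (.mv 6 (nat_lit 0x202226282c) (.split (.sub (.mv 14 40 (.mv (nat_lit 0x406101214182026282a) (nat_lit 0x262a2c) (.mv 20 40 (.mv 24 10796 (.mv (nat_lit 0xc0e141e2026) 44 (.mv 28 0 (.leaf (nat_lit 0x1a12021e101e04160e0c1c04160612160a121012060814080406120c) 2 1)))))))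
 (.sub (.mv 14 10284 (.split (.sub (.mv 12 42 (.mv 24 42 (.mv 20 44 (.mv (nat_lit 0x16182628) 0 (.leaf (nat_lit 0x61a1420101e140a16181a06140818060410120408040e04140e1406) 2 1)))))
 (.sub (.split (.sub (.mv 24 10796 (.mv (nat_lit 0x406101214182026282a) 44 (.mv (nat_lit 0x1218242a2c) 0 (.leaf (nat_lit 0xc1c101a0416180e0c060c14100a140614040e04) 2 1))))
 (.sub (.mv 24 10796 (.split (.sub (.split (.sub (.leaf (nat_lit 0xc20101a0c1e040a181a0c0a041608140c1206140e04060412) 0 1)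
 (.sub (.leaf (nat_lit 0x61a1420101e0406161c0a0812160604060e0c0e100e04141208) 2 1)
 .nil)))
 (.sub (.mv (nat_lit 0xa0e2228) 0 (.leaf (nat_lit 0x41a1420101e180e10081a16100408160a14080c080a0c0a080a100408) 2 1))
 .nil))))
 .nil)))
 .nil))))
 .nil))))
 (.sub (.mv 6 (nat_lit 0x20282c) (.split (.sub (.mv 14 10284 (.mv 8 10282 (.mv 20 10796 (.mv 24 44 (.mv 26 44 (.mv 32 0 (.leaf (nat_lit 0x41a1420101e1c040c041a0a180c101604140a06080c0e04100e0c04) 2 1)))))))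
 (.sub (.mv 14 40 (.mv (nat_lit 0x80e222426) 9768 (.mv 16 40 (.mv 24 0 (.mv 26 0 (.mv 32 0 (.kill 22 1 0)))))))
 .nil))))
 .nil)))
 (.sub (.split (.sub (.mv 12 (nat_lit 0x20282a2c) (.mv 10 (nat_lit 0x24282c) (.mv 14 9256 (.mv 18 38 (.mv 24 10796 (.mv 22 10796 (.mv 28 44 (.kill 21 1 0))))))))
 (.sub (.mv 12 (nat_lit 0x2022282a) (.mv 10 (nat_lit 0x2426282c) (.mv 14 (nat_lit 0x24282c) (.mv 18 (nat_lit 0x262a2c) (.mv 24 44 (.mv 22 44 (.mv 28 44 (.mv (nat_lit 0x60e161a1c20262c) 0 (.leaf (nat_lit 0x1420101c201e0e0a1a06041a080e061816060e06120a10140e0a14120608) 2 1)))))))))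
 .nil)))
 .nil)))
 (.sub (.split (.sub (.mv 12 30 (.mv (nat_lit 0x60c10121416181c2426282a2c) (nat_lit 0x20222c) (.mv 10 8742 (.mv 20 9256 (.mv 18 40 (.mv 26 10284 (.kill 19 1 0)))))))
 (.sub (.mv 12 (nat_lit 0x202226282a) (.mv (nat_lit 0x60c10121416181c2426282a2c) (nat_lit 0x202224282a2c) (.mv (nat_lit 0x80c10121a1c1e26) (nat_lit 0x2224262c) (.mv 20 (nat_lit 0x2426282a2c) (.mv (nat_lit 0xe141c202228) 9772 (.mv 26 10284 (.mv (nat_lit 0x181a2628) 42 (.kill 20 1 42))))))))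
 .nil)))
 .nil)))
 .nil)))
 .nil))) false 9 (nat_lit 0x2040a0c0e1012) 0) false) false = true := by decide +kernel

theorem cov2_29 {G : Type*} [Group G] [Finite G] (M : Md G par24) : Good (M.d p2A) 2 22 (M.QC [(Ua, 0), j2, j3, j4]) 9 (wv (M.d p2A) (nat_lit 0x2040a0c0e1012)) :=
  (p2Pc M).cover (p2Rel M) ((M.inv_QC _ (by norm_num)).mono le_top) (M.lfC_sound _ _ _ _) cov2_29b

theorem cov2_30b : cnd (Nat.ble 8 22) (cnd (inW 0 22 (nat_lit 0x2040a0c0e)) (ptB (rbS 9 504 p2Z p2T [4,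
 85,
 192,
 1,
 282,
 33,
 9]) (lfC par24 p2A [(Ua, 0), j2, j3, j4] 22) 2 22 22
 (.split (.sub (.split (.sub (.mv 10 (nat_lit 0x181e2022282c) (.split (.sub (.mv 8 (nat_lit 0x1c24282c) (.mv 18 (nat_lit 0x20222428) (.mv 20 (nat_lit 0x20242c) (.split (.sub (.mv (nat_lit 0xe1224282a2c) (nat_lit 0x26282a) (.mv (nat_lit 0x6141a1e2022242a2c) 10284 (.mv 32 10282 (.mv (nat_lit 0x18202c) 10796 (.kill 20 1 42)))))
 (.sub (.mv (nat_lit 0xe1224282a2c) (nat_lit 0x26282a) (.mv (nat_lit 0x60e121416181a1c202224262c) 9772 (.mv 32 10282 (.kill 19 1 0))))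
 .nil))))))
 (.sub (.mv 8 (nat_lit 0x1e202228) (.mv 18 (nat_lit 0x2022282c) (.mv 20 (nat_lit 0x2022262a) (.split (.sub (.mv (nat_lit 0xe1224282a2c) (nat_lit 0x26282a2c) (.split (.sub (.mv 32 (nat_lit 0x282a2c) (.mv (nat_lit 0x18202c) 42 (.mv 36 44 (.mv (nat_lit 0x60e161a1c20) 0 (.leaf (nat_lit 0x820101c201e041814021a0c02160416040a0e0c08140a0810040c10) 2 1)))))
 (.sub (.mv 32 (nat_lit 0x282a2c) (.mv (nat_lit 0x18202c) 10796 (.mv 36 44 (.kill 21 1 44))))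
 .nil))))
 (.sub (.mv (nat_lit 0xe1224282a2c) (nat_lit 0x26282a2c) (.mv (nat_lit 0x412181a1e2022242628) 10796 (.mv 32 (nat_lit 0x282a2c) (.kill 19 1 (nat_lit 0x282a2c)))))
 .nil))))))
 .nil))))
 (.sub (.split (.sub (.split (.sub (.mv 6 (nat_lit 0x1e20282c) (.mv 12 (nat_lit 0x202226282a2c) (.mv 20 (nat_lit 0x20242a) (.mv 18 (nat_lit 0x2224282a) (.mv 24 9258 (.kill 17 1 (nat_lit 0x2426282c)))))))
 (.sub (.mv 6 (nat_lit 0x1c20282c) (.split (.sub (.mv 20 (nat_lit 0x2022262c) (.mv 18 (nat_lit 0x22282c) (.mv 24 9258 (.mv 22 40 (.mv 28 0 (.mv (nat_lit 0xa161c20222c) 0 (.mv (nat_lit 0xe16182c) 44 (.mv 4 0 (.leaf (nat_lit 0xc201408041e0c1c04181a141610021606080e08120a12080a08140c08) 2 1)))))))))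
 (.sub (.mv 20 (nat_lit 0x202226282a) (.mv 18 (nat_lit 0x22282a2c) (.mv 24 36 (.mv 22 10282 (.mv 28 0 (.kill 19 1 44))))))
 .nil))))
 .nil)))
 (.sub (.split (.sub (.mv 6 (nat_lit 0x1c2026282a) (.mv 4 (nat_lit 0x20222426282a) (.mv 20 32 (.mv 18 (nat_lit 0x22262c) (.mv 24 (nat_lit 0x2426282a2c) (.kill 17 1 10282))))))
 (.sub (.mv 6 (nat_lit 0x1e2026282a2c) (.mv 12 (nat_lit 0x2026282a2c) (.mv 20 (nat_lit 0x202224262a) (.mv 18 (nat_lit 0x2224262a2c) (.mv 24 (nat_lit 0x2426282a2c) (.mv 22 40 (.kill 18 1 10282)))))))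
 .nil)))
 .nil)))
 .nil)))
 (.sub (.split (.sub (.mv 12 (nat_lit 0x181c222628) (.mv 6 (nat_lit 0x1a1c2026282a) (.mv (nat_lit 0x80c10121a1c1e26) (nat_lit 0x1c202224262a2c) (.mv 20 (nat_lit 0x1e2024262a2c) (.kill 14 1 (nat_lit 0x202226282a))))))
 (.sub (.mv 12 (nat_lit 0x181c1e202c) (.mv 6 (nat_lit 0x1c202224282a2c) (.mv (nat_lit 0x406101214182026282a) (nat_lit 0x222428) (.mv 20 (nat_lit 0x1e202426282a2c) (.split (.sub (.mv 18 (nat_lit 0x222428) (.kill 16 1 (nat_lit 0x2426282a2c)))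
 (.sub (.mv 18 (nat_lit 0x22242a2c) (.kill 16 1 (nat_lit 0x24262a)))
 .nil)))))))
 .nil)))
 .nil))) false 8 (nat_lit 0x2040a0c0e) 0) false) false = true := by decide +kernel

theorem cov2_30 {G : Type*} [Group G] [Finite G] (M : Md G par24) : Good (M.d p2A) 2 22 (M.QC [(Ua, 0), j2, j3, j4]) 8 (wv (M.d p2A) (nat_lit 0x2040a0c0e)) :=
  (p2Pc M).cover (p2Rel M) ((M.inv_QC _ (by norm_num)).mono le_top) (M.lfC_sound _ _ _ _) cov2_30b

theorem cov2_31b : cnd (Nat.ble 7 22) (cnd (inW 0 22 (nat_lit 0x2040a0c)) (ptB (rbS 9 504 p2Z p2T [4,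
 85,
 192,
 1,
 282,
 33,
 9]) (lfC par24 p2A [(Ua, 0), j2, j3, j4] 22) 2 22 22
 (.split (.sub (.split (.sub (.split (.sub (.mv 10 (nat_lit 0x181e20262c) (.mv (nat_lit 0x60a0e12161a1c1e20222a) (nat_lit 0x1a2a2c) (.mv 8 (nat_lit 0x1c222428) (.mv 20 (nat_lit 0x1e222428) (.kill 14 1 (nat_lit 0x2024282a2c))))))
 (.sub (.mv 6 (nat_lit 0x1e2022) (.split (.sub (.split (.sub (.mv 20 (nat_lit 0x1e222426282a2c) (.split (.sub (.mv 18 8746 (.mv 24 10796 (.mv 26 10282 (.mv 30 42 (.kill 19 1 44)))))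
 (.sub (.mv 18 (nat_lit 0x22282c) (.mv 24 0 (.mv 26 (nat_lit 0x282a2c) (.mv 30 42 (.mv (nat_lit 0xa12181a1e282a2c) 0 (.mv (nat_lit 0xe181a1e28) 0 (.kill 21 1 44)))))))
 .nil))))
 (.sub (.mv 20 (nat_lit 0x1e2224282a2c) (.mv 12 (nat_lit 0x202228) (.mv 18 (nat_lit 0x222426282c) (.mv 24 (nat_lit 0x26282a2c) (.mv 26 10282 (.kill 18 1 9768))))))
 .nil)))
 (.sub (.split (.sub (.mv 20 (nat_lit 0x1e282a) (.mv (nat_lit 0x4141c2026282a2c) (nat_lit 0x202224) (.mv 18 8740 (.mv 24 42 (.kill 17 1 10284)))))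
 (.sub (.mv 20 (nat_lit 0x1e26282a) (.mv (nat_lit 0xc141e202a2c) (nat_lit 0x20262a) (.mv 18 (nat_lit 0x2226282a2c) (.mv 24 (nat_lit 0x26282a) (.kill 17 1 (nat_lit 0x2426282c))))))
 .nil)))
 .nil))))
 .nil)))
 (.sub (.split (.sub (.mv 12 (nat_lit 0x18202c) (.mv 4 (nat_lit 0x1a2224282a2c) (.mv (nat_lit 0x80c10121a1c1e26) (nat_lit 0x222428) (.mv 18 8226 (.mv 20 (nat_lit 0x222426282c) (.mv (nat_lit 0x60c1014181a2024262c) (nat_lit 0x2224282c) (.mv (nat_lit 0xe1224282a2c) (nat_lit 0x26282a2c) (.kill 17 1 38))))))))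
 (.sub (.mv 12 (nat_lit 0x181e2228) (.mv 4 (nat_lit 0x1a1c20262a2c) (.mv (nat_lit 0x60c10121416181c2426282a2c) (nat_lit 0x1c222426282a) (.split (.sub (.mv 20 (nat_lit 0x22242c) (.mv 18 8748 (.kill 16 1 (nat_lit 0x222426282a2c))))
 (.sub (.mv 20 (nat_lit 0x2224282a2c) (.mv 18 (nat_lit 0x222a2c) (.kill 16 1 (nat_lit 0x2224282a))))
 .nil))))))
 .nil)))
 .nil)))
 (.sub (.split (.sub (.split (.sub (.mv 12 (nat_lit 0x181e262a2c) (.mv 4 (nat_lit 0x1a1c1e22242a) (.mv (nat_lit 0x80c10121a1c1e26) (nat_lit 0x1e2026282a) (.mv 18 44 (.mv (nat_lit 0x10122022262c) (nat_lit 0x22242c) (.kill 15 1 (nat_lit 0x22242628)))))))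
 (.sub (.mv 12 (nat_lit 0x18202226282a) (.mv 4 (nat_lit 0x1a1e20282a) (.split (.sub (.split (.sub (.mv (nat_lit 0x60c10121416181c2426282a2c) (nat_lit 0x22242628) (.mv 20 (nat_lit 0x22242a) (.mv 14 0 (.kill 17 1 38))))
 (.sub (.mv (nat_lit 0x60c10121416181c2426282a2c) (nat_lit 0x222428) (.mv 20 (nat_lit 0x222428) (.mv 14 44 (.kill 17 1 9772))))
 .nil)))
 (.sub (.split (.sub (.mv (nat_lit 0x60c10121416181c2426282a2c) (nat_lit 0x22262a2c) (.mv 20 (nat_lit 0x222426) (.mv 14 36 (.kill 17 1 40))))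
 (.sub (.mv (nat_lit 0x60c10121416181c2426282a2c) (nat_lit 0x222a2c) (.mv 20 (nat_lit 0x222426282a) (.mv 14 9260 (.kill 17 1 (nat_lit 0x282a2c)))))
 .nil)))
 .nil)))))
 .nil)))
 (.sub (.split (.sub (.mv 10 (nat_lit 0x181e20242c) (.mv (nat_lit 0x60a0e12161a1c1e20222a) (nat_lit 0x1c1e20222426282c) (.mv 8 (nat_lit 0x1c282a2c) (.mv 20 (nat_lit 0x2022242a) (.kill 14 1 7714)))))
 (.sub (.mv 6 (nat_lit 0x1a1c2024262a2c) (.split (.sub (.split (.sub (.mv 20 (nat_lit 0x202224262c) (.mv 12 (nat_lit 0x2026282a) (.mv 10 8746 (.mv 14 (nat_lit 0x24282a) (.kill 17 1 9254)))))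
 (.sub (.mv 20 (nat_lit 0x2022242c) (.mv 4 (nat_lit 0x2022242628) (.split (.sub (.mv 14 10282 (.kill 17 1 9772))
 (.sub (.mv 14 (nat_lit 0x282a2c) (.kill 17 1 38))
 .nil)))))
 .nil)))
 (.sub (.split (.sub (.mv 20 8234 (.mv 4 (nat_lit 0x20222426282a2c) (.mv 8 (nat_lit 0x22242628) (.mv 16 (nat_lit 0x24262c) (.kill 17 1 9768)))))
 (.sub (.mv 20 (nat_lit 0x20262a) (.mv (nat_lit 0xc141e202a2c) (nat_lit 0x20262a2c) (.mv 10 (nat_lit 0x2426282a) (.mv 16 10796 (.kill 17 1 36)))))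
 .nil)))
 .nil))))
 .nil)))
 .nil)))
 .nil))) false 7 (nat_lit 0x2040a0c) 0) false) false = true := by decide +kernel

theorem cov2_31 {G : Type*} [Group G] [Finite G] (M : Md G par24) : Good (M.d p2A) 2 22 (M.QC [(Ua, 0), j2, j3, j4]) 7 (wv (M.d p2A) (nat_lit 0x2040a0c)) :=
  (p2Pc M).cover (p2Rel M) ((M.inv_QC _ (by norm_num)).mono le_top) (M.lfC_sound _ _ _ _) cov2_31b

theorem cov2_32b : cnd (Nat.ble 6 22) (cnd (inW 0 22 (nat_lit 0x2040a)) (ptB (rbS 9 504 p2Z p2T [4,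
 85,
 192,
 1,
 282,
 33,
 9]) (lfC par24 p2A [(Ua, 0), j2, j3, j4] 22) 2 22 22
 (.split (.sub (.mv 8 (nat_lit 0x121e242628) (.split (.sub (.mv (nat_lit 0x60814181e28) (nat_lit 0x182226) (.mv 18 (nat_lit 0x181c1e202228) (.split (.sub (.split (.sub (.mv 24 (nat_lit 0x1e2224262a) (.kill 14 1 (nat_lit 0x1e222426282c)))
 (.sub (.mv 24 (nat_lit 0x1e2224282c) (.kill 14 1 (nat_lit 0x20282a2c)))
 .nil)))
 (.sub (.split (.sub (.mv 24 (nat_lit 0x1e2224262a2c) (.mv 26 (nat_lit 0x202224282a2c) (.split (.sub (.mv 32 (nat_lit 0x26282a) (.split (.sub (.mv 36 44 (.kill 19 1 0))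
 (.sub (.mv 36 44 (.split (.sub (.mv (nat_lit 0x14181a2226282a) 44 (.mv 40 0 (.kill 22 1 0)))
 (.sub (.mv (nat_lit 0x14181a2226282a) 44 (.mv 40 0 (.leaf (nat_lit 0xe20040e20181a040e1a16061402160e14100612101210040e080a06) 3 1)))
 .nil))))
 .nil))))
 (.sub (.mv 32 (nat_lit 0x26282a) (.kill 17 1 10282))
 .nil)))))
 (.sub (.mv 24 (nat_lit 0x1e222428) (.mv 26 (nat_lit 0x202224282a2c) (.kill 15 1 (nat_lit 0x2022242628))))
 .nil)))
 .nil)))))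
 (.sub (.mv (nat_lit 0x60814181e28) (nat_lit 0x16181a26) (.mv 18 (nat_lit 0x181c1e20222628) (.kill 11 1 (nat_lit 0x1820282c))))
 .nil))))
 (.sub (.mv 8 (nat_lit 0x121e2226282c) (.split (.sub (.mv (nat_lit 0x60814181e28) (nat_lit 0x16181a22242628) (.mv 18 (nat_lit 0x181c1e202224262a2c) (.split (.sub (.split (.sub (.mv 24 7714 (.kill 14 1 30))
 (.sub (.mv 24 (nat_lit 0x1e2226282a2c) (.kill 14 1 (nat_lit 0x20222a)))
 .nil)))
 (.sub (.split (.sub (.mv 24 7714 (.mv 26 (nat_lit 0x202226282a) (.split (.sub (.mv 32 (nat_lit 0x26282a2c) (.kill 17 1 (nat_lit 0x26282a2c)))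
 (.sub (.mv 32 (nat_lit 0x26282a2c) (.split (.sub (.mv 36 44 (.split (.sub (.split (.sub (.mv (nat_lit 0xa181a22242c) 0 (.leaf (nat_lit 0x61816200e081e060a0e0a021a0a06101604060e14040c0a080e140e120a08) 3 1))
 (.sub (.split (.sub (.leaf (nat_lit 0xa1c1e081a041e1c1a0c1c1a06100c10160e12060e06100c140806100e) 1 1)
 (.sub (.leaf (nat_lit 0x612101c0a1e1c081206021a080e0c04160410060a04100e080e081406) 3 1)
 .nil)))
 .nil)))
 (.sub (.mv (nat_lit 0x4181a24282a) 0 (.mv (nat_lit 0xe20242c) 0 (.leaf (nat_lit 0x100e1a161a0c0e100a161206080a14120a1014061012) 3 1)))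
 .nil))))
 (.sub (.mv 36 44 (.kill 19 1 44))
 .nil))))
 .nil)))))
 (.sub (.mv 24 (nat_lit 0x1e2226282a2c) (.mv 26 (nat_lit 0x202226282a) (.kill 15 1 8234)))
 .nil)))
 .nil)))))
 (.sub (.mv (nat_lit 0x60814181e28) (nat_lit 0x182426282c) (.mv 18 (nat_lit 0x181c1e2022242a2c) (.kill 11 1 (nat_lit 0x182022282a))))
 .nil))))
 .nil))) false 6 (nat_lit 0x2040a) 0) false) false = true := by decide +kernel

theorem cov2_32 {G : Type*} [Group G] [Finite G] (M : Md G par24) : Good (M.d p2A) 2 22 (M.QC [(Ua, 0), j2, j3, j4]) 6 (wv (M.d p2A) (nat_lit 0x2040a)) :=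
  (p2Pc M).cover (p2Rel M) ((M.inv_QC _ (by norm_num)).mono le_top) (M.lfC_sound _ _ _ _) cov2_32b

theorem cov2_33b : cnd (Nat.ble 5 22) (cnd (inW 0 22 516) (ptB (rbS 9 504 p2Z p2T [4,
 85,
 192,
 1,
 282,
 33,
 9]) (lfC par24 p2A [(Ua, 0), j2, j3, j4] 22) 2 22 22
 (.split (.sub (.mv 6 (nat_lit 0x101416181e20222a2c) (.mv 8 (nat_lit 0x121c1e22262a2c) (.mv (nat_lit 0x40608161a2022242a) (nat_lit 0x14181c1e2026) (.split (.sub (.mv 20 (nat_lit 0x181c1e20262c) (.split (.sub (.split (.sub (.mv 24 (nat_lit 0x1e2024262a) (.mv 26 (nat_lit 0x2226282c) (.kill 15 1 (nat_lit 0x2226282a))))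
 (.sub (.mv 24 (nat_lit 0x1e202428) (.mv 26 (nat_lit 0x222628) (.split (.sub (.mv 32 (nat_lit 0x26282a) (.split (.sub (.mv 36 0 (.mv (nat_lit 0x12141c262a) 10796 (.split (.sub (.mv 42 0 (.leaf (nat_lit 0x200a140e041e0a0c1c06021a1008180a12080e0a0c0e1014100a08) 3 1))
 (.sub (.mv 42 0 (.kill 22 1 0))
 .nil)))))
 (.sub (.mv 36 0 (.kill 19 1 0))
 .nil))))
 (.sub (.mv 32 (nat_lit 0x26282a) (.kill 17 1 (nat_lit 0x26282a)))
 .nil)))))
 .nil)))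
 (.sub (.split (.sub (.mv 24 (nat_lit 0x1e2024262a2c) (.kill 14 1 (nat_lit 0x202224262a)))
 (.sub (.mv 24 (nat_lit 0x1e2024282c) (.kill 14 1 (nat_lit 0x1e2024262a)))
 .nil)))
 .nil))))
 (.sub (.mv 20 (nat_lit 0x181c1e2022282a2c) (.kill 11 1 (nat_lit 0x181c1e26282c)))
 .nil))))))
 (.sub (.mv 6 (nat_lit 0x1216181c1e202228) (.split (.sub (.mv (nat_lit 0x406101214182026282a) (nat_lit 0x161a1c26282c) (.split (.sub (.mv 20 (nat_lit 0x181c262a) (.kill 11 1 (nat_lit 0x181c1e2226282a)))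
 (.sub (.mv 20 (nat_lit 0x181c2228) (.split (.sub (.split (.sub (.split (.sub (.mv (nat_lit 0xc141e202a2c) (nat_lit 0x20282a2c) (.mv 26 8744 (.kill 16 1 (nat_lit 0x26282a))))
 (.sub (.mv (nat_lit 0xc141e202a2c) (nat_lit 0x20222c) (.mv 26 (nat_lit 0x22282a2c) (.kill 16 1 9768)))
 .nil)))
 (.sub (.split (.sub (.split (.sub (.mv 26 (nat_lit 0x22282c) (.mv 30 (nat_lit 0x26282a) (.kill 17 1 9772)))
 (.sub (.mv 26 8744 (.mv 30 (nat_lit 0x26282a) (.split (.sub (.mv 14 10796 (.mv (nat_lit 0x181a2628) 42 (.kill 20 1 10796)))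
 (.sub (.mv 14 10796 (.mv (nat_lit 0x181a2628) 10796 (.kill 20 1 42)))
 .nil)))))
 .nil)))
 (.sub (.split (.sub (.mv 26 (nat_lit 0x22282a) (.mv 30 (nat_lit 0x26282a2c) (.kill 17 1 9772)))
 (.sub (.mv 26 (nat_lit 0x22282a2c) (.mv 30 (nat_lit 0x26282a2c) (.mv (nat_lit 0x81a2026282a) 10284 (.mv (nat_lit 0x101a1e242628) 10282 (.mv (nat_lit 0x181a2628) 42 (.kill 20 1 42))))))
 .nil)))
 .nil)))
 .nil)))
 (.sub (.split (.sub (.mv (nat_lit 0xc141e202a2c) (nat_lit 0x202426282a) (.split (.sub (.mv 26 8742 (.mv 30 (nat_lit 0x26282c) (.kill 17 1 9768)))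
 (.sub (.mv 26 (nat_lit 0x22262c) (.mv 30 (nat_lit 0x26282c) (.mv (nat_lit 0x101a24262a2c) 10282 (.mv 14 44 (.mv (nat_lit 0x181a2628) 42 (.split (.sub (.mv 42 0 (.kill 22 1 0))
 (.sub (.mv 42 0 (.leaf (nat_lit 0x21e0a0c121e080a1a0c1a1018141808041008120e10060806080a06) 2 1))
 .nil))))))))
 .nil))))
 (.sub (.mv (nat_lit 0xc141e202a2c) (nat_lit 0x1e2224262a2c) (.split (.sub (.mv 26 (nat_lit 0x22262c) (.kill 16 1 (nat_lit 0x282a2c)))
 (.sub (.mv 26 8742 (.kill 16 1 (nat_lit 0x22262a2c)))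
 .nil))))
 .nil)))
 .nil))))
 .nil))))
 (.sub (.mv (nat_lit 0x406101214182026282a) (nat_lit 0x161c202628) (.split (.sub (.mv 20 (nat_lit 0x181e202226282c) (.kill 11 1 (nat_lit 0x182022262a2c)))
 (.sub (.mv 20 (nat_lit 0x181e2028) (.split (.sub (.split (.sub (.mv 12 (nat_lit 0x1e2628) (.split (.sub (.mv 26 (nat_lit 0x222426282c) (.kill 16 1 (nat_lit 0x222628)))
 (.sub (.mv 26 (nat_lit 0x22242628) (.kill 16 1 40))
 .nil))))
 (.sub (.mv 12 (nat_lit 0x20222a) (.split (.sub (.mv 26 (nat_lit 0x22242628) (.mv 30 9772 (.mv (nat_lit 0x181a1e26282a) (nat_lit 0x26282c) (.kill 18 1 42))))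
 (.sub (.mv 26 (nat_lit 0x222426282c) (.mv 30 9772 (.kill 17 1 (nat_lit 0x24262a2c))))
 .nil))))
 .nil)))
 (.sub (.split (.sub (.split (.sub (.split (.sub (.mv 26 8740 (.mv 30 9770 (.kill 17 1 (nat_lit 0x282a2c))))
 (.sub (.mv 26 (nat_lit 0x22242c) (.mv 30 9770 (.mv (nat_lit 0x181a1e26282a) 9768 (.mv 28 10796 (.kill 19 1 10284)))))
 .nil)))
 (.sub (.split (.sub (.mv 26 (nat_lit 0x22242a2c) (.mv 30 (nat_lit 0x262a2c) (.kill 17 1 9768)))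
 (.sub (.mv 26 (nat_lit 0x22242a) (.mv 30 (nat_lit 0x262a2c) (.mv (nat_lit 0x181a1e26282a) (nat_lit 0x26282c) (.mv 28 10796 (.mv (nat_lit 0xc1c1e2c) 10796 (.kill 20 1 10796))))))
 .nil)))
 .nil)))
 (.sub (.split (.sub (.mv 12 (nat_lit 0x20262a2c) (.mv 26 (nat_lit 0x22242c) (.kill 16 1 9256)))
 (.sub (.mv 12 (nat_lit 0x2022262a) (.mv 26 (nat_lit 0x22242a) (.kill 16 1 (nat_lit 0x2426282c))))
 .nil)))
 .nil)))
 .nil))))
 .nil))))
 .nil))))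
 .nil))) false 5 516 0) false) false = true := by decide +kernel

theorem cov2_33 {G : Type*} [Group G] [Finite G] (M : Md G par24) : Good (M.d p2A) 2 22 (M.QC [(Ua, 0), j2, j3, j4]) 5 (wv (M.d p2A) 516) :=
  (p2Pc M).cover (p2Rel M) ((M.inv_QC _ (by norm_num)).mono le_top) (M.lfC_sound _ _ _ _) cov2_33b

theorem cov2_34b : cnd (Nat.ble 9 22) (cnd (inW 0 22 (nat_lit 0x204080a0e)) (ptB (rbS 9 504 p2Z p2T [4,
 85,
 192,
 1,
 282,
 33,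
 9]) (lfC par24 p2A [(Ua, 0), j2, j3, j4] 22) 2 22 22
 (.split (.sub (.mv (nat_lit 0x60c10121416181c2426282a2c) (nat_lit 0x1a2426282c) (.split (.sub (.mv 20 (nat_lit 0x202426282c) (.split (.sub (.split (.sub (.mv 24 (nat_lit 0x2224262a2c) (.mv (nat_lit 0x101822262c) 36 (.mv 28 42 (.split (.sub (.mv 30 44 (.mv 26 0 (.mv 38 0 (.leaf (nat_lit 0x161e021e0a200c1a1c041a0e180602160a0c14100e0c0e0a10120e04) 2 1))))
 (.sub (.mv 30 44 (.mv 26 0 (.mv 38 0 (.kill 22 1 0))))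
 .nil))))))
 (.sub (.mv 24 (nat_lit 0x222426) (.mv (nat_lit 0x101822262c) (nat_lit 0x24282c) (.mv 28 10796 (.mv 14 10284 (.mv 30 44 (.kill 20 1 44))))))
 .nil)))
 (.sub (.split (.sub (.mv 24 (nat_lit 0x222426) (.mv (nat_lit 0x101822262c) 9254 (.mv 28 42 (.kill 18 1 10796))))
 (.sub (.mv 24 (nat_lit 0x2224262a2c) (.mv (nat_lit 0x101822262c) (nat_lit 0x2426282c) (.mv 28 10796 (.kill 18 1 (nat_lit 0x282a2c)))))
 .nil)))
 .nil))))
 (.sub (.mv 20 (nat_lit 0x2022262c) (.mv (nat_lit 0x406161e2022242c) 9260 (.split (.sub (.mv 24 (nat_lit 0x2224262a) (.kill 16 1 (nat_lit 0x222428)))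
 (.sub (.mv 24 (nat_lit 0x2224262c) (.kill 16 1 (nat_lit 0x22242a)))
 .nil)))))
 .nil))))
 (.sub (.mv 10 (nat_lit 0x181e222426282a2c) (.mv (nat_lit 0x60a0c0e1014161a22282a) (nat_lit 0x1e2022242a) (.mv 20 (nat_lit 0x2024262a) (.kill 13 1 (nat_lit 0x1e2224282a2c)))))
 .nil))) false 9 (nat_lit 0x204080a0e) 0) false) false = true := by decide +kernel

theorem cov2_34 {G : Type*} [Group G] [Finite G] (M : Md G par24) : Good (M.d p2A) 2 22 (M.QC [(Ua, 0), j2, j3, j4]) 9 (wv (M.d p2A) (nat_lit 0x204080a0e)) :=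
  (p2Pc M).cover (p2Rel M) ((M.inv_QC _ (by norm_num)).mono le_top) (M.lfC_sound _ _ _ _) cov2_34b

theorem cov2_35b : cnd (Nat.ble 9 22) (cnd (inW 0 22 (nat_lit 0x204080a0e12)) (ptB (rbS 9 504 p2Z p2T [4,
 85,
 192,
 1,
 282,
 33,
 9]) (lfC par24 p2A [(Ua, 0), j2, j3, j4] 22) 2 22 22
 (.split (.sub (.split (.sub (.split (.sub (.mv 20 (nat_lit 0x1c2026282a) (.mv (nat_lit 0x40c2224262a) (nat_lit 0x2024282a) (.split (.sub (.mv 24 (nat_lit 0x22262c) (.kill 16 1 (nat_lit 0x222428)))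
 (.sub (.mv 24 (nat_lit 0x22262a) (.kill 16 1 (nat_lit 0x2224282a)))
 .nil)))))
 (.sub (.mv 20 (nat_lit 0x1c202224262c) (.split (.sub (.split (.sub (.mv 24 (nat_lit 0x22262c) (.split (.sub (.mv 28 10796 (.kill 18 1 42))
 (.sub (.mv 28 10796 (.kill 18 1 42))
 .nil))))
 (.sub (.mv 24 (nat_lit 0x22262a) (.mv (nat_lit 0xa18202628) (nat_lit 0x2426282a) (.mv 28 42 (.kill 18 1 10796))))
 .nil)))
 (.sub (.split (.sub (.mv 24 (nat_lit 0x22262a) (.split (.sub (.mv 28 10796 (.split (.sub (.split (.sub (.mv (nat_lit 0x60c1012141622242a) 44 (.mv (nat_lit 0x12181c242a) 0 (.leaf (nat_lit 0xc201408041e040e0c0e1a1806160e160e080c061214040a0604060e) 2 1)))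
 (.sub (.mv (nat_lit 0x40c1c22) 0 (.mv (nat_lit 0x12181c242a) 0 (.leaf (nat_lit 0xc201408041e101606081a0c1610180e0610080a0c14100a06041204) 2 1)))
 .nil)))
 (.sub (.split (.sub (.split (.sub (.mv (nat_lit 0xa181c20282a2c) 0 (.leaf (nat_lit 0x61a1420101e06161208041a0c1014160410140e08060c100c060a0608) 2 1))
 (.sub (.split (.sub (.leaf (nat_lit 0xa20040e18041e0e0416101a04160e16080e060c100a0e1208120a0e) 0 1)
 (.sub (.leaf (nat_lit 0xc201408041e161a14061a140614061608120e040c120c0604060c08) 2 1)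
 .nil)))
 .nil)))
 (.sub (.mv (nat_lit 0x60c1012141622242a) 0 (.mv 14 0 (.leaf (nat_lit 0xc200a0e081e02160a1a040a0c04160c0a121412081014120e14) 2 1)))
 .nil)))
 .nil))))
 (.sub (.mv 28 10796 (.mv (nat_lit 0x60c1012141622242a) 10284 (.mv (nat_lit 0x40616181c1e28) 0 (.split (.sub (.mv (nat_lit 0x161c2a) 0 (.leaf (nat_lit 0xc201408041e080e160c041a0c1002160a080a08140a040c040c1404) 2 1))
 (.sub (.mv (nat_lit 0x161c2a) 0 (.leaf (nat_lit 0xa1c0a021a0a0c16080e0c0e0a120c1410120e) 2 1))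
 .nil))))))
 .nil))))
 (.sub (.mv 24 (nat_lit 0x22262c) (.mv (nat_lit 0xa18202628) (nat_lit 0x24282c) (.mv 28 42 (.mv 14 0 (.mv (nat_lit 0x12181c242a) 0 (.mv (nat_lit 0x161c2a) 44 (.split (.sub (.leaf (nat_lit 0x1c140e0c061a04100e0816100c120a100c12060c140a0c) 2 1)
 (.sub (.leaf (nat_lit 0x820101c201e1a0e101c1a060c0a02160e060a0e061012080a14) 2 1)
 .nil)))))))))
 .nil)))
 .nil))))
 .nil)))
 (.sub (.split (.sub (.mv 20 (nat_lit 0x1c20242628) (.mv (nat_lit 0x40c2224262a) (nat_lit 0x20242628) (.split (.sub (.mv 24 8744 (.kill 16 1 (nat_lit 0x22262a)))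
 (.sub (.mv 24 (nat_lit 0x22282a2c) (.kill 16 1 (nat_lit 0x22262a)))
 .nil)))))
 (.sub (.mv 20 (nat_lit 0x1c2022262a) (.split (.sub (.split (.sub (.mv 24 8744 (.split (.sub (.mv 28 44 (.mv 16 44 (.mv (nat_lit 0x80c1214181e24282a) 10796 (.mv 30 44 (.mv 34 0 (.kill 22 1 0))))))
 (.sub (.mv 28 44 (.mv 16 0 (.mv (nat_lit 0x80c1214181e24282a) 42 (.mv 30 44 (.mv 34 0 (.leaf (nat_lit 0x1c14061e181e12180a121a08141210160a14040e0c08100a1412080c) 2 1))))))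
 .nil))))
 (.sub (.mv 24 (nat_lit 0x22282a2c) (.mv 10 (nat_lit 0x2426282a) (.mv 28 0 (.mv 16 (nat_lit 0x282a2c) (.mv (nat_lit 0x1218242a2c) 44 (.mv 30 44 (.kill 21 1 0)))))))
 .nil)))
 (.sub (.split (.sub (.mv 24 (nat_lit 0x22282a2c) (.split (.sub (.mv 28 44 (.kill 18 1 44))
 (.sub (.mv 28 44 (.kill 18 1 0))
 .nil))))
 (.sub (.mv 24 8744 (.mv 10 (nat_lit 0x24282a2c) (.mv 28 0 (.kill 18 1 10796))))
 .nil)))
 .nil))))
 .nil)))
 .nil)))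
 (.sub (.mv 10 (nat_lit 0x181e22282a) (.split (.sub (.mv 20 (nat_lit 0x1c2026282c) (.kill 13 1 (nat_lit 0x1c1e2024)))
 (.sub (.mv 20 (nat_lit 0x1c202224262a) (.kill 13 1 (nat_lit 0x1c1e2a)))
 .nil))))
 .nil))) false 9 (nat_lit 0x204080a0e12) 0) false) false = true := by decide +kernel

theorem cov2_35 {G : Type*} [Group G] [Finite G] (M : Md G par24) : Good (M.d p2A) 2 22 (M.QC [(Ua, 0), j2, j3, j4]) 9 (wv (M.d p2A) (nat_lit 0x204080a0e12)) :=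
  (p2Pc M).cover (p2Rel M) ((M.inv_QC _ (by norm_num)).mono le_top) (M.lfC_sound _ _ _ _) cov2_35b

theorem cov2_36b : cnd (Nat.ble 7 22) (cnd (inW 0 22 (nat_lit 0x204080a)) (ptB (rbS 9 504 p2Z p2T [4,
 85,
 192,
 1,
 282,
 33,
 9]) (lfC par24 p2A [(Ua, 0), j2, j3, j4] 22) 2 22 22
 (.mv 12 (nat_lit 0x121a1c2026282a) (.split (.sub (.split (.sub (.mv (nat_lit 0x40c2224262a) (nat_lit 0x1a202224282a) (.split (.sub (.mv 20 7202 (.split (.sub (.split (.sub (.mv 24 (nat_lit 0x22262c) (.mv (nat_lit 0x101822262c) (nat_lit 0x2426282c) (.mv 28 10796 (.mv 30 40 (.kill 19 1 10284)))))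
 (.sub (.mv 24 (nat_lit 0x22262a) (.mv (nat_lit 0x101822262c) 9254 (.mv 28 42 (.mv 30 40 (.split (.sub (.mv (nat_lit 0x80c1012141e2428) 44 (.mv 40 0 (.kill 22 1 0)))
 (.sub (.mv (nat_lit 0x80c1012141e2428) 44 (.mv 40 0 (.leaf (nat_lit 0x81e141220061e021c100c1c04060a18160610060e100a080c100a14) 2 1)))
 .nil)))))))
 .nil)))
 (.sub (.split (.sub (.mv 24 (nat_lit 0x22262a) (.mv (nat_lit 0x101822262c) (nat_lit 0x24282c) (.mv 28 10796 (.kill 18 1 (nat_lit 0x26282a2c)))))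
 (.sub (.mv 24 (nat_lit 0x22262c) (.mv (nat_lit 0x101822262c) 36 (.mv 28 42 (.kill 18 1 42))))
 .nil)))
 .nil))))
 (.sub (.mv 20 (nat_lit 0x1c24282a2c) (.split (.sub (.split (.sub (.mv 24 (nat_lit 0x22262c) (.kill 16 1 (nat_lit 0x22262a2c)))
 (.sub (.mv 24 (nat_lit 0x22262a) (.kill 16 1 8744))
 .nil)))
 (.sub (.split (.sub (.mv 24 (nat_lit 0x22262a) (.kill 16 1 (nat_lit 0x2224262a)))
 (.sub (.mv 24 (nat_lit 0x22262c) (.kill 16 1 (nat_lit 0x222428)))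
 .nil)))
 .nil))))
 .nil))))
 (.sub (.mv 10 (nat_lit 0x181e24262a2c) (.mv (nat_lit 0x40a0c0e1618242a) (nat_lit 0x1a1c2026282a) (.mv 20 (nat_lit 0x1c222628) (.kill 13 1 (nat_lit 0x1c1e20282a2c)))))
 .nil)))
 (.sub (.split (.sub (.mv (nat_lit 0x60c10121416181c2426282a2c) (nat_lit 0x1a2022262a) (.split (.sub (.mv 20 8740 (.mv (nat_lit 0x40c2224262a) (nat_lit 0x20282c) (.split (.sub (.mv 24 (nat_lit 0x2224262a) (.kill 16 1 (nat_lit 0x2226282a)))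
 (.sub (.mv 24 (nat_lit 0x2224262c) (.kill 16 1 8744))
 .nil)))))
 (.sub (.mv 20 40 (.split (.sub (.split (.sub (.mv 24 (nat_lit 0x2224262a2c) (.mv (nat_lit 0xa18202628) (nat_lit 0x26282a) (.mv 28 42 (.kill 18 1 (nat_lit 0x262a2c)))))
 (.sub (.mv 24 (nat_lit 0x222426) (.mv (nat_lit 0x80c101214181c202a) (nat_lit 0x24282a) (.mv 28 10796 (.kill 18 1 42))))
 .nil)))
 (.sub (.split (.sub (.mv 24 (nat_lit 0x222426) (.mv (nat_lit 0xa18202628) 10284 (.mv 28 42 (.mv 30 0 (.kill 19 1 0)))))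
 (.sub (.mv 24 (nat_lit 0x2224262a2c) (.mv (nat_lit 0x80c101214181c202a) (nat_lit 0x26282c) (.mv 28 10796 (.mv 30 0 (.split (.sub (.mv 26 0 (.mv 40 0 (.leaf (nat_lit 0xe121a16102008060e12021a12141604160e140c140810120a080c100a04) 2 1)))
 (.sub (.mv 26 0 (.mv 40 0 (.kill 22 1 0)))
 .nil)))))))
 .nil)))
 .nil))))
 .nil))))
 (.sub (.mv 10 (nat_lit 0x181e2a2c) (.mv (nat_lit 0x60a0c0e1014161a22282a) (nat_lit 0x1e222428) (.mv 20 (nat_lit 0x222426) (.kill 13 1 (nat_lit 0x1e2224282c)))))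
 .nil)))
 .nil)))) false 7 (nat_lit 0x204080a) 0) false) false = true := by decide +kernel

theorem cov2_36 {G : Type*} [Group G] [Finite G] (M : Md G par24) : Good (M.d p2A) 2 22 (M.QC [(Ua, 0), j2, j3, j4]) 7 (wv (M.d p2A) (nat_lit 0x204080a)) :=
  (p2Pc M).cover (p2Rel M) ((M.inv_QC _ (by norm_num)).mono le_top) (M.lfC_sound _ _ _ _) cov2_36b

theorem cov2_37b : cnd (Nat.ble 6 22) (cnd (inW 0 22 (nat_lit 0x204080a0c)) (ptB (rbS 9 504 p2Z p2T [4,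
 85,
 192,
 1,
 282,
 33,
 9]) (lfC par24 p2A [(Ua, 0), j2, j3, j4] 22) 2 22 22
 (.split (.sub (.mv 12 (nat_lit 0x121a1c2022282c) (.kill 8 1 (nat_lit 0x121a1c20222a2c)))
 (.sub (.mv 12 (nat_lit 0x121a24262a) (.kill 8 1 (nat_lit 0x121a26)))
 .nil))) false 6 (nat_lit 0x204080a0c) 0) false) false = true := by decide +kernel

theorem cov2_37 {G : Type*} [Group G] [Finite G] (M : Md G par24) : Good (M.d p2A) 2 22 (M.QC [(Ua, 0), j2, j3, j4]) 6 (wv (M.d p2A) (nat_lit 0x204080a0c)) :=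
  (p2Pc M).cover (p2Rel M) ((M.inv_QC _ (by norm_num)).mono le_top) (M.lfC_sound _ _ _ _) cov2_37b

theorem cov2_38b : cnd (Nat.ble 5 22) (cnd (inW 0 22 (nat_lit 0x20408)) (ptB (rbS 9 504 p2Z p2T [4,
 85,
 192,
 1,
 282,
 33,
 9]) (lfC par24 p2A [(Ua, 0), j2, j3, j4] 22) 2 22 22
 (.split (.sub (.mv 6 (nat_lit 0x10182224282a2c) (.mv 12 (nat_lit 0x1216181a1e20262a) (.mv (nat_lit 0x406101214182026282a) (nat_lit 0x161c2c) (.split (.sub (.mv 20 (nat_lit 0x181a1c1e202226) (.split (.sub (.split (.sub (.split (.sub (.split (.sub (.mv 26 8746 (.mv 30 9772 (.kill 17 1 (nat_lit 0x242a2c))))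
 (.sub (.mv 26 (nat_lit 0x222a2c) (.mv 30 9772 (.mv 28 9770 (.kill 18 1 9770))))
 .nil)))
 (.sub (.split (.sub (.mv 26 8748 (.mv 30 38 (.kill 17 1 9772)))
 (.sub (.mv 26 34 (.mv 30 38 (.mv 28 9770 (.mv (nat_lit 0x181e2a2c) 10284 (.mv (nat_lit 0x101a1c242a) 42 (.split (.sub (.mv 42 0 (.kill 22 1 0))
 (.sub (.mv 42 0 (.leaf (nat_lit 0x10021e161e160616041a1610160612100a100c0e060c0e080c) 2 1))
 .nil))))))))
 .nil)))
 .nil)))
 (.sub (.split (.sub (.split (.sub (.mv 26 (nat_lit 0x222a2c) (.kill 16 1 9258))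
 (.sub (.mv 26 8746 (.kill 16 1 (nat_lit 0x2224262a)))
 .nil)))
 (.sub (.split (.sub (.mv 26 34 (.kill 16 1 9770))
 (.sub (.mv 26 8748 (.kill 16 1 (nat_lit 0x222a2c)))
 .nil)))
 .nil)))
 .nil)))
 (.sub (.split (.sub (.split (.sub (.split (.sub (.mv 26 (nat_lit 0x2226282a) (.mv 30 (nat_lit 0x262a2c) (.mv 28 38 (.kill 18 1 38))))
 (.sub (.mv 26 (nat_lit 0x2226282a2c) (.mv 30 (nat_lit 0x262a2c) (.kill 17 1 (nat_lit 0x242a2c))))
 .nil)))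
 (.sub (.split (.sub (.mv 26 (nat_lit 0x2226282c) (.mv 30 9770 (.mv 28 38 (.mv (nat_lit 0x181e2a2c) 10284 (.mv (nat_lit 0x80c101214242a2c) 10796 (.split (.sub (.mv 42 0 (.kill 22 1 0))
 (.sub (.mv 42 0 (.leaf (nat_lit 0x82014121e0a120a0e1a14180c0e160a0e060e06080e0a04) 2 1))
 .nil))))))))
 (.sub (.mv 26 (nat_lit 0x222628) (.mv 30 9770 (.kill 17 1 (nat_lit 0x262a2c))))
 .nil)))
 .nil)))
 (.sub (.split (.sub (.split (.sub (.mv 26 (nat_lit 0x2226282a2c) (.kill 16 1 (nat_lit 0x2224282c)))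
 (.sub (.mv 26 (nat_lit 0x2226282a) (.kill 16 1 (nat_lit 0x2426282a2c)))
 .nil)))
 (.sub (.split (.sub (.mv 26 (nat_lit 0x222628) (.kill 16 1 (nat_lit 0x2226282a)))
 (.sub (.mv 26 (nat_lit 0x2226282c) (.kill 16 1 10284))
 .nil)))
 .nil)))
 .nil)))
 .nil))))
 (.sub (.mv 20 (nat_lit 0x181a1c1e2026282c) (.kill 11 1 (nat_lit 0x181a1c2224)))
 .nil))))))
 (.sub (.mv 6 (nat_lit 0x121418202224282c) (.mv 12 (nat_lit 0x1216181a1e202c) (.kill 8 1 (nat_lit 0x1216181a1e2024262c))))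
 .nil))) false 5 (nat_lit 0x20408) 0) false) false = true := by decide +kernel

theorem cov2_38 {G : Type*} [Group G] [Finite G] (M : Md G par24) : Good (M.d p2A) 2 22 (M.QC [(Ua, 0), j2, j3, j4]) 5 (wv (M.d p2A) (nat_lit 0x20408)) :=
  (p2Pc M).cover (p2Rel M) ((M.inv_QC _ (by norm_num)).mono le_top) (M.lfC_sound _ _ _ _) cov2_38b

theorem cov2_39b : cnd (Nat.ble 3 22) (cnd (inW 0 22 (nat_lit 0x20406)) (ptB (rbS 9 504 p2Z p2T [4,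
 85,
 192,
 1,
 282,
 33,
 9]) (lfC par24 p2A [(Ua, 0), j2, j3, j4] 22) 2 22 22
 (.split (.sub (.split (.sub (.split (.sub (.mv 10 (nat_lit 0x12161a1e20222628) (.kill 7 1 (nat_lit 0x12161c262a2c)))
 (.sub (.mv 10 (nat_lit 0x12161a1c1e222628) (.kill 7 1 (nat_lit 0x1014161c2026282a2c)))
 .nil)))
 (.sub (.split (.sub (.mv 10 (nat_lit 0x12161a1e202226282c) (.mv 12 (nat_lit 0x12141c20222426282c) (.split (.sub (.split (.sub (.mv 18 (nat_lit 0x1a1c22262c) (.split (.sub (.mv 20 (nat_lit 0x1c1e20222426) (.kill 13 1 (nat_lit 0x1c1e202428)))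
 (.sub (.mv 20 (nat_lit 0x1c1e202628) (.kill 13 1 (nat_lit 0x1c1e2022262a)))
 .nil))))
 (.sub (.mv 18 (nat_lit 0x1a222426282a) (.split (.sub (.mv 20 (nat_lit 0x1c1e202224282a2c) (.mv (nat_lit 0x40c141c1e2224282a2c) (nat_lit 0x1e2224282c) (.mv (nat_lit 0x80c101a1e2a) (nat_lit 0x222426282c) (.kill 15 1 (nat_lit 0x20282a)))))
 (.sub (.mv 20 (nat_lit 0x1c1e202a2c) (.split (.sub (.mv (nat_lit 0x80c101a1e2a) (nat_lit 0x20242a2c) (.kill 15 1 32))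
 (.sub (.mv (nat_lit 0x80c101a1e2a) (nat_lit 0x202628) (.kill 15 1 8236))
 .nil))))
 .nil))))
 .nil)))
 (.sub (.split (.sub (.mv 18 (nat_lit 0x1a1c22262a) (.kill 11 1 (nat_lit 0x1e20222c)))
 (.sub (.mv 18 (nat_lit 0x1a222426282c) (.kill 11 1 (nat_lit 0x1a1e2022282c)))
 .nil)))
 .nil)))))
 (.sub (.mv 10 (nat_lit 0x12161a1c1e2226282c) (.mv 12 (nat_lit 0x12141c2022242a) (.kill 8 1 (nat_lit 0x12141a1e262a))))
 .nil)))
 .nil)))
 (.sub (.split (.sub (.split (.sub (.mv 10 (nat_lit 0x12181a1c2026282a2c) (.kill 7 1 (nat_lit 0x121416181c1e202224282c)))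
 (.sub (.mv 10 (nat_lit 0x12181a2226282a) (.kill 7 1 (nat_lit 0x121618222426)))
 .nil)))
 (.sub (.split (.sub (.mv 10 (nat_lit 0x12181a1c2028) (.mv 8 (nat_lit 0x1214161a1c22242a2c) (.split (.sub (.mv 12 (nat_lit 0x20222426282c) (.kill 10 1 (nat_lit 0x161a1e2022282c)))
 (.sub (.mv 12 (nat_lit 0x16181c1e202224262a2c) (.kill 10 1 (nat_lit 0x16181c2022282c)))
 .nil)))))
 (.sub (.mv 10 (nat_lit 0x12181a22282c) (.split (.sub (.split (.sub (.mv 12 (nat_lit 0x1e2428) (.mv 18 (nat_lit 0x1a2024282a2c) (.kill 11 1 (nat_lit 0x1a20262c))))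
 (.sub (.mv 12 (nat_lit 0x16181c2428) (.mv 18 (nat_lit 0x1a2024282a2c) (.split (.sub (.mv (nat_lit 0x10122022262c) (nat_lit 0x1c1e22282a) (.split (.sub (.mv 20 8748 (.mv 24 (nat_lit 0x22282a2c) (.split (.sub (.mv 28 10796 (.mv 34 (nat_lit 0x282a2c) (.split (.sub (.mv 40 0 (.kill 21 1 0))
 (.sub (.mv 40 0 (.mv (nat_lit 0x80c121a1c242a) 0 (.leaf (nat_lit 0x616140620121004181c0408120a161206100e040a0c0e0414040c06) 2 1)))
 .nil)))))
 (.sub (.mv 28 10796 (.mv 34 (nat_lit 0x282a2c) (.kill 19 1 10284)))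
 .nil)))))
 (.sub (.mv 20 (nat_lit 0x22282a2c) (.mv 24 8744 (.split (.sub (.mv 28 10796 (.kill 18 1 0))
 (.sub (.mv 28 10796 (.kill 18 1 (nat_lit 0x26282a2c)))
 .nil)))))
 .nil))))
 (.sub (.mv (nat_lit 0x10122022262c) (nat_lit 0x1c1e242c) (.mv (nat_lit 0x40c10121c26282c) (nat_lit 0x282a2c) (.mv 20 (nat_lit 0x24262a2c) (.mv 24 (nat_lit 0x22282a2c) (.kill 16 1 (nat_lit 0x22262a))))))
 .nil)))))
 .nil)))
 (.sub (.split (.sub (.mv 12 (nat_lit 0x16181c24282c) (.mv 18 (nat_lit 0x1a22282a2c) (.split (.sub (.mv (nat_lit 0x10122022262c) (nat_lit 0x1c1e22262a) (.kill 13 1 (nat_lit 0x1c1e2a2c)))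
 (.sub (.mv (nat_lit 0x10122022262c) (nat_lit 0x1c1e2426282c) (.kill 13 1 (nat_lit 0x1c1e20242c)))
 .nil)))))
 (.sub (.mv 12 (nat_lit 0x1e242628) (.mv 18 (nat_lit 0x1a22282a) (.kill 11 1 (nat_lit 0x1c1e222426))))
 .nil)))
 .nil))))
 .nil)))
 .nil)))
 .nil))) false 3 (nat_lit 0x20406) 0) false) false = true := by decide +kernel

theorem cov2_39 {G : Type*} [Group G] [Finite G] (M : Md G par24) : Good (M.d p2A) 2 22 (M.QC [(Ua, 0), j2, j3, j4]) 3 (wv (M.d p2A) (nat_lit 0x20406)) :=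
  (p2Pc M).cover (p2Rel M) ((M.inv_QC _ (by norm_num)).mono le_top) (M.lfC_sound _ _ _ _) cov2_39b

noncomputable def cov2L : List (ℕ × ℕ) := [(13, 0), (13, 26), (12, 24), (11, 22),
 (10, 20), (9, 18), (8, 16), (9, 14),
 (9, 3602), (8, 3600), (6, 12), (6, 10),
 (6, 2572), (7, 2060), (7, (nat_lit 0x80c0e)), (6, 8),
 (5, 2058), (4, 6), (4, 1544), (6, 4),
 (6, 1036), (5, 1034), (4, 1032), (4, 1030),
 (4, (nat_lit 0x40608)), (4, 2), (4, 520), (3, 518),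
 (9, (nat_lit 0x2040a0c0e10)), (9, (nat_lit 0x2040a0c0e1012)), (8, (nat_lit 0x2040a0c0e)), (7, (nat_lit 0x2040a0c)),
 (6, (nat_lit 0x2040a)), (5, 516), (9, (nat_lit 0x204080a0e)), (9, (nat_lit 0x204080a0e12)),
 (7, (nat_lit 0x204080a)), (6, (nat_lit 0x204080a0c)), (5, (nat_lit 0x20408)), (3, (nat_lit 0x20406))]

theorem cov2b : cnd (Nat.ble 0 22) (cnd (inW 0 22 0) (ptB (rbS 9 504 p2Z p2T [4,
 85,
 192,
 1,
 282,
 33,
 9]) (lfL cov2L) 2 22 22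
 (.split (.sub (.split (.sub (.split (.sub (.split (.sub (.split (.sub (.split (.sub (.split (.sub (.split (.sub (.split (.sub (.split (.sub (.split (.sub (.split (.sub (.split (.sub (.leaf 0 0 0)
 (.sub (.leaf 1 0 0)
 .nil)))
 (.sub (.leaf 2 0 0)
 .nil)))
 (.sub (.leaf 3 0 0)
 .nil)))
 (.sub (.leaf 4 0 0)
 .nil)))
 (.sub (.leaf 5 0 0)
 .nil)))
 (.sub (.leaf 6 0 0)
 .nil)))
 (.sub (.split (.sub (.split (.sub (.leaf 7 0 0)
 (.sub (.leaf 8 0 0)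
 .nil)))
 (.sub (.leaf 9 0 0)
 .nil)))
 .nil)))
 (.sub (.leaf 10 0 0)
 .nil)))
 (.sub (.split (.sub (.leaf 11 0 0)
 (.sub (.leaf 12 0 0)
 .nil)))
 .nil)))
 (.sub (.split (.sub (.split (.sub (.leaf 15 0 0)
 (.sub (.split (.sub (.leaf 13 0 0)
 (.sub (.leaf 14 0 0)
 .nil)))
 .nil)))
 (.sub (.leaf 16 0 0)
 .nil)))
 .nil)))
 (.sub (.split (.sub (.leaf 17 0 0)
 (.sub (.leaf 18 0 0)
 .nil)))
 .nil)))
 (.sub (.split (.sub (.split (.sub (.split (.sub (.split (.sub (.leaf 19 0 0)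
 (.sub (.leaf 20 0 0)
 .nil)))
 (.sub (.leaf 21 0 0)
 .nil)))
 (.sub (.leaf 22 0 0)
 .nil)))
 (.sub (.split (.sub (.leaf 23 0 0)
 (.sub (.leaf 24 0 0)
 .nil)))
 .nil)))
 .nil)))
 (.sub (.split (.sub (.split (.sub (.split (.sub (.leaf 25 0 0)
 (.sub (.leaf 26 0 0)
 .nil)))
 (.sub (.leaf 27 0 0)
 .nil)))
 (.sub (.split (.sub (.split (.sub (.split (.sub (.leaf 33 0 0)
 (.sub (.split (.sub (.leaf 32 0 0)
 (.sub (.split (.sub (.leaf 31 0 0)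
 (.sub (.split (.sub (.leaf 30 0 0)
 (.sub (.split (.sub (.leaf 28 0 0)
 (.sub (.leaf 29 0 0)
 .nil)))
 .nil)))
 .nil)))
 .nil)))
 .nil)))
 (.sub (.split (.sub (.leaf 38 0 0)
 (.sub (.split (.sub (.split (.sub (.leaf 36 0 0)
 (.sub (.mv 12 (nat_lit 0x121a2224) (.split (.sub (.leaf 34 0 0)
 (.sub (.leaf 35 0 0)
 .nil))))
 .nil)))
 (.sub (.leaf 37 0 0)
 .nil)))
 .nil)))
 .nil)))
 (.sub (.leaf 39 0 0)
 .nil)))
 .nil)))
 .nil))) false 0 0 0) false) false = true := by decide +kernel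

theorem cov2 {G : Type*} [Group G] [Finite G] (M : Md G par24) : Good (M.d p2A) 2 22 (M.QC [(Ua, 0), j2, j3, j4]) 0 (wv (M.d p2A) 0) :=
  (p2Pc M).cover (p2Rel M) ((M.inv_QC _ (by norm_num)).mono le_top) (lfL_sound (L := cov2L) (goodL_cons (cov2_0 M) (goodL_cons (cov2_1 M) (goodL_cons (cov2_2 M) (goodL_cons (cov2_3 M)
  (goodL_cons (cov2_4 M) (goodL_cons (cov2_5 M) (goodL_cons (cov2_6 M) (goodL_cons (cov2_7 M)
  (goodL_cons (cov2_8 M) (goodL_cons (cov2_9 M) (goodL_cons (cov2_10 M) (goodL_cons (cov2_11 M)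
  (goodL_cons (cov2_12 M) (goodL_cons (cov2_13 M) (goodL_cons (cov2_14 M) (goodL_cons (cov2_15 M)
  (goodL_cons (cov2_16 M) (goodL_cons (cov2_17 M) (goodL_cons (cov2_18 M) (goodL_cons (cov2_19 M)
  (goodL_cons (cov2_20 M) (goodL_cons (cov2_21 M) (goodL_cons (cov2_22 M) (goodL_cons (cov2_23 M)
  (goodL_cons (cov2_24 M) (goodL_cons (cov2_25 M) (goodL_cons (cov2_26 M) (goodL_cons (cov2_27 M)
  (goodL_cons (cov2_28 M) (goodL_cons (cov2_29 M) (goodL_cons (cov2_30 M) (goodL_cons (cov2_31 M)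
  (goodL_cons (cov2_32 M) (goodL_cons (cov2_33 M) (goodL_cons (cov2_34 M) (goodL_cons (cov2_35 M)
  (goodL_cons (cov2_36 M) (goodL_cons (cov2_37 M) (goodL_cons (cov2_38 M) (goodL_cons (cov2_39 M)
  goodL_nil))))))))))))))))))))))))))))))))))))))))) cov2b

end Cfsg.Lib.Fi.B24
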