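import Cfsg.Agent.Lib.Fi.C24
import Cfsg.Agent.Lib.Fi.B24c
import Cfsg.Agent.Lib.Fi.Aut

/-! Centralisers of products of commuting class elements in the commutator subgroup, type `M(24)`. -/

set_option linter.unusedSectionVars false

namespace Cfsg.Lib.Fi.S24

open Cfsg.Lib.Comp Subgroup B24

variable {G : Type*} [Group G] [Finite G] (S : S24 G)

theorem un2 {j : G} {l l' : List G} (h : Fac S.M.D 2 j l) (h' : Fac S.M.D 2 j l') (x : G) : x ∈ l ↔ x ∈ l' :=
  S.M.fac_unique (L := [_, _]) (S.M.ft2 t2) ((S.M.fac2 j2_fac).2.2.2.2 ▸ (j2_c S).cent (j2_fx S.M)) j2_un h h' x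

theorem un3 {j : G} {l l' : List G} (h : Fac S.M.D 3 j l) (h' : Fac S.M.D 3 j l') (x : G) : x ∈ l ↔ x ∈ l' :=
  S.M.fac_unique (L := [_, _, _]) (S.M.ft3 t2 t3) ((S.M.fac3 j3_fac).2.2.2.2 ▸ (j3_c S).cent (j3_fx S.M)) j3_un h h' x

theorem fac_pair {x y : G} (hx : x ∈ S.M.D) (hy : y ∈ Known2.Dd S.M.D x) : Fac S.M.D 2 (x * y) [x, y] :=
  ⟨by simpa using hy.2.1.symm, rfl, by simp [hx, hy.1], by simp [hy.2.2, hy.2.2.symm], by simp⟩

/-- An element centralising `x y` permutes `x` and `y`. -/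
theorem perm2 {x y g : G} (hx : x ∈ S.M.D) (hy : y ∈ Known2.Dd S.M.D x) (h : Commute g (x * y)) :
    (g * x * g⁻¹ = x ∧ g * y * g⁻¹ = y) ∨ (g * x * g⁻¹ = y ∧ g * y * g⁻¹ = x) := by
  have h1 := Md.Fac.conj (S.fac_pair hx hy) g
  rw [h.eq, mul_inv_cancel_right] at h1
  have h2 := S.un2 h1 (S.fac_pair hx hy)
  have h3 := (h2 _).1 List.mem_cons_self
  have h4 := (h2 (g * y * g⁻¹)).1 (by simp)
  have h5 : g * x * g⁻¹ ≠ g * y * g⁻¹ := by simpa using hy.2.1.symm
  simp only [MulAut.conj_apply, List.mem_cons, List.not_mem_nil, or_false] at h3 h4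
  rcases h3 with a | a <;> rcases h4 with b | b
  exacts [absurd (a.trans b.symm) h5, Or.inl ⟨a, b⟩, Or.inr ⟨a, b⟩, absurd (a.trans b.symm) h5]

theorem sq {x : G} (h : x ∈ S.M.D) : x * x = 1 := by rw [← pow_two, ← S.ord h, pow_orderOf_eq_one]

/-- The even part of a group generated by a class of transpositions with a transposition in its centre. -/
theorem even_part {X : Set G} (hX : X ⊆ S.M.D) (h1 : ∀ a ∈ X, ∀ b ∈ X, ∃ g ∈ closure X, g * a * g⁻¹ = b) (hn : X.Nonempty)
    {K₀ : Subgroup G} (e : closure X = K₀) {a : G} (ha : a ∈ S.M.D) (hc : a ∈ K₀ ⊓ centralizer (K₀ : Set G)) :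
    Group.IsPerfect ↥(commutator G ⊓ K₀) ∧
      K₀ ⊓ centralizer ((commutator G ⊓ K₀ : Subgroup G) : Set G) ≤ centralizer (K₀ : Set G) ∧
      Nonempty (↥(commutator G ⊓ K₀) ⧸ center ↥(commutator G ⊓ K₀) ≃* K₀ ⧸ center K₀) := by
  obtain ⟨b1, b2, b3⟩ := half (K := commutator G ⊓ K₀) inf_le_right fun g hg => by
    by_cases h : g ∈ commutator G
    · exact ⟨1, one_mem _, by simpa using ⟨h, hg⟩⟩
    · exact ⟨a, hc.2, (mul_mem_iff_of_index_two S.index_comm).2 (iff_of_false h (S.not_mem_comm ha)), mul_mem hg hc.1⟩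
  obtain ⟨x, hx⟩ := hn
  refine ⟨isPerfect_iff.2 (le_antisymm (commutator_le_self _) (le_trans ?_ b2)), b1, b3⟩
  subst e
  exact inf_le_comm le_rfl h1 hx (S.sq (hX hx)) (S.not_mem_comm (hX hx))

theorem cent_K {X : Set G} {K₀ V : Subgroup G} (h : closure X = K₀ ∧ center (closure X) = V.subgroupOf _) :
    K₀ ⊓ centralizer (K₀ : Set G) ≤ V := by
  obtain ⟨rfl, h⟩ := h
  exact fun x hx => h.le (x := ⟨x, hx.1⟩) (mem_center_iff.2 fun y => Subtype.ext (hx.2 _ y.2))

theorem card_ab : Nat.card (centralizer {S.a * S.b} : Subgroup G) = 516494013235200 :=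
  S.j2_eq ▸ ((j2_c S).cent (j2_fx S.M)).2

theorem card_abc : Nat.card (centralizer {S.a * S.b * S.c} : Subgroup G) = 441447874560 :=
  S.j3_eq ▸ ((j3_c S).cent (j3_fx S.M)).2

theorem card_K2 : Nat.card (centralizer {S.a, S.b} : Subgroup G) = 258247006617600 := S.M.st_pt2 _ _ ▸ (K2 S).2

theorem card_K3 : Nat.card (centralizer {S.a, S.b, S.c} : Subgroup G) = 73574645760 := S.M.st_pt3 _ _ _ ▸ (K3 S).2

theorem a_mem {T : Set G} (h : ∀ x ∈ T, Commute x S.a) (ha : S.a ∈ T) :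
    S.a ∈ centralizer T ⊓ centralizer ((centralizer T : Subgroup G) : Set G) := ⟨h, fun _ hx => (hx _ ha).symm⟩

/-- The even part of an elementary abelian group generated by commuting transpositions. -/
theorem even_le {T : Set G} {E : Subgroup G} (hE : ∀ x ∈ T, S.a * x ∈ E)
    (hn : ∀ x ∈ E, Commute S.a x) (h2 : E ≤ commutator G) : commutator G ⊓ closure T ≤ E := by
  have sq := S.sq (S.M.v_mem_D Ua)
  have : ∀ x ∈ closure T, x ∈ E ∨ S.a * x ∈ E := fun x hx => by
    induction hx using closure_induction with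
    | mem x hx => exact Or.inr (hE x hx)
    | one => exact Or.inl (one_mem _)
    | mul x y _ _ h h' =>
      rcases h with h | h <;> rcases h' with h' | h'
      · exact Or.inl (mul_mem h h')
      · exact Or.inr (by rw [← mul_assoc, (hn x h).eq, mul_assoc]; exact mul_mem h h')
      · exact Or.inr (by rw [← mul_assoc]; exact mul_mem h h')
      · refine Or.inl ?_
        have := mul_mem h h'
        rwa [← mul_assoc, ← (hn _ h).eq, ← mul_assoc, sq, one_mul] at this
    | inv x _ h =>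
      refine h.imp inv_mem fun h => ?_
      have c : Commute S.a x := by simpa using (Commute.refl S.a).inv_right.mul_right (hn _ h)
      have := inv_mem h
      rwa [mul_inv_rev, inv_eq_of_mul_eq_one_right sq, ← c.inv_right.eq] at this
  exact fun x hx => (this x hx.2).resolve_right fun h =>
    S.not_mem_comm (S.M.v_mem_D Ua) ((mul_mem_cancel_right (mem_inf.1 hx).1).1 (h2 h))

end Cfsg.Lib.Fi.S24
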