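import Cfsg.Agent.Lib.Fi.C8la

set_option maxRecDepth 100000

namespace Cfsg.Lib.Fi.C8

open Cfsg.Lib.Comp Cfsg.Lib.Fi

theorem plcov_0b : cnd (Nat.ble 5 12) (cnd (inW 0 12 0) (ptB (rbG par8 plA) (lfS par8 [] [O0, O1, O2] plA plR 12) 3 12 14
 (.split (.sub (.split (.sub (.split (.sub (.split (.sub (.split (.sub (.split (.sub (.split (.sub (.leaf 1 0 0)
 (.sub (.leaf (nat_lit 0x16041a080604100804100e140c10) 11 1)
 (.ali 0 2 1 0 .nil))))
 (.sub (.mv 1028 0 (.leaf (nat_lit 0x10160418080a0e10120c141208060e0c1008) 11 1))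
 (.ali 0 2 1 0 .nil))))
 (.sub (.mv 8 0 (.mv 3084 0 (.leaf (nat_lit 0xa1a06160612100c06080a1412040c100e0a) 0 1)))
 (.ali 0 2 1 0 .nil))))
 (.sub (.split (.sub (.mv 1542 0 (.mv 14 0 (.leaf (nat_lit 0x6161a1608120c06100c080604081210) 5 1)))
 (.sub (.mv 8 0 (.mv 14 0 (.leaf (nat_lit 0x1a0e041804080e1210140e041008040c1206) 1 1)))
 (.sub (.mv 2056 0 (.mv 14 0 (.leaf (nat_lit 0x18121418100c12100e0a0414100812060e14) 12 1)))
 .nil))))
 (.ali 0 2 1 0 .nil))))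
 (.sub (.split (.sub (.split (.sub (.mv 1542 6168 (.mv 12 0 (.leaf (nat_lit 0x616041a0a100e141204081204100e060c06) 4 1)))
 (.sub (.mv 8 0 (.mv 2570 0 (.leaf (nat_lit 0xc18041606140e060a1008060a140c10040e) 11 1)))
 (.sub (.mv 2056 0 (.mv 3084 0 (.leaf (nat_lit 0x1a0e0812160a100c060a10121404120a0408) 8 1)))
 .nil))))
 (.sub (.split (.sub (.mv 6 24 (.mv 14 0 (.leaf (nat_lit 0x61806160406080410080a121404120e1008) 11 1)))
 (.sub (.mv 8 0 (.mv 14 0 (.leaf (nat_lit 0x161a0e180a0610120c0e1412100c0806) 9 1)))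
 (.sub (.mv 2056 0 (.mv 14 0 (.leaf (nat_lit 0x1806041a0c060e10120e0a14100e1408060e) 2 1)))
 .nil))))
 (.sub (.split (.sub (.mv 2 0 (.mv 3598 0 (.leaf (nat_lit 0x16040c160c1012100a060c040e141006) 11 1)))
 (.sub (.mv 8 0 (.mv 3598 0 (.leaf (nat_lit 0x1806141216100a0c06140e120608100e0804) 3 1)))
 (.sub (.mv 2056 0 (.mv 3598 0 (.leaf (nat_lit 0x16060e0618080e120c041408040e12100406) 10 1)))
 .nil))))
 .nil))))
 (.ali 0 2 1 0 .nil))))
 (.sub (.mv 6 (nat_lit 0x121214161818) (.mv 2056 (nat_lit 0x161618) (.split (.sub (.mv (nat_lit 0x20206060808161818) 6168 (.mv 4626 0 (.leaf (nat_lit 0x16041a0412080c04120c0e04081214100e04) 6 1)))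
 (.ali 28 1 0 24 (.sub (.split (.sub (.mv 4626 0 (.leaf (nat_lit 0xa1808160406100c12040e141004120a) 9 1))
 (.sub (.mv 4626 0 (.leaf (nat_lit 0x1812061a10040a0c140a0408100e12100604) 3 1))
 (.sub (.mv 4626 0 (.leaf (nat_lit 0x1418060c1804060c120c140a04120804100a) 5 1))
 .nil))))
 .nil))))))
 (.ali 0 2 1 0 .nil))))
 (.sub (.split (.sub (.mv 8 (nat_lit 0x121216) (.mv 520 5142 (.split (.sub (.mv (nat_lit 0x60808101016161818) 0 (.mv 20 0 (.leaf (nat_lit 0xa1606021608060c040812100c120a141210) 6 1)))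
 (.ali (nat_lit 0x1c02020808101216) 1 0 6168 (.sub (.split (.sub (.mv 20 0 (.leaf (nat_lit 0x1a12100c16060a06080c140e10120408140e) 2 1))
 (.sub (.mv 20 0 (.leaf (nat_lit 0x1a040618040e060a12100814060a100c) 11 1))
 (.sub (.mv 20 0 (.leaf (nat_lit 0x604160c18080c12100a060c08040e061404) 1 1))
 .nil))))
 .nil))))))
 (.sub (.mv 8 (nat_lit 0x121616) (.mv (nat_lit 0x6060808161818) (nat_lit 0x14141618) (.split (.sub (.split (.sub (.mv 20 0 (.leaf (nat_lit 0x1612180c100a040812041014120e040a) 11 1))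
 (.sub (.mv 20 0 (.leaf (nat_lit 0x1812141804060a06120c0e12140408041008) 12 1))
 (.sub (.mv 20 0 (.leaf (nat_lit 0x1814160406080a061014041208040a10) 10 1))
 .nil))))
 (.sub (.mv (nat_lit 0x20808) 0 (.mv 20 0 (.leaf (nat_lit 0xa1a06181606100a120e14100e060c0804120c04) 6 1)))
 (.ali (nat_lit 0x1a081010121216) 2 1 (nat_lit 0x161618) .nil))))))
 (.sub (.mv 8 24 (.split (.sub (.mv 1542 24 (.mv (nat_lit 0x2060610121414) 0 (.mv 20 0 (.leaf (nat_lit 0x4161816040a060c0e100a040e0c10060e04) 6 1))))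
 (.sub (.mv 1542 5656 (.split (.sub (.mv 20 0 (.leaf (nat_lit 0x180a061a0412080e100c140810060a140c04) 0 1))
 (.sub (.mv 20 0 (.leaf (nat_lit 0x1008180416040a060410080c060e120604100812) 8 1))
 (.sub (.mv 20 0 (.leaf (nat_lit 0x16060c160e141210080c0e10120a0e04100a) 4 1))
 .nil)))))
 (.ali 28 1 0 (nat_lit 0x14141818) .nil)))))
 .nil))))
 (.ali 0 2 1 0 .nil)))) false 5 0 0) false) false = true := by decide +kernel

theorem plcov_0 {G : Type*} [Group G] [Finite G] (M : Md G par8) : Good (M.d plA) 3 12 (M.QK (M.st [] [O0, O1, O2]) plR) 5 (wv (M.d plA) 0) :=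
  (plPc M).cover (M.relT plA) ((M.inv_QK _ _ (by norm_num)).mono (M.PS_le_st pl_p _ _)) (M.lfS_sound _ _ _ _ _ _) plcov_0b

theorem plcov_1b : cnd (Nat.ble 5 12) (cnd (inW 0 12 10) (ptB (rbG par8 plA) (lfS par8 [] [O0, O1, O2] plA plR 12) 3 12 14
 (.split (.sub (.split (.sub (.mv 2056 (nat_lit 0x121216) (.mv (nat_lit 0x20808) (nat_lit 0x1414161818) (.split (.sub (.split (.sub (.mv 18 0 (.leaf (nat_lit 0x161408160a06100414100e0804100814) 12 1))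
 (.sub (.mv 18 0 (.leaf (nat_lit 0x1612141816140e12100c0412040a14120e0a) 9 1))
 (.sub (.mv 18 0 (.leaf (nat_lit 0x16101a040e12080e14100408100e0a06) 8 1))
 .nil))))
 (.sub (.mv 1542 24 (.mv 18 0 (.leaf (nat_lit 0x1a0a0e0416080e14100e06120408120a0408) 6 1)))
 (.ali (nat_lit 0x1a0202) 2 1 5654 .nil))))))
 (.sub (.mv 2056 6168 (.mv (nat_lit 0x6060808161818) (nat_lit 0x14141616) (.mv (nat_lit 0x202060608101618) 5654 (.split (.sub (.mv 16 0 (.leaf (nat_lit 0x160602160a060410040812140c04120e0410) 0 1))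
 (.sub (.mv 16 0 (.leaf (nat_lit 0x180c100e16100e120c0e14120a041008) 6 1))
 (.sub (.mv 16 0 (.leaf (nat_lit 0x1a1618080c061012140a1008040c12140804) 7 1))
 .nil)))))))
 (.sub (.mv 2056 (nat_lit 0x121616) (.mv (nat_lit 0x60608161618) (nat_lit 0x14161818) (.split (.sub (.mv 514 0 (.mv 4626 0 (.leaf (nat_lit 0x18061412160a0c12140a120e040c0a10060c) 6 1)))
 (.ali (nat_lit 0x1c06060a0a0c0e101216) 1 0 (nat_lit 0x16161818) (.sub (.split (.sub (.mv 4626 0 (.leaf (nat_lit 0x8061a021604140a120c100c0608101404120a04) 1 1))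
 (.sub (.mv 4626 0 (.leaf (nat_lit 0x18040818100a040612100e0a14081204) 3 1))
 (.sub (.mv 4626 0 (.leaf (nat_lit 0x1a140a0816080e040c121412060810140a0e) 8 1))
 .nil))))
 .nil))))))
 .nil))))
 (.sub (.split (.sub (.mv 6 (nat_lit 0x1212161618) (.mv (nat_lit 0x2020616) 24 (.split (.sub (.split (.sub (.mv 20 0 (.leaf (nat_lit 0x160a1812080c06040e140e12100a0408) 5 1))
 (.sub (.mv 20 0 (.leaf (nat_lit 0x181a180416060a100c0e061408100c040810) 4 1))
 (.sub (.mv 20 0 (.leaf (nat_lit 0x160c06160810080e1204100a060e0814) 11 1))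
 .nil))))
 (.sub (.mv 8 0 (.mv 20 0 (.leaf (nat_lit 0x121808160c120c0e0a1004060a140c04) 6 1)))
 (.ali (nat_lit 0x1c02101216) 1 1 5656 .nil))))))
 (.sub (.mv 1542 (nat_lit 0x1212141416161818) (.mv 2056 (nat_lit 0x161618) (.mv 514 6168 (.split (.sub (.mv 20 0 (.leaf (nat_lit 0x1806041806140e040810120c10120604) 6 1))
 (.sub (.mv 20 0 (.leaf (nat_lit 0x18081402160e0612100c040e100a14121006) 9 1))
 (.sub (.mv 20 0 (.leaf (nat_lit 0x101a08160a06100c06121008040c060e140a) 7 1))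
 .nil)))))))
 (.sub (.mv 514 (nat_lit 0x12141416) (.mv 8 (nat_lit 0x16161818) (.mv 1542 0 (.split (.sub (.mv 20 0 (.leaf (nat_lit 0x4160a181012040a141004120c0a0804) 6 1))
 (.sub (.mv 20 0 (.leaf (nat_lit 0x1a0216080c1406080a100c12100a0408) 3 1))
 (.sub (.mv 20 0 (.leaf (nat_lit 0x180c10021610121014080e141004120c0804) 7 1))
 .nil)))))))
 .nil))))
 (.sub (.split (.sub (.mv 8 (nat_lit 0x121216) (.split (.sub (.mv 2 24 (.mv (nat_lit 0x6060808161818) 6168 (.mv 5140 0 (.leaf (nat_lit 0x180e120a16040812100e0a06080c0412040a1404) 6 1))))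
 (.ali 26 2 0 5140 (.sub (.mv 2 (nat_lit 0x161618) (.split (.sub (.mv 5140 0 (.leaf (nat_lit 0x416141806080c1012080e100c12040e140e) 0 1))
 (.sub (.mv 5140 0 (.leaf (nat_lit 0x1a0e0c18040e1008040e14120c0a10140e06) 10 1))
 (.sub (.mv 5140 0 (.leaf (nat_lit 0x121a0e16040c041204100e0a14120c100c0a) 3 1))
 .nil)))))
 .nil)))))
 (.sub (.mv 8 (nat_lit 0x121616) (.split (.sub (.mv 6 (nat_lit 0x16161818) (.mv (nat_lit 0x2020808) 0 (.mv 5140 0 (.leaf (nat_lit 0x618161a04140a120e060a140c080410) 6 1))))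
 (.sub (.mv 6 (nat_lit 0x161818) (.split (.sub (.mv 5140 0 (.leaf (nat_lit 0x180a0e1618100a0c141004081006140c) 9 1))
 (.sub (.mv 5140 0 (.leaf (nat_lit 0x1a14041a061214080e041004120e0a061404) 0 1))
 (.sub (.mv 5140 0 (.leaf (nat_lit 0x161a0e0c1604060806120c100a0e081204100c04) 2 1))
 .nil)))))
 (.ali 26 2 0 0 .nil)))))
 (.sub (.mv 8 24 (.mv (nat_lit 0x60608161618) (nat_lit 0x1416161818) (.mv (nat_lit 0x20608101212141616) 24 (.split (.sub (.mv 5140 0 (.leaf (nat_lit 0x160c0216080e100e140e041210080604) 6 1))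
 (.sub (.mv 5140 0 (.leaf (nat_lit 0x8180416060c0e121008040e060c1214) 7 1))
 (.sub (.mv 5140 0 (.leaf (nat_lit 0x8101a0416140e12080c14100a0e040c0604) 8 1))
 .nil)))))))
 .nil))))
 .nil)))) false 5 10 0) false) false = true := by decide +kernel

theorem plcov_1 {G : Type*} [Group G] [Finite G] (M : Md G par8) : Good (M.d plA) 3 12 (M.QK (M.st [] [O0, O1, O2]) plR) 5 (wv (M.d plA) 10) :=
  (plPc M).cover (M.relT plA) ((M.inv_QK _ _ (by norm_num)).mono (M.PS_le_st pl_p _ _)) (M.lfS_sound _ _ _ _ _ _) plcov_1b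

theorem plcov_2b : cnd (Nat.ble 4 12) (cnd (inW 0 12 8) (ptB (rbG par8 plA) (lfS par8 [] [O0, O1, O2] plA plR 12) 3 12 14
 (.mv 4 (nat_lit 0xc10121818) (.split (.sub (.split (.sub (.mv 3084 (nat_lit 0x121216) (.mv 14 (nat_lit 0x16161818) (.split (.sub (.mv 5140 0 (.split (.sub (.leaf (nat_lit 0x140e181a10080c0e0a041014120e08061410) 11 1)
 (.sub (.leaf (nat_lit 0x4160e1806100a1208140c040e0c1204) 5 1)
 (.sub (.leaf (nat_lit 0x161404160a060c0e120e0a10060e14120a10) 4 1)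
 .nil)))))
 (.sub (.mv 5140 0 (.mv (nat_lit 0xa0a0c0c) 0 (.leaf (nat_lit 0xe1a08160c140a040c120e080410140a0604) 6 1)))
 (.ali (nat_lit 0x1a0c0e10121616) 2 1 (nat_lit 0x161618) .nil))))))
 (.sub (.mv 3084 (nat_lit 0x12121618) (.mv 14 (nat_lit 0x161618) (.mv (nat_lit 0x60e101012141416) 0 (.mv 5140 0 (.mv 4626 0 (.kill 12 1 0))))))
 (.ali 28 2 1 (nat_lit 0x1010141616) .nil))))
 (.sub (.split (.sub (.mv 3084 (nat_lit 0x121216) (.mv 14 (nat_lit 0x161618) (.mv (nat_lit 0x20c0c0e0e10121616) (nat_lit 0x161818) (.mv 5140 6168 (.mv 4626 0 (.leaf (nat_lit 0xa160c1a061004080c100e121006040c) 6 1))))))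
 (.sub (.mv 3084 (nat_lit 0x12121618) (.mv 14 5654 (.mv (nat_lit 0x60c0e10121214141616) 5656 (.mv 5140 6168 (.mv 18 0 (.leaf (nat_lit 0x1a0e120a16040c140804060c120a140e0810) 6 1))))))
 (.sub (.mv 3084 (nat_lit 0x1212161818) (.mv 14 (nat_lit 0x16161818) (.mv (nat_lit 0x6060c0e0e1616) 24 (.mv 5140 6168 (.mv 4112 0 (.kill 12 2 0))))))
 .nil))))
 (.ali 28 2 1 (nat_lit 0x10121218) .nil))))) false 4 8 0) false) false = true := by decide +kernel

theorem plcov_2 {G : Type*} [Group G] [Finite G] (M : Md G par8) : Good (M.d plA) 3 12 (M.QK (M.st [] [O0, O1, O2]) plR) 4 (wv (M.d plA) 8) :=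
  (plPc M).cover (M.relT plA) ((M.inv_QK _ _ (by norm_num)).mono (M.PS_le_st pl_p _ _)) (M.lfS_sound _ _ _ _ _ _) plcov_2b

theorem plcov_3b : cnd (Nat.ble 3 12) (cnd (inW 0 12 6) (ptB (rbG par8 plA) (lfS par8 [] [O0, O1, O2] plA plR 12) 3 12 14
 (.split (.sub (.mv 4 (nat_lit 0xc0c121214141616) (.split (.sub (.split (.sub (.mv 3598 (nat_lit 0x1212141616) (.mv (nat_lit 0x80e12161618) (nat_lit 0x141416161818) (.mv (nat_lit 0xc0e0e) 0 (.mv 20 6168 (.kill 11 1 0)))))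
 (.sub (.mv 3598 (nat_lit 0x121214161618) (.split (.sub (.mv (nat_lit 0xc0e0e) 0 (.mv 20 6168 (.split (.sub (.leaf (nat_lit 0x1a100a02160c06080e120814060e1012) 3 1)
 (.sub (.leaf (nat_lit 0x180a101a0a10120e0a100806140c120e0804) 0 1)
 (.sub (.leaf (nat_lit 0x161a10180a0c120e040812100a1404120e10) 10 1)
 .nil))))))
 (.sub (.mv (nat_lit 0xc0e0e) 0 (.mv 20 6168 (.mv 2570 0 (.leaf (nat_lit 0x1a1406081606080c12140e100c120a0e0a06) 6 1))))
 (.ali (nat_lit 0x1c1a040a0e1010) 1 1 (nat_lit 0x141418) .nil)))))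
 (.ali (nat_lit 0x1c1a040a0e1010) 1 0 (nat_lit 0x1214141818) .nil))))
 (.sub (.split (.sub (.mv 3598 (nat_lit 0x121214161618) (.mv (nat_lit 0x80e0e12121618) (nat_lit 0x14161818) (.mv (nat_lit 0xc0e0e) 24 (.mv 20 0 (.kill 11 1 24)))))
 (.sub (.mv 3598 (nat_lit 0x12121416161818) (.mv (nat_lit 0x20e0e101012121414161618) 6168 (.mv (nat_lit 0xc0e0e) 24 (.mv 20 0 (.mv (nat_lit 0x121414) 0 (.leaf (nat_lit 0x18040a18060412040e141208060e10040e04) 6 1))))))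
 (.sub (.mv 3598 (nat_lit 0x1212141616) (.mv (nat_lit 0x8080e18) (nat_lit 0x141416) (.mv (nat_lit 0xc0e0e) 24 (.mv 20 0 (.kill 11 2 24)))))
 .nil))))
 (.ali (nat_lit 0x1c1a040a0e1010) 1 1 (nat_lit 0xe0e1010121818) .nil)))))
 (.sub (.mv 1028 (nat_lit 0x1212141618) (.split (.sub (.split (.sub (.mv 3598 (nat_lit 0x121416161818) (.mv 3086 (nat_lit 0x141416) (.mv (nat_lit 0x80c0e0e10101818) 0 (.mv 18 0 (.kill 11 2 6168)))))
 (.sub (.mv 3598 (nat_lit 0x1214161618) (.mv 3086 (nat_lit 0x1414161818) (.mv 2 24 (.mv 18 6168 (.mv 5140 0 (.leaf (nat_lit 0x1a041206160a0e1406040810120c0604) 6 1))))))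
 (.sub (.mv 3598 (nat_lit 0x12141616) (.mv 3086 (nat_lit 0x14141618) (.mv (nat_lit 0x8080e0e18) 22 (.mv 18 24 (.kill 11 1 6168)))))
 .nil))))
 (.sub (.split (.sub (.mv 3598 (nat_lit 0x1214161618) (.mv 3086 (nat_lit 0x14141618) (.mv (nat_lit 0x80e0e12121618) (nat_lit 0x161818) (.mv 18 6168 (.kill 11 2 24)))))
 (.sub (.mv 3598 (nat_lit 0x12141616) (.mv 3086 (nat_lit 0x141416) (.split (.sub (.mv 18 24 (.mv (nat_lit 0xa0a0c12) 0 (.leaf (nat_lit 0x18120a1814100c0e12060a140e100e04) 6 1)))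
 (.sub (.mv 18 24 (.split (.sub (.leaf (nat_lit 0xc1018041604100a120e140a060c040e1012) 12 1)
 (.sub (.leaf (nat_lit 0x21a101816080c100c0604080e12061410060804) 8 1)
 (.sub (.leaf (nat_lit 0xa141a0e1608140a0408120e140c04100608) 9 1)
 .nil)))))
 (.ali (nat_lit 0x1a0c0e10121616) 2 0 22 .nil))))))
 (.ali (nat_lit 0x1c1a04040a0a0e0e10) 1 0 (nat_lit 0x101414161818) .nil))))
 (.ali (nat_lit 0x1c1a04040a0a0e0e10) 1 0 (nat_lit 0xe0e10101212141618) .nil)))))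
 (.sub (.split (.sub (.mv 4 (nat_lit 0x14141616) (.split (.sub (.mv 3598 (nat_lit 0x14161618) (.mv (nat_lit 0xa0e0e18) (nat_lit 0x14161818) (.mv (nat_lit 0x8080e0e18) 0 (.mv 5140 24 (.mv (nat_lit 0x12121414) 0 (.kill 12 1 0))))))
 (.sub (.mv 3598 (nat_lit 0x14161618) (.mv (nat_lit 0xa0e0e18) (nat_lit 0x14161818) (.mv 2 5656 (.mv 5140 24 (.mv 4628 0 (.leaf (nat_lit 0x1804101a0408041214100e060c120c100814) 6 1))))))
 (.sub (.mv 3598 (nat_lit 0x14161618) (.mv (nat_lit 0xa0e0e18) (nat_lit 0x14161818) (.mv (nat_lit 0x80a0a0e0e10101818) 24 (.mv 5140 24 (.mv 4116 0 (.kill 12 2 0))))))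
 .nil)))))
 (.ali 28 2 0 (nat_lit 0xc0c0e0e10121214141818) (.sub (.mv 4 (nat_lit 0x141416161818) (.split (.sub (.mv 3598 (nat_lit 0x1416161818) (.mv (nat_lit 0xa0e0e18) 5142 (.mv (nat_lit 0x8080a0a0e0e) 24 (.mv 5140 24 (.mv 4628 0 (.leaf (nat_lit 0x81a021604140e06101208140e12100a0e14) 6 1))))))
 (.sub (.mv 3598 (nat_lit 0x1416161818) (.mv (nat_lit 0xa0e0e18) 5142 (.split (.sub (.mv 5140 24 (.split (.sub (.leaf (nat_lit 0x16081a12080e0412140e100e08140c04) 1 1)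
 (.sub (.leaf (nat_lit 0x4161018120c14060a120810040a0e0c0a06) 2 1)
 (.sub (.leaf (nat_lit 0x1604081614100c0e12140a060c08120e) 11 1)
 .nil)))))
 (.sub (.mv 5140 24 (.mv (nat_lit 0xc0c14) 0 (.leaf (nat_lit 0x180c16060e061208040e14100a040c04) 6 1)))
 (.ali (nat_lit 0x1a0e0e12121414) 2 1 (nat_lit 0x16161818) .nil))))))
 (.ali (nat_lit 0x1c1a04040a0a0e0e10) 1 0 (nat_lit 0x141416161818) .nil)))))
 .nil))))
 .nil)))) false 3 6 0) false) false = true := by decide +kernel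

theorem plcov_3 {G : Type*} [Group G] [Finite G] (M : Md G par8) : Good (M.d plA) 3 12 (M.QK (M.st [] [O0, O1, O2]) plR) 3 (wv (M.d plA) 6) :=
  (plPc M).cover (M.relT plA) ((M.inv_QK _ _ (by norm_num)).mono (M.PS_le_st pl_p _ _)) (M.lfS_sound _ _ _ _ _ _) plcov_3b

theorem plcov_4b : cnd (Nat.ble 8 12) (cnd (inW 0 12 4) (ptB (rbG par8 plA) (lfS par8 [] [O0, O1, O2] plA plR 12) 3 12 14
 (.split (.sub (.split (.sub (.split (.sub (.mv 22 0 (.leaf (nat_lit 0x180a140a161208060c1012140a040c061410) 6 1))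
 (.ali (nat_lit 0x1a02060610141618) 1 0 6168 (.sub (.mv 22 0 (.leaf (nat_lit 0x1a141202160c0406140e10040c0a060e1412) 8 1))
 .nil))))
 (.sub (.split (.sub (.mv 22 0 (.leaf (nat_lit 0x10021a0816100a060c120e1008120614040e0c04) 6 1))
 (.ali (nat_lit 0x1a02060610141618) 1 0 0 (.sub (.mv 22 0 (.leaf (nat_lit 0x18100e1a06140a10120c040e10140a040e0a) 4 1))
 .nil))))
 (.sub (.split (.sub (.mv 22 0 (.leaf (nat_lit 0x12160e0c16100408140e0410120c0a04) 7 1))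
 (.ali (nat_lit 0x1a02060610141618) 1 0 24 (.sub (.mv 22 0 (.leaf (nat_lit 0x1a0a1408160c040612100e04081410120a06) 6 1))
 .nil))))
 .nil))))
 (.sub (.split (.sub (.split (.sub (.mv 22 0 (.leaf (nat_lit 0x14121a0216140806100c0408060a100e0c04) 6 1))
 (.sub (.mv 22 0 (.leaf (nat_lit 0xe161816040c120c0414060a040e100c0412) 2 1))
 (.ali (nat_lit 0x1a02060610141618) 1 0 24 .nil))))
 (.sub (.split (.sub (.mv 22 0 (.leaf (nat_lit 0x16140a160c0e0406100a0e040c12140e0604) 7 1))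
 (.sub (.mv 22 0 (.leaf (nat_lit 0x41a1016100e120810040e120614060c040e) 6 1))
 (.ali (nat_lit 0x1a02060610141618) 1 0 6168 .nil))))
 (.sub (.split (.sub (.mv 22 0 (.leaf (nat_lit 0x1416121a0604080a100c140e0604100e0406) 6 1))
 (.sub (.mv 22 0 (.leaf (nat_lit 0x1a0e081a080410140e1008120e100c04) 9 1))
 (.ali (nat_lit 0x1a02060610141618) 1 0 0 .nil))))
 .nil))))
 (.sub (.split (.sub (.split (.sub (.mv 22 0 (.leaf (nat_lit 0x160a101610040812100c140e121014040e04) 10 1))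
 (.sub (.mv 22 0 (.leaf (nat_lit 0x412180a16040c040a060c10120c060a0e081204) 6 1))
 (.ali (nat_lit 0x1a02060610141618) 1 1 0 .nil))))
 (.sub (.split (.sub (.mv 22 0 (.leaf (nat_lit 0x1808140416080a0c04060a0e1008140e120c) 6 1))
 (.sub (.mv 22 0 (.leaf (nat_lit 0x6161218120c040e1208100e060c0a100604) 7 1))
 (.ali (nat_lit 0x1a02060610141618) 1 1 24 .nil))))
 (.sub (.split (.sub (.mv 22 0 (.leaf (nat_lit 0x4081a181008060408100c14040a1008120c) 3 1))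
 (.sub (.mv 22 0 (.leaf (nat_lit 0x61614041614120c0e061012100c04081206) 6 1))
 (.ali (nat_lit 0x1a02060610141618) 1 1 6168 .nil))))
 .nil))))
 .nil)))) false 8 4 0) false) false = true := by decide +kernel

theorem plcov_4 {G : Type*} [Group G] [Finite G] (M : Md G par8) : Good (M.d plA) 3 12 (M.QK (M.st [] [O0, O1, O2]) plR) 8 (wv (M.d plA) 4) :=
  (plPc M).cover (M.relT plA) ((M.inv_QK _ _ (by norm_num)).mono (M.PS_le_st pl_p _ _)) (M.lfS_sound _ _ _ _ _ _) plcov_4b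

theorem plcov_5b : cnd (Nat.ble 8 12) (cnd (inW 0 12 1040) (ptB (rbG par8 plA) (lfS par8 [] [O0, O1, O2] plA plR 12) 3 12 14
 (.split (.sub (.split (.sub (.split (.sub (.mv 22 0 (.leaf (nat_lit 0x180e1208160c100812040c140e10120c040e) 6 1))
 (.sub (.mv 22 0 (.leaf (nat_lit 0x1a140806160c120e040a0e101214040e0c08) 0 1))
 (.ali (nat_lit 0x1a02060610141618) 1 0 24 .nil))))
 (.sub (.split (.sub (.mv 22 0 (.leaf (nat_lit 0x18060e1a0408040a14120c100e0a040e) 8 1))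
 (.sub (.mv 22 0 (.leaf (nat_lit 0x180a0e161814080a0e10120c04120e0a140a) 7 1))
 (.ali (nat_lit 0x1a02060610141618) 1 0 6168 .nil))))
 (.sub (.split (.sub (.mv 22 0 (.leaf (nat_lit 0x1018061604060a120c0e060a0608100c120c) 6 1))
 (.sub (.mv 22 0 (.leaf (nat_lit 0x161a02180a0e04121004080c120e06141210) 5 1))
 (.ali (nat_lit 0x1a02060610141618) 1 0 0 .nil))))
 .nil))))
 (.sub (.split (.sub (.split (.sub (.mv 22 0 (.leaf (nat_lit 0x180c10041614100a120c0e04060a140c1204) 12 1))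
 (.sub (.mv 22 0 (.leaf (nat_lit 0x608181a0e140610080c120a14040e10) 6 1))
 (.ali (nat_lit 0x1a02060610141618) 1 1 0 .nil))))
 (.sub (.split (.sub (.mv 22 0 (.leaf (nat_lit 0x180e14081604080a100e060a14100c060a0e) 0 1))
 (.sub (.mv 22 0 (.leaf (nat_lit 0xc10180416080c100a0c0e041206140c12040a04) 6 1))
 (.ali (nat_lit 0x1a02060610141618) 1 1 24 .nil))))
 (.sub (.split (.sub (.mv 22 0 (.leaf (nat_lit 0x8061a0c160e1204060a100e120c10061404) 7 1))
 (.sub (.mv 22 0 (.leaf (nat_lit 0x418041606140e040c060a0e120c0a100406) 3 1))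
 (.ali (nat_lit 0x1a02060610141618) 1 1 6168 .nil))))
 .nil))))
 (.sub (.split (.sub (.split (.sub (.mv 22 0 (.leaf (nat_lit 0xe08181a14100c0e100804060e120e0a) 6 1))
 (.ali (nat_lit 0x1a02060610141618) 1 0 6168 (.sub (.mv 22 0 (.leaf (nat_lit 0x161a12041608040c14120e100c0408100e12) 1 1))
 .nil))))
 (.sub (.split (.sub (.mv 22 0 (.leaf (nat_lit 0x1a0804021612080c0e1204140c100a040c08) 6 1))
 (.ali (nat_lit 0x1a02060610141618) 1 0 0 (.sub (.mv 22 0 (.leaf (nat_lit 0xe18141604081004120c08120c0a) 0 1))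
 .nil))))
 (.sub (.split (.sub (.mv 22 0 (.leaf (nat_lit 0x1a140c04160a100e14080e12040c060a0806) 9 1))
 (.ali (nat_lit 0x1a02060610141618) 1 0 24 (.sub (.mv 22 0 (.leaf (nat_lit 0x406180c16060c0412100a040c060e0a) 7 1))
 .nil))))
 .nil))))
 .nil)))) false 8 1040 0) false) false = true := by decide +kernel

theorem plcov_5 {G : Type*} [Group G] [Finite G] (M : Md G par8) : Good (M.d plA) 3 12 (M.QK (M.st [] [O0, O1, O2]) plR) 8 (wv (M.d plA) 1040) :=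
  (plPc M).cover (M.relT plA) ((M.inv_QK _ _ (by norm_num)).mono (M.PS_le_st pl_p _ _)) (M.lfS_sound _ _ _ _ _ _) plcov_5b

theorem plcov_6b : cnd (Nat.ble 8 12) (cnd (inW 0 12 (nat_lit 0x41010)) (ptB (rbG par8 plA) (lfS par8 [] [O0, O1, O2] plA plR 12) 3 12 14
 (.split (.sub (.split (.sub (.split (.sub (.mv 22 0 (.leaf (nat_lit 0x8160a061610040814100a060e100a14) 11 1))
 (.sub (.mv 22 0 (.leaf (nat_lit 0xa1a1016040a040c0610140c100e120a0604) 6 1))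
 (.ali (nat_lit 0x1a02060610141618) 1 1 0 .nil))))
 (.sub (.split (.sub (.mv 22 0 (.leaf (nat_lit 0x1016141a100408120c0412140804100e) 7 1))
 (.sub (.mv 22 0 (.leaf (nat_lit 0x4180616060a1012040e1008140c04100812) 0 1))
 (.ali (nat_lit 0x1a02060610141618) 1 1 24 .nil))))
 (.sub (.split (.sub (.mv 22 0 (.leaf (nat_lit 0x1a040e1a060c0e04100e040c100812140e04) 6 1))
 (.sub (.mv 22 0 (.leaf (nat_lit 0x1612141604080410140e0c12100e0804) 7 1))
 (.ali (nat_lit 0x1a02060610141618) 1 1 6168 .nil))))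
 .nil))))
 (.sub (.split (.sub (.split (.sub (.mv 22 0 (.leaf (nat_lit 0x616120416101204140c100408120604) 6 1))
 (.ali (nat_lit 0x1a02060610141618) 1 0 6168 (.sub (.mv 22 0 (.leaf (nat_lit 0x18120806160a0e060a120c14040a060c1008) 3 1))
 .nil))))
 (.sub (.split (.sub (.mv 22 0 (.leaf (nat_lit 0xc1a041604060e100e0406120814060c0412) 6 1))
 (.ali (nat_lit 0x1a02060610141618) 1 0 0 (.sub (.mv 22 0 (.leaf (nat_lit 0x1a0e0c180c14100e040c101412040e08140a) 8 1))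
 .nil))))
 (.sub (.split (.sub (.mv 22 0 (.leaf (nat_lit 0x6140c180816040c10120c10060a08140c04) 6 1))
 (.ali (nat_lit 0x1a02060610141618) 1 0 24 (.sub (.mv 22 0 (.leaf (nat_lit 0x1a140e0416060c140a0e0406081012140604) 9 1))
 .nil))))
 .nil))))
 (.sub (.split (.sub (.split (.sub (.mv 22 0 (.leaf (nat_lit 0xe16040216080a10120e04100e0c04060a100c04) 6 1))
 (.sub (.mv 22 0 (.leaf (nat_lit 0x1416060e161012100c060e120a140e100a04) 9 1))
 (.ali (nat_lit 0x1a02060610141618) 1 0 24 .nil))))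
 (.sub (.split (.sub (.mv 22 0 (.leaf (nat_lit 0x21a06160612100c060e0a10120e140c0a04) 6 1))
 (.sub (.mv 22 0 (.leaf (nat_lit 0x180e06141604080c0e120e14100c08060e04) 8 1))
 (.ali (nat_lit 0x1a02060610141618) 1 0 6168 .nil))))
 (.sub (.split (.sub (.mv 22 0 (.leaf (nat_lit 0x121618160a04061410040a120e060a141006) 6 1))
 (.sub (.mv 22 0 (.leaf (nat_lit 0x160e0c16040a0412081004140e10040614080604) 3 1))
 (.ali (nat_lit 0x1a02060610141618) 1 0 0 .nil))))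
 .nil))))
 .nil)))) false 8 (nat_lit 0x41010) 0) false) false = true := by decide +kernel

theorem plcov_6 {G : Type*} [Group G] [Finite G] (M : Md G par8) : Good (M.d plA) 3 12 (M.QK (M.st [] [O0, O1, O2]) plR) 8 (wv (M.d plA) (nat_lit 0x41010)) :=
  (plPc M).cover (M.relT plA) ((M.inv_QK _ _ (by norm_num)).mono (M.PS_le_st pl_p _ _)) (M.lfS_sound _ _ _ _ _ _) plcov_6b

theorem plcov_7b : cnd (Nat.ble 4 12) (cnd (inW 0 12 1032) (ptB (rbG par8 plA) (lfS par8 [] [O0, O1, O2] plA plR 12) 3 12 14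
 (.mv 2056 (nat_lit 0xc10121818) (.mv (nat_lit 0x60608161618) (nat_lit 0x12141418) (.mv (nat_lit 0x2020616161818) (nat_lit 0x10141818) (.mv 3084 (nat_lit 0x121216) (.mv 14 (nat_lit 0x161618) (.split (.sub (.mv 5140 0 (.mv 22 0 (.leaf (nat_lit 0x18120e02161008040c14060e10120a140a04) 6 1)))
 (.sub (.mv 5140 0 (.mv 22 0 (.kill 12 2 0)))
 (.sub (.mv 5140 0 (.mv 22 0 (.kill 12 1 0)))
 .nil))))))))) false 4 1032 0) false) false = true := by decide +kernel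

theorem plcov_7 {G : Type*} [Group G] [Finite G] (M : Md G par8) : Good (M.d plA) 3 12 (M.QK (M.st [] [O0, O1, O2]) plR) 4 (wv (M.d plA) 1032) :=
  (plPc M).cover (M.relT plA) ((M.inv_QK _ _ (by norm_num)).mono (M.PS_le_st pl_p _ _)) (M.lfS_sound _ _ _ _ _ _) plcov_7b

theorem plcov_8b : cnd (Nat.ble 3 12) (cnd (inW 0 12 1030) (ptB (rbG par8 plA) (lfS par8 [] [O0, O1, O2] plA plR 12) 3 12 14
 (.split (.sub (.mv 2056 (nat_lit 0xc101012121616) (.mv (nat_lit 0x60608161618) (nat_lit 0x121414161818) (.mv (nat_lit 0x2020616161818) (nat_lit 0x1212141616) (.mv 3598 (nat_lit 0x121214161618) (.kill 8 1 (nat_lit 0x1212161818))))))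
 (.sub (.mv 2056 (nat_lit 0xc101012121616) (.mv (nat_lit 0x60608161618) (nat_lit 0x121214141616) (.mv (nat_lit 0x2020616161818) (nat_lit 0x10101416161818) (.mv 3598 (nat_lit 0x12141616) (.kill 8 2 (nat_lit 0x121616))))))
 (.sub (.mv 2056 (nat_lit 0xc101012121616) (.mv (nat_lit 0x60608161618) (nat_lit 0x141418) (.mv (nat_lit 0x2020616161818) (nat_lit 0x101214161618) (.mv 3598 (nat_lit 0x1416161818) (.mv (nat_lit 0xa0e0e18) (nat_lit 0x141618) (.split (.sub (.mv 5140 24 (.mv 22 0 (.kill 12 1 0)))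
 (.sub (.mv 5140 24 (.mv 22 0 (.leaf (nat_lit 0x1804021a140e12100a0c0e14120e0a04120a) 6 1)))
 (.sub (.mv 5140 24 (.mv 22 0 (.kill 12 2 0)))
 .nil)))))))))
 .nil)))) false 3 1030 0) false) false = true := by decide +kernel

theorem plcov_8 {G : Type*} [Group G] [Finite G] (M : Md G par8) : Good (M.d plA) 3 12 (M.QK (M.st [] [O0, O1, O2]) plR) 3 (wv (M.d plA) 1030) :=
  (plPc M).cover (M.relT plA) ((M.inv_QK _ _ (by norm_num)).mono (M.PS_le_st pl_p _ _)) (M.lfS_sound _ _ _ _ _ _) plcov_8b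

theorem plcov_9b : cnd (Nat.ble 3 12) (cnd (inW 0 12 2) (ptB (rbG par8 plA) (lfS par8 [] [O0, O1, O2] plA plR 12) 3 12 14
 (.split (.sub (.mv 4 (nat_lit 0xc0c0e10121214141616) (.split (.sub (.split (.sub (.mv 14 (nat_lit 0x1214161818) (.split (.sub (.mv (nat_lit 0xc0e0e) (nat_lit 0x161618) (.mv 20 0 (.split (.sub (.leaf 1 2 1)
 (.sub (.leaf (nat_lit 0xc1a04160810040c140a041210040a0e) 9 1)
 (.sub (.leaf (nat_lit 0xa141a04160c10040e060a100c0a0608120e) 0 1)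
 .nil))))))
 (.sub (.mv (nat_lit 0xc0e0e) (nat_lit 0x161618) (.mv 20 0 (.mv (nat_lit 0xa0e0e141418) 0 (.leaf (nat_lit 0x818161a1406120c0408121412060a140e10) 6 1))))
 (.ali 26 2 1 (nat_lit 0x16161818) .nil)))))
 (.sub (.mv 14 (nat_lit 0x12141618) (.mv 2056 (nat_lit 0x161618) (.mv (nat_lit 0xc0e0e) (nat_lit 0x161618) (.mv 20 0 (.kill 11 1 24)))))
 (.ali 28 2 1 (nat_lit 0x141416) .nil))))
 (.sub (.split (.sub (.mv 14 (nat_lit 0x12141618) (.mv (nat_lit 0x80e0e12121618) (nat_lit 0x141418) (.mv (nat_lit 0xc0e0e) (nat_lit 0x16161818) (.mv 20 24 (.kill 11 2 0)))))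
 (.sub (.mv 14 (nat_lit 0x121416) (.mv (nat_lit 0x6060e161818) (nat_lit 0x141416) (.mv (nat_lit 0xc0e0e) (nat_lit 0x16161818) (.mv 20 24 (.mv (nat_lit 0x12121414) 0 (.leaf (nat_lit 0x1a0a0e081604121412040e0c08120a14) 6 1))))))
 (.sub (.mv 14 (nat_lit 0x1214161818) (.mv (nat_lit 0x8080e18) 5144 (.mv (nat_lit 0xc0e0e) (nat_lit 0x16161818) (.mv 20 24 (.kill 11 1 6168)))))
 .nil))))
 (.ali 28 2 1 (nat_lit 0x12121414161618) .nil)))))
 (.sub (.mv 1028 (nat_lit 0xe0e1010121416161818) (.split (.sub (.split (.sub (.mv 14 (nat_lit 0x121214161618) (.mv 3084 20 (.split (.sub (.mv 4626 0 (.split (.sub (.leaf (nat_lit 0x180e081a04060c14100e0412100e0c121410) 1 1)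
 (.sub (.leaf (nat_lit 0x18140c1a0c1004120e140a06040c12100c12) 8 1)
 (.sub (.leaf (nat_lit 0x1a0a0e08160414120e0a060c0e041014060a0804) 3 1)
 .nil)))))
 (.sub (.mv 4626 0 (.mv (nat_lit 0xa0c0c0e1218) 0 (.leaf (nat_lit 0xc1a1416040604080a12140a10041214040c) 6 1)))
 (.ali 7194 1 1 (nat_lit 0x161818) .nil))))))
 (.sub (.mv 14 (nat_lit 0x12121416161818) (.mv 3084 (nat_lit 0x141818) (.mv (nat_lit 0x80c0c10121216) (nat_lit 0x161818) (.mv 4626 24 (.kill 11 2 6168)))))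
 (.ali 28 2 1 (nat_lit 0x1010141416) .nil))))
 (.sub (.split (.sub (.mv 14 (nat_lit 0x12121416161818) (.mv 3084 20 (.mv (nat_lit 0x8080e18) 6168 (.mv 4626 24 (.kill 11 1 0)))))
 (.sub (.mv 14 (nat_lit 0x1212141616) (.mv 3084 (nat_lit 0x141818) (.mv 1542 (nat_lit 0x16161818) (.mv 4626 6168 (.mv 20 0 (.leaf (nat_lit 0x1a06040216040610080e120e1004060e0806) 6 1))))))
 (.sub (.mv 14 (nat_lit 0x121214161618) (.mv 3084 5144 (.mv (nat_lit 0x80c0e0e10101818) 22 (.mv 4626 0 (.kill 11 2 24)))))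
 .nil))))
 (.ali 28 2 1 (nat_lit 0x10121214141618) .nil)))))
 (.sub (.split (.sub (.mv 4 (nat_lit 0xe101212141418) (.split (.sub (.mv 14 20 (.mv 2570 (nat_lit 0x1414161818) (.split (.sub (.mv 5140 0 (.split (.sub (.leaf (nat_lit 0x1606081604060c0610120c040a06140e) 11 1)
 (.sub (.leaf (nat_lit 0x100c1a180414100e0a1214120410060a0e04) 12 1)
 (.sub (.leaf (nat_lit 0x1812141a0e0408061012140a1012060e) 10 1)
 .nil)))))
 (.sub (.mv 5140 0 (.mv (nat_lit 0xc0c0e0e) 0 (.leaf (nat_lit 0x1a0e0a1a040a100a0c120e08120408100c04) 6 1)))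
 (.ali (nat_lit 0x1a0a0a0e10101618) 2 1 0 .nil))))))
 (.sub (.mv 14 20 (.mv 2570 (nat_lit 0x141416) (.mv (nat_lit 0x8080a) 6168 (.mv 5140 0 (.mv (nat_lit 0x121214) 0 (.leaf (nat_lit 0x18081a1606080a10120e040806140e101210) 6 1))))))
 (.ali 28 2 1 (nat_lit 0x10141416) .nil)))))
 (.sub (.mv 4 (nat_lit 0xe101212141418) (.split (.sub (.mv 14 20 (.mv 2570 (nat_lit 0x141416) (.mv (nat_lit 0x8080a0a0e0e18) (nat_lit 0x161818) (.mv 5140 0 (.mv (nat_lit 0x121414) 0 (.kill 12 1 0))))))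
 (.sub (.mv 14 20 (.mv 2570 (nat_lit 0x14141618) (.mv (nat_lit 0x80e12161618) 24 (.mv 5140 0 (.mv 4116 0 (.kill 12 2 0))))))
 (.sub (.mv 14 20 (.mv 2570 (nat_lit 0x1414161818) (.mv (nat_lit 0x60e101012141416) 0 (.mv 5140 0 (.mv (nat_lit 0x121214) 0 (.leaf (nat_lit 0x181a04100e121008040c060a10120e0c) 6 1))))))
 .nil)))))
 (.ali 28 2 1 (nat_lit 0x1012141618) .nil))))
 .nil)))) false 3 2 0) false) false = true := by decide +kernel

theorem plcov_9 {G : Type*} [Group G] [Finite G] (M : Md G par8) : Good (M.d plA) 3 12 (M.QK (M.st [] [O0, O1, O2]) plR) 3 (wv (M.d plA) 2) :=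
  (plPc M).cover (M.relT plA) ((M.inv_QK _ _ (by norm_num)).mono (M.PS_le_st pl_p _ _)) (M.lfS_sound _ _ _ _ _ _) plcov_9b

theorem plcov_10b : cnd (Nat.ble 3 12) (cnd (inW 0 12 518) (ptB (rbG par8 plA) (lfS par8 [] [O0, O1, O2] plA plR 12) 3 12 14
 (.split (.sub (.mv 1028 (nat_lit 0xc0c0e0e101012121818) (.split (.sub (.split (.sub (.mv 10 (nat_lit 0x121416161818) (.mv 3598 5656 (.mv (nat_lit 0xc0c0e) 24 (.mv 5140 24 (.split (.sub (.leaf (nat_lit 0x160418120c0e0a041210140c08100a06) 6 1)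
 (.sub (.leaf (nat_lit 0x180e0a1a04060a0e140a100e060c12040e06) 8 1)
 (.sub (.leaf (nat_lit 0x1a061608041012140a0e14080412100a0804) 7 1)
 .nil))))))))
 (.sub (.mv 10 (nat_lit 0x121416161818) (.mv 3598 22 (.mv (nat_lit 0xc0c0e) 24 (.mv 5140 24 (.mv 4626 0 (.kill 12 2 0))))))
 (.ali (nat_lit 0x1c1a04040a0a0e0e10) 1 1 (nat_lit 0x141818) .nil))))
 (.sub (.split (.sub (.mv 10 (nat_lit 0x121416161818) (.mv 3598 22 (.mv (nat_lit 0xc0c0e) 6168 (.mv 5140 0 (.kill 11 1 24)))))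
 (.sub (.mv 10 (nat_lit 0x121416161818) (.mv 3598 (nat_lit 0x161818) (.mv (nat_lit 0xc0c0e) 6168 (.mv 5140 0 (.kill 11 1 24)))))
 (.sub (.mv 10 (nat_lit 0x121416161818) (.mv 3598 5656 (.mv (nat_lit 0xc0c0e) 6168 (.mv 5140 0 (.kill 11 1 6168)))))
 .nil))))
 (.ali (nat_lit 0x1c1a04040a0a0e0e10) 1 1 (nat_lit 0x1010141418) .nil)))))
 (.sub (.split (.sub (.mv 1028 (nat_lit 0xe0e121818) (.split (.sub (.mv 3084 (nat_lit 0x14161818) (.mv (nat_lit 0x6060c0c18) 5656 (.mv (nat_lit 0xa0a0c) 6168 (.mv 20 6168 (.kill 11 2 6168)))))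
 (.sub (.mv 3084 (nat_lit 0x14161818) (.mv (nat_lit 0x8080c0c) (nat_lit 0x14161818) (.mv (nat_lit 0xa0a0c) 24 (.mv 20 6168 (.kill 11 2 6168)))))
 (.sub (.mv 3084 (nat_lit 0x14161818) (.mv (nat_lit 0x80c1010121616) (nat_lit 0x14141616) (.mv (nat_lit 0xa0a0c) 0 (.mv 20 6168 (.kill 11 2 6168)))))
 .nil)))))
 (.ali 28 2 0 (nat_lit 0xc0c0e0e101216) (.sub (.mv 1028 (nat_lit 0xe0e12) (.split (.sub (.mv 3084 5142 (.mv (nat_lit 0x8080c) (nat_lit 0x141416) (.mv (nat_lit 0xa0a0c) 0 (.mv 20 6168 (.mv 4626 0 (.leaf (nat_lit 0x81a021614100c04080a14120a040e0a) 6 1))))))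
 (.ali (nat_lit 0x1c1a040a0e1010) 1 0 (nat_lit 0x101012161818) (.sub (.mv 3084 5142 (.split (.sub (.mv (nat_lit 0xa0a0c) 24 (.mv 20 6168 (.mv (nat_lit 0xe0e14) 0 (.leaf (nat_lit 0x1810061a100a12041412080614100e080410) 6 1))))
 (.sub (.mv (nat_lit 0xa0a0c) 0 (.mv 20 6168 (.split (.sub (.leaf (nat_lit 0x10161404160410080a060c10040a0e0c0a04) 0 1)
 (.sub (.leaf (nat_lit 0x161014160c04120c1004081014120a10) 4 1)
 (.sub (.leaf (nat_lit 0xa141a0e16100e0a14120e0a14040a10120e0604) 8 1)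
 .nil))))))
 (.ali (nat_lit 0x1a0c0c10101416) 2 0 (nat_lit 0x14141616) .nil)))))
 .nil)))))
 .nil))))
 (.sub (.mv 4 (nat_lit 0xe101018) (.split (.sub (.split (.sub (.mv 12 (nat_lit 0x121414161618) (.mv 14 6168 (.mv (nat_lit 0xa0e1818) 5654 (.mv 4112 24 (.kill 11 1 24)))))
 (.sub (.mv 12 (nat_lit 0x1214141616) (.mv 14 24 (.mv (nat_lit 0xa0e1818) (nat_lit 0x161618) (.mv 4112 24 (.kill 11 1 6168)))))
 (.sub (.mv 12 (nat_lit 0x12141416161818) (.mv 14 0 (.mv (nat_lit 0xa0e1818) (nat_lit 0x16161818) (.mv 4112 24 (.kill 11 1 6168)))))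
 .nil))))
 (.sub (.split (.sub (.mv 12 (nat_lit 0x121414161618) (.mv 14 24 (.mv (nat_lit 0xa0e1818) (nat_lit 0x16161818) (.mv 4112 6168 (.mv 4626 0 (.kill 12 1 0))))))
 (.ali (nat_lit 0x1c1a040a0e1010) 1 0 (nat_lit 0x10121818) (.sub (.mv 12 (nat_lit 0x12141416161818) (.mv 14 6168 (.mv (nat_lit 0xa0e1818) (nat_lit 0x161618) (.mv 4112 6168 (.split (.sub (.leaf (nat_lit 0x180816040e04140812100a0604081206) 0 1)
 (.sub (.leaf (nat_lit 0x1a100e1a0810120c060a100814040c100806) 6 1)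
 (.sub (.leaf (nat_lit 0x18060c061604080412041008140a0406140e) 7 1)
 .nil))))))))
 .nil))))
 (.ali (nat_lit 0x1c1a040a0e1010) 1 0 (nat_lit 0xe101012141418) .nil)))))
 .nil)))) false 3 518 0) false) false = true := by decide +kernel

theorem plcov_10 {G : Type*} [Group G] [Finite G] (M : Md G par8) : Good (M.d plA) 3 12 (M.QK (M.st [] [O0, O1, O2]) plR) 3 (wv (M.d plA) 518) :=
  (plPc M).cover (M.relT plA) ((M.inv_QK _ _ (by norm_num)).mono (M.PS_le_st pl_p _ _)) (M.lfS_sound _ _ _ _ _ _) plcov_10b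

theorem plcov_11b : cnd (Nat.ble 3 12) (cnd (inW 0 12 (nat_lit 0x20606)) (ptB (rbG par8 plA) (lfS par8 [] [O0, O1, O2] plA plR 12) 3 12 14
 (.split (.sub (.split (.sub (.split (.sub (.mv 4 (nat_lit 0x101012121418) (.mv 3598 (nat_lit 0x141618) (.mv (nat_lit 0xa0e1818) (nat_lit 0x161818) (.mv (nat_lit 0x80e0e12121618) (nat_lit 0x161818) (.mv 18 0 (.kill 11 2 0))))))
 (.sub (.mv 4 (nat_lit 0x101012121418) (.mv 3598 (nat_lit 0x141618) (.mv (nat_lit 0xa0e1818) (nat_lit 0x161818) (.mv (nat_lit 0x60a0a0e0e101212141616) (nat_lit 0x161618) (.mv 18 6168 (.kill 11 2 24))))))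
 (.sub (.mv 4 (nat_lit 0x101012121418) (.mv 3598 (nat_lit 0x141618) (.mv (nat_lit 0xa0e1818) (nat_lit 0x161818) (.mv (nat_lit 0x8080a) (nat_lit 0x16161818) (.mv 18 24 (.kill 11 2 6168))))))
 .nil))))
 (.sub (.split (.sub (.mv 4 (nat_lit 0x1010121214) (.mv 3598 5142 (.mv (nat_lit 0xa0e1818) (nat_lit 0x161818) (.mv (nat_lit 0x8080a) (nat_lit 0x161618) (.mv 18 24 (.mv 20 0 (.leaf (nat_lit 0x10160c18060a1210140e060814120804) 6 1)))))))
 (.ali 28 2 0 (nat_lit 0xe10121216161818) (.sub (.mv 4 (nat_lit 0x1010121214) (.mv 3598 5142 (.mv (nat_lit 0xa0e1818) (nat_lit 0x161818) (.split (.sub (.mv 18 6168 (.split (.sub (.leaf (nat_lit 0x410161204160c0e100a12140e0608120e06) 9 1)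
 (.sub (.leaf (nat_lit 0x161206160410140e10040a1412100e0c) 3 1)
 (.sub (.leaf (nat_lit 0x160c0216060e040814100e14100a0e12) 5 1)
 .nil)))))
 (.sub (.mv 18 6168 (.mv (nat_lit 0xc0c0e1212) 0 (.leaf (nat_lit 0x804180816060408100c0412140e0a0410120804) 6 1)))
 (.ali (nat_lit 0x1a0e0e12121414) 2 1 (nat_lit 0x161818) .nil)))))))
 .nil))))
 (.ali 28 2 0 (nat_lit 0xc0e10121416) .nil))))
 (.sub (.mv 4 (nat_lit 0xc0e12141618) (.split (.sub (.split (.sub (.mv 3598 (nat_lit 0x12121416) (.mv (nat_lit 0xc0c0e0e) (nat_lit 0x141418) (.mv (nat_lit 0xa0c0c0e) 24 (.mv 5140 6168 (.kill 11 2 6168)))))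
 (.sub (.mv 3598 (nat_lit 0x1212141618) (.mv (nat_lit 0xc0c0e0e) 5140 (.mv (nat_lit 0xa0c0c0e) 6168 (.mv 5140 6168 (.kill 11 1 24)))))
 (.sub (.mv 3598 (nat_lit 0x121214161818) (.mv (nat_lit 0xc0c0e0e) (nat_lit 0x14141818) (.mv (nat_lit 0xa0c0c0e) 0 (.mv 5140 6168 (.mv (nat_lit 0x12121414) 0 (.kill 12 2 0))))))
 .nil))))
 (.sub (.split (.sub (.mv 3598 (nat_lit 0x1212141618) (.mv (nat_lit 0xc0c0e0e) (nat_lit 0x14141818) (.mv (nat_lit 0xa0c0c0e) 0 (.mv 5140 24 (.kill 11 1 6168)))))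
 (.sub (.mv 3598 (nat_lit 0x121214161818) (.mv (nat_lit 0xc0c0e0e) (nat_lit 0x141418) (.mv (nat_lit 0xa0c0c0e) 24 (.mv 5140 24 (.split (.sub (.leaf (nat_lit 0x61806160a1208100e04060c1214040e0a04) 6 1)
 (.sub (.leaf 1 9 1)
 (.sub (.leaf (nat_lit 0x14061a041604140e0a1214060804100e) 7 1)
 .nil))))))))
 (.ali (nat_lit 0x1c1a04040a0a0e0e10) 1 0 (nat_lit 0x101216161818) .nil))))
 (.ali (nat_lit 0x1c1a04040a0a0e0e10) 1 0 (nat_lit 0xe0e1010141416161818) .nil)))))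
 (.sub (.mv 1028 (nat_lit 0xc0e0e101014141618) (.split (.sub (.split (.sub (.mv 3598 (nat_lit 0x1214161818) (.mv 3084 (nat_lit 0x141616) (.mv (nat_lit 0xa0a0c) (nat_lit 0x161618) (.mv 20 24 (.kill 11 2 24)))))
 (.sub (.mv 3598 (nat_lit 0x12141618) (.mv 3084 (nat_lit 0x1416161818) (.mv (nat_lit 0xa0a0c) 5654 (.mv 20 24 (.mv (nat_lit 0x121414) 0 (.kill 12 1 0))))))
 (.sub (.mv 3598 (nat_lit 0x121416) (.mv 3084 (nat_lit 0x14161618) (.mv (nat_lit 0xa0a0c) (nat_lit 0x16161818) (.mv 20 24 (.kill 11 1 6168)))))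
 .nil))))
 (.sub (.split (.sub (.mv 3598 (nat_lit 0x12141618) (.mv 3084 (nat_lit 0x141616) (.mv (nat_lit 0xa0a0c) (nat_lit 0x161618) (.mv 20 6168 (.split (.sub (.leaf (nat_lit 0xc081a0a160c0e06100a04140804100e04060c04) 7 1)
 (.sub (.leaf (nat_lit 0x160402160a0e10140a040c120e100a060408) 3 1)
 (.sub (.leaf (nat_lit 0x1a100e18080e0a10040c0e10120e08040604) 6 1)
 .nil))))))))
 (.sub (.mv 3598 (nat_lit 0x121416) (.mv 3084 (nat_lit 0x1416161818) (.mv (nat_lit 0xa0a0c) 5654 (.mv 20 6168 (.kill 11 1 24)))))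
 (.ali (nat_lit 0x1c1a040a0e1010) 1 1 (nat_lit 0x1010121418) .nil))))
 (.ali (nat_lit 0x1c1a040a0e1010) 1 0 0 .nil)))))
 .nil)))) false 3 (nat_lit 0x20606) 0) false) false = true := by decide +kernel

theorem plcov_11 {G : Type*} [Group G] [Finite G] (M : Md G par8) : Good (M.d plA) 3 12 (M.QK (M.st [] [O0, O1, O2]) plR) 3 (wv (M.d plA) (nat_lit 0x20606)) :=
  (plPc M).cover (M.relT plA) ((M.inv_QK _ _ (by norm_num)).mono (M.PS_le_st pl_p _ _)) (M.lfS_sound _ _ _ _ _ _) plcov_11b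

theorem plcov_12b : cnd (Nat.ble 2 12) (cnd (inW 0 12 516) (ptB (rbG par8 plA) (lfS par8 [] [O0, O1, O2] plA plR 12) 3 12 14
 (.split (.sub (.split (.sub (.mv 2056 (nat_lit 0xc10121818) (.mv (nat_lit 0x60608161618) (nat_lit 0x101214) (.mv (nat_lit 0x4060a0a0c101012141818) (nat_lit 0x1012141416161818) (.mv 14 (nat_lit 0x12141618) (.kill 8 1 (nat_lit 0x121618))))))
 (.sub (.mv 2056 (nat_lit 0xc10121818) (.mv (nat_lit 0x60608161618) (nat_lit 0x10121214161618) (.mv (nat_lit 0x406080a10101212141818) (nat_lit 0x101414161818) (.mv 14 (nat_lit 0x1212141616) (.kill 8 2 (nat_lit 0x1212161618))))))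
 (.sub (.mv 2056 (nat_lit 0xc10121818) (.mv (nat_lit 0x60608161618) (nat_lit 0x1014161818) (.mv (nat_lit 0x40608080c0c10101418) (nat_lit 0x10121214141818) (.mv 14 (nat_lit 0x141818) (.mv 2570 (nat_lit 0x141416) (.split (.sub (.mv 5140 6168 (.mv 22 0 (.kill 12 1 0)))
 (.sub (.mv 5140 6168 (.mv 22 0 (.leaf (nat_lit 0xe061a0c160a0c120c0e1410120e040c0804) 6 1)))
 (.sub (.mv 5140 6168 (.mv 22 0 (.kill 12 2 0)))
 .nil)))))))))
 .nil))))
 (.sub (.split (.sub (.mv 2056 (nat_lit 0xc101012121616) (.mv (nat_lit 0x60608161618) (nat_lit 0x101212141818) (.mv (nat_lit 0x406060a0c0c1010141416) (nat_lit 0x10121216161818) (.mv 10 (nat_lit 0x1214161618) (.kill 8 2 5142)))))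
 (.sub (.mv 2056 (nat_lit 0xc101012121616) (.mv (nat_lit 0x60608161618) (nat_lit 0x10141616) (.mv (nat_lit 0x40606080c141416) (nat_lit 0x121218) (.mv 3084 5142 (.kill 8 1 (nat_lit 0x141616))))))
 (.sub (.mv 2056 (nat_lit 0xc101012121616) (.mv (nat_lit 0x60608161618) (nat_lit 0x1012141618) (.mv (nat_lit 0x4060608080a0a101414161818) (nat_lit 0x1010121216) (.mv 12 (nat_lit 0x1214141616) (.mv 14 24 (.mv (nat_lit 0xa0e1818) (nat_lit 0x161618) (.kill 10 1 0)))))))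
 .nil))))
 (.sub (.split (.sub (.mv 2056 12 (.mv (nat_lit 0x60608161618) (nat_lit 0x10141618) (.mv 4 (nat_lit 0x1010121214) (.mv 3598 (nat_lit 0x14161818) (.kill 8 2 (nat_lit 0x1414161618))))))
 (.sub (.mv 2056 12 (.mv (nat_lit 0x60608161618) (nat_lit 0x1012141818) (.mv (nat_lit 0x4080a0a0c0c10101212) (nat_lit 0x141818) (.mv 3598 (nat_lit 0x1212141618) (.kill 8 2 (nat_lit 0x121214141616))))))
 (.sub (.mv 2056 12 (.mv (nat_lit 0x60608161618) (nat_lit 0x101212141616) (.mv (nat_lit 0x408080a0c10121818) (nat_lit 0x10121418) (.mv 3598 (nat_lit 0x121416) (.kill 8 2 (nat_lit 0x12141416161818))))))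
 .nil))))
 .nil)))) false 2 516 0) false) false = true := by decide +kernel

theorem plcov_12 {G : Type*} [Group G] [Finite G] (M : Md G par8) : Good (M.d plA) 3 12 (M.QK (M.st [] [O0, O1, O2]) plR) 2 (wv (M.d plA) 516) :=
  (plPc M).cover (M.relT plA) ((M.inv_QK _ _ (by norm_num)).mono (M.PS_le_st pl_p _ _)) (M.lfS_sound _ _ _ _ _ _) plcov_12b

noncomputable def plcovL : List (ℕ × ℕ) := [(5, 0), (5, 10), (4, 8), (3, 6),
 (8, 4), (8, 1040), (8, (nat_lit 0x41010)), (4, 1032),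
 (3, 1030), (3, 2), (3, 518), (3, (nat_lit 0x20606)),
 (2, 516)]

theorem plcovb : cnd (Nat.ble 0 12) (cnd (inW 0 12 0) (ptB (rbG par8 plA) (lfL plcovL) 3 12 14
 (.split (.sub (.split (.sub (.split (.sub (.split (.sub (.split (.sub (.leaf 0 0 0)
 (.sub (.leaf 1 0 0)
 (.ali 0 2 1 0 .nil))))
 (.sub (.leaf 2 0 0)
 (.ali 0 2 1 0 .nil))))
 (.sub (.leaf 3 0 0)
 (.ali 0 2 1 22 .nil))))
 (.sub (.split (.sub (.split (.sub (.mv 2056 (nat_lit 0xc10121818) (.mv (nat_lit 0x60608161618) (nat_lit 0x14141616) (.mv (nat_lit 0x2020616161818) (nat_lit 0x1010121214) (.split (.sub (.leaf 4 0 0)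
 (.sub (.leaf 5 0 0)
 (.sub (.leaf 6 0 0)
 .nil)))))))
 (.sub (.leaf 7 0 0)
 (.ali 26 1 1 (nat_lit 0xe0e1010121214) .nil))))
 (.sub (.leaf 8 0 0)
 (.ali 26 1 1 (nat_lit 0xe0e1416161818) .nil))))
 (.ali 0 2 1 0 .nil))))
 (.sub (.split (.sub (.split (.sub (.leaf 9 0 0)
 (.sub (.leaf 10 0 0)
 (.sub (.leaf 11 0 0)
 .nil))))
 (.sub (.leaf 12 0 0)
 (.ali 26 2 1 (nat_lit 0xa0c0c1010121414) .nil))))
 (.ali 0 2 1 0 .nil)))) false 0 0 0) false) false = true := by decide +kernel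

theorem plcov {G : Type*} [Group G] [Finite G] (M : Md G par8) : Good (M.d plA) 3 12 (M.QK (M.st [] [O0, O1, O2]) plR) 0 (wv (M.d plA) 0) :=
  (plPc M).cover (M.relT plA) ((M.inv_QK _ _ (by norm_num)).mono (M.PS_le_st pl_p _ _)) (lfL_sound (L := plcovL) (goodL_cons (plcov_0 M) (goodL_cons (plcov_1 M) (goodL_cons (plcov_2 M) (goodL_cons (plcov_3 M)
  (goodL_cons (plcov_4 M) (goodL_cons (plcov_5 M) (goodL_cons (plcov_6 M) (goodL_cons (plcov_7 M)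
  (goodL_cons (plcov_8 M) (goodL_cons (plcov_9 M) (goodL_cons (plcov_10 M) (goodL_cons (plcov_11 M)
  (goodL_cons (plcov_12 M) goodL_nil)))))))))))))) plcovb

end Cfsg.Lib.Fi.C8
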