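import Cfsg.Agent.Lib.Fi.C8cb
import Cfsg.Agent.Lib.Fi.C8lb

/-! Subgroups of order three in `Ω₇(3)` and `PΩ₈⁺(3)`. -/

namespace Cfsg.Lib.Fi

open Cfsg.Lib.Comp Subgroup C8

variable {G : Type*} [Group G]

theorem Cls.of_range {H : Type*} [Group H] {f : H →* G} (hf : Function.Injective f) {K L : Subgroup G} {p k : ℕ}
    (h : Cls K L p k) (hL : L ≤ f.range) (hK : K ≤ f.range) : Cls (K.comap f) (L.comap f) p k :=
  h.comap hf (fun _ a _ => a.trans hL) fun g hg => by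
    obtain ⟨a, rfl⟩ := hK hg
    exact ⟨a, hg, fun _ => rfl⟩

theorem Cls.iso {H : Type*} [Group H] {K : Subgroup G} (e : K ≃* H) {p k : ℕ} (h : Cls K K p k) :
    Cls (⊤ : Subgroup H) ⊤ p k := by
  have r : (K.subtype.comp e.symm.toMonoidHom).range = K := by
    rw [MonoidHom.range_comp, MonoidHom.range_eq_top.2 e.symm.surjective, ← MonoidHom.range_eq_map, range_subtype]
  have := h.of_range (f := K.subtype.comp e.symm.toMonoidHom) (K.subtype_injective.comp e.symm.injective) r.ge r.ge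
  rwa [(eq_top_iff.2 fun x _ => (e.symm x).2 : K.comap (K.subtype.comp e.symm.toMonoidHom) = ⊤)] at this

theorem Md.ords {P : Par} (M : Md G P) {R : List (ℕ × ℕ)} {p : ℕ} (hp : p.Prime) {Q : List ℕ}
    (h : allN R.length (fun j => ordB P (ent R j) p (nth 0 Q j)) = true) : ∀ e ∈ R, orderOf (M.v e) = p := fun e he => by
  obtain ⟨j, hj, rfl⟩ := exists_ent' he
  exact M.ord hp (allN_iff.1 h j hj)

theorem Md.QK.top {P : Par} {M : Md G P} {K : Subgroup G} {R R' C : List (ℕ × ℕ)} {J : List ℕ} {t : G} (h : M.QK K R t)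
    (hb : allN R.length (fun j => cjB P (ent C j) (ent R j) (ent R' (nth 0 J j))) = true) : M.QK ⊤ R' t := by
  obtain ⟨j, k, g, -, h⟩ := h
  rcases ent_mem R j with e | e
  · exact ⟨0, 0, g, trivial, by rw [h, e, M.v_def, one_pow, pow_zero]⟩
  · obtain ⟨i, hi, e⟩ := exists_ent' e
    exact ⟨_, k, M.v (ent C i) * g, trivial, by rw [← M.cj (allN_iff.1 hb i hi), conj_pow, e, ← h]; group⟩

variable [Finite G] (M : Md G par8)

theorem cls7 : Cls (M.st [(0, 0)] []) (M.st [(0, 0)] []) 3 7 :=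
  M.cls (R := pcR) Nat.prime_three (M.ords Nat.prime_three pcR_o) (M.le_st pcR_p) (pcR_c ▸ by decide)
    (M.cnt_st (by decide +kernel) ((KC M).1.le.trans (M.le_st KC_o)))
    ((pcPc M).allK (M.inv_QK _ _ (by norm_num)) (M.PS_le_st pc_p _ _) (r := 465920) ((KC M).2.trans (by norm_num))
      (by norm_num) (pccov M))

theorem cov13 : ∀ t ∈ M.st [] [O0, O1, O2], t ^ 3 = 1 → M.QK (M.st [] [O0, O1, O2]) plR t :=
  (plPc M).allK (M.inv_QK _ _ (by norm_num)) (M.PS_le_st pl_p _ _) (r := 9318400) ((KL M).2.trans (by norm_num))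
    (by norm_num) (plcov M)

theorem cls13 : Cls (M.st [] [O0, O1, O2]) (M.st [] [O0, O1, O2]) 3 13 :=
  M.cls (R := plR) Nat.prime_three (M.ords Nat.prime_three plR_o) (M.le_st plR_p) (plR_c ▸ by decide)
    (M.cnt_st (by decide +kernel) le_rfl) (cov13 M)

theorem cls7' (h : M.cp lets = ⊤) : Cls ⊤ (M.st [] [O0, O1, O2]) 3 7 := by
  refine M.cls (R := R7) Nat.prime_three (fun e he => M.ords (R := plR) Nat.prime_three plR_o e (R7_s e he))
    ((M.cp_mono R7_s).trans (M.le_st plR_p)) (f := fun e => cntF par8 e O0 ^ 2 + cntF par8 e O1 ^ 2 + cntF par8 e O2 ^ 2)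
    (R7_c ▸ by decide) (fun e e' g _ hg => ?_) fun t a b => (cov13 M t a b).top R7_j
  obtain ⟨σ, hσ⟩ := M.blocks blk (h ▸ mem_top g)
  have := Equiv.sum_comp σ fun i => cntF par8 e' (![O0, O1, O2] i) ^ 2
  simp only [← fun i => M.cnt_eq (by decide +kernel) hg (hσ i), Fin.sum_univ_three] at this
  exact this

omit [Finite G] in
theorem normal_L (h : M.cp lets = ⊤) : (M.st [] [O0, O1, O2]).Normal := ⟨fun x hx g => by
  obtain ⟨σ, hσ⟩ := M.blocks blk (h ▸ mem_top g)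
  have m : ∀ A, A ∈ [O0, O1, O2] ↔ ∃ i, ![O0, O1, O2] i = A := fun A => by simp [Fin.exists_fin_succ, eq_comm]
  refine M.mem_st_iff.2 ⟨by simp, fun A hA => ?_⟩
  obtain ⟨i, rfl⟩ := (m A).1 hA
  obtain ⟨i, rfl⟩ := σ.surjective i
  rw [mul_assoc]
  exact (((hσ i).inv.mul ((M.mem_st_iff.1 hx).2 _ ((m _).2 ⟨i, rfl⟩))).mul (hσ i))⟩

theorem ker_eq (h : M.cp lets = ⊤) {θ : G →* Equiv.Perm (Fin 3)}
    (e : θ.ker ≃* POmega (ZMod 3) (quadFormPlus 4 (ZMod 3))) : θ.ker = M.st [] [O0, O1, O2] := by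
  have := normal_L M h
  have := Known2.simple_o8
  have := e.isSimpleGroup
  have c : Nat.card θ.ker = 4952179814400 := (Nat.card_congr e.toEquiv).trans Known2.card_o8
  rcases (inferInstance : ((M.st [] [O0, O1, O2]).subgroupOf θ.ker).Normal).eq_bot_or_eq_top with a | a
  · have i := card_dvd_of_injective (θ.comp (M.st [] [O0, O1, O2]).subtype) ((injective_iff_map_eq_one _).2 fun x hx =>
      Subtype.ext (congrArg (fun y : θ.ker => y.1) (mem_bot.1 (a.le (x := ⟨x, hx⟩) x.2))))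
    rw [(KL M).2, Nat.card_perm, Nat.card_fin] at i
    exact absurd i (by decide)
  · exact eq_of_le_of_card_ge (subgroupOf_eq_top.1 a) (by rw [c, (KL M).2])

end Cfsg.Lib.Fi
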