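import Cfsg.Agent.Lib.Fi.C8o

set_option maxRecDepth 100000

namespace Cfsg.Lib.Fi.C8

open Cfsg.Lib.Comp Cfsg.Lib.Fi

noncomputable def pcA : List (ℕ × ℕ) := [(0, (nat_lit 0x40c040a121404120a140c04)),
 (0, (nat_lit 0x604140e060a100c0608120a)),
 (0, (nat_lit 0x12040c0e1012140e100a0614)),
 (0, (nat_lit 0xc10040e1210040e0a080614)),
 (0, (nat_lit 0x40e100e14040a0e0a14)),
 (0, (nat_lit 0x140a0e1014040a0e1004)),
 (0, (nat_lit 0x4080c06121408040a101208060e)),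
 (0, (nat_lit 0x6080e12080e0a060c12040c)),
 (0, (nat_lit 0xa040c10120c1006140c100a)),
 (0, 0),
 (0, (nat_lit 0x14120c0e100e04120a14060e)),
 (0, (nat_lit 0xe10120c0e0412100c120e0c04))]

theorem pcb : pcB (rbG par8 pcA) 3 9 12
 [[0,
 0,
 0,
 0,
 0,
 0,
 0,
 0,
 0,
 0,
 2,
 (nat_lit 0x2020a0c10101212),
 (nat_lit 0x20212)],
 [4626,
 (nat_lit 0xa0a0c0c10),
 0,
 0,
 0,
 0,
 0,
 0,
 0,
 0,
 4,
 (nat_lit 0x40408080a0e0e101012),
 (nat_lit 0x4081212)],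
 [4114,
 (nat_lit 0x8080c0c0e12),
 (nat_lit 0xc0c0e0e10),
 0,
 0,
 0,
 0,
 0,
 0,
 0,
 6,
 (nat_lit 0x6060a0a0c0c101212),
 (nat_lit 0x6080a1012)],
 [0,
 4626,
 3084,
 (nat_lit 0xe1012),
 0,
 0,
 0,
 0,
 0,
 0,
 8,
 (nat_lit 0x80e0e1010),
 (nat_lit 0x8081212)],
 [0,
 18,
 4626,
 (nat_lit 0xc0c1012),
 4626,
 0,
 0,
 0,
 0,
 0,
 10,
 (nat_lit 0xa0c0c101212),
 2570],
 [0,
 4626,
 4626,
 (nat_lit 0x10101212),
 4626,
 0,
 0,
 0,
 0,
 0,
 12,
 (nat_lit 0xc0c10101212),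
 (nat_lit 0xc0c12)],
 [0,
 0,
 16,
 18,
 0,
 18,
 0,
 0,
 0,
 0,
 14,
 (nat_lit 0xe0e101212),
 3598],
 [0,
 4626,
 0,
 0,
 0,
 0,
 0,
 0,
 0,
 0,
 16,
 (nat_lit 0x101212),
 4112],
 [0,
 0,
 0,
 0,
 0,
 0,
 0,
 0,
 0,
 0,
 18,
 4626,
 18]] = true := by decide +kernel

noncomputable def pcL_2W : List (ℕ × ℕ) := apd [(0, (nat_lit 0x60c0e0408100c040a08100e))] []

theorem pcL_2b : lvB par8 pcL_2W [] (nat_lit 0xa14061a) 514 3 = true := by decide +kernel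

theorem pcL_2 {G : Type*} [Group G] [Finite G] (M : Md G par8) : M.LB pcL_2W 3 :=
  Md.LB.step pcL_2b (Md.LB.one M _)

noncomputable def pcL_1W : List (ℕ × ℕ) := apd [(0, (nat_lit 0x60a0e121008040e0c040a100c04)),
 (0, (nat_lit 0xa04140a120c1012140c0a10)),
 (0, (nat_lit 0x40a040c140e060a0e0c1014))] pcL_2W

theorem pcL_1b : lvB par8 pcL_1W pcL_2W (nat_lit 0xc1618) (nat_lit 0x40604020604020604) 81 = true := by decide +kernel

theorem pcL_1 {G : Type*} [Group G] [Finite G] (M : Md G par8) : M.LB pcL_1W 243 :=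
  Md.LB.step pcL_1b (pcL_2 M)

noncomputable def pcL_0W : List (ℕ × ℕ) := apd [(0, (nat_lit 0x4060a0c1210040c04120c04)),
 (0, (nat_lit 0x100408060c14120c0a100a08))] pcL_1W

theorem pcL_0b : lvB par8 pcL_0W pcL_1W 1560 (nat_lit 0x2040204020408020402) 81 = true := by decide +kernel

theorem pcL_0 {G : Type*} [Group G] [Finite G] (M : Md G par8) : M.LB pcL_0W 19683 :=
  Md.LB.step pcL_0b (pcL_1 M)

theorem pcLb : cnd (Nat.ble 9 (List.length pcA)) (leA par8 (List.take 9 pcA) pcL_0W [(nat_lit 0x2020408080a0c0c0e0e),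
 (nat_lit 0x60608080a0c0c0e12),
 (nat_lit 0x202080a0a0e12),
 (nat_lit 0xa0a0e1010),
 (nat_lit 0x2080a0a0c0e1012),
 (nat_lit 0xc0c0e0e)]) false = true := by decide +kernel

theorem pcPc {G : Type*} [Group G] [Finite G] (M : Md G par8) : Pc (M.d pcA) 3 9 12 :=
  Pc.of (M.relT pcA) (by norm_num) (by norm_num) (by norm_num) pcb (M.lb_PS (pcL_0 M) pcLb)

theorem pc_p : presB par8 pcA [(0, 0)] [] = true := by decide +kernel

noncomputable def pcR : List (ℕ × ℕ) := [(0, (nat_lit 0xc100a060c120e140c100608)),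
 (0, (nat_lit 0xe0a120e140a100c120e)),
 (0, (nat_lit 0xe12080e060c040a1412100e)),
 (0, (nat_lit 0x80c06100c120e0a10121408060a)),
 (0, (nat_lit 0xa040c0a)),
 (0, (nat_lit 0x80a0c12140a08100e081208)),
 (0, (nat_lit 0x6040814120604081412))]

theorem pcR_p : presB par8 pcR [(0, 0)] [] = true := by decide +kernel

theorem pcR_o : allN 7 (fun j => ordB par8 (ent pcR j) 3 (nth 0 [0,
 0,
 0,
 0,
 0,
 0,
 0] j)) = true := by decide +kernel

theorem pcR_c : List.map (fun e => List.map (cntF par8 e) [O0, ones 3240]) pcR = [[9,27],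
 [18,54],
 [27,27],
 [27,81],
 [108,108],
 [108,324],
 [135,135]] := by
  decide +kernel

end Cfsg.Lib.Fi.C8
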