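import Cfsg.Agent.Lib.Fi.C8ca

set_option maxRecDepth 100000

namespace Cfsg.Lib.Fi.C8

open Cfsg.Lib.Comp Cfsg.Lib.Fi

theorem pccov_0b : cnd (Nat.ble 1 9) (cnd (inW 0 9 0) (ptB (rbG par8 pcA) (lfS par8 [(0, 0)] [] pcA pcR 9) 3 9 12
 (.split (.sub (.split (.sub (.split (.sub (.split (.sub (.split (.sub (.split (.sub (.split (.sub (.split (.sub (.leaf 1 0 0)
 (.sub (.leaf (nat_lit 0x80a060c06100e120a060e0a) 5 1)
 (.ali 0 2 1 0 .nil))))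
 (.sub (.mv 514 0 (.leaf (nat_lit 0xe0408061214100a0e081206040c) 5 1))
 (.ali 0 2 1 0 .nil))))
 (.sub (.mv 4 0 (.mv 10 0 (.leaf (nat_lit 0x140a0412100e120c06140c0a06) 3 1)))
 (.ali 0 2 1 0 .nil))))
 (.sub (.split (.sub (.mv 1542 18 (.mv 2056 0 (.leaf (nat_lit 0xc1204140e06100c08040e081214) 6 1)))
 (.sub (.mv 1542 0 (.mv 10 0 (.leaf (nat_lit 0x40c060a101406120c040a141012) 5 1)))
 (.sub (.mv 1542 4626 (.mv 2570 0 (.leaf (nat_lit 0x60e0614120c100e06081412) 2 1)))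
 .nil))))
 (.ali 0 2 1 0 .nil))))
 (.sub (.mv 1542 0 (.split (.sub (.split (.sub (.mv 3598 0 (.leaf (nat_lit 0x101412040e100e08060412) 4 1))
 (.sub (.mv 3598 0 (.leaf (nat_lit 0x12140e100a040c1008040a14100804) 5 1))
 (.sub (.mv 3598 0 (.leaf (nat_lit 0x8100a0614120c060a100c) 6 1))
 .nil))))
 (.sub (.mv 4 4626 (.mv 3598 0 (.leaf (nat_lit 0xa12140e04100a060e0c08) 0 1)))
 (.ali (nat_lit 0x16060a0c101012) 1 1 (nat_lit 0x101012) .nil)))))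
 (.ali 0 2 1 0 .nil))))
 (.sub (.split (.sub (.mv 1028 18 (.mv 6 4114 (.split (.sub (.mv 12 0 (.leaf (nat_lit 0x406041004080a1406040e120810) 3 1))
 (.sub (.mv 12 0 (.leaf (nat_lit 0x60c040a120e140804100e120a) 0 1))
 (.sub (.mv 12 0 (.leaf (nat_lit 0x806120e0a060e120c1008120c) 1 1))
 .nil))))))
 (.sub (.mv 1542 (nat_lit 0xe0e101012) (.mv (nat_lit 0x4040610) (nat_lit 0x101212) (.split (.sub (.mv 3598 0 (.leaf (nat_lit 0x81208100c14100e060412100e08) 2 1))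
 (.sub (.mv 3598 0 (.leaf (nat_lit 0x4140a06040e100814120a1406) 3 1))
 (.sub (.mv 3598 0 (.leaf (nat_lit 0xc100a14061210040c0810120614) 6 1))
 .nil))))))
 (.sub (.mv 6 3602 (.mv (nat_lit 0x4060c0e1012) 16 (.split (.sub (.mv 14 0 (.leaf (nat_lit 0xc06080a12100e060a10140412) 0 1))
 (.sub (.mv 14 0 (.leaf (nat_lit 0x60a060c1410120e060a0e1004) 2 1))
 (.sub (.mv 14 0 (.leaf (nat_lit 0x4120e0a060c1208100e14060c) 1 1))
 .nil))))))
 .nil))))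
 (.ali 0 2 1 0 .nil))))
 (.sub (.mv 514 (nat_lit 0xc0e0e1212) (.split (.sub (.mv 10 0 (.mv 2056 16 (.mv 12 18 (.kill 8 1 18))))
 (.ali 22 2 0 (nat_lit 0xc0c101212) (.sub (.mv 10 0 (.mv 2056 16 (.mv 12 18 (.split (.sub (.leaf (nat_lit 0x6100c1210140e10140804120e0804) 0 1)
 (.sub (.leaf (nat_lit 0x60e0a14100e060c120408120c) 3 1)
 (.sub (.leaf (nat_lit 0xa0e04120c0608100a060c1008) 1 1)
 .nil)))))))
 .nil)))))
 (.ali 0 2 1 4114 .nil))))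
 (.sub (.split (.sub (.split (.sub (.mv 514 (nat_lit 0xc10101212) (.mv 8 0 (.mv (nat_lit 0x608080e10) 18 (.mv 3598 0 (.mv 12 0 (.kill 9 2 0))))))
 (.ali 24 1 0 18 (.sub (.mv 514 (nat_lit 0xc10101212) (.mv 8 4626 (.split (.sub (.mv 3598 0 (.split (.sub (.leaf (nat_lit 0x6081004060a14120c040a0e0a) 6 1)
 (.sub (.leaf (nat_lit 0x41204140e100e140a040e0c0a) 5 1)
 (.sub (.leaf (nat_lit 0x408140a100e040c12100a081008) 4 1)
 .nil)))))
 (.sub (.mv 3598 0 (.mv 10 0 (.leaf (nat_lit 0x10120e0a1406040e12100a0604) 0 1)))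
 (.ali 24 1 1 0 .nil))))))
 .nil))))
 (.sub (.mv 514 (nat_lit 0xa0e0e1212) (.split (.sub (.mv 10 18 (.mv (nat_lit 0x8080a) 0 (.mv 3598 18 (.kill 8 2 18))))
 (.sub (.mv 10 18 (.mv (nat_lit 0x8080a) 0 (.mv 3598 4626 (.split (.sub (.leaf (nat_lit 0x100e12100c041208140a04060810) 6 1)
 (.sub (.leaf (nat_lit 0x4060e1008040c1014120a0e08) 3 1)
 (.sub (.leaf (nat_lit 0x40e040c060804120e0812100c0804) 2 1)
 .nil)))))))
 (.ali (nat_lit 0x18021212) 1 0 (nat_lit 0xe1212) .nil)))))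
 (.sub (.mv 2 (nat_lit 0xa0a0c10) (.split (.sub (.mv 2570 (nat_lit 0x101012) (.mv (nat_lit 0x80a12) 16 (.mv 3598 4626 (.kill 8 2 0))))
 (.sub (.mv 2570 (nat_lit 0x101012) (.mv (nat_lit 0x80a12) 4114 (.mv 3598 0 (.split (.sub (.leaf (nat_lit 0x6080a0e0a120c100e120a0408) 1 1)
 (.sub (.leaf (nat_lit 0xe140e100806140c12060a0e04) 0 1)
 (.sub (.leaf (nat_lit 0x80a0610120e140812040814100c) 2 1)
 .nil)))))))
 (.ali 24 1 0 (nat_lit 0xc101012) .nil)))))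
 .nil))))
 (.ali 0 2 1 4626 .nil)))) false 1 0 0) false) false = true := by decide +kernel

theorem pccov_0 {G : Type*} [Group G] [Finite G] (M : Md G par8) : Good (M.d pcA) 3 9 (M.QK (M.st [(0, 0)] []) pcR) 1 (wv (M.d pcA) 0) :=
  (pcPc M).cover (M.relT pcA) ((M.inv_QK _ _ (by norm_num)).mono (M.PS_le_st pc_p _ _)) (M.lfS_sound _ _ _ _ _ _) pccov_0b

theorem pccov_1b : cnd (Nat.ble 1 9) (cnd (inW 0 9 2) (ptB (rbG par8 pcA) (lfS par8 [(0, 0)] [] pcA pcR 9) 3 9 12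
 (.split (.sub (.split (.sub (.mv 6 3090 (.mv 4 (nat_lit 0xc1010) (.split (.sub (.split (.sub (.split (.sub (.mv 16 0 (.leaf (nat_lit 0x40c140a060c040810120c100e06) 6 1))
 (.sub (.mv 16 0 (.leaf (nat_lit 0x414100a120c0e10120a14040604) 0 1))
 (.ali (nat_lit 0x181604040a0e1012) 1 1 4626 .nil))))
 (.sub (.split (.sub (.mv 16 0 (.leaf (nat_lit 0x40a140e1210060a08140c) 0 1))
 (.sub (.mv 16 0 (.leaf (nat_lit 0x8060a12100a0e0c1208041014) 1 1))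
 (.ali (nat_lit 0x181604040a0e1012) 1 1 18 .nil))))
 (.sub (.split (.sub (.mv 16 0 (.leaf (nat_lit 0x812040a0e1008120e140e0c0408) 2 1))
 (.sub (.mv 16 0 (.leaf (nat_lit 0x60c040e0a060c1004120e06) 0 1))
 (.ali (nat_lit 0x181604040a0e1012) 1 1 0 .nil))))
 .nil))))
 (.sub (.split (.sub (.split (.sub (.mv 16 0 (.leaf (nat_lit 0xa0e10040a0e0c100c061412) 2 1))
 (.ali (nat_lit 0x181604040a0e1012) 1 0 0 (.sub (.mv 16 0 (.leaf (nat_lit 0xc06040a0e12100e1404120a100604) 1 1))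
 .nil))))
 (.sub (.split (.sub (.mv 16 0 (.leaf (nat_lit 0xa0e061014120e08100804120804) 0 1))
 (.ali (nat_lit 0x181604040a0e1012) 1 0 4626 (.sub (.mv 16 0 (.leaf (nat_lit 0x60c04120c100a04060e120810) 4 1))
 .nil))))
 (.sub (.split (.sub (.mv 16 0 (.leaf (nat_lit 0x40a12100a0c12100e0a140408) 0 1))
 (.ali (nat_lit 0x181604040a0e1012) 1 0 18 (.sub (.mv 16 0 (.leaf (nat_lit 0x14120e040a140c08060a100804) 3 1))
 .nil))))
 .nil))))
 (.sub (.split (.sub (.split (.sub (.mv 16 0 (.leaf (nat_lit 0xc0e0408120e0a100614120608) 3 1))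
 (.sub (.mv 16 0 (.leaf (nat_lit 0xa0c10120c140e040c08040608) 1 1))
 (.ali (nat_lit 0x181604040a0e1012) 1 0 4626 .nil))))
 (.sub (.split (.sub (.mv 16 0 (.leaf (nat_lit 0x8140e060c121008040a14) 1 1))
 (.sub (.mv 16 0 (.leaf (nat_lit 0x604120c0e04100e121406040c0a04) 0 1))
 (.ali (nat_lit 0x181604040a0e1012) 1 0 18 .nil))))
 (.sub (.split (.sub (.mv 16 0 (.leaf (nat_lit 0x60408061214120c06040a08) 0 1))
 (.sub (.mv 16 0 (.leaf 1 5 1))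
 (.ali (nat_lit 0x181604040a0e1012) 1 0 0 .nil))))
 .nil))))
 .nil))))))
 (.sub (.mv 6 (nat_lit 0xc0e0e1212) (.mv 4 (nat_lit 0xc0e0e1012) (.mv 10 4626 (.mv 2056 (nat_lit 0x101212) (.kill 7 1 16)))))
 (.ali 24 2 1 (nat_lit 0x8080a0c0e) .nil))))
 (.sub (.split (.sub (.mv 6 3602 (.mv 4 (nat_lit 0xc10101212) (.mv 8 18 (.split (.sub (.mv 3598 0 (.mv 16 0 (.kill 9 2 0)))
 (.sub (.mv 3598 0 (.mv 16 0 (.kill 9 1 0)))
 (.sub (.mv 3598 0 (.mv 16 0 (.leaf (nat_lit 0x4061204080e1410040c120a140e08) 0 1)))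
 .nil)))))))
 (.sub (.mv 6 4112 (.mv 4 (nat_lit 0xc0e0e10) (.mv 10 0 (.kill 6 1 3600))))
 (.sub (.mv 6 (nat_lit 0xe0e10) (.mv 4 (nat_lit 0xc0e1212) (.mv 2570 (nat_lit 0x10101212) (.kill 6 2 14))))
 .nil))))
 (.ali 24 2 1 (nat_lit 0x80a0c101012) .nil)))) false 1 2 0) false) false = true := by decide +kernel

theorem pccov_1 {G : Type*} [Group G] [Finite G] (M : Md G par8) : Good (M.d pcA) 3 9 (M.QK (M.st [(0, 0)] []) pcR) 1 (wv (M.d pcA) 2) :=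
  (pcPc M).cover (M.relT pcA) ((M.inv_QK _ _ (by norm_num)).mono (M.PS_le_st pc_p _ _)) (M.lfS_sound _ _ _ _ _ _) pccov_1b

noncomputable def pccovL : List (ℕ × ℕ) := [(1, 0), (1, 2)]

theorem pccovb : cnd (Nat.ble 0 9) (cnd (inW 0 9 0) (ptB (rbG par8 pcA) (lfL pccovL) 3 9 12
 (.split (.sub (.leaf 0 0 0)
 (.sub (.leaf 1 0 0)
 (.ali 0 2 1 0 .nil)))) false 0 0 0) false) false = true := by decide +kernel

theorem pccov {G : Type*} [Group G] [Finite G] (M : Md G par8) : Good (M.d pcA) 3 9 (M.QK (M.st [(0, 0)] []) pcR) 0 (wv (M.d pcA) 0) :=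
  (pcPc M).cover (M.relT pcA) ((M.inv_QK _ _ (by norm_num)).mono (M.PS_le_st pc_p _ _)) (lfL_sound (L := pccovL) (goodL_cons (pccov_0 M) (goodL_cons (pccov_1 M) goodL_nil))) pccovb

end Cfsg.Lib.Fi.C8
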