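import Cfsg.Agent.Lib.Fi.C8o

set_option maxRecDepth 100000

namespace Cfsg.Lib.Fi.C8

open Cfsg.Lib.Comp Cfsg.Lib.Fi

noncomputable def plA : List (ℕ × ℕ) := [(0, (nat_lit 0x160e1416060c040e1408040c120e10060806)),
 (0, (nat_lit 0xe121a021606080a12080e04100e0a14120c)),
 (0, (nat_lit 0xc08180e1612140e1004120a08040c06)),
 (0, (nat_lit 0x10180a14180806040e0a1006)),
 (0, (nat_lit 0xe180416040a0e12040a06140e120a08)),
 (0, (nat_lit 0x180616120e100c14080e12060a100c06)),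
 (0, (nat_lit 0x12161816040e04080c100a040814120c1004)),
 (0, (nat_lit 0x1a0a04061604060e140a0e100406140a)),
 (0, (nat_lit 0x1810041a0c0412040e140e08120a100e)),
 (0, (nat_lit 0x4160e181012040a060c14040e0810040e04)),
 (0, (nat_lit 0xc1a101606080e060c12100e08120608)),
 (0, (nat_lit 0xe1804160414080a0e040c101206140e0810)),
 (0, (nat_lit 0x1a040e180412080e120c04120a140a041210)),
 (0, (nat_lit 0x1216181606100a120e0408121004))]

theorem plb : pcB (rbG par8 plA) 3 12 14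
 [[0,
 0,
 0,
 0,
 0,
 0,
 0,
 0,
 0,
 0,
 0,
 0,
 0,
 514,
 (nat_lit 0x2021012)],
 [0,
 (nat_lit 0xa0a0c0e0e1212141616),
 0,
 0,
 0,
 0,
 0,
 0,
 0,
 0,
 0,
 0,
 0,
 (nat_lit 0x40e0e121416161818),
 (nat_lit 0x4040a0e0e101012141618)],
 [22,
 (nat_lit 0x101214141616),
 (nat_lit 0xa0c0c121214141616),
 0,
 0,
 0,
 0,
 0,
 0,
 0,
 0,
 0,
 0,
 (nat_lit 0x6061014),
 (nat_lit 0x6060a0a0c0e1014141818)],
 [0,
 0,
 (nat_lit 0xa0c10121818),
 (nat_lit 0x101018),
 0,
 0,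
 0,
 0,
 0,
 0,
 0,
 0,
 0,
 (nat_lit 0x80810121616),
 (nat_lit 0x80810121616)],
 [0,
 (nat_lit 0x10101212141416161818),
 6168,
 24,
 (nat_lit 0x1010121616),
 0,
 0,
 0,
 0,
 0,
 0,
 0,
 0,
 (nat_lit 0xa0a1010121214141618),
 (nat_lit 0xa1012121618)],
 [0,
 (nat_lit 0x10101212141616),
 0,
 (nat_lit 0x1012121616),
 (nat_lit 0x10121216),
 24,
 0,
 0,
 0,
 0,
 0,
 0,
 0,
 (nat_lit 0xc0c10101416),
 (nat_lit 0xc121218)],
 [0,
 (nat_lit 0x1010121214141818),
 24,
 (nat_lit 0x10121214161818),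
 (nat_lit 0x1212161818),
 24,
 0,
 0,
 0,
 0,
 0,
 0,
 0,
 (nat_lit 0xe0e12121414),
 3604],
 [0,
 5654,
 6168,
 (nat_lit 0x161618),
 0,
 6168,
 24,
 0,
 0,
 0,
 0,
 0,
 0,
 (nat_lit 0x101618),
 (nat_lit 0x1010161818)],
 [0,
 22,
 6168,
 5654,
 0,
 6168,
 24,
 24,
 0,
 0,
 0,
 0,
 0,
 (nat_lit 0x121818),
 (nat_lit 0x121218)],
 [0,
 5654,
 0,
 (nat_lit 0x161618),
 22,
 0,
 6168,
 0,
 0,
 0,
 0,
 0,
 0,
 20,
 (nat_lit 0x141418)],
 [0,
 0,
 6168,
 0,
 0,
 0,
 0,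
 0,
 0,
 0,
 0,
 0,
 0,
 5654,
 22],
 [0,
 0,
 0,
 0,
 0,
 0,
 0,
 0,
 0,
 0,
 0,
 0,
 0,
 6168,
 6168]] = true := by decide +kernel

noncomputable def plL_2W : List (ℕ × ℕ) := apd [(0, (nat_lit 0x14180416060a0c14100a0412140a100c)),
 (0, (nat_lit 0x812181a140806041208060c04100804)),
 (0, (nat_lit 0x1a0a160a10140e0806040810)),
 (0, (nat_lit 0x1806160612141204060e1412))] []

theorem plL_2b : lvB par8 plL_2W [] 22 (nat_lit 0x402080604020806) 81 = true := by decide +kernel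

theorem plL_2 {G : Type*} [Group G] [Finite G] (M : Md G par8) : M.LB plL_2W 81 :=
  Md.LB.step plL_2b (Md.LB.one M _)

noncomputable def plL_1W : List (ℕ × ℕ) := apd [(0, (nat_lit 0x608181a100a120c10140e0a14120c08)),
 (0, (nat_lit 0x1004160e180c12100c040a06140c10080410)),
 (0, (nat_lit 0x18161a040804100c140a100e08120410))] plL_2W

theorem plL_1b : lvB par8 plL_1W plL_2W 3608 (nat_lit 0xe06040c0602040602) 81 = true := by decide +kernel

theorem plL_1 {G : Type*} [Group G] [Finite G] (M : Md G par8) : M.LB plL_1W 6561 :=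
  Md.LB.step plL_1b (plL_2 M)

noncomputable def plL_0W : List (ℕ × ℕ) := apd [(0, (nat_lit 0x80a161a16041008041006040e10)),
 (0, (nat_lit 0x160c0616040814100a060e12100e1208))] plL_1W

theorem plL_0b : lvB par8 plL_0W plL_1W 1050 (nat_lit 0x12020402041006020402) 81 = true := by decide +kernel

theorem plL_0 {G : Type*} [Group G] [Finite G] (M : Md G par8) : M.LB plL_0W 531441 :=
  Md.LB.step plL_0b (plL_1 M)

theorem plLb : cnd (Nat.ble 12 (List.length plA)) (leA par8 (List.take 12 plA) plL_0W [(nat_lit 0x4040608080c1010121218),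
 (nat_lit 0x20204080a0a0c16),
 (nat_lit 0x408080e10121414161618),
 (nat_lit 0x40a0e1216),
 (nat_lit 0x408080c101012121418),
 (nat_lit 0x80a0a0c0c1012161618),
 (nat_lit 0xa0a0c0c1216161818),
 (nat_lit 0x10101618),
 (nat_lit 0x80a0a0c0c12121616)]) false = true := by decide +kernel

theorem plPc {G : Type*} [Group G] [Finite G] (M : Md G par8) : Pc (M.d plA) 3 12 14 :=
  Pc.of (M.relT plA) (by norm_num) (by norm_num) (by norm_num) plb (M.lb_PS (plL_0 M) plLb)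

theorem pl_p : presB par8 plA [] [O0, O1, O2] = true := by decide +kernel

noncomputable def plR : List (ℕ × ℕ) := [(0, (nat_lit 0x1a0a10180a061208041014060804100e)),
 (0, (nat_lit 0x1a1412180810120c10140e0812101408)),
 (0, (nat_lit 0x81a120402160a0608120e040c100e04)),
 (0, (nat_lit 0x1808120e1606080c0e1004060c080604)),
 (0, (nat_lit 0x1416121a0604081406120a10140e1208)),
 (0, (nat_lit 0xc1812160c100a0c041214120a060c10)),
 (0, (nat_lit 0x1a0e1608100e0a0604120e0814041008)),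
 (0, (nat_lit 0x40c12080e06041204100c080406)),
 (0, (nat_lit 0x1812081a0614100e1410060c040a100e)),
 (0, (nat_lit 0x18040e02160e0a12140408100a080604)),
 (0, (nat_lit 0x40c0408100408140c080410)),
 (0, (nat_lit 0xe10040e0a1408040614100e)),
 (0, (nat_lit 0x80c04100e0804100e0c))]

theorem plR_p : presB par8 plR [] [O0, O1, O2] = true := by decide +kernel

theorem plR_o : allN 13 (fun j => ordB par8 (ent plR j) 3 (nth 0 [0,
 0,
 0,
 0,
 0,
 0,
 0,
 0,
 0,
 0,
 0,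
 1,
 0] j)) = true := by decide +kernel

theorem plR_c : List.map (fun e => List.map (cntF par8 e) [O0, O1, O2]) plR = [[0,0,27],
 [0,0,108],
 [0,0,135],
 [0,27,0],
 [0,108,0],
 [0,135,0],
 [9,9,9],
 [18,18,18],
 [27,0,0],
 [27,27,27],
 [108,0,0],
 [108,108,108],
 [135,0,0]] := by
  decide +kernel

noncomputable def R7 : List (ℕ × ℕ) := [(0, (nat_lit 0x1a0a10180a061208041014060804100e)),
 (0, (nat_lit 0x1a1412180810120c10140e0812101408)),
 (0, (nat_lit 0x81a120402160a0608120e040c100e04)),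
 (0, (nat_lit 0x1a0e1608100e0a0604120e0814041008)),
 (0, (nat_lit 0x40c12080e06041204100c080406)),
 (0, (nat_lit 0x18040e02160e0a12140408100a080604)),
 (0, (nat_lit 0xe10040e0a1408040614100e))]

theorem R7_j : allN 13 (fun j => cjB par8 (ent [(0, 1),
 (0, 1),
 (0, 1),
 (0, (nat_lit 0x60408180410040e10140a120e0810061412)),
 (0, (nat_lit 0x1808160414120804060e100c1208060a04)),
 (0, (nat_lit 0x180a06160a040c120414100e0a081014120e)),
 (0, 1),
 (0, 1),
 (0, (nat_lit 0x14120616080a10120e0a140810041204)),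
 (0, 1),
 (0, (nat_lit 0xe0c0a160406120c04081208140e0a140a04)),
 (0, 1),
 (0, (nat_lit 0xe1a100416080c040a1412061410060c04))] j) (ent plR j) (ent R7 (nth 0 [0,
 1,
 2,
 0,
 1,
 2,
 3,
 4,
 0,
 5,
 1,
 6,
 2] j))) = true := by decide +kernel

theorem R7_s : ∀ e ∈ R7, e ∈ plR := by decide +kernel

theorem R7_c : List.map (fun e => cntF par8 e O0 ^ 2 + cntF par8 e O1 ^ 2 + cntF par8 e O2 ^ 2) R7 = [729,
 11664,
 18225,
 243,
 972,
 2187,
 34992] := by
  decide +kernel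

end Cfsg.Lib.Fi.C8
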