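import Cfsg.Agent.Lib.Fi.M8

set_option maxRecDepth 100000

namespace Cfsg.Lib.Fi.C8

open Cfsg.Lib.Comp Cfsg.Lib.Fi

noncomputable def O0 : ℕ := (nat_lit 0x6aa6569a4965495555aa866a45969a5519a42aaaaa951955550598aa90a5a5185a909a10000a569506a2956aa45002940005aa55aa9aa556425592a20001aa6558a66215929800960001a5684a9656a955aa401a40016aaa955819a6a5569699a58001a95aa155a6a945628a654000a9568a5925a8540a6a6999488255566a8989966956460a4822aa62aa694155a996a99525602005555995998660a41695a555062a986926982a5aaaa9a89118655565545555a696aaaa6aaaa1a82aa282461558a55101151565051455452400550152a81640a6aa28a802a1585a82a82a8088094525155505150a9551801418882a828a285008004a8005560522660000000000695aa5555a2a290a050810006a55a99559aaaa554885800016a4a456a9400691860000000000000000000000000000000000000000000000000000000000000000009669995a8a9445621098000095aa55aa95666665a6840000256a61590a90066249000000666a586418925860006aaa5450aa0545a6906a5661681aa9559982965686909a565a1819816490000000000000)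

noncomputable def O1 : ℕ := (nat_lit 0x300030000000300030000000c003c0000000c00000f003000f0000c3000f00cffff00000f00c0000030ffc03fff00000000000003c000c0cfffc000003000cc00c03ff00fffc00033000000000003fc03ffc00000003c00000000000003ffc00000c000000300c30003fff00003000c00303f0000000333c000000303000000030f033cc000c00003c0000000000c00fcff000000000300f03c0000000f0c00300c003c0000000030cc30000000300000000000000000c03c00c3c30c003000cfcc0c000f0c30030c3ff00fc0c03c03f0000c303fc0c03003c03c03f33f030c0c000f0c0f0000c3fc3c333c03c30c30ff3ff303ff000f0cc00ffffffffff0000000000c0c0f0f0f3cfff000000000000000033303fffc0030300003ff00c30ffffffffffffffffffffffffffffffffffffffffffffffffffffffffffffffffff000000003003300ccf03ffff00000000000000000033ffffc0000c00f00ff00c30ffffff00000303c30c030fff0000030f00f030000f00000c03c00000003c0000300f000000c3c03c030fffffffffffff)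

noncomputable def O2 : ℕ := (nat_lit 0x9559a965869a86aaaa5549958a6965aa26581555556a26aaaa0a6455605a5a24a56065200005a96a09516a9558a00168000a55aa55655aa981aa61510002559aa459912a6164006900025a948569a956aa558025800295556aa426595aa969665a400256a552aa59568a91459a800056a945a61a54a8059596668441aaa99546466996a9890584115591559682aa5669566a1a90100aaaa66a66499058296a5aaa09156496196415a555565462249aaa9aa8aaaa5969555595555254155141892aa45aa2022a2a9a0a28aa8a1800aa02a1542980595514540152a4a54154154044068a1a2aaa0a2a056aa24028244415414514a0040085400aa90a1199000000000096a55aaaa51516050a04200095aa566aa65555aa844a4000295858a95680096249000000000000000000000000000000000000000000000000000000000000000000699666a545688a91206400006a55aa556a99999a594800001a9592a605600991860000009995a4982461a490009555a8a0550a8a596095a992942556aa664169a9496065a9a52426429860000000000000)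

noncomputable def lets : List (ℕ × ℕ) := List.map (fun x => (0, 2 * x + 2)) (List.range 13)

theorem blk : ∀ e ∈ lets, ∃ σ : Equiv.Perm (Fin 3), ∀ i, apS par8 e (![O0, O1, O2] i) = ![O0, O1, O2] (σ i) := by
  decide +kernel

noncomputable def KL_0D : List (ℕ × ℕ) := ((24, 0) :: [])

noncomputable def KL_1D : List (ℕ × ℕ) := ((22, 0) :: KL_0D)

noncomputable def KL_2D : List (ℕ × ℕ) := ((26, 0) :: KL_1D)

noncomputable def KL_3D : List (ℕ × ℕ) := ((3094, 0) :: KL_2D)

noncomputable def KL_4D : List (ℕ × ℕ) := ((6166, 0) :: KL_3D)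

theorem KL_5b : endB par8 KL_4D [(nat_lit 0x60801),
 (nat_lit 0x40602080406080a060801),
 (nat_lit 0x4080a060204080a0601),
 5,
 (nat_lit 0x40a02060a0608040a080601)] = true := by decide +kernel

theorem KL_5 {G : Type*} [Group G] (M : Md G par8) : M.Ch KL_4D [O0,
 O1,
 O2] [] 1 := Md.Ch.base KL_5b

noncomputable def KL_4W : List (ℕ × ℕ) := apd [(0, (nat_lit 0x18141002160c14060e100a14120c0408120a)),
 (0, (nat_lit 0x180a04180c0e040a0c1214120408100a0608))] []

theorem KL_4b : stepB par8 KL_3D [O0,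
 O1,
 O2] KL_4W [] 6166 (.dif (.dif (.dif (.dif (.and (.lit 1) (.im 2054 (.nb 1))) (.nb 3)) (.im 1030 (.nb 1))) (.im 1032 (.nb 3))) (.im 2054 (.nb 2))) (nat_lit 0x20202040204020402020402) 54 0
 .nil = true := by decide +kernel

theorem KL_4 {G : Type*} [Group G] [Finite G] (M : Md G par8) : M.Ch KL_3D [O0,
 O1,
 O2] KL_4W 54 :=
  Md.Ch.step KL_4b (KL_5 M)

noncomputable def KL_3W : List (ℕ × ℕ) := apd [(0, (nat_lit 0x1a12041806080c0e0408141206040a140c12))] KL_4W

theorem KL_3b : stepB par8 KL_2D [O0,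
 O1,
 O2] KL_3W KL_4W 3094 (.and (.nb 1) (.nb 3)) (nat_lit 0x204020602040206040202) 108 0
 .nil = true := by decide +kernel

theorem KL_3 {G : Type*} [Group G] [Finite G] (M : Md G par8) : M.Ch KL_2D [O0,
 O1,
 O2] KL_3W 5832 :=
  Md.Ch.step KL_3b (KL_4 M)

noncomputable def KL_2W : List (ℕ × ℕ) := apd [(0, (nat_lit 0x18021a1816100a040812140e100a040c1208))] KL_3W

theorem KL_2b : stepB par8 KL_1D [O0,
 O1,
 O2] KL_2W KL_3W 26 (.dif (.lit 2) (.nb 2)) (nat_lit 0x602080402080604020806040202) 728 0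
 .nil = true := by decide +kernel

theorem KL_2 {G : Type*} [Group G] [Finite G] (M : Md G par8) : M.Ch KL_1D [O0,
 O1,
 O2] KL_2W 4245696 :=
  Md.Ch.step KL_2b (KL_3 M)

noncomputable def KL_1W : List (ℕ × ℕ) := apd [(0, (nat_lit 0x18100c18041410120e0a06081412040a100c))] KL_2W

theorem KL_1b : stepB par8 KL_0D [O0,
 O1,
 O2] KL_1W KL_2W 22 (.lit 1) (nat_lit 0x2060204080a0602040a0806040202) 1080 0
 .nil = true := by decide +kernel

theorem KL_1 {G : Type*} [Group G] [Finite G] (M : Md G par8) : M.Ch KL_0D [O0,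
 O1,
 O2] KL_1W 4585351680 :=
  Md.Ch.step KL_1b (KL_2 M)

noncomputable def KL_0W : List (ℕ × ℕ) := apd [(0, (nat_lit 0x1a06040a160a06080c1214100e040c100e0a))] KL_1W

theorem KL_0b : stepB par8 [] [O0,
 O1,
 O2] KL_0W KL_1W 24 (.lit 2) (nat_lit 0x60204080c0604020a0806040202) 1080 0
 .nil = true := by decide +kernel

theorem KL_0 {G : Type*} [Group G] [Finite G] (M : Md G par8) : M.Ch [] [O0,
 O1,
 O2] KL_0W 4952179814400 :=
  Md.Ch.step KL_0b (KL_1 M)

theorem KL_p : presB par8 KL_0W [] [O0,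
 O1,
 O2] = true := by decide +kernel

theorem KL {G : Type*} [Group G] [Finite G] (M : Md G par8) : M.KE (M.st [] [O0,
 O1,
 O2]) KL_0W 4952179814400 :=
  (KL_0 M).ke KL_p

noncomputable def KC_0D : List (ℕ × ℕ) := ((26, 0) :: [(0, 0)])

noncomputable def KC_1D : List (ℕ × ℕ) := ((4122, 0) :: KC_0D)

noncomputable def KC_2D : List (ℕ × ℕ) := (((nat_lit 0x16121a), 0) :: KC_1D)

noncomputable def KC_3D : List (ℕ × ℕ) := (((nat_lit 0x120218), 0) :: KC_2D)

theorem KC_4b : endB par8 KC_3D [(nat_lit 0xa0608040a020a08040601),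
 (nat_lit 0x2040a0804020a03),
 (nat_lit 0x20806020a080401),
 (nat_lit 0x6080a040a020a08040601),
 (nat_lit 0x40a0806020a040801)] = true := by decide +kernel

theorem KC_4 {G : Type*} [Group G] (M : Md G par8) : M.Ch KC_3D [] [] 1 := Md.Ch.base KC_4b

noncomputable def KC_3W : List (ℕ × ℕ) := apd [(0, (nat_lit 0xa0e100c06120e08140a0e100c04)),
 (0, (nat_lit 0x60c120e0a10140e060812140a04))] []

theorem KC_3b : stepB par8 KC_2D [] KC_3W [] (nat_lit 0x120218) (.dif (.dif (.dif (.dif (.im 1032 (.nb 1)) (.im 8 (.nb 2))) (.nb 3)) (.im 2054 (.nb 1))) (.im (nat_lit 0x80608) (.nb 1))) (nat_lit 0x4020402020402020402) 54 0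
 .nil = true := by decide +kernel

theorem KC_3 {G : Type*} [Group G] [Finite G] (M : Md G par8) : M.Ch KC_2D [] KC_3W 54 :=
  Md.Ch.step KC_3b (KC_4 M)

noncomputable def KC_2W : List (ℕ × ℕ) := apd [(0, (nat_lit 0x60a0c0e10080e1014040e0c060a))] KC_3W

theorem KC_2b : stepB par8 KC_1D [] KC_2W KC_3W (nat_lit 0x16121a) (.dif (.im 4 (.nb 1)) (.nb 3)) (nat_lit 0x2060402040602040206040202) 224 0
 .nil = true := by decide +kernel

theorem KC_2 {G : Type*} [Group G] [Finite G] (M : Md G par8) : M.Ch KC_1D [] KC_2W 12096 :=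
  Md.Ch.step KC_2b (KC_3 M)

noncomputable def KC_1W : List (ℕ × ℕ) := apd [(0, (nat_lit 0x80a100e0612081404120614))] KC_2W

theorem KC_1b : stepB par8 KC_0D [] KC_1W KC_2W 4122 (.im 4 (.nb 1)) (nat_lit 0x204060402060204080206040202) 351 0
 (.many [(.eq 1 1538)] 24 1 (nat_lit 0x21a00) .nil) = true := by decide +kernel

theorem KC_1 {G : Type*} [Group G] [Finite G] (M : Md G par8) : M.Ch KC_0D [] KC_1W 4245696 :=
  Md.Ch.step KC_1b (KC_2 M)

noncomputable def KC_0W : List (ℕ × ℕ) := apd [((nat_lit 0x1a0e16), 0)] KC_1W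

theorem KC_0b : stepB par8 [(0, 0)] [] KC_0W KC_1W 26 (.dif .all (.nb 1)) (nat_lit 0x40204020402080204020604020a040206020402) 2160 (nat_lit 0x204060402080402060a0402060402)
 (.many [(.cnt (.and (.nb 1) (.nb 2)))] 24 1 (nat_lit 0x181a00) .nil) = true := by decide +kernel

theorem KC_0 {G : Type*} [Group G] [Finite G] (M : Md G par8) : M.Ch [(0, 0)] [] KC_0W 9170703360 :=
  Md.Ch.step KC_0b (KC_1 M)

theorem KC_p : presB par8 KC_0W [(0, 0)] [] = true := by decide +kernel

theorem KC {G : Type*} [Group G] [Finite G] (M : Md G par8) : M.KE (M.st [(0, 0)] []) KC_0W 9170703360 :=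
  (KC_0 M).ke KC_p

theorem KC_o : presB par8 KC_0W [] [O0, ones 3240] = true := by decide +kernel

end Cfsg.Lib.Fi.C8
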