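import Cfsg.Agent.Lib.Fi.O12d
import Cfsg.Agent.Lib.Known2.LE2
import Cfsg.Agent.Lib.Coprime.HallAut
import Cfsg.Agent.Lib.Coprime.Blichfeldt

/-! Groups `2^{1+12}.3.U₄(3)`: the normal subgroup of order three acts without fixed points. -/

namespace Cfsg.Lib.Fi

open Cfsg.Lib.Comp Subgroup A12 Cfsg.Lib.Core Cfsg.Lib.Known2
open scoped commutatorElement

variable {G : Type*} [Group G]

theorem dvd_ncard_of_orbits [Finite G] {P : Subgroup G} {k : ℕ} (Ω : Set G) (hΩ : ∀ g ∈ P, ∀ c ∈ Ω, g * c * g⁻¹ ∈ Ω)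
    (h : ∀ c ∈ Ω, k ∣ (centralizer {c}).relIndex P) : k ∣ Ω.ncard := by
  induction hn : Ω.ncard using Nat.strong_induction_on generalizing Ω with | _ n ih
  rcases Ω.eq_empty_or_nonempty with rfl | ⟨c, hc⟩
  · simp [← hn]
  have s : {y | ∃ g ∈ P, g * c * g⁻¹ = y} ⊆ Ω := by rintro _ ⟨g, hg, rfl⟩; exact hΩ g hg c hc
  have e : {y | ∃ g ∈ P, g * c * g⁻¹ = y}.ncard = (centralizer {c}).relIndex P := by
    have h3 := relIndex_mul_relIndex ⊥ (centralizer {c} ⊓ P) P bot_le inf_le_right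
    rw [relIndex_bot_left, relIndex_bot_left, inf_relIndex_right, card_conj_orb P c, inf_comm, mul_comm] at h3
    exact (Nat.eq_of_mul_eq_mul_right Nat.card_pos h3).symm
  have := Set.ncard_sdiff_add_ncard_of_subset s
  have p := (Set.ncard_pos (s := {y | ∃ g ∈ P, g * c * g⁻¹ = y})).2 ⟨c, 1, one_mem _, by simp⟩
  rw [← hn, ← this]
  refine dvd_add (ih _ (by omega) _ (fun g hg a ha => (Set.mem_sdiff _).2 ⟨hΩ g hg a ha.1, ?_⟩) (fun a ha => h a ha.1) rfl) (e ▸ h c hc)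
  rintro ⟨b, hb, e⟩
  exact ha.2 ⟨g⁻¹ * b, mul_mem (inv_mem hg) hb, by rw [show g⁻¹ * b * c * (g⁻¹ * b)⁻¹ = g⁻¹ * (b * c * b⁻¹) * g by group, e]; group⟩

theorem _root_.Cfsg.Lib.Known2.ES.card_two [Finite G] {Q R : Subgroup G} {z a y : G} (h : ES Q z) (hR : R ≤ Q) (ha : a ∈ Q) (hy : y ∈ R)
    (n : a * y ≠ y * a) : Nat.card R = 2 * Nat.card ↥(R ⊓ centralizer {a}) := by
  have : (centralizer {a}).relIndex R = 2 := index_eq_two_iff.2 ⟨⟨y, hy⟩, fun b => by
    simp only [mem_subgroupOf, mem_centralizer_singleton_iff, coe_mul, eq_comm (b := a * _), h.mul_comm_iff ha (hR b.2) (hR hy), n]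
    by_cases a * b = b * a <;> simp [*]⟩
  have h3 := relIndex_mul_relIndex ⊥ (centralizer {a} ⊓ R) R bot_le inf_le_right
  rw [relIndex_bot_left, relIndex_bot_left, inf_relIndex_right, this, inf_comm] at h3
  omega

/-- The elements centralising `z`, and `c` modulo `z`. -/
def Tz (z c : G) : Subgroup G where
  carrier := {g | g ∈ centralizer {z} ∧ ⁅g, c⁆ ∈ zpowers z}
  one_mem' := ⟨one_mem _, by simp⟩
  mul_mem' := fun {a b} h k => ⟨mul_mem h.1 k.1, by
    rw [show ⁅a * b, c⁆ = a * ⁅b, c⁆ * a⁻¹ * ⁅a, c⁆ by group]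
    exact mul_mem ((mem_normalizer_iff.1 (cent_le_norm_zpowers z h.1) _).1 k.2) h.2⟩
  inv_mem' := fun {a} h => ⟨inv_mem h.1, by
    rw [show ⁅a⁻¹, c⁆ = a⁻¹ * ⁅a, c⁆⁻¹ * a by group]
    exact (mem_normalizer_iff''.1 (cent_le_norm_zpowers z h.1) _).1 (inv_mem h.2)⟩

theorem _root_.Cfsg.Lib.Known2.ES.mem_Tz {Q : Subgroup G} {z c g : G} (h : ES Q z) (hc : c ∈ Q) :
    g ∈ Tz z c ↔ g * z = z * g ∧ (g * c * g⁻¹ = c ∨ g * c * g⁻¹ = c * z) :=
  and_congr mem_centralizer_singleton_iff (by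
    rw [h.mem_zp, commutatorElement_def, mul_inv_eq_one, mul_inv_eq_iff_eq_mul (c := z), h.cen c hc])

theorem _root_.Cfsg.Lib.Known2.ES.le_Tz {Q : Subgroup G} {z c : G} (h : ES Q z) (hc : c ∈ Q) : Q ≤ Tz z c :=
  fun _ hg => ⟨h.le_cent hg, h.commutator_mem hg hc⟩

theorem conj_iter {g y u : G} (h : g * y * g⁻¹ = y * u) (hu : g * u = u * g) (k : ℕ) : g ^ k * y * (g ^ k)⁻¹ = y * u ^ k := by
  induction k with
  | zero => simp
  | succ k ih =>
    rw [pow_succ', show g * g ^ k * y * (g * g ^ k)⁻¹ = g * (g ^ k * y * (g ^ k)⁻¹) * g⁻¹ by group, ih, ← conj_mul, h,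
      ← conj_pow, conj_eq_of_comm hu, mul_assoc, pow_succ']

theorem comm_of_three {g y u : G} {k : ℕ} (hg : g ^ 3 ^ k = 1) (h : g * y * g⁻¹ = y * u) (hu : g * u = u * g) (h4 : u ^ 4 = 1) :
    g * y = y * g :=
  mem_centralizer_singleton_iff.1 (mem_of_pow_mem (p := 3 ^ k) (k := 4) (Nat.Coprime.pow_right _ (by norm_num))
    (hg ▸ one_mem _) (mem_centralizer_singleton_iff.2 (comm_of_conj_eq (by rw [conj_iter h hu, h4, mul_one]))))

theorem _root_.Cfsg.Lib.Known2.ES.odd_fix {Q : Subgroup G} {z c g : G} {k : ℕ} (h : ES Q z) (hc : c ∈ Q) (hg : g ^ 3 ^ k = 1)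
    (e : g ∈ Tz z c) : g * c = c * g := by
  obtain ⟨a, e | e⟩ := (h.mem_Tz hc).1 e
  exacts [comm_of_conj_eq e, comm_of_three hg e a (by rw [show 4 = 2 * 2 from rfl, pow_mul, pow_two z, h.sq, one_pow])]

theorem _root_.Cfsg.Lib.Known2.LS.noc [Finite G] {Q P : Subgroup G} {z c : G} (h : LS Q z) (hQ : Nat.card Q = 2 ^ 13) (hP : Nat.card P = 3 ^ 7)
    (hz : P ≤ centralizer {z}) (hc : c ∈ Q) (h1 : c ≠ 1) (h2 : c ≠ z) (hPc : P ≤ centralizer {c}) : False := by
  have p3 : ∀ g ∈ P, g ^ 3 ^ 7 = 1 := fun g hg => by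
    simpa [hP, Subtype.ext_iff] using pow_card_eq_one' (G := P) (x := ⟨g, hg⟩)
  have nQ := fun g (hg : g ∈ P) => h.norm g (mem_centralizer_singleton_iff.1 (hz hg))
  have cm : ∀ {c g : G}, g ∈ centralizer {c} → ∀ y, c * (g * y * g⁻¹) = g * y * g⁻¹ * c ↔ c * y = y * c := fun {c g} hg y => by
    have := conj_comm (g := g) (a := c) (b := y)
    rwa [conj_eq_of_comm (mem_centralizer_singleton_iff.1 hg)] at this
  obtain ⟨y, hy, n⟩ := h.exists_anti hc h1 h2
  have c1 := h.card_two le_rfl hc hy n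
  obtain ⟨a, ha, k⟩ : ∃ a ∈ (Q : Set G) \ ↑(Q ⊓ centralizer {c}), P ≤ centralizer {a} := by
    by_contra! k
    have := dvd_ncard_of_orbits (P := P) (k := 3) ((Q : Set G) \ ↑(Q ⊓ centralizer {c})) (fun g hg a ha => ⟨nQ g hg a ha.1,
      fun e => ha.2 ⟨ha.1, mem_centralizer_singleton_iff.2 ((cm (hPc hg) a).1 (mem_centralizer_singleton_iff.1 e.2).symm).symm⟩⟩)
      fun a ha => by
        obtain ⟨j, -, e⟩ := (Nat.dvd_prime_pow Nat.prime_three).1 (hP ▸ relIndex_dvd_card (centralizer {a}) P)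
        exact e ▸ dvd_pow_self 3 (by rintro rfl; exact k a ha (relIndex_eq_one.1 e))
    rw [Set.ncard_sdiff (by simp), ← Nat.card_coe_set_eq, ← Nat.card_coe_set_eq, SetLike.coe_sort_coe, SetLike.coe_sort_coe,
      show Nat.card ↥(Q ⊓ centralizer {c}) = 2 ^ 12 by omega, hQ] at this
    norm_num at this
  have c2 := h.card_two (R := Q ⊓ centralizer {c}) inf_le_left ha.1 ⟨hc, mem_centralizer_singleton_iff.2 rfl⟩
    fun e => ha.2 ⟨ha.1, mem_centralizer_singleton_iff.2 e⟩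
  set D := Q ⊓ centralizer {c} ⊓ centralizer {a}
  have mD : ∀ y, y ∈ D ↔ y ∈ Q ∧ c * y = y * c ∧ a * y = y * a := fun y => by
    simp only [D, mem_inf, mem_centralizer_singleton_iff, and_assoc, eq_comm (a := y * _)]
  have nD : P ≤ normalizer (D : Set G) := fun g hg => mem_normalizer_of_conj_mem fun y hy => by
    rw [mD] at hy ⊢; exact ⟨nQ g hg y hy.1, (cm (hPc hg) y).2 hy.2.1, (cm (k hg) y).2 hy.2.2⟩
  have inj : Function.Injective (D.normalizerMonoidHom.comp (inclusion nD)) := (injective_iff_map_eq_one _).2 fun g e => by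
    have := h.selfc g fun y hy => by
      have hu : y⁻¹ * (g * y * g.1⁻¹) ∈ D := by
        have k : ∀ c ∈ Q, P ≤ centralizer {c} → c * (y⁻¹ * (g * y * g.1⁻¹)) = y⁻¹ * (g * y * g.1⁻¹) * c := fun c hc k => by
          rw [h.mul_comm_iff hc (inv_mem hy) (nQ g g.2 y hy), cm (k g.2)]
          exact Commute.inv_right_iff
        exact (mD _).2 ⟨mul_mem (inv_mem hy) (nQ g g.2 y hy), k c hc hPc, k a ha.1 ‹_›⟩
      have e' := congrArg Subtype.val (DFunLike.congr_fun e ⟨_, hu⟩)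
      exact comm_of_three (p3 g g.2) (mul_inv_cancel_left _ _).symm (comm_of_conj_eq e') (h.pow_four ((mD _).1 hu).1)
    refine Subtype.ext (this.resolve_right fun e => h.ne ?_)
    have := p3 g g.2
    rwa [e, show 3 ^ 7 = 2 * 1093 + 1 from rfl, pow_succ, pow_mul, pow_two, h.sq, one_pow, one_mul] at this
  have cD : Nat.card D = 2 ^ 11 := by omega
  obtain ⟨r, hr, e⟩ := (Nat.dvd_prime_pow Nat.prime_two).1 (cD ▸ (frattini D).index_dvd_card)
  have := (card_dvd_of_injective _ inj).trans (Coprime.card_mulAut_dvd cD e)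
  rw [hP] at this
  interval_cases r <;> revert this <;> decide +kernel

theorem Cov43.simple {M N T : Subgroup G} (h : Cov43 M N) (h1 : N ≤ T) (h2 : M ≤ normalizer (T : Set G)) :
    T ⊓ M ≤ N ∨ M ≤ T := by
  obtain ⟨-, θ, a, b⟩ := h
  have := U43x.simple
  have := normal_subgroupOf_of_le_normalizer h2
  refine (Subgroup.Normal.eq_bot_or_eq_top (this.map θ a)).imp (fun e x hx => ?_) fun e => subgroupOf_eq_top.1 ?_
  · exact b.le ((Subgroup.map_eq_bot_iff _).1 e (x := ⟨x, hx.2⟩) hx.1)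
  · rw [← comap_map_eq_self (H := T.subgroupOf M) (b.le.trans (comap_mono h1)), e, comap_top]

theorem exists_S43 : ∃ S : Subgroup U43, Nat.card S = 3 ^ 6 ∧ Nat.card (center S) ≤ 3 := by
  obtain ⟨x, θ, a, b⟩ := K1_cov
  have p1 : PS (MO.d pA) 7 0 ≤ K1 := (MO.cp_eq_PS pA rfl).ge.trans (MO.le_of_leA p_le)
  have c : ∀ i ≤ 6, 3 ^ (7 - i) = Nat.card (((PS (MO.d pA) 7 i).subgroupOf K1).map θ) * 3 := fun i hi => by
    rw [← (pPc MO).card (by omega), ← card_subgroupOf_of_le ((PS_mono (Nat.zero_le _) le_rfl).trans p1),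
      card_map_ker θ (B := (PS (MO.d pA) 7 i).subgroupOf K1) (b.le.trans (comap_mono (p_x ▸ PS_mono hi le_rfl))), b, card_subgroupOf_of_le x, Nat.card_zpowers, X0_ord]
  have := U43x.pk.finite
  refine ⟨((PS (MO.d pA) 7 0).subgroupOf K1).map θ, by have := c 0 (by norm_num); omega, ?_⟩
  rw [← card_map_of_injective (subtype_injective _)]
  refine (card_le_of_le (K := ((PS (MO.d pA) 7 5).subgroupOf K1).map θ) ?_).trans (by have := c 5 (by norm_num); omega)
  rintro _ ⟨⟨_, s, hs, rfl⟩, h, rfl⟩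
  refine ⟨s, (Z_char _).2 ⟨hs, fun t ht => (b.le (?_ : ⁅s, ⟨t, p1 ht⟩⁆ ∈ θ.ker) :)⟩, rfl⟩
  rw [MonoidHom.mem_ker, map_commutatorElement, commutatorElement_eq_one_iff_mul_comm]
  exact (congrArg Subtype.val (mem_center_iff.1 h ⟨_, ⟨t, p1 ht⟩, ht, rfl⟩)).symm

theorem eq_of_three [Finite G] {Q T N : Subgroup G} (hN : Nat.card N = 3 * Nat.card Q) (h1 : Q ≤ T) (h2 : Q ≤ N) {x : G}
    (hx : x ∈ T) (hx' : x ∈ N) (h : x ∉ Q) : N ≤ T := by
  obtain ⟨a, e⟩ := card_dvd_of_le (le_inf h1 h2)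
  obtain ⟨b, e'⟩ := card_dvd_of_le (inf_le_right : T ⊓ N ≤ N)
  have : 3 = a * b := Nat.eq_of_mul_eq_mul_left (Nat.card_pos (α := Q)) (by rw [← mul_assoc, ← e, ← e', hN, mul_comm])
  rcases (Nat.dvd_prime Nat.prime_three).1 ⟨b, this⟩ with rfl | rfl
  · exact absurd ((eq_of_le_of_card_ge (le_inf h1 h2) (by omega)).ge ⟨hx, hx'⟩) h
  · exact inf_eq_right.1 (eq_of_le_of_card_ge inf_le_right (by omega))

theorem _root_.Cfsg.Lib.Known2.LS.fpf [Finite G] {Q N M : Subgroup G} {z : G} (h : LS Q z) (hQ : Nat.card Q = 2 ^ 13) (hQN : Q ≤ N)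
    (hN : Nat.card N = 3 * Nat.card Q) (hM : Cov43 M N) (hz : M ≤ centralizer {z}) :
    ∃ x ∈ N, orderOf x = 3 ∧ ∀ c ∈ Q, x * c = c * x → c = 1 ∨ c = z := by
  obtain ⟨S, cS, zS⟩ := exists_S43
  obtain ⟨hNM, θ, a, b⟩ := id hM
  have := U43x.pk.finite
  obtain ⟨P, hP⟩ := Sylow.exists_subgroup_card_pow_prime 3 (G := S.comap θ) (n := 7) (by
    rw [card_map_ker θ (ker_le_comap _ _), map_comap_eq_self_of_surjective a, cS, b, card_subgroupOf_of_le hNM, hN]
    exact ⟨_, by ring⟩)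
  let η : P →* S := (θ.comp ((S.comap θ).subtype.comp P.subtype)).codRestrict S fun g => g.1.2
  let ι : P →* G := M.subtype.comp ((S.comap θ).subtype.comp P.subtype)
  have hι : Function.Injective ι := Subtype.val_injective.comp (Subtype.val_injective.comp Subtype.val_injective)
  have hη : ∀ g, g ∈ η.ker ↔ ι g ∈ N := fun g => Subtype.ext_iff.trans (SetLike.ext_iff.1 b _)
  have c1 := card_map_ker η (B := ⊤) le_top
  have c2 : Nat.card η.ker ∣ 3 := by
    obtain ⟨j, -, e⟩ := (Nat.dvd_prime_pow Nat.prime_three).1 (hP ▸ card_subgroup_dvd_card η.ker)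
    have := card_dvd_of_le (show η.ker.map ι ≤ N by rintro _ ⟨g, hg, rfl⟩; exact (hη g).1 hg)
    rw [card_map_of_injective hι, hN, hQ] at this
    exact Nat.Coprime.dvd_of_dvd_mul_right (e ▸ Nat.Coprime.pow _ _ (by norm_num)) this
  have c3 := (card_le_of_le (le_top (a := (⊤ : Subgroup P).map η))).trans_eq (card_top.trans cS)
  rw [card_top, hP] at c1
  have c4 : Nat.card η.ker = 3 := ((Nat.dvd_prime Nat.prime_three).1 c2).resolve_left fun e => by rw [e] at c1; omega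
  have sη : Function.Surjective η := MonoidHom.range_eq_top.1 (eq_top_of_card_eq _ (by rw [MonoidHom.range_eq_map]; rw [c4] at c1; omega))
  obtain ⟨x, ox, ex⟩ := eq_zpowers_of_card Nat.prime_three c4
  have xN := (hη x).1 (ex ▸ mem_zpowers x)
  have ox' : orderOf (ι x) = 3 := (orderOf_injective ι hι x).trans ox
  have x3 : ι x ^ 3 ^ 1 = 1 := by rw [pow_one, ← ox', pow_orderOf_eq_one]
  have xQ : ι x ∉ Q := fun k => by have := orderOf_dvd_natCard _ k; rw [ox', hQ] at this; norm_num at this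
  refine ⟨ι x, xN, ox', fun c hc e => ?_⟩
  by_contra! n
  have NT : ∀ c ∈ Q, ι x * c = c * ι x → N ≤ Tz z c := fun c hc e => eq_of_three hN (h.le_Tz hc) hQN
    ((h.mem_Tz hc).2 ⟨mem_centralizer_singleton_iff.1 (hz (hNM xN)), .inl (conj_eq_of_comm e)⟩) xN xQ
  have nN : M ≤ normalizer (N : Set G) := fun g hg => mem_normalizer_of_conj_mem fun y hy =>
    b.le ((MonoidHom.normal_ker θ).conj_mem ⟨y, hNM hy⟩ (b.ge hy) ⟨g, hg⟩)
  have cj : ∀ g ∈ M, ∀ c y, g⁻¹ * y * g ∈ Tz z c → y ∈ Tz z (g * c * g⁻¹) := fun g hg c y k =>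
    ⟨by simpa [mul_assoc] using mul_mem (mul_mem (hz hg) k.1) (inv_mem (hz hg)), by
      rw [show ⁅y, g * c * g⁻¹⁆ = g * ⁅g⁻¹ * y * g, c⁆ * g⁻¹ by group]
      exact (mem_normalizer_iff.1 (cent_le_norm_zpowers z (hz hg)) _).1 k.2⟩
  have C0 : ∀ g ∈ M, ∀ c ∈ Q ⊓ centralizer {ι x}, g * c * g⁻¹ ∈ Q ⊓ centralizer {ι x} := fun g hg c hc =>
    have q := h.norm g (mem_centralizer_singleton_iff.1 (hz hg)) c hc.1
    ⟨q, mem_centralizer_singleton_iff.2 (h.odd_fix q x3 (cj g hg c _ (NT c hc.1 (mem_centralizer_singleton_iff.1 hc.2).symm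
      ((mem_normalizer_iff''.1 (nN hg) _).1 xN)))).symm⟩
  have cP : Nat.card ι.range = 3 ^ 7 := by rw [← hP]; exact (Nat.card_congr (MonoidHom.ofInjective hι).toEquiv).symm
  have PM : ι.range ≤ M := by rintro _ ⟨g, rfl⟩; exact g.1.1.2
  have p3 : ∀ g, ι g ^ 3 ^ 7 = 1 := fun g => by rw [← map_pow, ← hP, pow_card_eq_one', map_one]
  rcases hM.simple (T := ⨅ c ∈ Q ⊓ centralizer {ι x}, Tz z c) (le_iInf₂ fun c hc => NT c hc.1
    (mem_centralizer_singleton_iff.1 hc.2).symm) (fun g hg => mem_normalizer_of_conj_mem fun y hy => by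
      simp only [mem_iInf] at hy ⊢
      intro c hc
      have := cj g hg (g⁻¹ * c * g⁻¹⁻¹) (g * y * g⁻¹) (by simpa [mul_assoc] using hy _ (C0 _ (inv_mem hg) c hc))
      simpa [mul_assoc] using this) with k | k
  swap
  · refine h.noc hQ cP (PM.trans hz) hc n.1 n.2 ?_
    rintro _ ⟨g, rfl⟩
    exact mem_centralizer_singleton_iff.2 (h.odd_fix hc (p3 g) ((k.trans (iInf₂_le c ⟨hc, mem_centralizer_singleton_iff.2 e.symm⟩))
      (PM ⟨g, rfl⟩)))
  have pS : IsPGroup 3 S := .of_card cS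
  have := pS.isNilpotent
  have : Nontrivial S := Finite.one_lt_card_iff_nontrivial.1 (by omega)
  have zc : Nat.card (center S) = 3 := by
    obtain ⟨j, -, e⟩ := (Nat.dvd_prime_pow Nat.prime_three).1 (cS ▸ card_subgroup_dvd_card (center S))
    have := Finite.one_lt_card_iff_nontrivial.2 pS.center_nontrivial
    rcases j with _ | _ | j
    · omega
    · omega
    · rw [e, pow_succ, pow_succ] at zS; have := Nat.one_le_pow j 3 (by norm_num); omega
  obtain ⟨w, ow, ew⟩ := eq_zpowers_of_card Nat.prime_three zc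
  obtain ⟨y, rfl⟩ := sη w
  set C := Q ⊓ centralizer {ι x}
  have key := dvd_ncard_of_orbits (P := ι.range) (k := 27) ((C : Set G) \ ↑(C ⊓ centralizer {ι y})) (by
    rintro _ ⟨g, rfl⟩ c hc
    refine ⟨C0 _ (PM ⟨g, rfl⟩) c hc.1, fun e => hc.2 ⟨hc.1, ?_⟩⟩
    have : y⁻¹ * (g⁻¹ * y * g) ∈ zpowers x := ex ▸ by
      rw [MonoidHom.mem_ker, map_mul, mul_assoc, map_mul, map_mul, ← mem_center_iff.1 (ew ▸ mem_zpowers (η y)) (η g)]; simp
    have k1 : (zpowers x).map ι ≤ centralizer {c} := by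
      rw [MonoidHom.map_zpowers, zpowers_le]; exact mem_centralizer_singleton_iff.2 (mem_centralizer_singleton_iff.1 hc.1.2).symm
    have k2 : ι (g⁻¹ * y * g) ∈ centralizer {c} := mem_centralizer_singleton_iff.2 (by
      have := mem_centralizer_singleton_iff.1 e.2
      rw [map_mul, map_mul, map_inv]
      calc _ = (ι g)⁻¹ * (ι y * (ι g * c * (ι g)⁻¹)) * ι g := by group
        _ = _ := by rw [← this]; group)
    have := mul_mem k2 (inv_mem (k1 ⟨_, this, rfl⟩))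
    rw [← map_inv, ← map_mul, mul_inv_rev, mul_inv_cancel_left, inv_inv] at this
    exact mem_centralizer_singleton_iff.2 (mem_centralizer_singleton_iff.1 this).symm) fun c hc => by
      rw [MonoidHom.range_eq_map, ← relIndex_comap, relIndex_top_right]
      set R := (centralizer {c}).comap ι
      have xR : η.ker ≤ R := ex ▸ zpowers_le.2 (mem_centralizer_singleton_iff.2 (mem_centralizer_singleton_iff.1 hc.1.2).symm)
      have : R.normalCore ≤ η.ker := (Subgroup.map_eq_bot_iff _).1 (by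
        by_contra n
        have := (normalCore_normal R).map η sη
        have n := inf_center_ne_bot_of_normal _ n
        obtain ⟨u, hu, e⟩ : η y ∈ R.normalCore.map η := by
          have := Fact.mk Nat.prime_three
          refine (inf_eq_right.1 (eq_of_le_of_card_ge inf_le_right ?_)) (ew ▸ mem_zpowers _)
          rw [zc, ((Nat.dvd_prime Nat.prime_three).1 (zc ▸ card_dvd_of_le inf_le_right)).resolve_left fun e => n (card_eq_one.1 e)]
        have : y ∈ R := by simpa using mul_mem (R.normalCore_le hu) (xR (x := u⁻¹ * y) (by simp [MonoidHom.mem_ker, e]))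
        exact hc.2 ⟨hc.1, mem_centralizer_singleton_iff.2 (mem_centralizer_singleton_iff.1 this).symm⟩)
      have d := (index_dvd_of_le this).trans (Coprime.index_normalCore_dvd R)
      have i := η.ker.card_mul_index
      rw [show η.ker.index = 3 ^ 6 by rw [c4, hP] at i; omega] at d
      obtain ⟨j, -, e⟩ := (Nat.dvd_prime_pow Nat.prime_three).1 (hP ▸ R.index_dvd_card)
      rw [e] at d ⊢
      refine pow_dvd_pow 3 (n := j) (m := 3) (not_lt.1 fun l => ?_)
      interval_cases j <;> revert d <;> decide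
  obtain ⟨i, hi, e1⟩ := (Nat.dvd_prime_pow Nat.prime_two).1 (hQ ▸ card_dvd_of_le (inf_le_left : C ≤ Q))
  obtain ⟨j, hj, e2⟩ := (Nat.dvd_prime_pow Nat.prime_two).1 (e1 ▸ card_dvd_of_le (inf_le_left : C ⊓ centralizer {ι y} ≤ C))
  rw [Set.ncard_sdiff (by simp), ← Nat.card_coe_set_eq, ← Nat.card_coe_set_eq, SetLike.coe_sort_coe, SetLike.coe_sort_coe, e1, e2] at key
  obtain rfl : j = i := by
    have : ∀ i ≤ 13, ∀ j ≤ i, 27 ∣ 2 ^ i - 2 ^ j → j = i := by decide
    exact this i hi j hj key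
  have l := inf_eq_left.1 (eq_of_le_of_card_ge inf_le_left (e1.trans e2.symm).le)
  have := (hη y).2 (k ⟨mem_iInf.2 fun c => mem_iInf.2 fun hc => (h.mem_Tz hc.1).2 ⟨mem_centralizer_singleton_iff.1 (hz (PM ⟨y, rfl⟩)),
    .inl (conj_eq_of_comm (mem_centralizer_singleton_iff.1 (l hc)).symm)⟩, PM ⟨y, rfl⟩⟩)
  rw [MonoidHom.mem_ker.1 this, orderOf_one] at ow
  omega

end Cfsg.Lib.Fi
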