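import Cfsg.Agent.Lib.Fi.Fr9

/-! Groups of large Fischer type: the transvections of `2².U₆(2)`. -/

set_option maxRecDepth 100000
set_option linter.unusedSectionVars false
set_option synthInstance.maxSize 2000

namespace Cfsg.Lib.Fi

open Cfsg.Lib.Comp Subgroup A12 Cfsg.Lib.Core Cfsg.Lib.Known2 Cfsg.Lib.Amalg Cfsg.Lib.Layer
open scoped commutatorElement

universe u

variable {G : Type u} [Group G]

/-- The centraliser of a four-group. -/
abbrev YE (t e : G) : Subgroup G := centralizer (closure ({t, e} : Set G) : Set G)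

theorem normal_E (t e : G) : ((closure ({t, e} : Set G)).subgroupOf (YE t e)).Normal :=
  normal_subgroupOf_of_le_normalizer (centralizer_le_normalizer _)

/-- The data at the base subgroup `A`: `μ 1, μ 2` are the duads `12, 13` and `z` is the tetrad `1234`. -/
structure BS0 (z : G) (A : Subgroup G) (μ : ℕ → G) : Prop extends TA z A μ where
  hz : μ 1024 = z
  uq : ∀ P : Subgroup G, IsPGroup 2 P → ∃ g, ∀ B ≤ P, IsElementaryAbelian 2 B → 2 ^ 11 ≤ Nat.card B → cj g B = A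
  out : ∀ g a, a * z * a⁻¹ ∈ A → a * g * a⁻¹ ∈ A → Commute g (μ 1) → g * μ 2 * g⁻¹ ≠ μ 3
  cz : Nat.card (centralizer ({z} : Set G)) = 160526499840
  rJ : ∀ {S : Type u} [Group S] (π : YE (μ 1) (μ 2) →* S), Function.Surjective π → (∀ y, π y = 1 ↔ y.1 ∈ closure ({μ 1, μ 2} : Set G)) →
    ∀ h, ∃ J : Subgroup S, IsPGroup 2 J ∧ ∀ g, (∀ y ∈ J, Commute y g) → g = 1 ∨ g = π ⟨z, h⟩

/-- The data at the base subgroup together with the recognition of `U₆(2)`. -/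
structure BS (z : G) (A : Subgroup G) (μ : ℕ → G) : Prop extends BS0 z A μ where
  r6 : ∀ (K : Type) [Field K] [Fintype K], Fintype.card K = 4 → ∀ {S : Type u} [Group S] (π : YE (μ 1) (μ 2) →* S), Function.Surjective π →
    (∀ y, π y = 1 ↔ y.1 ∈ closure ({μ 1, μ 2} : Set G)) → ∀ h, Nonempty (S ≃* PSU 6 K 2) ∨ centralizer {π ⟨z, h⟩} ⊔ oddCore S = ⊤

theorem elem_cj {A : Subgroup G} (h : IsElementaryAbelian 2 A) (g : G) : IsElementaryAbelian 2 (cj g A) :=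
  elem_of_sq (by rintro _ ⟨a, ha, rfl⟩; rw [← map_mul, ← pow_two, h.2 a ha, map_one])

theorem FG.r6 [Finite G] {z : G} {Q : Subgroup (centralizer ({z} : Set G))} {ν : centralizer ({z} : Set G) → ℕ} {ρ : centralizer ({z} : Set G) →* G12}
    {x : centralizer ({z} : Set G)} {s f : ℕ → centralizer ({z} : Set G)} (F : FG Q ν ρ x s f) {t e : G} (ht : t = s 5) (he : e = s 10)
    (K : Type) [Field K] [Fintype K] (hK : Fintype.card K = 4) {S : Type u} [Group S] (π : YE t e →* S) (p1 : Function.Surjective π)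
    (p2 : ∀ y, π y = 1 ↔ y.1 ∈ closure ({t, e} : Set G)) (h) : (R6.{u} → Nonempty (S ≃* PSU 6 K 2) ∨ centralizer {π ⟨z, h⟩} ⊔ oddCore S = ⊤) ∧
      ∃ J : Subgroup S, IsPGroup 2 J ∧ ∀ g, (∀ y ∈ J, Commute y g) → g = 1 ∨ g = π ⟨z, h⟩ := by
  subst ht he
  have : Finite S := .of_surjective π p1
  have em : ∀ y : centralizer ({z} : Set G), y.1 ∈ closure ({(s 5).1, (s 10).1} : Set G) ↔ y ∈ closure {s 5, s 10} := fun y => by
    rw [← mem_Qg, Qg, MonoidHom.map_closure, Set.image_pair]; rfl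
  let j : centralizer (closure ({s 5, s 10} : Set (centralizer ({z} : Set G))) : Set _) →* YE (s 5).1 (s 10).1 :=
    ((centralizer {z}).subtype.comp (Subgroup.subtype _)).codRestrict _ fun c => mem_cent2.2
      ⟨(mem_cent2.1 c.2).1.map (centralizer {z}).subtype, (mem_cent2.1 c.2).2.map (centralizer {z}).subtype⟩
  refine F.toFA.rec6 (π.comp j) (fun c => (p2 _).trans (em _)) (le_antisymm ?_ fun y hy => ?_) (fun _ => rfl) K hK
  · rintro _ ⟨c, rfl⟩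
    exact mem_centralizer_singleton_iff.2 (Commute.map (show Commute (j c) ⟨z, h⟩ from Subtype.ext (mem_centralizer_singleton_iff.1 c.1.2)) π)
  obtain ⟨y, rfl⟩ := p1 y
  have k := (p2 (y * ⟨z, h⟩ * y⁻¹ * ⟨z, h⟩⁻¹)).1 (by simp [mem_centralizer_singleton_iff.1 hy])
  obtain ⟨a, a1, a2⟩ := ((MonoidHom.map_closure (centralizer {z}).subtype {s 5, s 10}).trans (congrArg _ (Set.image_pair _ _ _))).ge k
  obtain ⟨n, b, rfl⟩ := F.mem_E.1 a1
  have a3 : y.1 * z * y.1⁻¹ = (s n * zc z).1 := (eq_mul_of_mul_inv_eq a2.symm).trans rfl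
  have c : y.1 * z * y.1⁻¹ = z := by_contra fun c => by
    have := (F.hO _ (mul_mem (F.sQ n) F.ls.mem) (a3 ▸ c)).1 (isConj_iff.2 ⟨_, a3⟩)
    rw [F.mul_z (F.sQ n), F.sν n (l4 n b)] at this
    exact (by decide +kernel : ∀ n ∈ [0, 5, 10, 15], ¬ A12.O2.testBit n = true) n b this
  have c' := mem_centralizer_singleton_iff.2 (conj_eq_self_iff.1 c)
  have := mem_cent2.1 y.2
  exact ⟨⟨⟨y, c'⟩, mem_cent2.2 ⟨Subtype.ext this.1, Subtype.ext this.2⟩⟩, rfl⟩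

theorem FG.bs [Finite G] {z : G} {Q : Subgroup (centralizer ({z} : Set G))} {ν : centralizer ({z} : Set G) → ℕ} {ρ : centralizer ({z} : Set G) →* G12}
    {x : centralizer ({z} : Set G)} {s f : ℕ → centralizer ({z} : Set G)} (F : FG Q ν ρ x s f) (e : F.χ = chi) :
    BS0 z (Qg (centralizer (Wh Q ν))) (fun c => (mu (zc z) s f c).1) ∧ mu (zc z) s f 1 = s 5 ∧ mu (zc z) s f 2 = s 10 := by
  have m : ∀ c < 64, mu (zc z) s f c = s (wc c) := fun c hc => by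
    rw [FG.mu_lt (by omega), Nat.mod_eq_of_lt hc, Nat.div_eq_of_lt hc, Nat.zero_mod, F.f0, mul_one]
  have m1 : mu (zc z) s f 1 = s 5 := m 1 (by norm_num)
  have m2 : mu (zc z) s f 2 = s 10 := m 2 (by norm_num)
  have m3 : mu (zc z) s f 3 = s 15 := m 3 (by norm_num)
  refine ⟨⟨⟨fun c d => congrArg Subtype.val (F.mu_mul c d), fun c hc e => F.mu_one hc (Subtype.ext e),
    F.muA, fun _ => F.memA, fun c hc => e ▸ F.dl hc, fun a ha b hb => F.tr ha hb, F.cenA, fun a ha b hb => F.fus ha hb, F.cardM, F.cardA, F.elem⟩,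
    congrArg Subtype.val ((F.mu_z 0).trans (by rw [F.mu_zero, one_mul])), F.uq, fun g a h1 h2 c k => ?_, ?_, fun π a b c => ?_⟩, m1, m2⟩
  · simp only [m1, m2, m3] at c k
    have el := elem_cj F.elem a⁻¹
    have l : cj a⁻¹ (Qg (centralizer (Wh Q ν))) ≤ centralizer {z} := fun y hy =>
      mem_centralizer_singleton_iff.2 (elemAb_le_cent el (mem_cj.2 (by simpa using h1)) _ hy)
    have gB : g ∈ cj a⁻¹ (Qg (centralizer (Wh Q ν))) := mem_cj.2 (by simpa using h2)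
    lift g to centralizer ({z} : Set G) using l gB
    have el' : IsElementaryAbelian 2 ((cj a⁻¹ (Qg (centralizer (Wh Q ν)))).subgroupOf (centralizer {z})) :=
      elem_of_sq fun b hb => Subtype.ext ((pow_two _).symm.trans (el.2 _ hb))
    obtain ⟨w, -, k1⟩ := F.T_syl.exists_conj_le (elemAb_isPGroup el') le_top
    have k2 := F.uniq k1 (elem_cj el' w) (by rw [card_cj, Nat.card_congr (subgroupOfEquivOfLe l).toEquiv, card_cj, F.cardA])
    have k3 : ρ (w * g * w⁻¹) ∈ K1 := Bg_K1 (F.A_map ▸ ⟨_, k2.le (conj_mem_cj w gB), rfl⟩)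
    have k4 : ρ g ∈ K1 := by
      have := (mem_normalizer_iff.1 (N0_norm (H0_N0 (F.r0 ▸ ⟨w, rfl⟩ : ρ w ∈ H0))) (ρ g)).2
      exact this (by simpa using k3)
    have a5 : ψ (ρ g) 5 = 5 := by simpa [F.sν 5] using (F.fix (F.sQ 5)).2 (.inl (conj_eq_of_comm (Subtype.ext c)))
    have a10 := F.conj g (F.sQ 10)
    rw [show g * s 10 * g⁻¹ = s 15 from Subtype.ext k, F.sν 15 (by norm_num), F.sν 10 (by norm_num),
      show ψ (ρ g) 10 = 10 from (GU0_xm (K1_GU k4) (n := 5) (by norm_num)).trans (congrArg xm a5)] at a10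
    omega
  · have := F.card_map (B := ⊤)
    rwa [card_top, top_inf_eq, F.card, ← MonoidHom.range_eq_map, F.cr] at this
  · have : Fact (Nat.Prime 2) := ⟨Nat.prime_two⟩
    let := Fintype.ofFinite (GaloisField 2 2)
    exact (F.r6 (congrArg _ m1) (congrArg _ m2) (GaloisField 2 2) (by rw [← Nat.card_eq_fintype_card, GaloisField.card 2 2 (by norm_num)]; rfl) π a b c).2

/-- The lifts of the transvections. -/
def ZE (z t e : G) : Set G := {y | y ∈ YE t e ∧ IsConj z y ∧ ¬ IsConj z (y * t) ∧ ¬ IsConj z (y * e) ∧ ¬ IsConj z (y * (t * e))}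

/-- The code of the tetrad `123a`. -/
noncomputable def za (a : ℕ) : ℕ := 1 ^^^ (lp 9 ^^^ lp a)

theorem za_ok : (∀ a < 24, a ∉ [21, 18, 9] → za a < 2048 ∧ za a ≠ 0 ∧ DL chi (za a) = false ∧ ∀ i ∈ [1, 2, 3], DL chi (za a ^^^ i) = true) ∧
    ∀ c < 2048, c ≠ 0 → DL chi c = false → (∀ i ∈ [1, 2, 3], c = i ∨ DL chi (c ^^^ i) = true) → ∃ a < 24, a ∉ [21, 18, 9] ∧ c = za a := by
  decide +kernel
theorem dl_ok : ∀ c < 2048, DL chi c = true → DL chi (c ^^^ 1) = true → c = 2 ∨ c = 3 ∨ ∃ a < 24, a ∉ [21, 18, 9] ∧ (c = za a ^^^ 3 ∨ c = za a ^^^ 2) := by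
  decide +kernel
theorem l3 : ∀ i ∈ [1, 2, 3], i < 2 ^ 11 := by decide
theorem lp_val : lp 21 ^^^ lp 18 = 1 ∧ lp 21 ^^^ lp 9 = 2 ∧ lp 18 ^^^ lp 9 = 3 ∧ za 0 = 1024 := by decide +kernel

namespace BS0
variable [Finite G] {z : G} {A : Subgroup G} {μ : ℕ → G} (h : BS0 z A μ)
include h

theorem m3 : μ 1 * μ 2 = μ 3 := (h.mul 1 2).symm
theorem A_Y : A ≤ YE (μ 1) (μ 2) := fun a ha => by
  obtain ⟨c, -, rfl⟩ := h.mem a ha
  exact mem_cent2.2 ⟨h.comm _ _, h.comm _ _⟩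
theorem mem_E {y : G} : y ∈ closure ({μ 1, μ 2} : Set G) ↔ y = 1 ∨ y = μ 1 ∨ y = μ 2 ∨ y = μ 3 := by
  rw [mem_cl2 (h.sq 1) (h.sq 2) (h.comm 1 2), h.m3]
theorem dd {c : ℕ} (hc : c < 2048) (d : DL chi c = true) : μ c ≠ 1 ∧ ¬ IsConj z (μ c) := (h.dl c hc).2 d
theorem z_ne : z ≠ 1 := fun e => by simpa using h.one 1024 (by norm_num) (h.hz.trans e)
theorem z_sq : z * z = 1 := h.hz ▸ h.sq _
theorem ne_of {y : G} (hy : IsConj z y) : y ≠ 1 := fun e => h.z_ne (isConj_one_left.1 (e ▸ hy))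
theorem sq_of {y : G} (hy : IsConj z y) : y * y = 1 := by
  obtain ⟨g, rfl⟩ := isConj_iff.1 hy
  rw [conj_mul, h.z_sq]; simp
theorem za_mem {a : ℕ} (ha : a < 24) (n : a ∉ [21, 18, 9]) : μ (za a) ∈ ZE z (μ 1) (μ 2) := by
  obtain ⟨a1, a2, a3, a4⟩ := za_ok.1 a ha n
  have k : ∀ i ∈ [1, 2, 3], ¬ IsConj z (μ (za a) * μ i) := fun i hi => h.mul _ _ ▸
    (h.dd (Nat.xor_lt_two_pow (n := 11) a1 (l3 i hi)) (a4 i hi)).2
  refine ⟨h.A_Y (h.all _), by_contra fun c => ?_, k 1 (by simp), k 2 (by simp), h.m3 ▸ k 3 (by simp)⟩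
  simpa [a3] using (h.dl _ a1).1 ⟨fun e => a2 (h.one _ a1 e), c⟩
theorem za_conj {a : ℕ} (ha : a < 24) (n : a ∉ [21, 18, 9]) : ∃ g ∈ YE (μ 1) (μ 2), g * z * g⁻¹ = μ (za a) := by
  obtain ⟨g, -, k⟩ := h.move (l := [21, 18, 9, 0]) (l' := [21, 18, 9, a]) (by revert a; decide)
  have k1 := k 0 (by simp) 1 (by simp)
  have k2 := k 0 (by simp) 2 (by simp)
  have k3 := k 2 (by simp) 3 (by simp)
  simp only [List.getD_cons_zero, List.getD_cons_succ, lp_val.1, lp_val.2.1] at k1 k2 k3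
  refine ⟨g, mem_cent2.2 ⟨conj_eq_self_iff.1 k1, conj_eq_self_iff.1 k2⟩, ?_⟩
  rw [← h.hz, ← lp_val.2.2.2, za, za, h.mul, h.mul 1, ← conj_mul, k1, k3]
theorem z_Z : z ∈ ZE z (μ 1) (μ 2) := by simpa [lp_val.2.2.2, h.hz] using h.za_mem (a := 0) (by norm_num) (by decide)
theorem Z_A {y : G} (hy : y ∈ ZE z (μ 1) (μ 2)) (ha : y ∈ A) : ∃ a < 24, a ∉ [21, 18, 9] ∧ y = μ (za a) := by
  obtain ⟨c, hc, rfl⟩ := h.mem y ha
  have k : ∀ i ∈ [1, 2, 3], ¬ IsConj z (μ c * μ i) → c = i ∨ DL chi (c ^^^ i) = true := fun i hi n => or_iff_not_imp_left.2 fun e => by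
    have l : c ^^^ i < 2048 := Nat.xor_lt_two_pow (n := 11) hc (l3 i hi)
    exact (h.dl _ l).1 ⟨fun a => e (Nat.xor_eq_zero_iff.1 (h.one _ l a)), h.mul _ _ ▸ n⟩
  obtain ⟨a, a1, a2, rfl⟩ := za_ok.2 c hc (fun e => h.ne_of hy.2.1 (e ▸ h.zero)) (Bool.eq_false_iff.2 fun d => (h.dd hc d).2 hy.2.1) (by
    simp only [List.forall_mem_cons]
    exact ⟨k 1 (by simp) hy.2.2.1, k 2 (by simp) hy.2.2.2.1, k 3 (by simp) (h.m3 ▸ hy.2.2.2.2), by simp⟩)
  exact ⟨a, a1, a2, rfl⟩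

omit h [Finite G] in
theorem _root_.Cfsg.Lib.Fi.ZE.conj {z t e y : G} (hy : y ∈ ZE z t e) (g : G) : g * y * g⁻¹ ∈ ZE z (g * t * g⁻¹) (g * e * g⁻¹) := by
  have i : ∀ a, IsConj z (g * a * g⁻¹) ↔ IsConj z a := fun a =>
    ⟨fun c => c.trans (isConj_iff.2 ⟨g, rfl⟩).symm, fun c => c.trans (isConj_iff.2 ⟨g, rfl⟩)⟩
  simp only [ZE, Set.mem_ofPred_eq, mem_cent2, conj_mul, i, commute_conj_conj_iff] at hy ⊢
  exact hy
omit h [Finite G] in
theorem _root_.Cfsg.Lib.Fi.ZE.conj' {z t e y g : G} (hy : y ∈ ZE z t e) (hg : g ∈ YE t e) : g * y * g⁻¹ ∈ ZE z t e := by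
  have := ZE.conj hy g
  rwa [conj_eq_self_iff.2 (mem_cent2.1 hg).1, conj_eq_self_iff.2 (mem_cent2.1 hg).2] at this

theorem eq_of {x y : G} (hx : x ∈ ZE z (μ 1) (μ 2)) (hy : IsConj z y) (e : x⁻¹ * y ∈ closure ({μ 1, μ 2} : Set G)) : x = y := by
  have e' : ∀ a, x⁻¹ * y = a → y = x * a := fun a e => by rw [← e, mul_inv_cancel_left]
  rcases h.mem_E.1 e with e | e | e | e <;> rw [e' _ e] at hy ⊢
  exacts [(mul_one x).symm, absurd hy hx.2.2.1, absurd hy hx.2.2.2.1, absurd (h.m3 ▸ hy) hx.2.2.2.2]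

/-- `E` is generated by products of two tetrads. -/
theorem E_le {N : Subgroup G} (hN : ∀ a < 24, a ∉ [21, 18, 9] → ∀ b < 24, b ∉ [21, 18, 9] → μ (za a) * μ (za b) ∈ N) :
    closure ({μ 1, μ 2} : Set G) ≤ N := by
  have k : ∀ a b c d e f, (∀ i ∈ [a, b, c, d, e, f], i < 24 ∧ i ∉ [21, 18, 9]) →
      μ (za a ^^^ za b ^^^ (za c ^^^ za d) ^^^ (za e ^^^ za f)) ∈ N := fun a b c d e f k => by
    simp only [List.forall_mem_cons] at k
    simp only [h.mul]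
    exact mul_mem (mul_mem (hN _ k.1.1 k.1.2 _ k.2.1.1 k.2.1.2) (hN _ k.2.2.1.1 k.2.2.1.2 _ k.2.2.2.1.1 k.2.2.2.1.2))
      (hN _ k.2.2.2.2.1.1 k.2.2.2.2.1.2 _ k.2.2.2.2.2.1.1 k.2.2.2.2.2.1.2)
  refine (closure_le _).2 ?_
  rintro _ (rfl | rfl)
  exacts [(show za 0 ^^^ za 1 ^^^ (za 2 ^^^ za 3) ^^^ (za 13 ^^^ za 20) = 1 by decide +kernel) ▸ k 0 1 2 3 13 20 (by decide),
    (show za 0 ^^^ za 1 ^^^ (za 2 ^^^ za 12) ^^^ (za 14 ^^^ za 16) = 2 by decide +kernel) ▸ k 0 1 2 12 14 16 (by decide)]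

omit h in
theorem _root_.Cfsg.Lib.Fi.weak_closed {w g : G} (e : centralizer {w} ⊔ oddCore G = ⊤) (hw : w * w = 1) (cm : Commute w (g * w * g⁻¹)) :
    g * w * g⁻¹ = w := by
  obtain ⟨c, c1, o, o1, e⟩ := (mem_sup_of_normal_right (s := centralizer {w}) (t := oddCore G)).1 (e ▸ mem_top g⁻¹)
  have e1 : g * w * g⁻¹ = o⁻¹ * w * o := by
    rw [← inv_inv g, ← e, inv_inv, mul_inv_rev, mul_assoc o⁻¹, mul_assoc o⁻¹, ← mul_assoc _ c, mul_assoc c⁻¹, ← mem_centralizer_singleton_iff.1 c1]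
    group
  have i := inv_eq_of_mul_eq_one_right hw
  have m : w * (g * w * g⁻¹) ∈ oddCore G := by
    have k := mul_mem ((inferInstance : (oddCore G).Normal).conj_mem _ (inv_mem o1) w) o1
    rwa [e1, ← mul_assoc, ← mul_assoc, ← congrArg (w * o⁻¹ * · * o) i]
  have s : (w * (g * w * g⁻¹)) ^ 2 = 1 := by rw [cm.mul_pow, conj_pow, pow_two, hw]; simp
  have := Nat.eq_one_of_dvd_coprimes (odd_card_oddCore G).coprime_two_left (orderOf_dvd_of_pow_eq_one s) (orderOf_dvd_natCard _ m)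
  exact (eq_inv_of_mul_eq_one_right (orderOf_eq_one_iff.1 this)).trans i

omit h in
theorem _root_.Cfsg.Lib.Fi.BS.psu (h : BS z A μ) (K : Type) [Field K] [Fintype K] (hK : Fintype.card K = 4) {S : Type u} [Group S] (π : YE (μ 1) (μ 2) →* S) (p1 : Function.Surjective π)
    (p2 : ∀ y, π y = 1 ↔ y.1 ∈ closure ({μ 1, μ 2} : Set G)) : Nonempty (S ≃* PSU 6 K 2) := by
  have : Finite S := .of_surjective π p1
  have z0 : z ∈ YE (μ 1) (μ 2) := h.z_Z.1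
  refine (h.r6 K hK π p1 p2 z0).resolve_right fun e => ?_
  obtain ⟨g, g1, g2⟩ := h.za_conj (a := 1) (by norm_num) (by decide)
  have z1 := h.za_mem (a := 1) (by norm_num) (by decide)
  have k := weak_closed (g := π ⟨g, g1⟩) e (by rw [← map_mul, ← map_one π]; exact congrArg π (Subtype.ext h.z_sq)) (by
    rw [← map_inv, ← map_mul, ← map_mul]
    exact Commute.map (Subtype.ext (show z * (g * z * g⁻¹) = g * z * g⁻¹ * z by rw [g2, ← h.hz]; exact h.comm _ _)) π)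
  have := h.eq_of h.z_Z z1.2.1 (g2 ▸ (p2 (⟨z, z0⟩⁻¹ * (⟨g, g1⟩ * ⟨z, z0⟩ * ⟨g, g1⟩⁻¹))).1 (by
    rw [map_mul, map_mul, map_mul, map_inv, map_inv, k, inv_mul_cancel]))
  exact absurd (h.inj (by norm_num) (za_ok.1 1 (by norm_num) (by decide)).1 (h.hz.trans this)) (by decide +kernel)

theorem perfect {S : Type*} [Group S] (π : YE (μ 1) (μ 2) →* S) (p1 : Function.Surjective π)
    (p2 : ∀ y, π y = 1 ↔ y.1 ∈ closure ({μ 1, μ 2} : Set G)) (hS : IsQuasisimple S) : IsQuasisimple (YE (μ 1) (μ 2)) := by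
  have l := h.E_le (N := (commutator (YE (μ 1) (μ 2))).map (Subgroup.subtype _)) fun a a1 a2 b b1 b2 => by
    obtain ⟨g, g1, g2⟩ := h.za_conj a1 a2
    obtain ⟨f, f1, f2⟩ := h.za_conj b1 b2
    refine ⟨⁅⟨g, g1⟩ * ⟨f, f1⟩⁻¹, ⟨_, (h.za_mem b1 b2).1⟩⁆, commutator_mem_commutator (mem_top _) (mem_top _), ?_⟩
    show g * f⁻¹ * μ (za b) * (g * f⁻¹)⁻¹ * (μ (za b))⁻¹ = _
    rw [inv_eq_of_mul_eq_one_right (h.sq (za b)), ← g2, ← f2]; group
  refine isQuasisimple_of_ker_le_center ⟨eq_top_iff.2 fun y _ => ?_⟩ π p1 (fun y hy => mem_center_iff.2 fun g =>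
    Subtype.ext (g.2 _ ((p2 y).1 hy)).symm) hS
  obtain ⟨c, c1, c2⟩ : π y ∈ (commutator _).map π := by
    rw [map_commutator_eq, MonoidHom.range_eq_top.2 p1]; exact hS.1.commutator_eq_top.ge (mem_top _)
  obtain ⟨d, d1, d2⟩ := l ((p2 (c⁻¹ * y)).1 (by simp [c2]))
  exact (mul_mem_cancel_left (inv_mem c1)).1 (Subtype.ext d2 ▸ d1 :)

theorem E_card : Nat.card (closure ({μ 1, μ 2} : Set G)) = 4 :=
  card_cl2 (h.sq 1) (h.sq 2) (h.comm 1 2) (fun e => by simpa using h.one 1 (by norm_num) e) (fun e => by simpa using h.one 2 (by norm_num) e)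
    fun e => by simpa using h.inj (by norm_num) (by norm_num) e

omit h in
theorem _root_.Cfsg.Lib.Fi.qs_psu6 (K : Type) [Field K] [Fintype K] (hK : Fintype.card K = 4) : IsQuasisimple (PSU 6 K 2) := by
  have := Cfsg.Agent.S0283.result (q := 2) hK 6 (by norm_num) (by norm_num)
  obtain ⟨Q, _, e, _, Y, b, U, P⟩ := qp6 hK
  refine isQuasisimple_of_isSimpleGroup fun c => ?_
  obtain ⟨a, ha⟩ := U.vw.ne
  obtain ⟨b, -, n⟩ := U.vw.nc a ha
  exact n (by simpa [commute_iff_eq] using congrArg e (c.is_comm.comm (e.symm a) (e.symm b)))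

end BS0

theorem exists_BS [Finite G] {z : G} {Q : Subgroup (centralizer ({z} : Set G))} [Q.Normal] (hF : IsOfLargeFischerTypeAt z Q) (h6 : R6.{u}) :
    ∃ A μ, BS z A μ ∧ μ 1 ∈ Qg Q ∧ μ 2 ∈ Qg Q ∧ ∀ t ∈ Q, t ≠ 1 → t * t = 1 → ¬ IsConj z t.1 → IsConj (μ 1) t.1 := by
  obtain ⟨ν, ρ, F, k⟩ := exists_FG hF
  obtain ⟨x, a, b⟩ := F.exists_x
  obtain ⟨s, f, F, e⟩ := k x a b
  obtain ⟨h, m1, m2⟩ := F.bs e
  refine ⟨_, _, ⟨h, fun K _ _ hK S _ π a b c => (F.r6 (congrArg _ m1) (congrArg _ m2) K hK π a b c).1 h6⟩, mem_Qg.2 (m1 ▸ F.sQ 5), mem_Qg.2 (m2 ▸ F.sQ 10), fun t tQ t1 t2 n => ?_⟩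
  have n' : t.1 ≠ z := fun e => n (by rw [e])
  obtain ⟨g, -, e⟩ := F.conj_orb F.k1 orb1 (by norm_num) (F.sQ 5) tQ (by rw [F.sν 5 (by norm_num)]; decide +kernel)
    ((sing_iff.2 ⟨F.lt t, (F.sq tQ).1 t2, (F.ne_zero tQ).2 ⟨t1, fun e => n' (congrArg Subtype.val e)⟩⟩).resolve_right fun h => n ((F.hO t tQ n').2 h))
  exact isConj_iff.2 ⟨g, m1 ▸ congrArg Subtype.val e⟩

end Cfsg.Lib.Fi
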