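import Cfsg.Agent.Lib.Fi.Fr10
import Cfsg.Agent.Lib.Fi.O6

/-! Groups of large Fischer type: links of duad pairs. -/

set_option maxRecDepth 100000
set_option linter.unusedSectionVars false

namespace Cfsg.Lib.Fi

open Cfsg.Lib.Comp Subgroup A12 Cfsg.Lib.Core Cfsg.Lib.Known2 Cfsg.Lib.Amalg Cfsg.Lib.Layer
open scoped commutatorElement

universe u

variable {G : Type u} [Group G]

theorem card_psu62 {F : Type*} [Field F] [Fintype F] (hF : Fintype.card F = 2 ^ 2) : Nat.card (PSU 6 F 2) = 9196830720 := by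
  have h := Cfsg.Agent.S0280.result hF 6 (by norm_num)
  norm_num [Finset.prod_range_succ] at h
  omega

theorem corr_map {K : Type*} [Group K] {X : Set G} (h : TT X) (f : G → K) (h1 : Set.InjOn f X)
    (h2 : ∀ a ∈ X, ∀ b ∈ X, f (a * b * a) = f a * f b * f a) (h3 : ∀ a ∈ X, f a * f a = 1 ∧ f a ≠ 1) : Corr X (f '' X) fun x y => x ∈ X ∧ f x = y := by
  refine ⟨h, ⟨⟨?_, ?_⟩, ?_⟩, fun x y a => ⟨a.1, x, a⟩, fun x a => ⟨_, a, rfl⟩, fun y a => a, fun x y x' y' a b => ?_, fun x y x' y' a b => ?_⟩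
  · rintro _ ⟨a, ha, rfl⟩; exact orderOf_eq_prime ((pow_two _).trans (h3 a ha).1) (h3 a ha).2
  · rintro _ ⟨a, ha, rfl⟩ _ ⟨b, hb, rfl⟩
    by_cases c : Commute a b
    · left; rw [pow_two, ← mul_assoc, ← h2 a ha b hb, (h.conj_eq_iff ha).2 c, (h3 b hb).1]
    · right
      calc _ = (f a * f b * f a) * (f b * f a * f b) := by simp only [pow_succ, pow_zero, one_mul, mul_assoc]
        _ = 1 := by rw [← h2 a ha b hb, ← h2 b hb a ha, h.braid ha hb c, (h3 _ (h.conj b hb a ha)).1]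
  · rintro _ ⟨a, ha, rfl⟩ _ ⟨b, hb, rfl⟩; exact ⟨_, h.conj a ha b hb, h2 a ha b hb⟩
  · exact ⟨fun e => by rw [← a.2, ← b.2, e], fun e => h1 a.1 b.1 (by rw [a.2, b.2, e])⟩
  · exact ⟨h.conj x a.1 x' b.1, by rw [h2 x a.1 x' b.1, a.2, b.2]⟩

/-- The link of the pair `(t, e)`. -/
def Lk (z t e : G) : Set G := (fun y => t * e * y) '' ZE z t e

namespace BS
variable [Finite G] {z : G} {A : Subgroup G} {μ : ℕ → G} (h : BS z A μ)
include h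

omit h in
theorem _root_.Cfsg.Lib.Fi.BS0.conj_A (h : BS0 z A μ) {B : Subgroup G} (h1 : B ≤ YE (μ 1) (μ 2)) (h2 : IsElementaryAbelian 2 B) (h3 : 2 ^ 11 ≤ Nat.card B) : ∃ g ∈ YE (μ 1) (μ 2), cj g B = A := by
  have : Fact (Nat.Prime 2) := ⟨Nat.prime_two⟩
  obtain ⟨P, p1, p2⟩ := exists_syl_ge (elemAb_isPGroup h.elem) h.A_Y
  obtain ⟨g, g1, g2⟩ := p1.exists_conj_le (elemAb_isPGroup h2) h1
  obtain ⟨w, k⟩ := h.uq P p1.isPGroup
  exact ⟨g, g1, cj_inj.1 ((k _ g2 (elem_cj h2 g) (by rwa [card_cj])).trans (k _ p2 h.elem h.card.ge).symm)⟩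

theorem main : U6 (ZE z (μ 1) (μ 2)) ∧ (∀ u ∈ YE (μ 1) (μ 2), u * u = 1 → ∃ g ∈ YE (μ 1) (μ 2), g * u * g⁻¹ ∈ A) ∧
    (∀ N : Subgroup G, (∀ a ∈ ZE z (μ 1) (μ 2), ∃ b ∈ closure ({μ 1, μ 2} : Set G), a * b ∈ N) → closure ({μ 1, μ 2} : Set G) ≤ N → YE (μ 1) (μ 2) ≤ N) ∧
    (∀ g ∈ YE (μ 1) (μ 2), (∀ a ∈ ZE z (μ 1) (μ 2), g * a * g⁻¹ * a⁻¹ ∈ closure ({μ 1, μ 2} : Set G)) → g ∈ closure ({μ 1, μ 2} : Set G)) ∧
    IsQuasisimple (YE (μ 1) (μ 2)) ∧ Nat.card (YE (μ 1) (μ 2)) = 4 * 9196830720 := by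
  have : Fact (Nat.Prime 2) := ⟨Nat.prime_two⟩
  let := Fintype.ofFinite (GaloisField 2 2)
  have hK : Fintype.card (GaloisField 2 2) = 4 := by rw [← Nat.card_eq_fintype_card, GaloisField.card 2 2 (by norm_num)]; rfl
  have := normal_E (μ 1) (μ 2)
  have p2 := fun y => (QuotientGroup.eq_one_iff (N := (closure {μ 1, μ 2}).subgroupOf (YE (μ 1) (μ 2))) y).trans mem_subgroupOf
  have z0 : z ∈ YE (μ 1) (μ 2) := h.z_Z.1
  obtain ⟨e⟩ := h.psu _ hK (QuotientGroup.mk' _) (QuotientGroup.mk'_surjective _) p2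
  obtain ⟨J, j1, j2⟩ := h.rJ (QuotientGroup.mk' _) (QuotientGroup.mk'_surjective _) p2 z0
  obtain ⟨S, _, e', _, T, b, U, P⟩ := qp6 hK
  have c0 : Nat.card S = 9196830720 := (Nat.card_congr e'.toEquiv).symm.trans (card_psu62 hK)
  have qs := IsQuasisimple.of_mulEquiv (qs_psu6 _ hK) e'
  let π := (e.trans e').toMonoidHom.comp (QuotientGroup.mk' _)
  have p1 : Function.Surjective π := (e.trans e').surjective.comp (QuotientGroup.mk'_surjective _)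
  replace p2 : ∀ y, π y = 1 ↔ y.1 ∈ closure ({μ 1, μ 2} : Set G) := fun y => (MulEquiv.map_eq_one_iff (e.trans e')).trans (p2 y)
  have zT : π ⟨z, z0⟩ ∈ T := by
    obtain ⟨d, d1, d2⟩ := fix_odd (j1.map (e.trans e').toMonoidHom) (D := T) (by rw [U.ncard]; decide) fun p _ => P.jb.2.1 p
    obtain ⟨d, rfl⟩ := (e.trans e').surjective d
    rcases j2 d fun y hy => (e.trans e').injective (by rw [map_mul, map_mul]; exact d2 _ ⟨y, hy, rfl⟩) with rfl | rfl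
    exacts [absurd (map_one _) (U.vw.tt.ne_one d1), d1]
  clear_value π
  have EY : closure ({μ 1, μ 2} : Set G) ≤ YE (μ 1) (μ 2) := (closure_le _).2 (by rintro _ (rfl | rfl) <;> exact h.A_Y (h.all _))
  have ce : ∀ x y : YE (μ 1) (μ 2), π x = 1 → Commute x y := fun x y e => Subtype.ext (y.2 _ ((p2 x).1 e))
  have sE : ∀ x : YE (μ 1) (μ 2), π x = 1 → x * x = 1 := fun x e => Subtype.ext (by
    rcases h.mem_E.1 ((p2 x).1 e) with e | e | e | e <;> simp [e, h.sq])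
  have t1 : ∀ y ∈ T, ∃ x : YE (μ 1) (μ 2), x.1 ∈ ZE z (μ 1) (μ 2) ∧ π x = y := fun y hy => by
    obtain ⟨g, -, rfl⟩ := P.r3.tr _ zT y hy
    obtain ⟨g, rfl⟩ := p1 g
    exact ⟨g * ⟨z, z0⟩ * g⁻¹, ZE.conj' h.z_Z g.2, by simp⟩
  have t2 : ∀ x y : YE (μ 1) (μ 2), x.1 ∈ ZE z (μ 1) (μ 2) → y.1 ∈ ZE z (μ 1) (μ 2) → π x = π y → x = y := fun x y hx hy e =>
    Subtype.ext (h.eq_of hx hy.2.1 ((p2 (x⁻¹ * y)).1 (by simp [e])))
  have t3 : ∀ x : YE (μ 1) (μ 2), π x ∈ T → ∃ y a : YE (μ 1) (μ 2), y.1 ∈ ZE z (μ 1) (μ 2) ∧ π a = 1 ∧ x = y * a := fun x hx =>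
    let ⟨y, a, b⟩ := t1 _ hx; ⟨y, y⁻¹ * x, a, by simp [b], by simp⟩
  have t4 : ∀ x, π x ∈ T → x * x = 1 := fun x hx => by
    obtain ⟨y, a, b, c, rfl⟩ := t3 x hx
    rw [← pow_two, (ce a y c).symm.mul_pow, pow_two, pow_two, sE a c, mul_one]; exact Subtype.ext (h.sq_of b.2.1)
  have t5 : ∀ x y, π x ∈ T → π y ∈ T → Commute (π x) (π y) → Commute x y := fun x x' hx hx' c => by
    obtain ⟨y, a, b, d, rfl⟩ := t3 x hx
    obtain ⟨y', a', b', d', rfl⟩ := t3 x' hx'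
    rw [map_mul, map_mul, d, d', mul_one, mul_one] at c
    exact ((conj_eq_self_iff.1 (t2 _ _ (ZE.conj' b' y.2) b' (by simpa using conj_eq_self_iff.2 c))).mul_right (ce a' y d').symm).mul_left (ce a _ d)
  have fac : ∀ u ∈ YE (μ 1) (μ 2), u * u = 1 → ∃ g ∈ YE (μ 1) (μ 2), g * u * g⁻¹ ∈ A := fun u hu u2 => by
    obtain ⟨Z, z1, z2, z3⟩ := P.fac (π ⟨u, hu⟩) (by rw [← map_mul, ← map_one π]; exact congrArg π (Subtype.ext u2))
    obtain ⟨g, z4⟩ := P.jb.two z1 z2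
    have B := P.jb.1.conj P.jb.2.1 g
    obtain ⟨R, r⟩ := P.jb.2.2
    have c1 := (map_Bs (MulAut.conj g).toMonoidHom b 21 ▸ card_map_of_injective (MulAut.conj g).injective :).trans r.2.2.1
    replace c1 : Nat.card (closure (Bs (fun i => g * b i * g⁻¹) 21)) = 2 ^ 9 := c1
    generalize (fun i => g * b i * g⁻¹) = b at B z4 c1
    have k : (closure (Bs b 21)).comap π ≤ closure (π ⁻¹' Bs b 21) := fun x hx => by
      obtain ⟨y, y1, y2⟩ : π x ∈ (closure (π ⁻¹' Bs b 21)).map π := by rwa [MonoidHom.map_closure, Set.image_preimage_eq _ p1]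
      obtain ⟨w, w1⟩ := p1 (b 0)
      have : w * (y⁻¹ * x) ∈ π ⁻¹' Bs b 21 := ⟨0, by norm_num, by simp [y2, w1]⟩
      exact (mul_mem_cancel_left (inv_mem y1)).1 ((mul_mem_cancel_left (subset_closure (by exact ⟨0, by norm_num, w1.symm⟩))).1 (subset_closure this))
    obtain ⟨g, g1, g2⟩ := h.conj_A (B := ((closure (Bs b 21)).comap π).map (Subgroup.subtype _)) (map_subtype_le _)
      (elem_of_sq (by
        rintro _ ⟨x, hx, rfl⟩
        exact congrArg Subtype.val (sq_of_mem_closure (Z := π ⁻¹' Bs b 21) (fun a ⟨i, hi, e⟩ => t4 a (e ▸ B.mem i hi))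
          (fun a ⟨i, hi, e⟩ c ⟨j, hj, f⟩ => t5 a c (e ▸ B.mem i hi) (f ▸ B.mem j hj) (e ▸ f ▸ B.comm i hi j hj)) (k hx))))
      (by rw [card_map_of_injective (subtype_injective _), card_comap_of_surjective p1, c1, show π.ker = (closure {μ 1, μ 2}).subgroupOf _ from
        Subgroup.ext p2, Nat.card_congr (subgroupOfEquivOfLe EY).toEquiv, h.E_card]; norm_num)
    exact ⟨g, g1, g2.le (conj_mem_cj g ⟨⟨u, hu⟩, closure_mono z4 z3, rfl⟩)⟩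
  have t6 : ∀ x : YE (μ 1) (μ 2), x.1 ∈ ZE z (μ 1) (μ 2) → π x ∈ T := fun x hx => by
    obtain ⟨g, g1, g2⟩ := fac x x.2 (h.sq_of hx.2.1)
    obtain ⟨a, a1, a2, a3⟩ := h.Z_A (ZE.conj' hx g1) g2
    obtain ⟨f, f1, f2⟩ := h.za_conj a1 a2
    have : x = (⟨g, g1⟩⁻¹ * ⟨f, f1⟩) * ⟨z, z0⟩ * (⟨g, g1⟩⁻¹ * ⟨f, f1⟩)⁻¹ := Subtype.ext (show x.1 = g⁻¹ * f * z * (g⁻¹ * f)⁻¹ by
      rw [← conj_conj', f2, ← a3]; group)
    rw [this, map_mul, map_mul, map_inv]; exact P.jb.2.1 _ _ zT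
  have L : Lf π {x | x.1 ∈ ZE z (μ 1) (μ 2)} T := ⟨U.vw.tt, fun g x hx => ZE.conj' hx g.2, t4, t5, t6, t1, fun x a y => t2 x y a⟩
  have C := (corr_map L.tt Subtype.val Subtype.val_injective.injOn (fun _ _ _ _ => rfl) fun a ha => ⟨h.sq_of ha.2.1, h.ne_of ha.2.1⟩).u6 (L.corr.symm.u6 U)
  have eZ : Subtype.val '' {x : YE (μ 1) (μ 2) | x.1 ∈ ZE z (μ 1) (μ 2)} = ZE z (μ 1) (μ 2) :=
    Set.ext fun y => ⟨fun ⟨x, a, b⟩ => b ▸ a, fun a => ⟨⟨y, a.1⟩, a, rfl⟩⟩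
  refine ⟨eZ ▸ C, fac, fun N n1 n2 y hy => ?_,
    fun g hg k => (p2 ⟨g, hg⟩).1 (eq_one_of_commute P.top P.ctr fun y hy => ?_), h.perfect π p1 p2 qs, ?_⟩
  · have : (⊤ : Subgroup S) ≤ (N.subgroupOf _).map π := P.top ▸ (closure_le _).2 fun y hy => by
      obtain ⟨x, a, rfl⟩ := t1 y hy
      obtain ⟨c, c1, c2⟩ := n1 x a
      exact ⟨x * ⟨c, EY c1⟩, c2, by rw [map_mul, (p2 ⟨c, _⟩).2 c1, mul_one]⟩
    obtain ⟨x, x1, x2⟩ := this (mem_top (π ⟨y, hy⟩))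
    exact (mul_mem_cancel_left (inv_mem x1)).1 (n2 ((p2 (x⁻¹ * ⟨y, hy⟩)).1 (by simp [x2])))
  · obtain ⟨x, a, rfl⟩ := t1 y hy
    have := (p2 (⟨g, hg⟩ * x * ⟨g, hg⟩⁻¹ * x⁻¹)).2 (k x a)
    rwa [map_mul, map_mul, map_mul, map_inv, map_inv, ← commutatorElement_def, commutatorElement_eq_one_iff_commute] at this
  · have := card_comap_of_surjective p1 ⊤
    rwa [comap_top, card_top, card_top, c0, show π.ker = (closure {μ 1, μ 2}).subgroupOf _ from Subgroup.ext p2,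
      Nat.card_congr (subgroupOfEquivOfLe EY).toEquiv, h.E_card, mul_comm] at this

end BS

end Cfsg.Lib.Fi
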