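import Cfsg.Agent.Lib.Fi.Fr11

/-! Groups of large Fischer type: the class of duad pairs. -/

set_option maxRecDepth 100000
set_option linter.unusedSectionVars false

namespace Cfsg.Lib.Fi

open Cfsg.Lib.Comp Subgroup A12 Cfsg.Lib.Core Cfsg.Lib.Known2 Cfsg.Lib.Amalg Cfsg.Lib.Layer

universe u

variable {G : Type u} [Group G]

/-- The conjugates of the pair of duads `12, 13`. -/
def PR (μ : ℕ → G) (t e : G) : Prop := ∃ g, g * μ 1 * g⁻¹ = t ∧ g * μ 2 * g⁻¹ = e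

structure YS (z : G) (R : G → G → Prop) : Prop where
  symm : ∀ {t e}, R t e → R e t
  flip : ∀ {t e}, R t e → R t (t * e)
  conj : ∀ {t e}, R t e → ∀ g, R (g * t * g⁻¹) (g * e * g⁻¹)
  tr : ∀ {t e t' e'}, R t e → R t' e' → ∃ g, g * t * g⁻¹ = t' ∧ g * e * g⁻¹ = e'
  sq : ∀ {t e}, R t e → t * t = 1 ∧ t ≠ 1 ∧ Commute t e ∧ ¬ IsConj z t
  u6 : ∀ {t e}, R t e → U6 (ZE z t e)
  lk : ∀ {t e x}, R t e → R t x → x * e * x⁻¹ = e ∨ x * e * x⁻¹ = t * e → x = e ∨ x = t * e ∨ x ∈ Lk z t e ∨ t * x ∈ Lk z t e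
  top : ∀ {t e}, R t e → closure (Lk z t e) = YE t e
  mv : ∀ {t e x}, R t e → x ∈ Lk z t e → ∃ y, R t y ∧ ∃ g ∈ YE t y, ∃ f ∈ YE t e, f * g * e * (f * g)⁻¹ = x
  ctr : ∀ {t e}, R t e → ∀ g ∈ YE t e, (∀ a ∈ ZE z t e, g * a * g⁻¹ * a⁻¹ ∈ closure ({t, e} : Set G)) → g ∈ closure ({t, e} : Set G)
  qs : ∀ {t e}, R t e → IsQuasisimple (YE t e) ∧ Nat.card (YE t e) = 4 * 9196830720

theorem cj_cl2 (g a b : G) : cj g (closure {a, b}) = closure {g * a * g⁻¹, g * b * g⁻¹} :=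
  (MonoidHom.map_closure _ _).trans (congrArg _ (Set.image_pair _ _ _))
theorem YE_cj {g t e y : G} : g * y * g⁻¹ ∈ YE (g * t * g⁻¹) (g * e * g⁻¹) ↔ y ∈ YE t e := by simp only [mem_cent2, commute_conj_conj_iff]
theorem ZE_cj {z g t e y : G} : g * y * g⁻¹ ∈ ZE z (g * t * g⁻¹) (g * e * g⁻¹) ↔ y ∈ ZE z t e :=
  ⟨fun h => by simpa [mul_assoc] using ZE.conj h g⁻¹, fun h => ZE.conj h g⟩
theorem Lk_iff {z t e x : G} : x ∈ Lk z t e ↔ (t * e)⁻¹ * x ∈ ZE z t e :=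
  ⟨fun ⟨y, a, b⟩ => by rw [← b]; beta_reduce; rwa [inv_mul_cancel_left], fun a => ⟨_, a, mul_inv_cancel_left _ _⟩⟩
theorem Lk_cj {z g t e y : G} : g * y * g⁻¹ ∈ Lk z (g * t * g⁻¹) (g * e * g⁻¹) ↔ y ∈ Lk z t e := by
  rw [Lk_iff, Lk_iff, conj_mul, conj_inv, conj_mul, ZE_cj]
theorem exists_cj (g y : G) : ∃ x, y = g * x * g⁻¹ := ⟨g⁻¹ * y * g, by group⟩
theorem img_cj {X Y : Set G} {g : G} (h : ∀ y, g * y * g⁻¹ ∈ Y ↔ y ∈ X) : (fun y => g * y * g⁻¹) '' X = Y :=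
  Set.ext fun y => ⟨fun ⟨x, a, b⟩ => b ▸ (h x).2 a, fun a => by obtain ⟨x, rfl⟩ := exists_cj g y; exact ⟨x, (h x).1 a, rfl⟩⟩
theorem corr_cj {X Y : Set G} {g : G} (hX : TT X) (h : ∀ y, g * y * g⁻¹ ∈ Y ↔ y ∈ X) : ∃ ρ, Corr X Y ρ :=
  ⟨_, img_cj h ▸ corr_map hX (fun y => g * y * g⁻¹) (MulAut.conj g).injective.injOn (fun a _ b _ => by group) fun a ha =>
    ⟨by rw [conj_mul, hX.sq ha]; simp, mt conj_eq_one_iff.1 (hX.ne_one ha)⟩⟩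
theorem cj_eq_of {A B : Subgroup G} {g : G} (h : ∀ y, g * y * g⁻¹ ∈ B ↔ y ∈ A) : cj g A = B :=
  Subgroup.ext fun y => by obtain ⟨x, rfl⟩ := exists_cj g y; rw [conj_mem_cj_iff, h]

namespace BS
variable [Finite G] {z : G} {A : Subgroup G} {μ : ℕ → G} (h : BS z A μ)
include h

theorem mv3 {a b c : ℕ} (k : [a, b, c].Nodup ∧ ∀ i ∈ [a, b, c], i < 24) : PR μ (μ (lp a ^^^ lp b)) (μ (lp a ^^^ lp c)) := by
  obtain ⟨g, -, k⟩ := h.move (l := [21, 18, 9]) (l' := [a, b, c]) ⟨by decide, k.1, rfl, by simp, by decide, k.2⟩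
  exact ⟨g, lp_val.1 ▸ k 0 (by simp) 1 (by simp), lp_val.2.1 ▸ k 0 (by simp) 2 (by simp)⟩

theorem Z_conj {y : G} (hy : y ∈ ZE z (μ 1) (μ 2)) : ∃ g ∈ YE (μ 1) (μ 2), g * z * g⁻¹ = y := by
  obtain ⟨g, a, b⟩ := h.main.1.r3.tr _ h.z_Z y hy
  exact ⟨g, (closure_le _).2 (fun _ x => x.1) a, b⟩

theorem lk0 {x : G} (hx : PR μ (μ 1) x) (k : x * μ 2 * x⁻¹ = μ 2 ∨ x * μ 2 * x⁻¹ = μ 1 * μ 2) :
    x = μ 2 ∨ x = μ 1 * μ 2 ∨ x ∈ Lk z (μ 1) (μ 2) ∨ μ 1 * x ∈ Lk z (μ 1) (μ 2) := by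
  obtain ⟨c, c1, c2⟩ := hx
  have x1 : Commute x (μ 1) := c1 ▸ c2 ▸ commute_conj_conj_iff.2 (h.comm 2 1)
  have x2 : x * x = 1 := by rw [← c2, conj_mul, h.sq]; simp
  obtain ⟨U, fac, -⟩ := h.main
  rcases k with k | k
  · have xY := mem_cent2.2 ⟨x1, conj_eq_self_iff.1 k⟩
    obtain ⟨g, g1, g2⟩ := fac x xY x2
    have g3 := conj_eq_self_iff.2 (mem_cent2.1 g1).1
    have g4 := conj_eq_self_iff.2 (mem_cent2.1 g1).2
    obtain ⟨n, n1, n2⟩ := h.mem _ g2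
    have d : ∀ m < 2048, ∀ i ∈ [2, 3], μ m = g * c * μ i * (g * c)⁻¹ → DL chi m = true := fun m hm i hi e => by
      have := h.dd (c := i) ((by decide : ∀ i ∈ [2, 3], i < 2048) i hi) ((by decide +kernel : ∀ i ∈ [2, 3], DL chi i = true) i hi)
      exact (h.dl m hm).1 (e ▸ ⟨mt conj_eq_one_iff.1 this.1, fun a => this.2 (a.trans (isConj_iff.2 ⟨_, rfl⟩).symm)⟩)
    have e : x = g⁻¹ * μ n * g⁻¹⁻¹ := by rw [n2]; group
    have l : ∀ y, y ∈ Lk z (μ 1) (μ 2) → g⁻¹ * y * g⁻¹⁻¹ ∈ Lk z (μ 1) (μ 2) := fun y hy => Lk_cj.1 (by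
      rw [g3, g4]; simpa [mul_assoc] using hy : g * _ * g⁻¹ ∈ _)
    have cE : ∀ i ∈ [1, 2, 3], g⁻¹ * μ i * g⁻¹⁻¹ = μ i := fun i hi => conj_eq_self_iff.2 (Commute.inv_left (g1 _ (h.mem_E.2 (by
      simp only [List.mem_cons, List.not_mem_nil, or_false] at hi; rcases hi with rfl | rfl | rfl <;> simp))).symm)
    rcases dl_ok n n1 (d n n1 2 (by simp) (by rw [n2, ← conj_conj', c2])) (d _ (Nat.xor_lt_two_pow (n := 11) n1 (by norm_num)) 3 (by simp) (by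
      rw [h.mul, n2, ← h.m3, ← conj_conj', ← conj_mul (b := c), c1, c2, ← x1.eq, ← conj_mul, g3])) with rfl | rfl | ⟨a, a1, a2, rfl | rfl⟩
    · exact .inl (e.trans (cE 2 (by simp)))
    · exact .inr (.inl (e.trans ((cE 3 (by simp)).trans h.m3.symm)))
    · exact .inr (.inr (.inl (e ▸ l _ ⟨_, h.za_mem a1 a2, by rw [h.mul, h.m3]; exact h.comm _ _⟩)))
    · refine .inr (.inr (.inr ?_))
      rw [e, ← cE 1 (by simp), conj_mul, cE 1 (by simp)]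
      exact l _ ⟨_, h.za_mem a1 a2, by beta_reduce; rw [h.mul, mul_assoc]; exact congrArg _ (h.comm _ _)⟩
  exfalso
  have k' : x * (μ 1 * μ 2) * x⁻¹ = μ 2 := by rw [← conj_mul, k, conj_eq_self_iff.2 x1, ← mul_assoc, h.sq, one_mul]
  obtain ⟨y, y1, y2⟩ := fix_odd' x2 (D := ZE z (μ 1) (μ 2)) (by rw [U.ncard]; decide) fun d hd => by
    have := ZE.conj hd x
    rw [conj_eq_self_iff.2 x1, k] at this
    refine ⟨mem_cent2.2 ⟨(mem_cent2.1 this.1).1, ?_⟩, this.2.1, this.2.2.1, ?_, this.2.2.2.1⟩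
    · simpa [← mul_assoc, h.sq] using (mem_cent2.1 this.1).1.mul_right (mem_cent2.1 this.1).2
    · simpa [← mul_assoc (μ 1), h.sq] using this.2.2.2.2
  obtain ⟨g, g1, rfl⟩ := h.Z_conj y1
  have g3 := (mem_cent2.1 g1).1
  obtain ⟨f, f1, f2⟩ := fac (c⁻¹ * (g * z * g⁻¹) * c) (YE_cj.1 (by
    rw [c1, c2]; simpa [mul_assoc] using mem_cent2.2 ⟨(mem_cent2.1 y1.1).1, y2.symm⟩ : c * _ * c⁻¹ ∈ _)) (by
      simpa using h.sq_of (y := c⁻¹ * (g * z * g⁻¹) * c⁻¹⁻¹) (y1.2.1.trans (isConj_iff.2 ⟨_, rfl⟩)))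
  refine h.out (g⁻¹ * x * g) (f * c⁻¹ * g) (by convert f2 using 1; group) ?_ (by simpa using (g3.inv_left.mul_left x1).mul_left g3) ?_
  · have : f * c⁻¹ * g * (g⁻¹ * x * g) * (f * c⁻¹ * g)⁻¹ = f * μ 2 * f⁻¹ := by rw [← c2]; group
    rw [this, conj_eq_self_iff.2 (mem_cent2.1 f1).2]; exact h.all _
  · have g4 := conj_eq_self_iff.2 (mem_cent2.1 g1).2
    calc _ = g⁻¹ * (x * (g * μ 2 * g⁻¹) * x⁻¹) * g := by group
      _ = _ := by rw [g4, k, mul_assoc, ← (g3.mul_right (mem_cent2.1 g1).2).eq, inv_mul_cancel_left, h.m3]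

theorem ys : YS z (PR μ) := by
  obtain ⟨U, -, top, ctr, qs⟩ := h.main
  have cj' : ∀ {t e}, PR μ t e → ∀ g, PR μ (g * t * g⁻¹) (g * e * g⁻¹) := fun ⟨f, a, b⟩ g => ⟨g * f, by rw [← conj_conj', a], by rw [← conj_conj', b]⟩
  have top0 : closure (Lk z (μ 1) (μ 2)) = YE (μ 1) (μ 2) := by
    have m : μ 1 * μ 2 ∈ closure ({μ 1, μ 2} : Set G) := h.mem_E.2 (by simp [h.m3])
    refine le_antisymm ((closure_le _).2 ?_) (top _ (fun a ha => ⟨_, m, subset_closure ⟨a, ha, ha.1 _ m⟩⟩) (h.E_le fun a a1 a2 b b1 b2 => ?_))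
    · rintro _ ⟨y, a, rfl⟩; exact mul_mem (h.A_Y (mul_mem (h.all _) (h.all _))) a.1
    · have := mul_mem (subset_closure (k := Lk z (μ 1) (μ 2)) ⟨_, h.za_mem a1 a2, rfl⟩) (subset_closure ⟨_, h.za_mem b1 b2, rfl⟩)
      beta_reduce at this
      rwa [h.m3, (h.comm 3 (za a)).eq, mul_assoc, ← mul_assoc (μ 3), h.sq, one_mul] at this
  refine ⟨?_, ?_, cj', fun ⟨g, a, b⟩ ⟨f, c, d⟩ => ⟨f * g⁻¹, by rw [← a, ← c]; group, by rw [← b, ← d]; group⟩, ?_, ?_, ?_, ?_, ?_, ?_, ?_⟩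
  · rintro _ _ ⟨g, rfl, rfl⟩
    exact cj' (lp_val.1 ▸ lp_val.2.1 ▸ h.mv3 (a := 21) (b := 9) (c := 18) (by decide)) g
  · rintro _ _ ⟨g, rfl, rfl⟩
    have := h.mv3 (a := 18) (b := 21) (c := 9) (by decide)
    rw [Nat.xor_comm, lp_val.1, lp_val.2.2.1, ← h.m3] at this
    rw [conj_mul]; exact cj' this g
  · rintro _ _ ⟨g, rfl, rfl⟩
    have := h.dd (c := 1) (by norm_num) (by decide +kernel)
    exact ⟨by rw [conj_mul, h.sq]; simp, mt conj_eq_one_iff.1 this.1, commute_conj_conj_iff.2 (h.comm _ _),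
      fun a => this.2 (a.trans (isConj_iff.2 ⟨_, rfl⟩).symm)⟩
  · rintro _ _ ⟨g, rfl, rfl⟩
    exact (corr_cj U.vw.tt fun _ => ZE_cj).choose_spec.u6 U
  · rintro _ _ x ⟨g, rfl, rfl⟩ hx k
    obtain ⟨x, rfl⟩ := exists_cj g x
    simp only [conj_mul, conj_inv, Lk_cj, mul_left_inj, mul_right_inj] at k ⊢
    exact h.lk0 (by simpa [mul_assoc] using cj' hx g⁻¹) k
  · rintro _ _ ⟨g, rfl, rfl⟩
    rw [← cj_eq_of fun _ => YE_cj, ← top0, ← img_cj fun _ => Lk_cj]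
    exact (MonoidHom.map_closure (MulAut.conj g).toMonoidHom _).symm
  · rintro _ _ x ⟨g, rfl, rfl⟩ hx
    obtain ⟨x, rfl⟩ := exists_cj g x
    obtain ⟨y, y1, rfl⟩ := Lk_cj.1 hx
    obtain ⟨f, f1, rfl⟩ := h.Z_conj y1
    obtain ⟨w, -, k⟩ := h.move (l := [21, 18, 1, 9]) (l' := [21, 18, 1, 0]) (by decide)
    have k1 := k 0 (by simp) 1 (by simp)
    have k2 := k 0 (by simp) 2 (by simp)
    have k3 := k 0 (by simp) 3 (by simp)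
    simp only [List.getD_cons_zero, List.getD_cons_succ, lp_val.1, lp_val.2.1] at k1 k2 k3
    refine ⟨_, cj' (lp_val.1 ▸ h.mv3 (a := 21) (b := 18) (c := 1) (by decide)) g, _,
      YE_cj.2 (mem_cent2.2 ⟨conj_eq_self_iff.1 k1, conj_eq_self_iff.1 k2⟩), _, YE_cj.2 f1, ?_⟩
    rw [conj_mul, conj_inv, conj_mul, conj_mul, ← conj_conj', k3, show lp 21 ^^^ lp 0 = 3 ^^^ 1024 by decide +kernel, h.mul, h.hz, ← conj_mul (b := f),
      ← h.m3, conj_eq_self_iff.2 ((mem_cent2.1 f1).1.mul_right (mem_cent2.1 f1).2)]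
  · rintro _ _ ⟨g, rfl, rfl⟩ x hx k
    obtain ⟨x, rfl⟩ := exists_cj g x
    rw [← cj_cl2] at k ⊢
    exact conj_mem_cj g (ctr x (YE_cj.1 hx) fun a ha => conj_mem_cj_iff.1 (by simpa only [conj_mul, conj_inv] using k _ (ZE_cj.2 ha)))
  · rintro _ _ ⟨g, rfl, rfl⟩
    rw [← cj_eq_of fun _ => YE_cj]
    exact ⟨(isQuasisimple_map_iff_of_injective (MulAut.conj g).injective).2 qs.1, (card_cj _ _).trans qs.2⟩

end BS

end Cfsg.Lib.Fi
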