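import Cfsg.Agent.Lib.Fi.Gl2
import Cfsg.Agent.Lib.Known2.M24

/-! Local recognition lemmas for the Fischer classes, and small facts on double covers. -/

set_option linter.unusedSectionVars false

namespace Cfsg.Lib.Fi

open Subgroup Cfsg.Lib.Comp Cfsg.Lib.Known2 Cfsg.Lib.Known2.Cd

universe u

variable {G : Type u} [Group G] {D : Set G}

theorem dia22 (u : ∀ a ∈ D, U6 (Dd D a)) : ∀ x ∈ D, ∀ y ∈ D, ¬ Commute x y → (∃ w ∈ Dd D y, Commute x w) →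
    ∀ v ∈ Dd D y, ∃ z ∈ Dd D y, Commute x z ∧ Commute z v := fun b hb a ha hn hw v hv => by
  obtain ⟨z, a1, a2⟩ := (u a ha).cover (E := {x | x ∈ Dd D a ∧ Commute b x}) ⟨fun x hx => hx.1,
    fun x hx y hy => ⟨(u a ha).vw.tt.conj x hx.1 y hy.1, TT.commute_conj hx.2 hy.2⟩, hw, fun x hx y hy => by
      rw [Dd_comm] at hy ⊢
      obtain ⟨y', h1, h2⟩ := (u x hx.1.1).mu_unique (mem_Dd_comm ha hx.1)
        ⟨hb, fun e => hn (e ▸ hx.1.2.2.symm), hx.2.symm⟩ (fun e => hn e.symm) hy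
      exact ⟨y', ⟨h1.1, ⟨h1.1.1.1.1, h1.1.1.2⟩, h1.2⟩, fun z hz => h2 z ⟨hz.1, hz.2.2⟩⟩⟩ hv
  exact ⟨z, a1.1, a1.2, a2⟩

theorem dia23 [Finite G] (u : ∀ a ∈ D, T22 (Dd D a)) : ∀ x ∈ D, ∀ y ∈ D, ¬ Commute x y → (∃ w ∈ Dd D y, Commute x w) →
    ∀ v ∈ Dd D y, ∃ z ∈ Dd D y, Commute x z ∧ Commute z v := fun b hb a ha hn hw v hv => by
  obtain ⟨z, a1, a2⟩ := (u a ha).cover (F := {x | x ∈ Dd D a ∧ Commute b x}) ⟨fun x hx => hx.1,
    fun x hx y hy => ⟨(u a ha).1.tt.conj x hx.1 y hy.1, TT.commute_conj hx.2 hy.2⟩, hw, fun x hx => by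
      rw [mu_inter, Dd_comm]
      exact (u x hx.1.1).hyp (mem_Dd_comm ha hx.1) ⟨hb, fun e => hn (e ▸ hx.1.2.2.symm), hx.2.symm⟩ fun e => hn e.symm⟩ hv
  exact ⟨z, a1.1, a1.2, a2⟩

theorem all22 [Finite G] (u : ∀ a ∈ D, U6 (Dd D a)) (ctr : ∀ a ∈ D, ∀ z, (∀ y ∈ Dd D a, Commute z y) → z = 1 ∨ z = a)
    (cj : ∀ g, ∀ a ∈ D, g * a * g⁻¹ ∈ D)
    (idx : ∀ a ∈ D, ∀ g f, Commute g a → Commute f a → g ∉ closure (Dd D a) → f ∉ closure (Dd D a) → g * f ∈ closure (Dd D a))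
    {a : G} (ha : a ∈ D) : T22 D ∧ Nonempty (closure D ≃* Spor.Fi22) := by
  have h : LocP D := ⟨fun a ha => (u a ha).r3, ctr, dia22 u⟩
  have ty : ∀ a ∈ D, IsOfTypeM22 _ ((↑) ⁻¹' Cm D a : Set (closure (Cm D a))) := fun a ha =>
    ((corr_sub (h.tt ha)).t22 ⟨h.r3 ha, fun y hy => h.dd ha hy ▸ u y hy.1⟩).type (h.center ha)
  have H : LocI D := ⟨h, cj, idx, fun a ha => by rw [(u a ha).ncard]; decide, fun a ha v v2 hv => by
    have k : ∀ b ∈ Cm D a, v * b * v⁻¹ ∈ Cm D a := fun b => h.conj_Cm cj ha hv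
    have vi := inv_eq_of_mul_eq_one_right v2
    have n : v ∈ normalizer (closure (Cm D a) : Set G) := by
      have : ∀ b ∈ closure (Cm D a), v * b * v⁻¹ ∈ closure (Cm D a) := fun b hb =>
        (closure_le ((closure (Cm D a)).comap (MulAut.conj v).toMonoidHom)).2 (fun b hb => subset_closure (k b hb)) hb
      exact mem_normalizer_iff.2 fun b => ⟨this b, fun hb => by simpa [vi, mul_assoc, v2, ← mul_assoc v v] using this _ hb⟩
    by_cases e : (closure (Cm D a)).normalizerMonoidHom ⟨v, n⟩ = 1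
    · exact ⟨a, Cm.self ha, conj_eq_self_iff.1 (congrArg Subtype.val (DFunLike.congr_fun e (⟨a, subset_closure (Cm.self ha)⟩ : closure (Cm D a))) :)⟩
    obtain ⟨d, d1, d2⟩ := fix22 (h.prim ha).grp (h.prim ha).prim (ty a ha) _ (orderOf_eq_prime (by
      rw [_root_.sq, ← map_mul, show (⟨v, n⟩ * ⟨v, n⟩ : normalizer (closure (Cm D a) : Set G)) = 1 from Subtype.ext v2, map_one]) e)
    exact ⟨d, d1, conj_eq_self_iff.1 (congrArg Subtype.val d2)⟩⟩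
  have e := H.all (fun a ha => by
    obtain ⟨S, e⟩ := s22 (h.prim ha).grp (h.prim ha).prim (ty a ha)
    exact mbs_of (h.tt ha) (e ▸ s22_jb S (e ▸ (h.prim ha).tt)) (e ▸ s22_fac S)) ha BF.gl
  obtain ⟨f, -⟩ := m22_iso (h.prim ha).grp (h.prim ha).prim (ty a ha)
  exact ⟨⟨e ▸ h.r3 ha, u⟩, e ▸ ⟨f⟩⟩

theorem corr_sub' (h : TT D) {K : Subgroup G} (hK : D ⊆ K) : Corr D ((↑) ⁻¹' D : Set K) fun x y => x = y ∧ x ∈ D :=
  ⟨h, h.sub _, fun _ _ a => ⟨a.2, (Set.mem_of_eq_of_mem a.1.symm a.2 :)⟩, fun x hx => ⟨⟨x, hK hx⟩, rfl, hx⟩, fun y hy => ⟨y, rfl, hy⟩,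
    fun _ _ _ _ a b => by rw [a.1, b.1, Subtype.ext_iff], fun x _ y _ a b => ⟨by rw [a.1, b.1]; rfl, h.conj x a.2 y b.2⟩⟩

theorem _root_.Cfsg.Lib.Known2.Corr.hyp {K : Type*} [Group K] {X E : Set G} {Z F : Set K} {ρ : G → K → Prop} (h : Corr X Z ρ)
    (hE : Hyp X E) (hF : F ⊆ Z) (e : ∀ x y, ρ x y → (x ∈ E ↔ y ∈ F)) : Hyp Z F := by
  have rv : ∀ {x y a a' b b'}, ρ x y → ρ a a' → ρ b b' → (RV (Dd X x) a b ↔ RV (Dd Z y) a' b') := fun r1 r2 r3 =>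
    ⟨fun k v hv => by
      obtain ⟨w, r⟩ := h.s₂ v hv.1
      rw [← h.comm r2 r, ← h.comm r3 r]; exact k w ((h.mem_Dd r1 r).2 hv), fun k v hv => by
      obtain ⟨w, r⟩ := h.s₁ v hv.1
      rw [h.comm r2 r, h.comm r3 r]; exact k w ((h.mem_Dd r1 r).1 hv)⟩
  refine ⟨hF, fun a ha b hb => ?_, ?_, fun x hx y hy => ?_⟩
  · obtain ⟨a', r1⟩ := h.s₂ a (hF ha)
    obtain ⟨b', r2⟩ := h.s₂ b (hF hb)
    exact (e _ _ (h.c _ _ _ _ r1 r2)).1 (hE.conj _ ((e _ _ r1).2 ha) _ ((e _ _ r2).2 hb))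
  · obtain ⟨a, ha⟩ := hE.ne
    obtain ⟨b, r⟩ := h.s₁ a (hE.sub ha)
    exact ⟨b, (e _ _ r).1 ha⟩
  obtain ⟨x', r1⟩ := h.s₂ x (hF hx)
  obtain ⟨y', r2⟩ := h.s₂ y hy.1
  obtain ⟨w, ⟨⟨w1, w2⟩, w3⟩, un⟩ := hE.mu x' ((e _ _ r1).2 hx) y' ((h.mem_Dd r1 r2).2 hy)
  obtain ⟨v, r3⟩ := h.s₁ w w1.1
  refine ⟨v, ⟨⟨(h.mem_Dd r1 r3).1 w1, (rv r1 r2 r3).1 w2⟩, (e _ _ r3).1 w3⟩, fun v' hv => ?_⟩
  obtain ⟨w', r4⟩ := h.s₂ v' hv.1.1.1
  exact (h.e _ _ _ _ r4 r3).1 (un w' ⟨⟨(h.mem_Dd r1 r4).2 hv.1.1, (rv r1 r2 r4).2 hv.1.2⟩, (e _ _ r4).2 hv.2⟩)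

section
variable {C Q : Type*} [Group C] [Group Q] {π : C →* Q} {d : C} (V : Known2.Cov π d)
include V

theorem cov_card : Nat.card C = 2 * Nat.card Q := by
  rw [← π.ker.card_mul_index, index_ker, MonoidHom.range_eq_top.2 V.surj, card_top]
  congr 1
  rw [← SetLike.coe_sort_coe, Nat.card_coe_set_eq, show (π.ker : Set C) = {1, d} from Set.ext V.ker, Set.ncard_pair V.ne.symm]

open scoped commutatorElement in
theorem cov_perf {P : Subgroup C} (hP : P ≤ ⁅P, P⁆) {g : C} (h : ∀ y ∈ P, Commute (π g) (π y)) : ∀ y ∈ P, Commute g y := fun y hy => by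
  refine (mem_centralizer_singleton_iff.1 ((commutator_le (H₃ := centralizer {g})).2 (fun a ha b hb => ?_) (hP hy)) : Commute y g).symm
  have k : ∀ y ∈ P, g * y * g⁻¹ = y ∨ g * y * g⁻¹ = y * d := fun y hy => V.eq_iff.1 (by simpa using conj_eq_self_iff.2 (h y hy))
  have c : ∀ a b : C, ⁅a * d, b⁆ = ⁅a, b⁆ := fun a b => by
    rw [commutatorElement_def, commutatorElement_def, mul_assoc a, ← (V.comm b).eq]; group
  have c' : ∀ a b : C, ⁅a, b * d⁆ = ⁅a, b⁆ := fun a b => by rw [← commutatorElement_inv, c, commutatorElement_inv]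
  refine mem_centralizer_singleton_iff.2 (conj_eq_self_iff.1 ?_).symm
  rw [conjugate_commutatorElement]
  rcases k a ha with e | e <;> rcases k b hb with e' | e' <;> simp only [e, e', c, c']

theorem cov_qs [IsSimpleGroup Q] (hZ : center Q = ⊥) (hd : d ∈ _root_.commutator C) :
    IsQuasisimple C ∧ Nonempty (C ⧸ center C ≃* Q) := by
  have e : Subgroup.center C = π.ker := le_antisymm (fun x hx => (V.ker x).2 (V.center hZ hx)) fun x hx => by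
    rcases (V.ker x).1 hx with rfl | rfl
    exacts [one_mem _, mem_center_iff.2 fun g => V.comm g]
  have f := (QuotientGroup.quotientMulEquivOfEq e).trans (QuotientGroup.quotientKerEquivOfSurjective π V.surj)
  refine ⟨⟨⟨eq_top_iff.2 fun x _ => ?_⟩, f.isSimpleGroup⟩, ⟨f⟩⟩
  have : (_root_.commutator C).map π = ⊤ := by
    rw [_root_.commutator, map_commutator, ← MonoidHom.range_eq_map, MonoidHom.range_eq_top.2 V.surj]
    refine (IsSimpleGroup.eq_bot_or_eq_top_of_normal _ inferInstance).resolve_left fun a => ?_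
    rw [commutator_eq_bot_iff_le_centralizer, coe_top, centralizer_univ, hZ] at a
    exact bot_ne_top (top_unique a)
  obtain ⟨y, a, b⟩ : π x ∈ (_root_.commutator C).map π := this ▸ mem_top _
  rcases V.eq_iff.1 b.symm with rfl | rfl
  exacts [a, mul_mem a hd]

end

end Cfsg.Lib.Fi
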