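import Cfsg.Agent.Lib.Fi.Fr12
import Cfsg.Agent.Lib.Fi.Gl3
import Cfsg.Agent.Lib.Fi.Aut
import Cfsg.Agent.Lib.Known2.FiC

/-! Groups of large Fischer type: the centraliser of a duad. -/

set_option linter.unusedSectionVars false

namespace Cfsg.Lib.Fi

open Cfsg.Lib.Comp Subgroup Cfsg.Lib.Core Cfsg.Lib.Known2 Cfsg.Lib.Layer

universe u

variable {G : Type u} [Group G]

def KT (R : G → G → Prop) (t : G) : Subgroup G := closure {x | R t x}
def SC (R : G → G → Prop) (t e : G) : Set G := {x | ∃ k ∈ KT R t, k * e * k⁻¹ = x}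

theorem ZE_symm {z t e : G} (c : Commute t e) : ZE z e t = ZE z t e := by
  simp only [ZE, mem_cent2, c.eq]; ext; simp only [Set.mem_ofPred_eq]; tauto
theorem ZE_flip {z t e : G} (c : t * t = 1) : ZE z t (t * e) = ZE z t e := by
  have : ∀ y, Commute y t ∧ Commute y (t * e) ↔ Commute y t ∧ Commute y e := fun y => and_congr_right fun a =>
    ⟨fun b => by simpa [← mul_assoc, c] using a.mul_right b, a.mul_right⟩
  simp only [ZE, mem_cent2, this, ← mul_assoc t, c, one_mul]; ext; simp only [Set.mem_ofPred_eq]; tauto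
theorem Lk_symm {z t e : G} (c : Commute t e) : Lk z e t = Lk z t e := by rw [Lk, ZE_symm c, ← c.eq, Lk]

theorem cl_pre {S : Set G} {K : Subgroup G} (h : S ⊆ K) : closure ((↑) ⁻¹' S : Set K) = (closure S).subgroupOf K :=
  map_injective (subtype_injective K) (by
    rw [MonoidHom.map_closure, subgroupOf_map_subtype, inf_eq_left.2 ((closure_le _).2 h), coe_subtype,
      Set.image_preimage_eq_of_subset fun x hx => ⟨⟨x, h hx⟩, rfl⟩])

namespace YS
variable [Finite G] {z : G} {R : G → G → Prop} (h : YS z R) {t e : G}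
include h

theorem KT_le : KT R t ≤ centralizer {t} := (closure_le _).2 fun _ a => mem_centralizer_singleton_iff.2 (h.sq a).2.2.1.symm
theorem cK {k : G} (hk : k ∈ KT R t) : Commute k t := mem_centralizer_singleton_iff.1 (h.KT_le hk)

variable (he : R t e)
include he

theorem cm : Commute t e := (h.sq he).2.2.1
theorem tsq : t * t = 1 := (h.sq he).1
theorem esq : e * e = 1 := (h.sq (h.symm he)).1
theorem nz : ¬ IsConj z e := (h.sq (h.symm he)).2.2.2
theorem e1 : e ≠ 1 := (h.sq (h.symm he)).2.1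
theorem ne : e ≠ t := fun a => h.e1 (h.flip he) (by rw [a, h.tsq he])
theorem cjt {g : G} (c : Commute g t) : R t (g * e * g⁻¹) := by simpa only [conj_eq_self_iff.2 c] using h.conj he g
theorem t_mem : t ∈ KT R t := by
  simpa [KT] using mul_mem (subset_closure (k := {x | R t x}) (h.flip he)) (inv_mem (subset_closure (k := {x | R t x}) he))
theorem lkR {x : G} (hx : x ∈ Lk z t e) : R t x := by
  obtain ⟨y, -, g, a, f, b, rfl⟩ := h.mv he hx
  exact h.cjt he ((mem_cent2.1 b).1.mul_left (mem_cent2.1 a).1)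
theorem YE_le : YE t e ≤ KT R t := h.top he ▸ closure_mono fun _ => h.lkR he
theorem lkY {x : G} (hx : x ∈ Lk z t e) : x ∈ YE t e := h.top he ▸ subset_closure hx
theorem tY : t ∈ YE t e := mem_cent2.2 ⟨Commute.refl t, h.cm he⟩
theorem eY : e ∈ YE t e := mem_cent2.2 ⟨(h.cm he).symm, Commute.refl e⟩
theorem lk_ne {x : G} (hx : x ∈ Lk z t e) : x ≠ e ∧ x ≠ t * e ∧ t * x ∉ Lk z t e := by
  obtain ⟨w, a, rfl⟩ := hx
  refine ⟨fun b => (h.sq he).2.2.2 ?_, by simpa using (h.u6 he).vw.tt.ne_one a, fun ⟨v, b, c⟩ => a.2.2.1 ?_⟩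
  · exact mul_left_cancel (a := t * e) (b.trans (by rw [(h.cm he).eq, mul_assoc, h.tsq he, mul_one])) ▸ a.2.1
  · exact mul_left_cancel (a := t * e) (c.trans (show t * (t * e * w) = t * e * (w * t) by
      rw [(((Commute.refl t).mul_right (h.cm he)).mul_right (mem_cent2.1 a.1).1.symm).eq, mul_assoc])) ▸ b.2.1

theorem corrL {s : G} (s1 : s * s = 1) (s2 : ¬ IsConj z s) (s3 : ∀ y ∈ YE t e, Commute s y) :
    Corr (ZE z t e) ((fun y => s * y) '' ZE z t e) fun x y => x ∈ ZE z t e ∧ s * x = y :=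
  corr_map (h.u6 he).vw.tt _ (mul_right_injective s).injOn (fun a ha b hb => by
    rw [mul_assoc (s * a), (s3 b hb.1).symm.mul_mul_mul_comm, s1]; group) fun a ha =>
    ⟨by rw [(s3 a ha.1).symm.mul_mul_mul_comm, s1, (h.u6 he).vw.tt.sq ha, mul_one], fun b =>
      s2 (by rw [eq_inv_of_mul_eq_one_left b, (h.u6 he).vw.tt.inv ha]; exact ha.2.1)⟩
theorem u6L : U6 (Lk z t e) :=
  (h.corrL he (h.esq (h.flip he)) (h.nz (h.flip he)) fun _ a => ((mem_cent2.1 a).1.mul_right (mem_cent2.1 a).2).symm).u6 (h.u6 he)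

section
variable {Q : Type u} [Group Q] [Finite Q] {π : centralizer {t} →* Q} (V : Known2.Cov π ⟨t, mem_centralizer_singleton_iff.2 rfl⟩)
include V

omit he in
theorem dd_bar {x : centralizer {t}} (hx : R t x) : Dd (π '' {y | R t y}) (π x) = π '' ((↑) ⁻¹' Lk z t x) := by
  refine Set.ext fun _ => ⟨fun ⟨⟨y, a, b⟩, c, d⟩ => ?_, fun ⟨y, a, b⟩ => b ▸ ⟨⟨y, h.lkR hx a, rfl⟩, fun c => ?_,
    (commute_coe.1 (mem_cent2.1 (h.lkY hx a)).2.symm).map π⟩⟩
  · subst b
    rcases h.lk hx a ((V.eq_iff.1 (show π (y * x * y⁻¹) = π x by simpa using conj_eq_self_iff.2 d.symm)).imp (congrArg Subtype.val)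
      fun k => (congrArg Subtype.val k).trans (h.cm hx).eq.symm) with k | k | k | k
    · exact absurd (congrArg π (Subtype.ext k)) c
    · exact absurd (V.eq_iff.2 (.inr (Subtype.ext (k.trans (h.cm hx).eq)))) c
    · exact ⟨y, k, rfl⟩
    · exact ⟨_ * y, k, by rw [map_mul, V.map_d, one_mul]⟩
  · exact (V.eq_iff.1 c).elim (fun k => (h.lk_ne hx a).1 (congrArg Subtype.val k))
      fun k => (h.lk_ne hx a).2.1 ((congrArg Subtype.val k).trans (h.cm hx).eq.symm)

omit he in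
theorem cl_bar {x : centralizer {t}} (hx : R t x) : closure (Dd (π '' {y | R t y}) (π x)) = ((YE t x).subgroupOf _).map π := by
  rw [h.dd_bar V hx, ← MonoidHom.map_closure, ← h.top hx, cl_pre fun y hy => h.KT_le (subset_closure (h.lkR hx hy))]

theorem t22_bar : T22 (π '' {y | R t y}) ∧ Nonempty (closure (π '' {y | R t y}) ≃* Spor.Fi22) := by
  have k : ∀ {g x : centralizer {t}}, Commute (π g) (π x) → (g : G) * x * (g : G)⁻¹ = x ∨ (g : G) * x * (g : G)⁻¹ = x * t := fun {g x} c =>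
    (V.eq_iff.1 (show π (g * x * g⁻¹) = π x by simpa using conj_eq_self_iff.2 c)).imp (congrArg Subtype.val) (congrArg Subtype.val)
  refine all22 ?_ ?_ ?_ ?_ ⟨⟨e, mem_centralizer_singleton_iff.2 (h.cm he).symm⟩, he, rfl⟩
  · rintro _ ⟨x, hx, rfl⟩
    have c := corr_sub' (h.u6L hx).vw.tt (K := centralizer {t}) fun y hy => h.KT_le (subset_closure (h.lkR hx hy))
    rw [h.dd_bar V hx]
    refine (corr_map c.t₂ π (fun a ha b hb k => (V.eq_iff.1 k).resolve_right fun l => (h.lk_ne hx hb).2.2 ?_) (by simp) fun a ha =>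
      ⟨by rw [← map_mul, c.t₂.sq ha, map_one], fun k => ((V.ker a).1 k).elim (c.t₂.ne_one ha) fun l =>
        h.ne (h.lkR hx ha) (congrArg Subtype.val l)⟩).u6 (c.u6 (h.u6L hx))
    rw [(h.cm (h.lkR hx hb)).eq]; exact Set.mem_of_eq_of_mem (congrArg Subtype.val l).symm ha
  · rintro _ ⟨x, hx, rfl⟩ g hg
    obtain ⟨g, rfl⟩ := V.surj g
    have l : YE t x ≤ centralizer {t} := (h.YE_le hx).trans h.KT_le
    have := cov_perf V (P := (YE t x).subgroupOf _) (g := g) (by
      have := (isPerfect_iff (H := YE t x)).1 (h.qs hx).1.1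
      rw [← map_le_map_iff_of_injective (subtype_injective _), map_commutator, subgroupOf_map_subtype, inf_eq_left.2 l, this])
      fun y hy => commute_of_mem_closure hg (h.cl_bar V hx ▸ mem_map_of_mem π hy)
    have c : ∀ y ∈ YE t x, Commute (g : G) y := fun y hy => commute_coe.2 (this ⟨y, l hy⟩ hy)
    rcases (mem_cl2 (h.tsq hx) (h.esq hx) (h.cm hx)).1 (h.ctr hx g (mem_cent2.2 ⟨c _ (h.tY hx), c _ (h.eY hx)⟩) fun a ha => by
      rw [conj_eq_self_iff.2 (c a ha.1), mul_inv_cancel]; exact one_mem _) with a | a | a | a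
    · exact .inl ((V.ker g).2 (.inl (Subtype.ext a)))
    · exact .inl ((V.ker g).2 (.inr (Subtype.ext a)))
    · exact .inr (congrArg π (Subtype.ext a))
    · exact .inr (V.eq_iff.2 (.inr (Subtype.ext (a.trans (h.cm hx).eq))))
  · rintro g _ ⟨x, hx, rfl⟩
    obtain ⟨g, rfl⟩ := V.surj g
    exact ⟨g * x * g⁻¹, h.cjt hx (mem_centralizer_singleton_iff.1 g.2), by simp⟩
  · rintro _ ⟨x, hx, rfl⟩ g f c1 c2
    obtain ⟨g, rfl⟩ := V.surj g
    obtain ⟨f, rfl⟩ := V.surj f
    have m : ∀ g : centralizer {t}, (g : G) * x * (g : G)⁻¹ = x → π g ∈ ((YE t x).subgroupOf _).map π := fun g a =>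
      mem_map_of_mem π (mem_cent2.2 ⟨mem_centralizer_singleton_iff.1 g.2, conj_eq_self_iff.1 a⟩)
    rw [h.cl_bar V hx, ← map_mul]
    refine fun n1 n2 => m _ ?_
    rw [coe_mul, ← conj_conj', (k c2).resolve_left fun a => n2 (m f a), ← conj_mul, (k c1).resolve_left fun a => n1 (m g a),
      conj_eq_self_iff.2 (mem_centralizer_singleton_iff.1 g.2), mul_assoc, h.tsq he, mul_one]

theorem range_bar : (π.comp (inclusion h.KT_le)).range = closure (π '' {y | R t y}) := by
  rw [MonoidHom.range_comp, inclusion_range, ← MonoidHom.map_closure, KT, ← cl_pre (K := centralizer {t}) fun _ a => h.KT_le (subset_closure a)]; rfl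

theorem psi_bar : ∃ ψ : KT R t →* Spor.Fi22, Known2.Cov ψ ⟨t, h.t_mem he⟩ := by
  obtain ⟨f⟩ := (h.t22_bar he V).2
  exact ⟨_, Known2.Cov.comp (π := (π.comp (inclusion h.KT_le)).rangeRestrict) ⟨MonoidHom.rangeRestrict_surjective _, fun x =>
    Subtype.ext_iff.trans ((V.ker _).trans (by rw [Subtype.ext_iff, Subtype.ext_iff (a1 := inclusion _ x), Subtype.ext_iff (a1 := x), Subtype.ext_iff (a1 := x)]; rfl)), fun a => (h.sq he).2.1 (congrArg Subtype.val a)⟩
    ((MulEquiv.subgroupCongr (h.range_bar he V)).trans f)⟩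

theorem orb_bar {x : centralizer {t}} (hx : R t x) :
    (Set.range fun u => π (inclusion h.KT_le u) * π x * (π (inclusion h.KT_le u))⁻¹) = π '' {y | R t y} := by
  have T := (h.t22_bar he V).1.1
  refine Set.ext fun y => ⟨fun ⟨u, a⟩ => a ▸ T.tt.conj_mem (h.range_bar he V ▸ ⟨u, rfl⟩) ⟨x, hx, rfl⟩, fun hy => ?_⟩
  obtain ⟨g, a, b⟩ := T.tr _ ⟨x, hx, rfl⟩ y hy
  obtain ⟨u, rfl⟩ := (h.range_bar he V).ge a
  exact ⟨u, b⟩

theorem nf_bar {k : G} (hk : k ∈ KT R t) : k * e * k⁻¹ ≠ t * e := fun a => by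
  obtain ⟨ψ, W⟩ := h.psi_bar he V
  let x : centralizer {t} := ⟨e, mem_centralizer_singleton_iff.2 (h.cm he).symm⟩
  have c := card_conj_orbit (π.comp (inclusion h.KT_le)) (π x)
  rw [MonoidHom.coe_comp, Function.comp_def, h.orb_bar he V he, (h.t22_bar he V).1.ncard, cov_card W, Comp.Fi22.main.2] at c
  have l : (YE t e).subgroupOf (KT R t) ≤ (centralizer {π x}).comap (π.comp (inclusion h.KT_le)) := fun y hy =>
    mem_centralizer_singleton_iff.2 (((commute_coe (a := inclusion h.KT_le y) (b := x)).1 (mem_cent2.1 hy).2).map π)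
  have := (eq_of_le_of_card_ge l (by rw [card_subgroupOf_of_le (h.YE_le he), (h.qs he).2]; omega)).ge (x := ⟨k, hk⟩)
    (mem_centralizer_singleton_iff.2 (conj_eq_self_iff.1 (by
      simpa using V.eq_iff.2 (.inr (Subtype.ext (a.trans (h.cm he).eq) : inclusion h.KT_le ⟨k, hk⟩ * x * (inclusion h.KT_le ⟨k, hk⟩)⁻¹ = x * _)))))
  exact (h.sq he).2.1 (right_eq_mul.1 ((conj_eq_self_iff.2 (mem_cent2.1 this).2).symm.trans a))

end

theorem exq : ∃ (Q : Type u) (_ : Group Q) (_ : Finite Q) (π : centralizer {t} →* Q), Known2.Cov π ⟨t, mem_centralizer_singleton_iff.2 rfl⟩ :=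
  have : ((zpowers t).subgroupOf (centralizer {t})).Normal := normal_of_le_norm (by
    rw [← Core.centralizer_zpowers]; exact centralizer_le_normalizer _)
  ⟨_, _, inferInstance, _, cov_mk (orderOf_eq_prime ((_root_.sq t).trans (h.tsq he)) (h.sq he).2.1)⟩

theorem psi : ∃ ψ : KT R t →* Spor.Fi22, Known2.Cov ψ ⟨t, h.t_mem he⟩ := let ⟨_, _, _, _, V⟩ := h.exq he; h.psi_bar he V
theorem nf {k : G} (hk : k ∈ KT R t) : k * e * k⁻¹ ≠ t * e := let ⟨_, _, _, _, V⟩ := h.exq he; h.nf_bar he V hk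
theorem scR {x : G} (hx : x ∈ SC R t e) : R t x := let ⟨_, a, b⟩ := hx; b ▸ h.cjt he (h.cK a)
omit h he in
theorem sc_self : e ∈ SC R t e := ⟨1, one_mem _, by simp⟩
omit h he in
theorem sc_conj {x k : G} (hx : x ∈ SC R t e) (hk : k ∈ KT R t) : k * x * k⁻¹ ∈ SC R t e :=
  let ⟨g, a, b⟩ := hx; ⟨k * g, mul_mem hk a, by rw [← conj_conj', b]⟩
omit h he in
theorem sc_eq {x : G} (hx : x ∈ SC R t e) : SC R t x = SC R t e :=
  Set.ext fun _ => ⟨fun ⟨_, a, b⟩ => b ▸ sc_conj hx a, fun ⟨g, a, b⟩ => let ⟨k, c, d⟩ := hx; ⟨g * k⁻¹, mul_mem a (inv_mem c), by rw [← b, ← d]; group⟩⟩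
theorem sc_nt {x : G} (hx : x ∈ SC R t e) : t * x ∉ SC R t e := fun a =>
  let ⟨_, b, c⟩ := (sc_eq hx).ge a; h.nf (h.scR he hx) b c
theorem sc_or {x : G} (hx : R t x) : x ∈ SC R t e ∨ t * x ∈ SC R t e := by
  obtain ⟨Q, _, _, π, V⟩ := h.exq he
  obtain ⟨u, a⟩ := (h.orb_bar he V (x := ⟨e, mem_centralizer_singleton_iff.2 (h.cm he).symm⟩) he).ge
    ⟨⟨x, mem_centralizer_singleton_iff.2 (h.cm hx).symm⟩, hx, rfl⟩
  simp only [← map_inv, ← map_mul] at a
  exact (V.eq_iff.1 a).imp (fun b => ⟨u, u.2, congrArg Subtype.val b⟩) fun b => ⟨u, u.2, (congrArg Subtype.val b).trans (h.cm hx).eq.symm⟩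

theorem lk_sc {x : G} (hx : x ∈ Lk z t e) : x ∈ SC R t e :=
  let ⟨_, a, _, b, _, c, d⟩ := h.mv he hx; ⟨_, mul_mem (h.YE_le he c) (h.YE_le a b), d⟩
theorem dd_sc {x : G} (hx : x ∈ SC R t e) : Dd (SC R t e) x = Lk z t x := by
  have a := h.scR he hx
  rw [← sc_eq hx]
  refine Set.ext fun y => ⟨fun ⟨b, c, d⟩ => ?_, fun b => ⟨h.lk_sc a b, (h.lk_ne a b).1, (mem_cent2.1 (h.lkY a b)).2.symm⟩⟩
  rcases h.lk a (h.scR a b) (.inl (conj_eq_self_iff.2 d.symm)) with k | k | k | k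
  exacts [absurd k c, absurd (k ▸ b) (h.sc_nt a sc_self), k, absurd (h.lk_sc a k) (h.sc_nt a b)]

theorem t22 : T22 (SC R t e) := by
  obtain ⟨Q, _, _, π, V⟩ := h.exq he
  have T := (h.t22_bar he V).1
  have l : SC R t e ⊆ centralizer {t} := fun x hx => h.KT_le (subset_closure (h.scR he hx))
  have inj : ∀ a b : centralizer {t}, (a : G) ∈ SC R t e → (b : G) ∈ SC R t e → π a = π b → a = b := fun a b ha hb k =>
    (V.eq_iff.1 k).resolve_right fun l => h.sc_nt he hb (by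
      rw [(h.cm (h.scR he hb)).eq]; exact Set.mem_of_eq_of_mem (congrArg Subtype.val l).symm ha)
  have cj : ∀ a ∈ SC R t e, ∀ b ∈ SC R t e, a * b * a ∈ SC R t e := fun a ha b hb => by
    simpa [inv_eq_of_mul_eq_one_right (h.esq (h.scR he ha))] using sc_conj hb (subset_closure (h.scR he ha))
  have tt : TT (SC R t e) := ⟨⟨fun a ha => orderOf_eq_prime ((_root_.sq a).trans (h.esq (h.scR he ha))) (h.e1 (h.scR he ha)), fun a ha b hb => by
    lift a to centralizer {t} using l ha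
    lift b to centralizer {t} using l hb
    have a2 := h.esq (h.scR he ha)
    have b2 := h.esq (h.scR he hb)
    by_cases c : Commute (π a) (π b)
    · have := congrArg Subtype.val (inj (a * b * a) b (cj _ ha _ hb) hb (by simpa using (T.1.tt.conj_eq_iff ⟨a, h.scR he ha, rfl⟩).2 c))
      exact .inl (by rw [_root_.sq, ← mul_assoc]; exact (congrArg (· * (b : G)) this).trans b2)
    · have := congrArg Subtype.val (inj (a * b * a) (b * a * b) (cj _ ha _ hb) (cj _ hb _ ha) (by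
        simpa using T.1.tt.braid ⟨a, h.scR he ha, rfl⟩ ⟨b, h.scR he hb, rfl⟩ c))
      simp only [coe_mul] at this
      exact .inr (by
        rw [show ((a : G) * b) ^ 3 = a * b * a * (b * a * b) by simp only [pow_succ]; group, ← this, mul_assoc, ← mul_assoc (a : G) (a * b : G), ← mul_assoc (a : G) a, a2]
        simp [mul_assoc, ← mul_assoc (b : G) b, a2, b2])⟩, cj⟩
  have c := corr_sub' tt l
  have c' := corr_map c.t₂ π (fun a ha b hb => inj a b ha hb) (by simp) fun a ha =>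
    ⟨T.1.tt.sq ⟨a, h.scR he ha, rfl⟩, T.1.tt.ne_one ⟨a, h.scR he ha, rfl⟩⟩
  refine c.symm.t22 (c'.symm.t22 (Eq.subst (Set.Subset.antisymm ?_ (Set.image_mono fun a ha => h.scR he ha)) T))
  rintro _ ⟨x, hx, rfl⟩
  exact (h.sc_or he hx).elim (fun a => ⟨x, a, rfl⟩) fun a => ⟨⟨t, mem_centralizer_singleton_iff.2 rfl⟩ * x, a, by rw [map_mul, V.map_d, one_mul]⟩

theorem mem_KT {g : G} (c : Commute g t) (a : g * e * g⁻¹ ∈ SC R t e) : g ∈ KT R t := by
  obtain ⟨k, b, d⟩ := a
  exact (mul_mem_cancel_left (inv_mem b)).1 (h.YE_le he (mem_cent2.2 ⟨(h.cK b).inv_left.mul_left c,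
    conj_eq_self_iff.1 (by rw [← conj_conj', ← d]; group)⟩))

theorem index : (KT R t).relIndex (centralizer {t}) = 2 := by
  obtain ⟨s, s1, s2⟩ := h.tr he (h.flip he)
  have s1 := conj_eq_self_iff.1 s1
  refine index_eq_two_iff.2 ⟨⟨s, mem_centralizer_singleton_iff.2 s1⟩, fun g => ?_⟩
  have c : Commute (g : G) t := mem_centralizer_singleton_iff.1 g.2
  have e : (g : G) * s * e * (g * s)⁻¹ = t * (g * e * (g : G)⁻¹) := by rw [← conj_conj', s2, ← conj_mul, conj_eq_self_iff.2 c]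
  rcases h.sc_or he (h.cjt he c) with a | a
  · exact .inr ⟨h.mem_KT he c a, fun b => h.sc_nt he a (e ▸ sc_conj sc_self b)⟩
  · exact .inl ⟨h.mem_KT he (c.mul_left s1) (e ▸ a), fun b => h.sc_nt he (sc_conj sc_self b) a⟩

theorem card_C : Nat.card (centralizer {t} : Subgroup G) = 258247006617600 := by
  obtain ⟨ψ, W⟩ := h.psi he
  rw [← ((KT R t).subgroupOf _).card_mul_index, card_subgroupOf_of_le h.KT_le, cov_card W, Comp.Fi22.main.2, ← relIndex, h.index he]

theorem ctrK {g : G} (c : ∀ y ∈ SC R t e, Commute g y) : g = 1 ∨ g = t := by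
  have k : ∀ y ∈ YE t e, Commute g y := fun y hy => commute_of_mem_closure (fun y a => c y (h.lk_sc he a)) (h.top he ▸ hy)
  obtain ⟨y, y1, y2⟩ := (h.t22 he).1.nc e sc_self
  rcases (mem_cl2 (h.tsq he) (h.esq he) (h.cm he)).1 (h.ctr he g (mem_cent2.2 ⟨k _ (h.tY he), k _ (h.eY he)⟩) fun a ha => by
    rw [conj_eq_self_iff.2 (k a ha.1), mul_inv_cancel]; exact one_mem _) with a | a | rfl | rfl
  exacts [.inl a, .inr a, absurd (c y y1) y2, absurd (by simpa using (h.cm (h.scR he y1)).inv_left.mul_left (c y y1)) y2]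

theorem fin [((zpowers t).subgroupOf (centralizer {t})).Normal] : IsQuasisimple (KT R t) ∧
    generalizedFittingSubgroup (centralizer {t} : Subgroup G) = (KT R t).subgroupOf _ ∧
    Nonempty (centralizer {t} ⧸ (zpowers t).subgroupOf (centralizer {t}) ≃* MulAut Spor.Fi22) := by
  obtain ⟨ψ, W⟩ := h.psi he
  have := Comp.Fi22.main.1
  obtain ⟨q, ⟨f⟩⟩ := cov_qs W fi22_t22.2.1 (by
    have := commutator_mono (h.YE_le he) (h.YE_le he) (((isPerfect_iff (H := YE t e)).1 (h.qs he).1.1).ge (h.tY he))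
    exact (mem_map_iff_mem (subtype_injective _)).1 ((map_subtype_commutator _).ge this))
  have n : centralizer {t} ≤ normalizer (KT R t : Set G) := (normal_subgroupOf_iff_le_normalizer h.KT_le).1 (normal_of_index_eq_two (h.index he))
  have c : centralizer {t} ⊓ centralizer (KT R t : Set G) = zpowers t := le_antisymm (fun g hg => by
    rcases h.ctrK he (g := g) fun y hy => (hg.2 y (subset_closure (h.scR he hy))).symm with rfl | rfl
    exacts [one_mem _, mem_zpowers _]) ((zpowers_le).2 ⟨mem_centralizer_singleton_iff.2 rfl, fun y hy => h.cK hy⟩)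
  refine ⟨q, map_injective (subtype_injective _) ?_, quot_aut_iso n q.1 c f ?_⟩
  · rw [fstar_qs h.KT_le n q (c ▸ zpowers_le.2 (h.t_mem he)), subgroupOf_map_subtype, inf_eq_left.2 h.KT_le]
  · rw [h.card_C he, card_aut22, Nat.card_zpowers, orderOf_eq_prime ((_root_.sq t).trans (h.tsq he)) (h.sq he).2.1]

end YS

end Cfsg.Lib.Fi
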