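import Cfsg.Agent.Lib.Fi.Fr13

/-! Groups of large Fischer type: the class of type `M(23)`. -/

set_option linter.unusedSectionVars false

namespace Cfsg.Lib.Fi

open Cfsg.Lib.Comp Subgroup Cfsg.Lib.Core Cfsg.Lib.Known2 Cfsg.Lib.Layer

universe u

variable {G : Type u} [Group G]

/-- The flags `(p, x)` and `(q, y)` have a common neighbour. -/
def Fl (R : G → G → Prop) (p x q y : G) : Prop := ∃ w ∈ SC R p x, w ∈ SC R q y ∧ q ∈ SC R w p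
def DF (R : G → G → Prop) (t e : G) : Set G := {q | ∃ y, R q y ∧ Fl R t e q y}

namespace YS
variable [Finite G] {z : G} {R : G → G → Prop} (h : YS z R) {t e p q x y v : G}

theorem fl_congr (a : v ∈ SC R q y) : Fl R p x q v ↔ Fl R p x q y := by simp only [Fl, sc_eq a]
theorem fl_refl : Fl R p x p x := ⟨x, sc_self, sc_self, sc_self⟩
theorem fl_symm (a : Fl R p x q y) : Fl R q y p x := let ⟨w, a, b, c⟩ := a; ⟨w, b, a, (sc_eq c).ge sc_self⟩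

include h

theorem sc_cj (a : x ∈ SC R t e) (g : G) : g * x * g⁻¹ ∈ SC R (g * t * g⁻¹) (g * e * g⁻¹) :=
  let ⟨k, b, c⟩ := a
  ⟨g * k * g⁻¹, (closure_le ((KT R (g * t * g⁻¹)).comap (MulAut.conj g).toMonoidHom)).2 (fun _ d => subset_closure (h.conj d g)) b,
    by rw [← c]; group⟩

theorem lk3 (he : R p q) (hx : x ∈ Lk z p q) : x ∈ SC R q p ∧ q ∈ SC R x p := by
  refine ⟨h.lk_sc (h.symm he) (Lk_symm (h.cm he) ▸ hx), h.lk_sc (h.symm (h.lkR he hx)) ?_⟩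
  rw [Lk_symm (h.cm (h.lkR he hx)), ← h.dd_sc he (h.lk_sc he hx)]
  exact mem_Dd_comm sc_self (h.dd_sc he sc_self ▸ hx)

theorem adj (he : R p x) (a : v ∈ SC R p x) : Fl R p x v p := by
  obtain ⟨w, b⟩ := (h.t22 he).1.dd v a
  have := h.lk3 (h.scR he a) (h.dd_sc he a ▸ b)
  exact ⟨w, b.1, this.1, this.2⟩

theorem step (hx : R p x) (hy : R q y) (a : Fl R p x q y) (hv : v ∈ SC R q y) : Fl R p x v q := by
  obtain ⟨w, w1, w2, hq⟩ := a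
  have pw := h.scR hx w1
  have qw := h.scR hy w2
  rw [← sc_eq w2] at hv
  rw [Fl, ← sc_eq w1]
  clear w1 w2 hx hy
  by_cases e : q = p
  · subst e; exact h.adj pw hv
  by_cases c : Commute p q
  · exact ⟨q, (h.lk3 (h.symm pw) (h.dd_sc (h.symm pw) sc_self ▸ ⟨hq, e, c⟩)).1, sc_self, (sc_eq (h.lk3 (h.symm qw)
      (h.dd_sc (h.symm pw) hq ▸ ⟨sc_self, Ne.symm e, c.symm⟩)).1).ge hv⟩
  obtain ⟨m, ⟨m1, m2, m3⟩, m4⟩ := (h.t22 qw).cover (F := {m | m ∈ SC R q w ∧ m ∈ SC R p w ∧ q ∈ SC R m p}) ⟨fun _ a => a.1,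
    fun a ha b hb => ⟨(h.t22 qw).1.tt.conj a ha.1 b hb.1, (h.t22 pw).1.tt.conj a ha.2.1 b hb.2.1, by
      have := h.sc_cj hb.2.2 a
      rwa [conj_eq_self_iff.2 (h.cm (h.scR qw ha.1)).symm, conj_eq_self_iff.2 (h.cm (h.scR pw ha.2.1)).symm, (h.t22 qw).1.tt.inv ha.1] at this⟩,
    ⟨w, sc_self, sc_self, hq⟩, fun m ⟨m1, m2, m3⟩ => by
      have pm := h.scR pw m2
      have qm := h.scR qw m1
      have := (h.t22 (h.symm pm)).hyp m3 sc_self fun a => c a.symm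
      have e1 := (h.dd_sc (h.symm pm) m3).trans ((Lk_symm (h.cm qm)).trans (h.dd_sc qw m1).symm)
      rw [e1] at this
      convert this using 1
      refine Set.ext fun x => ⟨fun a => ⟨a.2, h.cm (h.scR pw a.1.2.1)⟩, fun a => ⟨⟨a.1.1, ?_⟩, a.1⟩⟩
      have x1 : x ∈ Lk z m p := h.dd_sc (h.symm pm) sc_self ▸ ⟨(e1.ge a.1).1, fun b => c (b ▸ (e1.ge a.1).2.2.symm), a.2⟩
      exact ⟨(sc_eq m2).le (h.lk3 (h.symm pm) x1).1, (sc_eq (h.lk3 pm (Lk_symm (h.cm pm) ▸ x1)).2).le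
        ((sc_eq (h.lk3 qm (h.dd_sc qw m1 ▸ a.1)).2).ge sc_self)⟩⟩ hv
  by_cases e : v = m
  · exact e ▸ (fl_congr m3).2 (h.adj pw m2)
  have := h.lk3 (h.scR qw m1) ((h.dd_sc qw m1).le ⟨hv, e, m4⟩)
  exact ⟨m, m2, this.2, (sc_eq m3).le this.1⟩

theorem trans {r s : G} (hx : R p x) (hy : R q y) (a : Fl R p x q y) (b : Fl R q y r s) : Fl R p x r s :=
  let ⟨_, w1, w2, w3⟩ := b
  (fl_congr w2).1 (h.step hx (h.symm (h.scR hy w1)) (h.step hx hy a w1) w3)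

variable (he : R t e)
include he

theorem dd0 (hy : R q y) (a : Fl R t e q y) : Dd (DF R t e) q = SC R q y := by
  refine Set.ext fun r => ⟨fun ⟨⟨s, _, b⟩, c, d⟩ => ?_, fun b => ⟨⟨q, h.symm (h.scR hy b), h.step he hy a b⟩, h.ne (h.scR hy b), h.cm (h.scR hy b)⟩⟩
  obtain ⟨w, w1, -, w3⟩ := h.trans hy he (fl_symm a) b
  have k := h.symm (h.scR hy w1)
  exact (sc_eq w1).le (h.lk3 k (h.dd_sc k sc_self ▸ ⟨w3, c, d⟩)).1

theorem t0 : t ∈ DF R t e := ⟨e, he, fl_refl⟩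

theorem dd1 (hq : q ∈ DF R t e) (hy : y ∈ Dd (DF R t e) q) : R q y ∧ Dd (DF R t e) q = SC R q y := by
  obtain ⟨x, a, b⟩ := hq
  rw [h.dd0 he a b] at hy ⊢
  exact ⟨h.scR a hy, (sc_eq hy).symm⟩

theorem t23 : T23 (DF R t e) ∧ center (closure (DF R t e)) = ⊥ := by
  have u : ∀ a ∈ DF R t e, T22 (Dd (DF R t e) a) := fun a ⟨_, b, c⟩ => h.dd0 he b c ▸ h.t22 b
  have L : LocP (DF R t e) := ⟨fun a ha => (u a ha).1, fun a ⟨_, b, c⟩ _ d => h.ctrK b (h.dd0 he b c ▸ d), dia23 u⟩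
  have k : Cm (DF R t e) t = DF R t e := Set.Subset.antisymm (fun _ a => a.1) fun b hb => ⟨hb, by
    obtain ⟨y, -, w, w1, -, w3⟩ := hb
    exact ⟨w, ((h.dd0 he he fl_refl).ge w1).1, h.cm (h.scR he w1), h.cm (h.scR (h.symm (h.scR he w1)) w3)⟩⟩
  exact ⟨⟨k ▸ L.r3 (h.t0 he), u⟩, k ▸ L.center (h.t0 he)⟩

end YS

end Cfsg.Lib.Fi
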