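import Cfsg.Agent.Lib.Fi.Fr14
import Cfsg.Agent.Lib.Fi24r.PM
import Cfsg.Agent.Lib.Fi24r.Onto

/-! Groups of large Fischer type: identification with the commutator subgroup of the largest Fischer group. -/

set_option linter.unusedSectionVars false

namespace Cfsg.Lib.Fi

open Cfsg.Lib.Comp Subgroup Cfsg.Lib.Core Cfsg.Lib.Known2 Cfsg.Lib.Layer

universe u

variable {G : Type u} [Group G]

theorem l23_of_hyp [Finite G] {X E : Set G} (hX : T23 X) (hE : Hyp3 X E) :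
    ∃ γ z, L23 X γ z ∧ (∀ x ∈ [2,3,4,5,6,7,8,9,10], γ x ∈ E) ∧ γ 1 ∉ E := by
  obtain ⟨z, hz⟩ := hE.ne
  have z1 := hE.sub hz
  obtain ⟨j, hj, hzj⟩ := hX.1.nc z z1
  have a : ∀ g ∈ closure (Dd X z), g⁻¹ * j * g ∈ X ∧ ¬ Commute z (g⁻¹ * j * g) := fun g hg =>
    ⟨by simpa using hX.1.tt.conj_mem (inv_mem (closure_mono (Dd_subset _ _) hg)) hj, by
      rwa [← commute_conj_left_iff, conj_eq_of_commute (commute_of_mem_closure (fun y hy => hy.2.2) hg)]⟩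
  obtain ⟨γ, L, c2, g, hg, c1⟩ := (hX.2 z z1).pair (hE.loc z hz) (hX.hyp2 z1 hj hzj) fun g hg => by
    obtain ⟨w, h1, h2, h3⟩ := hX.nonlinear hE hz (a g hg).1 (a g hg).2
    exact ⟨w, ⟨h1, h2⟩, fun c => h3 (commute_conj_left_iff.1 c.2.symm)⟩
  have e : ∀ x ∈ L9, upd γ 10 (g⁻¹ * j * g) x = γ x := fun x hx => upd_ne _ _ (by revert x; decide)
  have l23 := hX.l23 (γ := upd γ 10 (g⁻¹ * j * g)) z1 (a g hg).1 (a g hg).2 (L.congr e) ⟨fun x hx => by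
      have hx' : x ∈ L9 := by revert x; decide
      rw [e x hx']
      exact ⟨L.mem x hx', (commute_conj_left_iff.1 (c1.1 x hx).2.symm).symm⟩, by
      rw [e 7 (by decide)]
      exact fun c => c1.2 ⟨(hX.2 z z1).1.tt.conj_mem hg c.1, (commute_conj_left_iff.2 c.2.symm).symm⟩⟩
  have c3 : C2 E (upd γ 10 (g⁻¹ * j * g)) :=
    ⟨fun x hx => (e x (by revert x; decide)).symm ▸ (c2.1 x hx).1,
      (e 1 (by decide)).symm ▸ fun c => c2.2 ⟨c, L.mem 1 (by decide)⟩⟩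
  refine ⟨_, z, l23, fun x hx => ?_, c3.2⟩
  have : x ∈ [2,3,4,5,6,7,8,9] ∨ x = 10 := by revert x; decide
  exact this.elim (c3.1 x) fun e => e ▸ l23.j_mem hX hE c3

theorem l23_hom {X : Set G} (hX : R3 X) (hZ : center (closure X) = ⊥) {γ : ℕ → G} {z : G} (L : L23 X γ z) :
    ∃ f : Spor.Fi23 →* G, Function.Injective f ∧ (∀ x ∈ L10, f (Fi23.γ x) = γ x) ∧ f.range = closure X := by
  have e1 : ∀ r ∈ closure X, (∀ y ∈ X, Commute r y) → r = 1 := fun r hr c => congrArg Subtype.val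
    ((eq_bot_iff_forall _).1 hZ ⟨r, hr⟩ (mem_center_iff.2 fun g => Subtype.ext (commute_of_mem_closure c g.2).symm))
  have m : ∀ x ∈ L10, γ x ∈ closure X := fun x hx => subset_closure (L.mem x hx)
  obtain ⟨f, hf⟩ := hom_of_relsC Comp.Fi23.ok Comp.Fi23.hall (by decide +kernel) (γ := γ) (fun x hx => hX.tt.sq (L.mem x hx)) fun r hr =>
    e1 _ (pow_mem (ev_mem fun x hx => m x (sub_of_allR (by decide +kernel) r hr x hx)) _) (L.rel r hr)
  have a1 : cl γ L10 ≤ f.range := cl_le.2 fun x hx => ⟨_, hf x hx⟩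
  refine ⟨f, ?_, hf, le_antisymm ?_ ((closure_le _).2 (L.gen hX a1 ?_))⟩
  · rw [← MonoidHom.ker_eq_bot_iff]
    refine (Comp.Fi23.main.1.eq_bot_or_eq_top_of_normal _ inferInstance).resolve_right fun e => hX.tt.ne_one (L.mem 1 (by decide)) ?_
    rw [← hf 1 (by decide), ← MonoidHom.mem_ker, e]; trivial
  · rw [MonoidHom.range_eq_map, map_le_iff_le_comap, ← Comp.Fi23.ok.top Comp.Fi23.hall]
    exact cl_le.2 fun x hx => mem_comap.2 (hf x hx ▸ m x hx)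
  · rw [← inv_eq_of_mul_eq_one_right (e1 _ (mul_mem (pow_mem (ev_mem fun x hx => m x (by revert x; decide)) _) (subset_closure L.base)) L.ctr)]
    exact a1 (inv_mem (pow_mem (ev_mem fun x hx => mem_cl (by revert x; decide)) _))

theorem corr_shift {W : Set G} (hW : TT W) {y : G} (hy : y ∈ W) :
    Corr (Dd W y) ((fun x => y * x) '' Dd W y) fun a b => a ∈ Dd W y ∧ y * a = b :=
  corr_map (hW.dd y) _ (mul_right_injective y).injOn (fun a ha b hb => by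
    rw [mul_assoc (y * a), hb.2.2.symm.mul_mul_mul_comm, hW.sq hy]; group) fun a ha =>
    ⟨by rw [ha.2.2.symm.mul_mul_mul_comm, hW.sq hy, hW.sq ha.1, mul_one], fun b =>
      ha.2.1 (by rw [eq_inv_of_mul_eq_one_left b, hW.inv ha.1])⟩

namespace YS
variable [Finite G] {z : G} {R : G → G → Prop} (h : YS z R)
include h

theorem shift {y m u : G} (hy : R y m) (hu : u ^ 3 = 1) (i1 : y * u * y⁻¹ = u⁻¹) (i2 : m * u * m⁻¹ = u⁻¹) :
    y * u ∈ SC R (y * m) y ∧ (fun x => y * x) '' Dd (SC R (y * m) y) y = Lk z y m := by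
  have k := h.symm (h.flip hy)
  have c : Commute u (y * m) := (conj_eq_self_iff.1 (by rw [← conj_conj', i2, ← conj_inv, i1, inv_inv])).symm
  have := mul_self_mem_of_index_two (h.index k) ⟨u * u, mem_centralizer_singleton_iff.2 (c.mul_left c)⟩
  have e : u * u * (u * u) = u := by rw [← mul_assoc, ← pow_three', hu, one_mul]
  refine ⟨⟨u, e ▸ this, ?_⟩, ?_⟩
  · have : u * y = y * u⁻¹ := by rw [← i1, ← mul_assoc, ← mul_assoc, h.tsq hy, one_mul, inv_eq_of_mul_eq_one_right (h.tsq hy)]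
    rw [this, mul_assoc, mul_left_cancel_iff, ← mul_inv_rev, inv_eq_iff_mul_eq_one, ← hu, pow_three']
  · rw [h.dd_sc k sc_self, Lk, ZE_symm (h.cm (h.flip hy)), ZE_flip (h.tsq hy), Set.image_image, Lk]
    congr 1; funext w
    rw [(h.cm k).eq, ← mul_assoc, ← mul_assoc, ← mul_assoc, h.tsq hy, one_mul]

theorem fi24 {t e : G} (he : R t e) (cz : Nat.card (centralizer {z} : Subgroup G) ≤ 160526499840) : Nonempty (G ≃* Spor.Fi24') := by
  obtain ⟨T, hZ⟩ := h.t23 he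
  have k := h.symm (h.flip he)
  obtain ⟨p, p1, p2⟩ := (h.t22 k).1.nc t sc_self
  have tt := T.1.tt
  have t2 := h.tsq he
  have hu := (h.t22 k).1.tt.cube p1 sc_self fun a => p2 a.symm
  have u1 : p * t ≠ (p * t)⁻¹ := fun a => p2 (by
    rwa [mul_inv_rev, (h.t22 k).1.tt.inv p1, inv_eq_of_mul_eq_one_right t2, eq_comm] at a)
  have i1 : t * (p * t) * t⁻¹ = (p * t)⁻¹ := by rw [mul_inv_rev, (h.t22 k).1.tt.inv p1, ← mul_assoc, mul_assoc _ t, mul_inv_cancel, mul_one, inv_eq_of_mul_eq_one_right t2]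
  have i2 : e * (p * t) * e⁻¹ = (p * t)⁻¹ := by
    rw [← i1, show e = t * (t * e) by rw [← mul_assoc, t2, one_mul], ← conj_conj', conj_eq_self_iff.2
      ((h.cm (h.scR k p1)).mul_right (h.cm k))]
  generalize p * t = u at *
  clear p1 p2 k p
  set D := DF R t e
  let E := {y | y ∈ D ∧ y * u * y⁻¹ = u⁻¹ ∧ ∃ m ∈ Dd D y, m * u * m⁻¹ = u⁻¹}
  have ic : ∀ {a b : G}, a * u * a⁻¹ = u⁻¹ → b * u * b⁻¹ = u⁻¹ → a * b * a * u * (a * b * a)⁻¹ = u⁻¹ := fun {a b} c d => by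
    rw [← conj_conj', ← conj_conj', c, ← conj_inv, d, inv_inv, c]
  have ec : ∀ a ∈ E, ∀ b ∈ E, a * b * a ∈ E := fun a ha b ⟨b1, b2, m, m1, m2⟩ =>
    ⟨tt.conj a ha.1 b b1, ic ha.2.1 b2, _, tt.conj_Dd ha.1 m1, ic ha.2.1 m2⟩
  have dd : ∀ {y m}, y ∈ D → m ∈ Dd D y → Dd (Dd D y) m = Lk z y m := fun hy hm => by
    rw [(h.dd1 he hy hm).2, h.dd_sc (h.dd1 he hy hm).1 sc_self]
  have hE : Hyp3 D E := ⟨fun _ a => a.1, ec, ⟨t, h.t0 he, i1, e, (h.dd0 he he fl_refl).ge sc_self, i2⟩, fun y hy =>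
    ⟨fun _ a => a.2, fun a ha b hb => ⟨ec a ha.1 b hb.1, (tt.dd y).conj a ha.2 b hb.2⟩,
      let ⟨m, a, b⟩ := hy.2.2; ⟨m, ⟨a.1, b, y, mem_Dd_comm hy.1 a, hy.2.1⟩, a⟩, fun m hm => by
    have r := (h.dd1 he hy.1 hm.2).1
    obtain ⟨s1, s2⟩ := h.shift r hu hy.2.1 hm.1.2.1
    have W := h.t22 (h.symm (h.flip r))
    have c := corr_shift W.1.tt (y := y) sc_self
    rw [s2, ← dd hy.1 hm.2] at c
    refine c.hyp (W.hyp sc_self s1 fun a => u1 ?_) (fun _ a => a.2) ?_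
    · rw [← hy.2.1, conj_eq_self_iff.2 (by simpa using (Commute.refl y).inv_right.mul_right a)]
    rintro x _ ⟨a, rfl⟩
    have b := (c.m _ _ ⟨a, rfl⟩).2
    refine ⟨fun d => ⟨⟨⟨b.1.1, ?_, y, mem_Dd_comm hy.1 b.1, hy.2.1⟩, b.1⟩, b⟩, fun d => ⟨a, a.2.2.mul_left (conj_eq_self_iff.1 ?_).symm⟩⟩
    · rw [← conj_conj', conj_eq_self_iff.2 (show Commute x u by simpa using (a.2.2.inv_left.mul_left d.2).symm), hy.2.1]
    · exact (MulAut.conj y).injective ((conj_conj' ..).trans (d.1.1.2.1.trans hy.2.1.symm))⟩⟩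
  obtain ⟨γ, d, L, c2, c1⟩ := l23_of_hyp T hE
  obtain ⟨f, fi, fx, fr⟩ := l23_hom T.1 hZ L
  have g1 := L.mem 1 (by decide)
  have d35 : γ 5 ∈ Dd D (γ 3) := L.dd (by decide)
  have r := (h.dd1 he (L.mem 3 (by decide)) d35).1
  have l1 : γ 1 ∈ Lk z (γ 3) (γ 5) := dd (L.mem 3 (by decide)) d35 ▸ ⟨L.dd (by decide), (L.dd (x := 5) (by decide)).2⟩
  have sq : ∀ y ∈ D, y * u * y⁻¹ = u⁻¹ ↔ (y * u) ^ 2 = 1 := fun y hy => by
    rw [tt.inv hy, eq_inv_iff_mul_eq_one, _root_.sq, ← mul_assoc]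
  obtain ⟨φ, φi, φx, -⟩ := Fi24r.PM f fi u hu (fun x hx => by
    rw [fx x (by revert x; decide)]; exact (sq _ (c2 x hx).1).1 (c2 x hx).2.1) (by
      obtain ⟨s1, s2⟩ := h.shift r hu (c2 3 (by decide)).2.1 (c2 5 (by decide)).2.1
      obtain ⟨x, a, b⟩ := s2.ge l1
      have : x * (γ 3 * u) = γ 1 * u := by rw [← mul_assoc, ← a.2.2.eq, ← b]
      rw [fx 1 (by decide)]
      exact (this ▸ (h.t22 (h.symm (h.flip r))).1.tt.set.2 x a.1 _ s1).resolve_left fun b =>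
        c1 ⟨g1, (sq _ g1).2 b, _, L.dd (y := 3) (by decide), (c2 3 (by decide)).2.1⟩) fun p w hp hw n c g hg => by
    have m : ∀ p, IsConj (Fi23.γ 1) p → f p ∈ D := fun p hp => by
      obtain ⟨g, rfl⟩ := isConj_iff.1 hp
      rw [map_mul, map_mul, map_inv, fx 1 (by decide)]
      exact tt.conj_mem (fr ▸ ⟨g, rfl⟩) g1
    obtain ⟨a, b⟩ := h.dd1 he (m p hp) ⟨m w hw, fun e => n (fi e).symm, c.map f⟩
    rw [fr]
    exact closure_mono (fun x hx => (b.ge (h.lk_sc a hx)).1) ((h.top a).ge (mem_cent2.2 ⟨(hg _ (by simp)).symm, (hg _ (by simp)).symm⟩))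
  have m : ∀ x ∈ F24p.L, F24p.gq x ∈ commutator Spor.Fi24 := fun x hx => F24p.cl_eq ▸ mem_cl hx
  refine ⟨(MulEquiv.ofBijective φ ⟨φi, Fi24r.onto φ φi ⟨_, m 1 (by decide)⟩ (⟨_, m 1 (by decide)⟩ * ⟨_, m 3 (by decide)⟩ * ⟨_, m 5 (by decide)⟩)
    rfl rfl ?_ ?_⟩).symm⟩
  · obtain ⟨y, a, -⟩ := g1
    rw [φx 1 (by decide), fx 1 (by decide), h.card_C a]
  · obtain ⟨w, a, b⟩ := l1
    obtain ⟨g, hg⟩ := isConj_iff.1 a.2.1
    rw [map_mul, map_mul, φx 1 (by decide), φx 3 (by decide), φx 5 (by decide), fx 1 (by decide), fx 3 (by decide), fx 5 (by decide), ← b,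
      mul_assoc, mul_assoc, ((mem_cent2.1 a.1).1.mul_right (mem_cent2.1 a.1).2).eq, ← mul_assoc, h.esq (h.flip r), one_mul, ← hg, ← Amalg.cj_centralizer_singleton, Amalg.card_cj]
    exact cz

end YS

theorem iso_of_large [Finite G] {z : G} {Q : Subgroup (centralizer ({z} : Set G))} [Q.Normal] (hF : IsOfLargeFischerTypeAt z Q)
    (h6 : R6.{u}) : Nonempty (G ≃* Spor.Fi24') :=
  let ⟨_, μ, h, _⟩ := exists_BS hF h6
  h.ys.fi24 (t := μ 1) (e := μ 2) ⟨1, by simp, by simp⟩ h.cz.le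

end Cfsg.Lib.Fi
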