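import Cfsg.Agent.Lib.Fi.Fr10

/-! Groups of large Fischer type: the 45 transvections of `U₄(2)` as matrices. -/

set_option maxRecDepth 100000
set_option synthInstance.maxSize 4000

namespace Cfsg.Lib.Fi

open Cfsg.Lib.Comp Subgroup A12

namespace U45

noncomputable def MM : ℕ := nat_lit 0x3fa2a54a5c5f625d1f685d4fbf86a4bf26a12da1b58da4b5535f2ff4facaad85b4ad25b180040008004020010002001000200100800439a275475cefb1a635dcfb8ab98674b926718004002001000100300c00800020010080048004002001000300200400c00020010080048004000c00801003000200100020010080043df2ba4bac6563ad25d45bcf6b8d646b2d613552ff4ffcaad2ab15d8ab45da8b54da2b518004000300200800401003000020010080041d53bfc6a8d573fe2ae4a9c5e689d4e629d10c0080200100400c00020010002001008004200100800400080040020010002001008004300200400c000800400200100020010080042bf16a8bf46aa3f52a54afc5568fd4562fd13b526f46fcdab3562f64fdcadd8bb4dd2bb136a2d54d5cbfd3fb2ab4a6c5b686d4b626d11ff3aac558ff72ae1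578ae457a8e547a2e512f51af8f54af52ff1a58ff4af58af4f52af12ef19a8ef49a51af35acf58a598f74592f71010030200100080040c0080000200100800480040001003008004030020000200100800437f2ea4eac95d15b3f6cad856e8d946e2d9127a1e587a4e5f1fa3a5c5f8fa785e4a725e119f37ace589f91f73aec598f778ee4772ee116f3dacb586fe3592f94f7ca7d8eb47d2eb10800402001008004000200100020010080041ba365cdf8ba93a725745ecf9b87649b27618004000200100800402001000020010080043e529f49fc7a61fd3abc568fd78be4d72be1030020200100080040400c000020010080040400c0200100c00800020010002001008004100300c008000800400200100020010080042aa1558aa455a2a515a8a545aa8554aa25511ea395c7f8ea715e3f9ca7859e87949e279129517f89547fa1553ffcaa85fe8a94fe2a913af25a45acf5b2f61ab8f64a658df4652df12651df8654dff3aa25a455cffb8a64fb2a611753efc9a875e1a9357cfe8ae98974e9297115a3f5caf85ae2f91ae8f94a9587f49527f10200102001000800408004000020010080048004000400c03002000200100020010080041a535fcfa8a592571f98574fef89a4ef29a125f1fa85f4faf25a1ff85a4f5f8fa45f2fa1800400200100020010080040002001008004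
noncomputable def UU : ℕ := nat_lit 0xbf06a000a005ad05b000a00528014000a005b9067000a00509007000a0050b006000a0052c018000a005bd06b000a005b506f000a00523012000a0059d07b000a0058c048000a005a0050000a005b0060000a005ab056000a005bb066000a005b606d000a0059f07a000a005af05a000a005ae059000a00581043000a00521013000a005b706e000a005a705e000a00599077000a0059607d000a00588044000a0059b076000a00522011000a005be069000a00583042000a0058404c000a00590070000a005aa055000a0059e079000a005a9057000a005ba065000a005a605d000a0059707e000a0059507f000a00582041000a0052401c000a0059a075000a005a505f000a0050a005000a005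
noncomputable def PI : ℕ := nat_lit 0x29ae3b199d44d8a9f3e089e44c5cba246d026694e75685215c6845431c234a206001a5aa07ace9468cd0c199e5aca8071828b9e485541d8a07d36d95d44913cc24814408666a2118423dc7caa225ecadb8293045529e69648d425e75a6164cd40e2c51c00c1
noncomputable def GG : ℕ := nat_lit 0x2bf16a8bf46aa8f54a52af15562fd1568fd487f4eab3f62ab4f6ca2ea1956e2d916e8d94d4a68f49f8e561fb253e517a69cbe4693be1
noncomputable def BB : ℕ := nat_lit 0x2aa1558aa455a2a515a8a545aa8554aa25512f51af8f54af52ff1a58ff4af58af4f52af120010080040008004002001000200100800425f1fa85f4faf85a4ff25a1f5f2fa15f8fa42aa1558aa455a8a545a2a515aa2551aa85542f51af8f54af58ff4a52ff1af52af1f58af420010080040002001008004000800400200125f1fa85f4faf25a1ff85a4f5f8fa45f2fa18f54af2f51af58ff4a52ff1af58af4f52af18aa4552aa155a8a545a2a515aa8554aa255185f4fa25f1faf25a1ff85a4f5f2fa15f8fa48004002001000200100800400020010080048f54af2f51af52ff1a58ff4af52af1f58af48aa4552aa155a2a515a8a545aa2551aa855485f4fa25f1faf85a4ff25a1f5f8fa45f2fa1800400200100080040020010008004002001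
noncomputable def RR : ℕ := nat_lit 0x80040008004020010002001000200100800480a4051e03903602d02a015080d40b80740e6cfd8ab1563f2ff1aa8554ffda2b51da8b54b30620920710f20a1008504f0cd08b0c708e800400200100080040020010008004002001
def WW : List (List ℕ) := [[], [0, 2, 0], [0, 2, 0, 2, 0, 0], [0, 0], [0, 0, 0, 0]]

/-- `g` has the matrix `M`. -/
def Mt (g : G12) (M : ℕ) : Prop := ∀ n < 4096, ψ g n = xl M 12 n

noncomputable def cm (A B C D : ℕ) : Bool := force A fun A => force B fun B => force C fun C => force D fun D => allN 12 fun k =>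
  force (xl B 12 (2 ^ k)) fun u => force (xl D 12 (2 ^ k)) fun v => Nat.beq (xl A 12 u) (xl C 12 v)

theorem p12 {k : ℕ} (h : k < 12) : 2 ^ k < 4096 := Nat.pow_lt_pow_right (a := 2) (n := 12) one_lt_two h
theorem cm_iff {A B C D : ℕ} : cm A B C D = true ↔ ∀ k < 12, xl A 12 (xl B 12 (2 ^ k)) = xl C 12 (xl D 12 (2 ^ k)) := by
  simp only [cm, force_eq, allN_iff, beq_tt]
theorem Mt.of {g : G12} {M : ℕ} (h : ∀ k < 12, ψ g (2 ^ k) = xl M 12 (2 ^ k)) : Mt g M :=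
  code_ind (by rw [G12.zero, xl_zero]) h fun m hm n hn a b => by rw [G12.xor _ hm hn, xl_xor, a, b]
theorem Mt.ap {a b : G12} {A B n : ℕ} (ha : Mt a A) (hb : Mt b B) (hn : n < 4096) : ψ (a * b) n = xl A 12 (xl B 12 n) := by
  rw [G12.mul, ha _ (G12.lt b hn), hb n hn]
theorem Mt.eq {a b c d : G12} {A B C D : ℕ} (ha : Mt a A) (hb : Mt b B) (hc : Mt c C) (hd : Mt d D) : a * b = c * d ↔ cm A B C D = true :=
  ⟨fun e => cm_iff.2 fun k hk => by rw [← ha.ap hb (p12 hk), e, hc.ap hd (p12 hk)],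
    fun e => G12.ext_basis fun k hk => by rw [ha.ap hb (p12 hk), hc.ap hd (p12 hk), cm_iff.1 e k hk]⟩
theorem Mt.inj {a b : G12} {A : ℕ} (ha : Mt a A) (hb : Mt b A) : a = b := G12.ext' fun n hn => (ha n hn).trans (hb n hn).symm
theorem Mt.conj {g h : G12} {Γ M M' : ℕ} (hg : Mt g Γ) (hh : Mt h M) (e : cm Γ M M' Γ = true) : Mt (g * h * g⁻¹) M' := fun n hn => by
  have k : ∀ m < 4096, xl Γ 12 (xl M 12 m) = xl M' 12 (xl Γ 12 m) :=
    code_ind (by simp only [xl_zero]) (cm_iff.1 e) fun m _ n _ a b => by simp only [xl_xor, a, b]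
  rw [G12.mul, hg.ap hh (G12.lt _ hn), k _ (G12.lt _ hn), ← hg _ (G12.lt _ hn), G12.ap_inv]

noncomputable def gen (i : ℕ) : G12 := MO.v (ent XW i)
noncomputable def mI (i : ℕ) : ℕ := look MM 144 i
noncomputable def nI (i k : ℕ) : ℕ := xl (look UU 48 i) 4 k
noncomputable def mB (j : ℕ) : ℕ := look BB 144 j
noncomputable def mG (j : ℕ) : ℕ := look GG 144 j
noncomputable def mR (j : ℕ) : ℕ := look RR 144 j

theorem mt_gen : ∀ i < 3, Mt (gen i) (mG i) := fun i hi => .of fun k hk => (VO.ap _ _).symm.trans (beq_tt.1 (allN_iff.1 (allN_iff.1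
  (by decide +kernel : (allN 3 fun i => allN 12 fun k => Nat.beq (ap parV (ent XW i) (2 ^ k)) (xl (mG i) 12 (2 ^ k))) = true) i hi) k hk))
theorem mt_bj : ∀ i < 16, Mt (bj i) (mB i) := fun i hi => .of fun k hk => (VO.ap _ _).symm.trans (beq_tt.1 (allN_iff.1 (allN_iff.1
  (by decide +kernel : (allN 16 fun i => allN 12 fun k => Nat.beq (ap parV (ent IL i) (2 ^ k)) (xl (mB i) 12 (2 ^ k))) = true) i hi) k hk))
theorem mt_b0 : Mt (bj 4) (mI 0) := (show mB 4 = mI 0 by decide +kernel) ▸ mt_bj 4 (by norm_num)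

theorem X5_cp : H0 ⊓ stab ψ 5 = MO.cp XW :=
  (Md.KE.vstab (W := HW) ⟨rfl, H0_card⟩ (orb1.up K1_H0 (H0_N0.trans N0_eq.le))
    (MO.le_of_leA xw_le) (VO.le_stab xw_f) (x_lb MO) rfl (by norm_num) : MO.KE (H0 ⊓ stab ψ 5) XW 51840).1

/-- The pairs (transvection, coset representative). -/
def OK (h : G12) (n : ℕ) : Prop := ∃ i < 45, Mt h (mI i) ∧ ∃ k < 16, n = nI i k

theorem nI_lt : ∀ i < 45, ∀ k < 16, nI i k < 4096 := by decide +kernel
theorem OK.lt {h : G12} {n : ℕ} (o : OK h n) : n < 4096 := by obtain ⟨i, a, -, k, b, rfl⟩ := o; exact nI_lt i a k b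

theorem ok_gen : ∀ γ < 3, ∀ i < 45, look PI 6 (45 * γ + i) < 45 ∧ cm (mG γ) (mI i) (mI (look PI 6 (45 * γ + i))) (mG γ) = true ∧
    ∀ k < 16, force (xl (mG γ) 12 (nI i k)) (fun n => force (look PI 6 (45 * γ + i)) fun j => !allN 16 fun l => !Nat.beq n (nI j l)) = true := by
  decide +kernel

theorem exN {n : ℕ} {f : ℕ → Bool} (h : (!allN n fun l => !f l) = true) : ∃ l < n, f l = true := by
  by_contra c
  rw [allN_iff.2 fun l hl => by simpa using fun e => c ⟨l, hl, e⟩] at h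
  simp at h

theorem OK.conj {g : G12} (hg : g ∈ H0 ⊓ stab ψ 5) : ∀ {h n}, OK h n → OK (g * h * g⁻¹) (ψ g n) := by
  rw [X5_cp, Md.cp, ← mem_toSubmonoid, closure_toSubmonoid_of_finite] at hg
  induction hg using Submonoid.closure_induction with
  | mem g hg =>
    obtain ⟨e, he, rfl⟩ := hg
    obtain ⟨γ, a, rfl⟩ := exists_ent' he
    replace a : γ < 3 := a.trans_eq (by decide +kernel)
    rintro h _ ⟨i, hi, m, k, hk, rfl⟩
    obtain ⟨b, c, d⟩ := ok_gen γ a i hi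
    obtain ⟨l, l1, l2⟩ := exN (d k hk)
    exact ⟨_, b, (mt_gen γ a).conj m c, l, l1, (mt_gen γ a _ (nI_lt i hi k hk)).trans (beq_tt.1 l2)⟩
  | one => intro h n o; simpa using o
  | mul a b _ _ ia ib => intro h n o; simpa [mul_assoc] using ia (ib o)

/-- The words. -/
noncomputable def gw (r : ℕ) : G12 := ((WW.getD r []).map gen).prod

theorem gw_ok : ∀ r < 5, gw r ∈ K1 ⊓ stab ψ 5 ∧ Mt (gw r) (mR r) := fun r hr => by
  have k : ∀ l : List ℕ, (∀ i ∈ l, i < 3) → ∀ n < 4096, ψ (l.map gen).prod n = l.foldr (fun i n => force n (xl (mG i) 12)) n := fun l hl n hn => by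
    induction l with
    | nil => rfl
    | cons i l ih =>
      rw [List.map_cons, List.prod_cons, G12.mul, mt_gen i (hl i List.mem_cons_self) _ (G12.lt _ hn), ih fun j hj => hl j (List.mem_cons_of_mem _ hj)]; rfl
  obtain ⟨a, b, c⟩ := (by decide +kernel : ∀ r < 5, (∀ i ∈ WW.getD r [], i < 3) ∧ (∀ k < 12, (WW.getD r []).foldr (fun i n => force n (xl (mG i) 12)) (2 ^ k) =
    xl (mR r) 12 (2 ^ k)) ∧ xl (mR r) 12 (xm 5) = xm 5) r hr
  have m : Mt (gw r) (mR r) := .of fun j hj => (k _ a _ (p12 hj)).trans (b j hj)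
  have h : gw r ∈ H0 ⊓ stab ψ 5 := X5_cp ▸ list_prod_mem (List.forall_mem_map.2 fun i _ => MO.ent_mem_cp XW i)
  exact ⟨⟨K1_of_fix h.1 (by norm_num) (by norm_num) h.2 ((m _ (by decide)).trans c), h.2⟩, m⟩

/-- The line of a point. -/
noncomputable def jj (a : ℕ) : ℕ := za a / 64 % 16
theorem jj_lt (a : ℕ) : jj a < 16 := Nat.mod_lt _ (by norm_num)

theorem la_ok : ∀ i < 45, (cm (mI 0) (mI i) (mI i) (mI 0) = false ∧ (∀ k < 12, xl (mI 0) 12 (xl (mI i) 12 (xl (mI 0) 12 (2 ^ k))) =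
      xl (mI i) 12 (xl (mI 0) 12 (xl (mI i) 12 (2 ^ k)))) ∧ ∀ k < 16, xl (mI 0) 12 (nI i k) ^^^ (nI i k ^^^ xl (mI i) 12 (xl (mI 0) 12 (nI i k))) ∈ [0, 5, 10, 15]) ∨
    ∃ r < 3, (∃ j < 16, cm (mR r) (mI 0) (mB j) (mR r) = true) ∧ (∃ j < 16, cm (mR r) (mI i) (mB j) (mR r) = true) ∧
      ∀ k < 16, WS.testBit (xl (mR r) 12 (nI i k)) = true := by decide +kernel

theorem OK.la {h : G12} {n : ℕ} (o : OK h n) : (¬ Commute (bj 4) h ∧ bj 4 * h * bj 4 = h * bj 4 * h ∧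
      ψ (bj 4) n ^^^ (n ^^^ ψ h (ψ (bj 4) n)) ∈ [0, 5, 10, 15]) ∨
    ∃ r ∈ K1 ⊓ stab ψ 5, r * bj 4 * r⁻¹ ∈ Bg ∧ r * h * r⁻¹ ∈ Bg ∧ WS.testBit (ψ r n) = true := by
  obtain ⟨i, hi, m, k, hk, rfl⟩ := o
  have l := nI_lt i hi k hk
  rcases la_ok i hi with ⟨a, b, c⟩ | ⟨r, hr, ⟨j, j1, j2⟩, ⟨j', j3, j4⟩, c⟩
  · refine .inl ⟨fun e => by simpa [a] using (mt_b0.eq m m mt_b0).1 e, G12.ext_basis fun k hk => ?_, ?_⟩
    · rw [G12.mul (bj 4 * h), G12.mul (h * bj 4), mt_b0.ap m (G12.lt _ (p12 hk)), m.ap mt_b0 (G12.lt _ (p12 hk)), mt_b0 _ (p12 hk), m _ (p12 hk), b k hk]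
    · rw [m _ (G12.lt _ l), mt_b0 _ l]; exact c k hk
  · obtain ⟨r1, r2⟩ := gw_ok r (by omega)
    exact .inr ⟨_, r1, ⟨j, j1, (mt_bj j j1).inj (r2.conj mt_b0 j2)⟩, ⟨j', j3, (mt_bj j' j3).inj (r2.conj m j4)⟩, r2 _ l ▸ c k hk⟩

theorem OK.lg {h : G12} {n : ℕ} (o : OK h n) : ∃ a < 24, a ∉ [21, 18, 9, 0] ∧ Commute (bj (jj a)) h := by
  obtain ⟨i, hi, m, -⟩ := o
  obtain ⟨a, a1, a2, a3⟩ := (by decide +kernel : ∀ i < 45, ∃ a < 24, a ∉ [21, 18, 9, 0] ∧ cm (mB (jj a)) (mI i) (mI i) (mB (jj a)) = true) i hi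
  exact ⟨a, a1, a2, ((mt_bj _ (jj_lt a)).eq m m (mt_bj _ (jj_lt a))).2 a3⟩

theorem ok0 : ∀ a < 24, a ∉ [21, 18, 9] → jj a = 4 → OK (bj 4) (wc (za a % 64)) := fun a a1 a2 a3 =>
  ⟨0, by norm_num, mt_b0, (by decide +kernel : ∀ a < 24, a ∉ [21, 18, 9] → jj a = 4 → ∃ k < 16, wc (za a % 64) = nI 0 k) a a1 a2 a3⟩
theorem jj_val : jj 1 = 4 ∧ jj 6 = 4 ∧ wc (za 1 % 64) = 0 ∧ za 1 ≠ za 6 ∧ za 1 ≠ 1024 := by decide +kernel

theorem mt3 : Mt (gw 3 * bj 4 * (gw 3)⁻¹) (mI 3) := (gw_ok 3 (by norm_num)).2.conj mt_b0 (by decide +kernel)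
theorem mt4 : Mt (gw 4 * bj 4 * (gw 4)⁻¹) (mI 16) := (gw_ok 4 (by norm_num)).2.conj mt_b0 (by decide +kernel)

theorem lk0 {b x : G12} (hb : Mt b (mI 3)) (hx : Mt x (mI 16)) :
    ¬ Commute (bj 4) b ∧ ¬ Commute x (bj 4) ∧ ¬ Commute x b ∧ ¬ Commute x (bj 4 * b * bj 4) := by
  obtain ⟨i, e, e'⟩ : ∃ i < 45, cm (mI 0) (mI 3) (mI i) (mI 0) = true ∧ cm (mI 16) (mI i) (mI i) (mI 16) = false := by decide +kernel
  have m := mt_b0.conj hb e'.1
  rw [inv_eq_of_mul_eq_one_right (bj_sq (by norm_num))] at m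
  exact ⟨fun c => absurd ((mt_b0.eq hb hb mt_b0).1 c) (by decide +kernel), fun c => absurd ((hx.eq mt_b0 mt_b0 hx).1 c) (by decide +kernel),
    fun c => absurd ((hx.eq hb hb hx).1 c) (by decide +kernel), fun c => by simpa [e'.2] using (hx.eq m m hx).1 c⟩

theorem lc0 {b x : G12} (hb : Mt b (mI 3)) (hx : Mt x (mI 16)) {j m : ℕ} (hj : j < 16) (hm : m < 64) (h1 : Commute (bj j) b) (h2 : Commute (bj j) x)
    (h3 : ψ b (wc m) = wc m) (h4 : ψ x (wc m) = wc m) : j = 0 ∧ m < 4 := by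
  have l : wc m < 4096 := (WS_iff.1 (wc_ok.1 m hm).1).1
  exact ⟨(by decide +kernel : ∀ j < 16, cm (mB j) (mI 3) (mI 3) (mB j) = true → cm (mB j) (mI 16) (mI 16) (mB j) = true → j = 0) j hj
    (((mt_bj j hj).eq hb hb (mt_bj j hj)).1 h1) (((mt_bj j hj).eq hx hx (mt_bj j hj)).1 h2),
    (by decide +kernel : ∀ m < 64, xl (mI 3) 12 (wc m) = wc m → xl (mI 16) 12 (wc m) = wc m → m < 4) m hm (hb _ l ▸ h3) (hx _ l ▸ h4)⟩

end U45

end Cfsg.Lib.Fi
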