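import Cfsg.Agent.Lib.Fi.Fr16
import Cfsg.Agent.Lib.Fi.Fr11

/-! Groups of large Fischer type: the points collinear with a given point. -/

set_option maxRecDepth 100000
set_option linter.unusedSectionVars false
set_option synthInstance.maxSize 4000

namespace Cfsg.Lib.Fi

open Cfsg.Lib.Comp Subgroup A12 Cfsg.Lib.Core Cfsg.Lib.Known2 Cfsg.Lib.Amalg U45

universe u

variable {G : Type u} [Group G]

/-- Coordinates in `Q · C(x)`. -/
def Cc (z x : G) (ρ : G →* G12) (s : ℕ → G) (y : G) (g : G12) (n : ℕ) : Prop :=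
  n < 4096 ∧ ∃ d, d * x = x * d ∧ ρ d = g ∧ ∃ a, y = s n * d * zp z a

namespace FA
variable {Q : Subgroup G} {z x : G} {ν : G → ℕ} {ρ : G →* G12} {s f : ℕ → G} (F : FA Q z ν ρ x s f) {y y' : G} {g g' : G12} {n n' : ℕ}
include F

theorem cc_ρ (h : Cc z x ρ s y g n) : ρ y = g := by
  obtain ⟨-, d, -, rfl, a, rfl⟩ := h
  rw [map_mul, map_mul, F.mem.2 (F.sQ _), F.mem.2 (F.zQ (zp_mem _ _)), one_mul, mul_one]
theorem cc_mul (h : Cc z x ρ s y g n) (h' : Cc z x ρ s y' g' n') : Cc z x ρ s (y * y') (g * g') (n ^^^ ψ g n') := by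
  obtain ⟨l, d, d1, rfl, a, rfl⟩ := h
  obtain ⟨l', e, e1, rfl, b, rfl⟩ := h'
  refine ⟨xor_lt l (G12.lt _ l'), d * e, FX.D_mul d1 e1, map_mul _ _ _, B0 (xm n) (ψ (ρ d) n') + (a + b), ?_⟩
  calc _ = s n * (d * s n' * d⁻¹) * (d * e) * (zp z b * zp z a) := by
        rw [mul_assoc (s n * d), ← F.cz (s n' * e * zp z b) a]; simp only [mul_assoc, inv_mul_cancel_left]
    _ = _ := by
        rw [F.scj d d1 n' l', F.smul n l _ (G12.lt _ l'), mul_assoc (s _) (zp _ _), ← F.cz (d * e), add_comm a, zp_add F.ls.sq, zp_add F.ls.sq]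
        simp only [mul_assoc]
theorem cc_cj {d : G} (hd : d * x = x * d) (h : Cc z x ρ s y g n) : Cc z x ρ s (d * y * d⁻¹) (ρ d * g * (ρ d)⁻¹) (ψ (ρ d) n) := by
  obtain ⟨l, e, e1, rfl, a, rfl⟩ := h
  exact ⟨G12.lt _ l, d * e * d⁻¹, FX.D_cj hd e1, by simp, a, by rw [F.cj_zp, ← conj_mul, F.scj d hd n l]⟩
theorem cc_eq (h : Cc z x ρ s y g n) (h' : Cc z x ρ s y' g n') : ∃ a, y' = s (n ^^^ n') * y * zp z a := by
  obtain ⟨l, d, d1, rfl, a, rfl⟩ := h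
  obtain ⟨l', e, e1, e2, b, rfl⟩ := h'
  obtain ⟨c, rfl⟩ := F.D_eq d1 e1 e2.symm
  refine ⟨B0 (xm (n ^^^ n')) n + a + (c + b), ?_⟩
  rw [← mul_assoc (s (n ^^^ n')), ← mul_assoc (s (n ^^^ n')), F.smul _ (xor_lt l l') n l,
    show n ^^^ n' ^^^ n = n' by rw [Nat.xor_comm n, Nat.xor_assoc, Nat.xor_self, Nat.xor_zero], mul_assoc (s n') (zp _ _), ← F.cz d]
  simp only [mul_assoc, ← zp_add F.ls.sq]
  congr 3
  generalize B0 _ _ = u; clear e1 e2; revert u a b c; decide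
theorem cc_uniq (h : Cc z x ρ s y g n) (h' : Cc z x ρ s y g n') : n = n' := by
  obtain ⟨a, e⟩ := F.cc_eq h h'
  rw [mul_assoc, F.cz, ← mul_assoc, right_eq_mul] at e
  have := F.ν_zp (F.sQ (n ^^^ n')) a
  rw [e, F.one, F.sν _ (xor_lt h.1 h'.1)] at this
  exact Nat.xor_eq_zero_iff.1 this.symm
theorem cc_mu (c : ℕ) : Cc z x ρ s (mu z s f c) (bj (c / 64 % 16)) (wc (c % 64)) :=
  ⟨(WS_iff.1 (WS_mod c)).1, _, F.fD _, F.fρ _ (Nat.mod_lt _ (by norm_num)), _, rfl⟩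
theorem cc_A (h : Cc z x ρ s y g n) (h1 : g ∈ Bg) (h2 : WS.testBit n = true) : y ∈ centralizer (Wh Q ν) := by
  obtain ⟨l, d, d1, rfl, a, rfl⟩ := h
  obtain ⟨j, hj, e⟩ := h1
  obtain ⟨c, rfl⟩ := F.D_eq (F.fD j) d1 ((F.fρ j hj).trans e)
  have k := fun a => zpowers_le.2 F.z_A (zp_mem z a)
  exact mul_mem (mul_mem (F.W_A ⟨F.sQ n, (F.sν n l).symm ▸ h2⟩) (mul_mem (F.cent_iff.2 fun n => F.f_s hj) (k _))) (k _)
theorem liftD (hg : g ∈ K1 ⊓ stab ψ 5) : ∃ d, d * x = x * d ∧ ρ d = g ∧ d ∈ YE (s 5) (s 10) := by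
  obtain ⟨d, a, rfl⟩ := F.exD hg.1
  refine ⟨d, a, rfl, mem_cent2.2 ⟨comm_of_conj_eq ?_, comm_of_conj_eq ?_⟩⟩ <;> rw [F.scj d a _ (by norm_num)]
  exacts [congrArg s hg.2, congrArg s ((GU0_xm (K1_GU hg.1) (n := 5) (by norm_num)).trans (congrArg xm hg.2))]
theorem cc_w : Cc z x ρ s (mu z s f (za 1)) (bj 4) 0 := jj_val.1 ▸ jj_val.2.2.1 ▸ F.cc_mu (za 1)

end FA

/-- Collinear points. -/
def adj (z : G) (μ : ℕ → G) (u v : G) : Prop := ∃ g ∈ YE (μ 1) (μ 2), g * z * g⁻¹ = u ∧ g * μ (za 1) * g⁻¹ = v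

namespace BS0
variable [Finite G] {z : G} {A : Subgroup G} {μ : ℕ → G} (h : BS0 z A μ)
include h

theorem mv2 {a b : ℕ} (ha : a < 24) (a' : a ∉ [21, 18, 9]) (hb : b < 24) (b' : b ∉ [21, 18, 9]) (n : a ≠ b) :
    ∃ g ∈ YE (μ 1) (μ 2), g ∈ normalizer (A : Set G) ∧ g * z * g⁻¹ = μ (za a) ∧ g * μ (za 1) * g⁻¹ = μ (za b) := by
  obtain ⟨g, gn, k⟩ := h.move (l := [21, 18, 9, 0, 1]) (l' := [21, 18, 9, a, b]) (by revert b; revert a; decide +kernel)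
  have k1 := k 0 (by simp) 1 (by simp)
  have k2 := k 0 (by simp) 2 (by simp)
  have k3 := k 2 (by simp) 3 (by simp)
  have k4 := k 2 (by simp) 4 (by simp)
  simp only [List.getD_cons_zero, List.getD_cons_succ, lp_val.1, lp_val.2.1] at k1 k2 k3 k4
  refine ⟨g, mem_cent2.2 ⟨conj_eq_self_iff.1 k1, conj_eq_self_iff.1 k2⟩, gn, ?_, ?_⟩
  · rw [← h.hz, ← lp_val.2.2.2, za, za, h.mul, h.mul 1, ← conj_mul, k1, k3]
  · rw [za, za, h.mul, h.mul 1, ← conj_mul, k1, k4]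
theorem z0 : μ (za 0) = z := lp_val.2.2.2 ▸ h.hz
theorem adjP {a b : ℕ} (ha : a < 24) (a' : a ∉ [21, 18, 9]) (hb : b < 24) (b' : b ∉ [21, 18, 9]) (n : a ≠ b) : adj z μ (μ (za a)) (μ (za b)) :=
  let ⟨g, a, _, b⟩ := h.mv2 ha a' hb b' n; ⟨g, a, b⟩
theorem adjz {b : ℕ} (hb : b < 24) (b' : b ∉ [21, 18, 9, 0]) : adj z μ z (μ (za b)) := by
  have := h.adjP (a := 0) (by norm_num) (by decide) hb (by revert b; decide) (by revert b; decide)
  rwa [h.z0] at this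
theorem w_Z : μ (za 1) ∈ ZE z (μ 1) (μ 2) := h.za_mem (by norm_num) (by decide)
theorem uqz {e : G} (he : e ∈ closure ({μ 1, μ 2} : Set G)) (a : ZMod 2) (hy : e * μ (za 1) * zp z a ∈ ZE z (μ 1) (μ 2)) :
    e * μ (za 1) * zp z a = μ (za 1) := by
  obtain ⟨i, hi, rfl⟩ : ∃ i < 4, μ i = e := by
    rcases h.mem_E.1 he with e | e | e | e
    exacts [⟨0, by norm_num, h.zero.trans e.symm⟩, ⟨1, by norm_num, e.symm⟩, ⟨2, by norm_num, e.symm⟩, ⟨3, by norm_num, e.symm⟩]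
  obtain ⟨j, hj, e⟩ : ∃ j ∈ [0, 1024], μ j = zp z a := by
    rcases z2_cases a with rfl | rfl
    exacts [⟨0, by simp, h.zero⟩, ⟨1024, by simp, h.hz⟩]
  rw [← e, ← h.mul, ← h.mul] at hy ⊢
  obtain ⟨b, b1, b2, b3⟩ := h.Z_A hy (h.all _)
  obtain ⟨l, k⟩ := (by decide +kernel : ∀ i < 4, ∀ j ∈ [0, 1024], i ^^^ za 1 ^^^ j < 2048 ∧
    ∀ b < 24, b ∉ [21, 18, 9] → i ^^^ za 1 ^^^ j = za b → b = 1) i hi j hj
  rw [b3, k b b1 b2 (h.inj l (za_ok.1 b b1 b2).1 b3)]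

end BS0

/-- The local geometry. -/
structure LD (z : G) (A : Subgroup G) (μ : ℕ → G) : Prop extends BS0 z A μ where
  la : ∀ y, adj z μ z y → (∃ g ∈ YE (μ 1) (μ 2), g * z * g⁻¹ = z ∧ g * μ (za 1) * g⁻¹ ∈ A ∧ g * y * g⁻¹ ∈ A) ∨
    ¬ Commute (μ (za 1)) y ∧ μ (za 1) * y * μ (za 1) = y * μ (za 1) * y
  lq : ∀ y, adj z μ z y → ∀ a < 24, a ∉ [21, 18, 9, 0] → ∀ b < 24, b ∉ [21, 18, 9, 0] → jj a = jj b → Commute (μ (za a)) y → Commute (μ (za b)) y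
  lg : ∀ y, adj z μ z y → ∃ a < 24, a ∉ [21, 18, 9, 0] ∧ Commute (μ (za a)) y
  lk : ∃ b x, adj z μ z b ∧ adj z μ z x ∧ ¬ Commute (μ (za 1)) b ∧ ¬ Commute x (μ (za 1)) ∧ ¬ Commute x b ∧ ¬ Commute x (μ (za 1) * b * μ (za 1)) ∧
    ∀ y ∈ A, Commute y b → Commute y x → y ∈ closure ({μ 1, μ 2} : Set G) ∨ y * z ∈ closure ({μ 1, μ 2} : Set G)
  c1 : Nat.card ↥(YE (μ 1) (μ 2) ⊓ centralizer {z}) = 2 ^ 11 * 25920
  c2 : ∀ N : Subgroup G, A ≤ N → (∀ y, adj z μ z y → y ∈ N) → 2 ^ 13 ∣ Nat.card N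
  syl : ¬ 2 ^ 22 ∣ Nat.card G

theorem FG.ld [Finite G] {z : G} {Q : Subgroup (centralizer ({z} : Set G))} {ν : centralizer ({z} : Set G) → ℕ} {ρ : centralizer ({z} : Set G) →* G12}
    {x : centralizer ({z} : Set G)} {s f : ℕ → centralizer ({z} : Set G)} (F : FG Q ν ρ x s f) (e : F.χ = chi) :
    LD z (Qg (centralizer (Wh Q ν))) (fun c => (mu (zc z) s f c).1) := by
  obtain ⟨h, m1, m2⟩ := F.bs e
  have W := F.cc_w
  have yY : ∀ c : centralizer ({z} : Set G), c.1 ∈ YE (mu (zc z) s f 1).1 (mu (zc z) s f 2).1 ↔ c ∈ YE (s 5) (s 10) := fun c => by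
    rw [m1, m2, mem_cent2, mem_cent2, commute_coe, commute_coe]
  have yE : ∀ n ∈ [0, 5, 10, 15], (s n).1 ∈ closure ({(mu (zc z) s f 1).1, (mu (zc z) s f 2).1} : Set G) := fun n hn => by
    rw [m1, m2]
    exact ((MonoidHom.map_closure (centralizer {z}).subtype {s 5, s 10}).trans (congrArg _ (Set.image_pair _ _ _))).le ⟨_, F.mem_E.2 ⟨n, hn, rfl⟩, rfl⟩
  have wZ := h.w_Z
  have wq := F.mu_sq (za 1)
  have wi := inv_eq_of_mul_eq_one_right wq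
  have wY := (yY _).1 wZ.1
  have ad : ∀ y, adj z (fun c => (mu (zc z) s f c).1) z y ↔ ∃ c ∈ YE (s 5) (s 10), (c * mu (zc z) s f (za 1) * c⁻¹).1 = y := fun y =>
    ⟨fun ⟨g, a, b, c⟩ => ⟨⟨g, mem_centralizer_singleton_iff.2 (conj_eq_self_iff.1 b)⟩, (yY _).1 a, c⟩,
      fun ⟨c, a, b⟩ => ⟨c, (yY _).2 a, conj_eq_self_iff.2 (mem_centralizer_singleton_iff.1 c.2), b⟩⟩
  have ok : ∀ c ∈ YE (s 5) (s 10), ∃ g n, Cc (zc z) x ρ s (c * mu (zc z) s f (za 1) * c⁻¹) g n ∧ OK g n := fun c hc => by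
    have l := F.cent_E_map.le ⟨c, hc, rfl⟩
    obtain ⟨d, d1, d2, d3⟩ := F.liftD l
    have q : ρ (d⁻¹ * c) = 1 := by simp [d2]
    obtain ⟨a, a1, a2, a3⟩ := h.Z_A (ZE.conj' wZ ((yY _).2 (mul_mem (inv_mem d3) hc)))
      (mem_Qg.2 ((mem_normalizer_iff.1 (F.norm_A (q ▸ one_mem _)) _).1 (F.mem_A.2 ⟨_, (za_ok.1 1 (by norm_num) (by decide)).1, rfl⟩)))
    replace a3 : d⁻¹ * c * mu (zc z) s f (za 1) * (d⁻¹ * c)⁻¹ = mu (zc z) s f (za a) := Subtype.ext a3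
    have j : jj a = 4 := bj_inj (jj_lt a) (by norm_num) (by
      rw [jj, ← F.mu_ρ, ← a3, map_mul, map_mul, map_inv, q, F.cc_ρ W]; simp)
    have k := F.cc_cj d1 (F.cc_mu (za a))
    rw [← a3, conj_conj', mul_inv_cancel_left, show za a / 64 % 16 = 4 from j] at k
    exact ⟨_, _, k, (ok0 a a1 a2 j).conj ⟨K1_H0 (d2 ▸ l.1), d2 ▸ l.2⟩⟩
  have la : ∀ c ∈ YE (s 5) (s 10), ∀ y, y = c * mu (zc z) s f (za 1) * c⁻¹ →
      (∃ g ∈ YE (s 5) (s 10), g * mu (zc z) s f (za 1) * g⁻¹ ∈ centralizer (Wh Q ν) ∧ g * y * g⁻¹ ∈ centralizer (Wh Q ν)) ∨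
      ¬ Commute (bj 4) (ρ y) ∧ mu (zc z) s f (za 1) * y * mu (zc z) s f (za 1) = y * mu (zc z) s f (za 1) * y := fun c hc y hy => by
    obtain ⟨g, n, k, o⟩ := ok c hc
    rw [← hy] at k
    rcases o.la with ⟨a, b, d⟩ | ⟨r, r1, r2, r3, r4⟩
    · refine .inr ⟨F.cc_ρ k ▸ a, ?_⟩
      have k1 := F.cc_mul (F.cc_mul W k) W
      have k2 := F.cc_mul (F.cc_mul k W) k
      simp only [G12.zero, Nat.xor_zero, Nat.zero_xor, G12.mul] at k1 k2
      obtain ⟨t, e⟩ := F.cc_eq k1 (b ▸ k2)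
      have yY' : y ∈ YE (s 5) (s 10) := hy ▸ mul_mem (mul_mem hc wY) (inv_mem hc)
      have yi : y⁻¹ = y := by rw [hy, conj_inv, wi]
      have e1 : mu (zc z) s f (za 1) * y * mu (zc z) s f (za 1) = (mu (zc z) s f (za 1) * c) * mu (zc z) s f (za 1) * (mu (zc z) s f (za 1) * c)⁻¹ := by
        rw [← conj_conj', ← hy, wi]
      have c' := mul_mem wY hc
      generalize mu (zc z) s f (za 1) * c = c at c' e1
      have e2 : c⁻¹ * (y * mu (zc z) s f (za 1) * y⁻¹) * c⁻¹⁻¹ = s (ψ (bj 4) n ^^^ (n ^^^ ψ g (ψ (bj 4) n))) * mu (zc z) s f (za 1) * zp (zc z) t := by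
        rw [yi, e, e1, F.cj_zp, ← conj_mul, conj_eq_self_iff.2 (Commute.inv_left (Commute.symm (c' _ (F.mem_E.2 ⟨_, d, rfl⟩))))]
        simp [mul_assoc]
      have zt : (zp (zc z) t).1 = zp z t := by unfold zp; split_ifs <;> rfl
      have e3 := h.uqz (yE _ d) t (by
        have := ZE.conj' (ZE.conj' wZ ((yY _).2 yY')) ((yY _).2 (inv_mem c'))
        rw [← zt]; exact Set.mem_of_eq_of_mem (congrArg Subtype.val e2).symm this)
      rw [← zt] at e3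
      have e4 := congrArg (fun u => c * u * c⁻¹) (e2.trans (Subtype.ext e3))
      rw [e1, ← show _ = c * _ * c⁻¹ from e4, yi]; simp only [mul_assoc, mul_inv_cancel_left, inv_inv, mul_inv_cancel, mul_one]
    · obtain ⟨d, d1, rfl, d3⟩ := F.liftD r1
      exact .inl ⟨d, d3, F.cc_A (F.cc_cj d1 W) r2 (by rw [G12.zero]; decide +kernel), F.cc_A (F.cc_cj d1 k) r3 r4⟩
  have cr : ∀ y y' : centralizer ({z} : Set G), adj z (fun c => (mu (zc z) s f c).1) z y → adj z (fun c => (mu (zc z) s f c).1) z y' →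
      Commute (ρ y) (ρ y') → Commute y.1 y'.1 := fun y y' a b cm => by
    obtain ⟨c, c1, e⟩ := (ad _).1 a
    obtain ⟨d, d1, e'⟩ := (ad _).1 b
    obtain rfl := Subtype.ext e
    obtain rfl := Subtype.ext e'
    rw [commute_coe, commute_conj_left_iff]
    rcases la (c⁻¹ * d) (mul_mem (inv_mem c1) d1) (c⁻¹ * (d * mu (zc z) s f (za 1) * d⁻¹) * c) (by group) with ⟨g, -, a, b⟩ | ⟨a, -⟩
    · exact commute_conj_conj_iff.1 (elemAb_le_cent F.A_elem b _ a)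
    · rw [map_mul, map_mul ρ c, map_inv, F.cc_ρ W, commute_conj_left_iff] at cm
      exact absurd (by simpa using cm) a
  have al : ∀ y, adj z (fun c => (mu (zc z) s f c).1) z y → ∃ y' : centralizer ({z} : Set G), y'.1 = y := fun y a =>
    let ⟨_, _, e⟩ := (ad _).1 a; ⟨_, e⟩
  refine ⟨h, fun y a => ?_, fun y hy a a1 a2 b b1 b2 e c => ?_, fun y a => ?_, ?_, ?_, fun N n1 n2 => ?_, fun d => ?_⟩
  · obtain ⟨c, c1, rfl⟩ := (ad _).1 a
    exact (la c c1 _ rfl).imp (fun ⟨g, a, b, d⟩ => ⟨g, (yY _).2 a, conj_eq_self_iff.2 (mem_centralizer_singleton_iff.1 g.2), mem_Qg.2 b, mem_Qg.2 d⟩)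
      fun ⟨a, b⟩ => ⟨fun k => a (F.cc_ρ W ▸ (commute_coe.1 k).map ρ), congrArg Subtype.val b⟩
  · obtain ⟨y, rfl⟩ := al y hy
    refine cr _ y (h.adjz b1 b2) hy ?_
    have := (commute_coe.1 c).map ρ
    rw [F.mu_ρ] at this ⊢
    exact (show za a / 64 % 16 = za b / 64 % 16 from e) ▸ this
  · obtain ⟨c, c1, rfl⟩ := (ad _).1 a
    obtain ⟨g, n, k, o⟩ := ok c c1
    obtain ⟨b, b1, b2, b3⟩ := o.lg
    exact ⟨b, b1, b2, cr _ _ (h.adjz b1 b2) a (by rw [F.mu_ρ, F.cc_ρ k]; exact b3)⟩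
  · obtain ⟨d, d1, d2, d3⟩ := F.liftD (gw_ok 3 (by norm_num)).1
    obtain ⟨c, c1, c2, c3⟩ := F.liftD (gw_ok 4 (by norm_num)).1
    have kd := F.cc_cj d1 W
    have kc := F.cc_cj c1 W
    rw [G12.zero] at kd kc
    have md := d2 ▸ mt3
    have mc := c2 ▸ mt4
    have ad1 := (ad _).2 ⟨d, d3, rfl⟩
    have ad2 := (ad _).2 ⟨c, c3, rfl⟩
    generalize d * mu (zc z) s f (za 1) * d⁻¹ = b at *
    generalize c * mu (zc z) s f (za 1) * c⁻¹ = y at *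
    rw [← F.cc_ρ kd] at md kd
    rw [← F.cc_ρ kc] at mc kc
    obtain ⟨n1, n2, n3, n4⟩ := lk0 md mc
    rw [← F.cc_ρ W] at n1 n2 n4
    refine ⟨b, y, ad1, ad2, fun k => n1 ((commute_coe.1 k).map ρ), fun k => n2 ((commute_coe.1 k).map ρ), fun k => n3 ((commute_coe.1 k).map ρ),
      fun k => n4 (by simpa using (commute_coe.1 (show Commute y.1 (_ * b * _ : centralizer ({z} : Set G)).1 from k)).map ρ), fun u hu k1 k2 => ?_⟩
    obtain ⟨m, hm, rfl⟩ := F.memA hu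
    have t : ∀ b, Cc (zc z) x ρ s b (ρ b) 0 → Commute (mu (zc z) s f m).1 b.1 → Commute (bj (m / 64 % 16)) (ρ b) ∧ ψ (ρ b) (wc (m % 64)) = wc (m % 64) := fun b k c => by
      have c1 := F.mu_ρ m ▸ (commute_coe.1 c).map ρ
      have k2 := F.cc_mul (F.cc_mu m) k
      rw [c1.eq, (commute_coe.1 c).eq] at k2
      have := F.cc_uniq (F.cc_mul k (F.cc_mu m)) k2
      rw [G12.zero, Nat.xor_zero, Nat.zero_xor] at this
      exact ⟨c1, this⟩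
    obtain ⟨a1, a2⟩ := lc0 md mc (Nat.mod_lt _ (by norm_num)) (Nat.mod_lt _ (by norm_num)) (t b kd k1).1 (t y kc k2).1 (t b kd k1).2 (t y kc k2).2
    have u : ∀ i < 4, (mu (zc z) s f i).1 ∈ closure ({(mu (zc z) s f 1).1, (mu (zc z) s f 2).1} : Set G) := fun i hi => h.mem_E.2 (by
      interval_cases i <;> simp [F.mu_zero])
    exact ((by decide +kernel : ∀ m < 2048, m / 64 % 16 = 0 → m % 64 < 4 → m < 4 ∨ m ^^^ 1024 < 4) m hm a1 a2).imp (u m)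
      fun a => Set.mem_of_eq_of_mem (congrArg Subtype.val (F.mu_z m)).symm (u _ a)
  · have := F.card_map (B := YE (s 5) (s 10))
    rw [F.cent_E_map, X5_psp.2, inf_comm, F.J_card, mul_comm] at this
    rw [← this, ← card_map_of_injective (K := YE (s 5) (s 10)) (subtype_injective _)]
    exact congrArg (fun K : Subgroup G => Nat.card K) (Subgroup.ext fun g => ⟨fun a => ⟨⟨g, a.2⟩, (yY _).1 a.1, rfl⟩, fun ⟨c, a, b⟩ => b ▸ ⟨(yY _).2 a, c.2⟩⟩)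
  · have hs := Cfsg.Agent.S0270.result (F := ZMod 3) 2 le_rfl (by simp)
    have := X5_psp.1.some.isSimpleGroup
    have b4 : bj 4 ∈ K1 ⊓ stab ψ 5 := F.cent_E_map.le ⟨_, wY, F.cc_ρ W⟩
    have l : K1 ⊓ stab ψ 5 ≤ (N.subgroupOf _).map ρ := fun g hg => by
      have t := (normalClosure_normal (s := {(⟨_, b4⟩ : ↥(K1 ⊓ stab ψ 5))})).eq_bot_or_eq_top.resolve_left fun e =>
        bj_ne (by norm_num) (by norm_num) (congrArg Subtype.val (e.le (subset_normalClosure rfl)))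
      refine (show normalClosure _ ≤ ((N.subgroupOf _).map ρ).subgroupOf _ from (closure_le _).2 fun u hu => ?_) (t.ge (mem_top ⟨g, hg⟩))
      obtain ⟨_, rfl, k⟩ := Group.mem_conjugatesOfSet_iff.1 hu
      obtain ⟨⟨v, hv⟩, rfl⟩ := isConj_iff.1 k
      obtain ⟨d, -, rfl, d3⟩ := F.liftD hv
      exact ⟨d * mu (zc z) s f (za 1) * d⁻¹, n2 _ ((ad _).2 ⟨d, d3, rfl⟩), by simp [F.cc_ρ W]⟩
    have a := card_dvd_of_le l
    have b := card_dvd_of_le (inf_le_inf_right Q (show centralizer (Wh Q ν) ≤ N.subgroupOf _ from fun g hg => n1 (mem_Qg.2 hg)))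
    rw [X5_psp.2] at a; rw [F.A_Q] at b
    refine .trans ?_ (card_map_of_injective (K := N.subgroupOf (centralizer {z})) (subtype_injective _) ▸ card_dvd_of_le (map_le_iff_le_comap.2 le_rfl))
    rw [F.card_map]; exact (mul_dvd_mul (Dvd.dvd.trans (by norm_num : 2 ^ 6 ∣ 25920) a) b :)
  · have a := F.T_sylg.not_dvd_index
    rw [← (Qg ((Py 1).comap ρ)).card_mul_index, card_map_of_injective (subtype_injective _), F.T_card, pow_succ] at d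
    exact a (Nat.dvd_of_mul_dvd_mul_left (by norm_num) d)

end Cfsg.Lib.Fi
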