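import Cfsg.Agent.Lib.Fi.Fr17
import Cfsg.Agent.Lib.Known2.F9

/-! Groups of large Fischer type: the unitary polar space. -/

set_option maxRecDepth 100000
set_option linter.unusedSectionVars false
set_option synthInstance.maxSize 4000

namespace Cfsg.Lib.Fi

open Cfsg.Lib.Comp Subgroup A12 Cfsg.Lib.Core Cfsg.Lib.Known2 Cfsg.Lib.Amalg U45

universe u

variable {G : Type u} [Group G] {z : G} {A : Subgroup G} {μ : ℕ → G} {u v w x y g a b : G}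

/-- Equal or collinear. -/
def sim (z : G) (μ : ℕ → G) (u v : G) : Prop := u = v ∨ adj z μ u v
/-- The points at distance at most two. -/
def T2 (z : G) (μ : ℕ → G) (a : G) : Set G := {b | ∃ w, sim z μ a w ∧ sim z μ w b}
/-- Collinear points of the plane. -/
def on3 (p q d : ℕ) : Prop := d = p ∨ d = q ∨ DL chi (za p ^^^ za q ^^^ za d) = true
noncomputable instance (p q d : ℕ) : Decidable (on3 p q d) := by unfold on3; infer_instance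

theorem on_ok : (∀ c < 24, c ∉ [21, 18, 9, 0] → ∀ d < 24, d ∉ [21, 18, 9, 0] → DL chi (za 0 ^^^ za c ^^^ za d) = true → jj c = jj d) ∧
    (∀ q < 24, q ∉ [21, 18, 9] → q ≠ 1 → ∀ c < 24, c ∉ [21, 18, 9] → c ≠ 0 → ∃ d < 24, d ∉ [21, 18, 9] ∧ on3 1 q d ∧ on3 0 c d) ∧
    ∀ p < 24, p ∉ [21, 18, 9] → ∃ q < 24, q ∉ [21, 18, 9] ∧ p ≠ q := by decide +kernel

theorem adj.cj (h : adj z μ u v) (hg : g ∈ YE (μ 1) (μ 2)) : adj z μ (g * u * g⁻¹) (g * v * g⁻¹) := by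
  obtain ⟨f, a, rfl, rfl⟩ := h
  exact ⟨g * f, mul_mem hg a, (conj_conj' _ _ _).symm, (conj_conj' _ _ _).symm⟩
theorem adj.cj' (h : adj z μ (g * u * g⁻¹) v) (hg : g ∈ YE (μ 1) (μ 2)) : adj z μ u (g⁻¹ * v * g) := by
  simpa [mul_assoc] using h.cj (inv_mem hg)
theorem sim.cj (h : sim z μ u v) (hg : g ∈ YE (μ 1) (μ 2)) : sim z μ (g * u * g⁻¹) (g * v * g⁻¹) := h.imp (congrArg fun u => g * u * g⁻¹) (·.cj hg)
theorem sim.cj' (h : sim z μ (g * u * g⁻¹) v) (hg : g ∈ YE (μ 1) (μ 2)) : sim z μ u (g⁻¹ * v * g) := by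
  simpa [mul_assoc] using h.cj (inv_mem hg)
theorem sim.cj'' (h : sim z μ u (g⁻¹ * v * g)) (hg : g ∈ YE (μ 1) (μ 2)) : sim z μ (g * u * g⁻¹) v := by
  simpa [mul_assoc] using h.cj hg
theorem adj0 : adj z μ z (μ (za 1)) := ⟨1, one_mem _, by simp, by simp⟩
theorem T2.self : a ∈ T2 z μ a := ⟨a, .inl rfl, .inl rfl⟩
theorem T2.cj (h : b ∈ T2 z μ a) (hg : g ∈ YE (μ 1) (μ 2)) : g * b * g⁻¹ ∈ T2 z μ (g * a * g⁻¹) :=
  let ⟨_, a, b⟩ := h; ⟨_, a.cj hg, b.cj hg⟩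

namespace LD
variable [Finite G] (h : LD z A μ)
include h

theorem aZ (k : adj z μ u v) : u ∈ ZE z (μ 1) (μ 2) ∧ v ∈ ZE z (μ 1) (μ 2) := by
  obtain ⟨f, a, rfl, rfl⟩ := k
  exact ⟨ZE.conj' h.z_Z a, ZE.conj' h.w_Z a⟩
theorem acm (k : adj z μ u v) : Commute u v := by
  obtain ⟨f, a, rfl, rfl⟩ := k
  exact commute_conj_conj_iff.2 (by rw [← h.hz]; exact h.comm _ _)
theorem ane (k : adj z μ u v) : v ≠ u := by
  obtain ⟨f, a, rfl, rfl⟩ := k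
  exact fun e => jj_val.2.2.2.2 (h.inj (za_ok.1 1 (by norm_num) (by decide)).1 (by norm_num) (by rw [h.hz]; simpa using e))
theorem asy (k : adj z μ u v) : adj z μ v u := by
  obtain ⟨f, a, rfl, rfl⟩ := k
  exact adj.cj (h.z0 ▸ h.adjP (a := 1) (b := 0) (by norm_num) (by decide) (by norm_num) (by decide) (by norm_num)) a
theorem scm (k : sim z μ u v) : Commute u v := k.elim (fun e => e ▸ .refl _) h.acm
theorem ssy (k : sim z μ u v) : sim z μ v u := k.imp Eq.symm h.asy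
theorem simP {a b : ℕ} (ha : a < 24) (a' : a ∉ [21, 18, 9]) (hb : b < 24) (b' : b ∉ [21, 18, 9]) : sim z μ (μ (za a)) (μ (za b)) :=
  (eq_or_ne a b).imp (congrArg fun u => μ (za u)) (h.adjP ha a' hb b')
theorem pl (hu : u ∈ ZE z (μ 1) (μ 2)) (hv : v ∈ ZE z (μ 1) (μ 2)) (hg : g ∈ YE (μ 1) (μ 2)) (h1 : g * u * g⁻¹ ∈ A) (h2 : g * v * g⁻¹ ∈ A) :
    sim z μ u v := by
  obtain ⟨a, a1, a2, a3⟩ := h.Z_A (ZE.conj' hu hg) h1
  obtain ⟨b, b1, b2, b3⟩ := h.Z_A (ZE.conj' hv hg) h2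
  have k := h.simP a1 a2 b1 b2
  rw [← a3, ← b3] at k
  simpa [mul_assoc] using k.cj' hg
theorem la2 (h1 : adj z μ w x) (h2 : adj z μ w y) : sim z μ x y ∨ ¬ Commute x y ∧ x * y * x = y * x * y := by
  obtain ⟨g, a, rfl, rfl⟩ := h1
  have k := h2.cj' a
  refine (h.la _ k).imp (fun ⟨f, b, _, c, d⟩ => (h.pl h.w_Z (h.aZ k).2 b c d).cj'' a) fun ⟨b, c⟩ => ⟨fun e => b (commute_conj_left_iff.1 e), ?_⟩
  simpa [mul_assoc] using congrArg (fun u => g * u * g⁻¹) c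
theorem tri (h1 : sim z μ x w) (h2 : sim z μ w y) : sim z μ x y ∨ ¬ Commute x y ∧ x * y * x = y * x * y ∧ adj z μ w x ∧ adj z μ w y := by
  rcases h1 with rfl | h1
  · exact .inl h2
  rcases h2 with rfl | h2
  · exact .inl (.inr h1)
  exact (h.la2 (h.asy h1) h2).imp_right fun a => ⟨a.1, a.2, h.asy h1, h2⟩
theorem cadj (h1 : adj z μ w x) (h2 : adj z μ w y) (c : Commute x y) : sim z μ x y := (h.la2 h1 h2).resolve_right fun a => a.1 c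

theorem line {p : ℕ} (hp : p < 24) (p' : p ∉ [21, 18, 9]) (k : sim z μ (μ (za p)) x) :
    ∃ q < 24, q ∉ [21, 18, 9] ∧ q ≠ p ∧ ∀ d < 24, d ∉ [21, 18, 9] → on3 p q d → sim z μ (μ (za d)) x := by
  obtain ⟨r, r1, r2, r3⟩ := on_ok.2.2 p hp p'
  rcases k with rfl | k
  · exact ⟨r, r1, r2, r3.symm, fun d d1 d2 _ => h.simP d1 d2 hp p'⟩
  obtain ⟨g, g1, g2, g3, -⟩ := h.mv2 hp p' r1 r2 r3
  have k' := adj.cj' (g3 ▸ k) g1
  obtain ⟨c, c1, c2, c3⟩ := h.lg _ k'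
  have c4 : c ∉ [21, 18, 9] := fun e => c2 (by simp at e ⊢; omega)
  obtain ⟨q, q1, q2, q3⟩ := h.Z_A (ZE.conj' (h.za_mem c1 c4) g1) ((mem_normalizer_iff.1 g2 _).1 (h.all _))
  refine ⟨q, q1, q2, fun e => h.ane (h.adjz c1 c2) (by simpa [e, ← g3] using q3), fun d d1 d2 o => ?_⟩
  obtain ⟨e, e1, e2, e3⟩ := h.Z_A (ZE.conj' (h.za_mem d1 d2) (inv_mem g1)) ((mem_normalizer_iff.1 (inv_mem g2) _).1 (h.all _))
  replace e3 : μ (za d) = g * μ (za e) * g⁻¹ := by rw [← e3]; group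
  rw [e3]
  refine sim.cj'' ?_ g1
  by_cases n : e = 0
  · rw [n, h.z0]; exact .inr k'
  have e4 : e ∉ [21, 18, 9, 0] := fun a => e2 (by simp at a ⊢; omega)
  refine h.cadj (h.adjz e1 e4) k' ?_
  rcases o with rfl | rfl | o
  · exact absurd (by simpa [← g3] using e3.symm) (h.ane (h.adjz e1 e4))
  · rwa [← show μ (za c) = μ (za e) by simpa [e3] using q3]
  have l : ∀ {a b c}, a < 24 → a ∉ [21, 18, 9] → b < 24 → b ∉ [21, 18, 9] → c < 24 → c ∉ [21, 18, 9] → za a ^^^ za b ^^^ za c < 2048 :=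
    fun a a' b b' c c' => Nat.xor_lt_two_pow (n := 11) (Nat.xor_lt_two_pow (za_ok.1 _ a a').1 (za_ok.1 _ b b').1) (za_ok.1 _ c c').1
  have o1 := h.dd (l hp p' q1 q2 d1 d2) o
  rw [h.mul, h.mul, ← g3, ← q3, e3, conj_mul, conj_mul, ← h.z0, ← h.mul, ← h.mul, h.z0] at o1
  exact h.lq _ k' c c1 c2 e e1 e4 (on_ok.1 c c1 c2 e e1 e4 ((h.dl _ (l (by norm_num) (by decide) c1 c4 e1 e2)).1
    ⟨fun a => o1.1 (by rw [a]; simp), fun a => o1.2 (a.trans (isConj_iff.2 ⟨g, rfl⟩))⟩)) c3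

theorem step (hb : b ∈ T2 z μ a) (k : sim z μ b v) : v ∈ T2 z μ a := by
  obtain ⟨w, w1, rfl | w2⟩ := hb
  · exact ⟨_, w1, k⟩
  obtain ⟨g, g1, rfl, rfl⟩ := h.asy w2
  obtain ⟨q, q1, q2, q3, q4⟩ := h.line (by norm_num) (by decide) ((h.ssy w1).cj' g1)
  obtain ⟨c, c1, c2, c3, c4⟩ := h.line (p := 0) (by norm_num) (by decide) (by rw [h.z0]; exact k.cj' g1)
  obtain ⟨d, d1, d2, d3, d4⟩ := on_ok.2.1 q q1 q2 q3 c c1 c2 c3
  exact ⟨_, h.ssy ((q4 d d1 d2 d3).cj'' g1), (c4 d d1 d2 d4).cj'' g1⟩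
theorem trans (hb : b ∈ T2 z μ a) (hc : v ∈ T2 z μ a) : v ∈ T2 z μ b := by
  obtain ⟨w, w1, w2⟩ := hb
  obtain ⟨u, u1, u2⟩ := hc
  exact h.step (h.step ⟨w, h.ssy w2, h.ssy w1⟩ u1) u2
theorem cl (hb : b ∈ T2 z μ z) : ∃ g ∈ YE (μ 1) (μ 2), g * z * g⁻¹ = b := by
  obtain ⟨w, w1, rfl | w2⟩ := hb
  · rcases w1 with rfl | w1
    exacts [⟨1, one_mem _, by simp⟩, (h.asy w1).imp fun _ a => ⟨a.1, a.2.1⟩]
  · exact (h.asy w2).imp fun _ a => ⟨a.1, a.2.1⟩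
theorem TZ (hb : b ∈ T2 z μ z) : b ∈ ZE z (μ 1) (μ 2) := by obtain ⟨g, a, rfl⟩ := h.cl hb; exact ZE.conj' h.z_Z a
theorem nb (hb : b ∈ T2 z μ z) : ∃ v, adj z μ b v := by obtain ⟨g, a, rfl⟩ := h.cl hb; exact ⟨_, adj0.cj a⟩
theorem tri' (hx : x ∈ T2 z μ z) (hy : y ∈ T2 z μ z) :
    sim z μ x y ∨ ¬ Commute x y ∧ x * y * x = y * x * y ∧ ∃ w, adj z μ w x ∧ adj z μ w y :=
  let ⟨w, a, b⟩ := h.trans hx hy; (h.tri a b).imp_right fun a => ⟨a.1, a.2.1, w, a.2.2⟩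
theorem sim_of (hx : x ∈ T2 z μ z) (hy : y ∈ T2 z μ z) (c : Commute x y) : sim z μ x y := (h.tri' hx hy).resolve_right fun a => a.1 c
theorem mN (k : adj z μ z y) : y ∈ T2 z μ z := h.step T2.self (.inr k)

theorem tt : TT (T2 z μ z) := by
  have sq := fun {x} (hx : x ∈ T2 z μ z) => h.sq_of (h.TZ hx).2.1
  refine ⟨⟨fun x hx => orderOf_eq_prime ((pow_two _).trans (sq hx)) (h.ne_of (h.TZ hx).2.1), fun x hx y hy => ?_⟩, fun x hx y hy => ?_⟩ <;>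
    rcases h.tri' hx hy with c | ⟨-, c, w, c1, c2⟩
  · left; rw [(h.scm c).mul_pow, pow_two, pow_two, sq hx, sq hy, mul_one]
  · right
    calc _ = (x * y * x) * (y * x * y) := by simp only [pow_succ, pow_zero, one_mul, mul_assoc]
      _ = 1 := by rw [← c]; simpa [inv_eq_of_mul_eq_one_right (sq hx)] using h.sq_of (ZE.conj' (h.TZ hy) (h.TZ hx).1).2.1
  · rwa [(h.scm c).eq, mul_assoc, sq hx, mul_one]
  · have := c2.cj (h.TZ hx).1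
    rw [conj_eq_self_iff.2 (h.acm c1).symm, inv_eq_of_mul_eq_one_right (sq hx)] at this
    exact h.step (h.step hx (.inr (h.asy c1))) (.inr this)

theorem n1 (k : adj z μ u v) : ∃ c, adj z μ u c ∧ ¬ Commute v c := by
  obtain ⟨g, a, rfl, rfl⟩ := k
  obtain ⟨b, -, b1, -, b2, -⟩ := h.lk
  exact ⟨_, b1.cj a, by rwa [commute_conj_conj_iff]⟩
theorem w1 : adj z μ z (μ (za 6)) ∧ μ (za 6) ≠ μ (za 1) ∧ ∀ b, adj z μ z b → (Commute (μ (za 1)) b ↔ Commute (μ (za 6)) b) :=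
  ⟨h.adjz (by norm_num) (by decide), fun e => jj_val.2.2.2.1 (h.inj (za_ok.1 1 (by norm_num) (by decide)).1 (za_ok.1 6 (by norm_num) (by decide)).1 e.symm),
    fun b k => ⟨h.lq b k 1 (by norm_num) (by decide) 6 (by norm_num) (by decide) (jj_val.1.trans jj_val.2.1.symm),
      h.lq b k 6 (by norm_num) (by decide) 1 (by norm_num) (by decide) (jj_val.2.1.trans jj_val.1.symm)⟩⟩
theorem n2 (k : adj z μ w a) : ∃ c, adj z μ w c ∧ c ≠ a ∧ ∀ b, adj z μ w b → (Commute a b ↔ Commute c b) := by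
  obtain ⟨g, a, rfl, rfl⟩ := k
  exact ⟨_, h.w1.1.cj a, by simpa using h.w1.2.1, fun b k => by rw [commute_conj_left_iff, commute_conj_left_iff]; exact h.w1.2.2 _ (k.cj' a)⟩
theorem n3 (k : adj z μ a b) : ∃ u c, adj z μ u a ∧ adj z μ u c ∧ ¬ Commute a c ∧ ¬ Commute b c := by
  obtain ⟨g, g1, rfl, rfl⟩ := k
  obtain ⟨f, f1, f2, f3⟩ := h.adjP (a := 1) (b := 6) (by norm_num) (by decide) (by norm_num) (by decide) (by norm_num)
  obtain ⟨c, c1, c2⟩ := h.n1 adj0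
  have m := mul_mem g1 (inv_mem f1)
  have e1 : g * z * g⁻¹ = g * f⁻¹ * μ (za 1) * (g * f⁻¹)⁻¹ := by rw [← f2]; group
  have e2 : g * μ (za 1) * g⁻¹ = g * f⁻¹ * μ (za 6) * (g * f⁻¹)⁻¹ := by rw [← f3]; group
  rw [e1, e2]
  exact ⟨_, _, adj0.cj m, c1.cj m, by rwa [commute_conj_conj_iff], by rwa [commute_conj_conj_iff, ← h.w1.2.2 c c1]⟩

theorem r3 : R3 (T2 z μ z) := by
  have st := fun {b v} (hb : b ∈ T2 z μ z) (k : adj z μ b v) => h.step hb (.inr k)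
  have nc : ∀ {a b}, a ∈ T2 z μ z → b ∈ T2 z μ z → ¬ Commute a b → ∃ g ∈ closure (T2 z μ z), g * a * g⁻¹ = b := fun ha hb n =>
    ⟨_, mul_mem (subset_closure ha) (subset_closure hb), h.tt.braid_conj ha hb n⟩
  refine R3.of_vw ⟨h.tt, ⟨z, T2.self⟩, fun a ha b hb e => ?_, fun a ha b hb e => ?_, fun a ha => ?_, fun a ha => ?_⟩ (fun a ha b hb => ?_) fun a ha b hb n => ?_
  · refine (h.sim_of ha hb (e.commute hb)).resolve_right fun k => ?_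
    obtain ⟨c, c1, c2⟩ := h.n1 k
    exact c2 ((e c (st ha c1)).1 (h.acm c1))
  · rcases h.tri' ha hb with (c | c) | ⟨n, -, w, c1, c2⟩
    · exact c
    · exact absurd rfl (e.mem ⟨hb, h.ane c, h.acm c⟩).2.1
    obtain ⟨c, d1, d2, d3⟩ := h.n2 c1
    exact absurd ((d3 b c2).2 (e.mem ⟨st (st ha (h.asy c1)) d1, d2, ((d3 a c1).1 (.refl a)).symm⟩).2.2.symm) n
  · obtain ⟨v, k⟩ := h.nb ha
    obtain ⟨c, c1, c2⟩ := h.n1 (h.asy k)
    exact ⟨c, st (st ha k) c1, c2⟩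
  · obtain ⟨v, k⟩ := h.nb ha
    exact ⟨v, st ha k, h.ane k, h.acm k⟩
  · rcases h.tri' ha hb with (rfl | c) | ⟨n, -⟩
    · exact ⟨1, one_mem _, by simp⟩
    · obtain ⟨u, c, c1, c2, c3, c4⟩ := h.n3 c
      have m := st (st ha (h.asy c1)) c2
      obtain ⟨g, g1, g2⟩ := nc ha m c3
      obtain ⟨f, f1, f2⟩ := nc m hb fun e => c4 e.symm
      exact ⟨f * g, mul_mem f1 g1, by rw [← conj_conj', g2, f2]⟩
    · exact nc ha hb n
  · obtain ⟨-, -, w, c1, c2⟩ := (h.tri' ha hb).resolve_left fun c => n (h.scm c)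
    exact ⟨w, st ha (h.asy c1), (h.acm c1).symm, h.acm c2⟩

theorem tu : ∃ n, 4 ≤ n ∧ TU' (T2 z μ z) n := by
  have d : ∀ {y}, adj z μ z y → y ∈ Dd (T2 z μ z) z := fun k => ⟨h.mN k, h.ane k, h.acm k⟩
  refine (h.r3.v_cases T2.self (d adj0) (d h.w1.1) h.w1.2.1.symm fun e he =>
    h.w1.2.2 e ((h.sim_of T2.self he.1 he.2.2).resolve_left he.2.1.symm)).resolve_left fun ⟨_, _, _, S, _⟩ => ?_
  obtain ⟨b, x, b1, x1, k1, k2, k3, k4, -⟩ := h.lk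
  exact k4 (S.symp _ (h.mN adj0) b (h.mN b1) x (h.mN x1) k1 k2 k3)

end LD

end Cfsg.Lib.Fi
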