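import Cfsg.Agent.Lib.Fi.Fr11

/-! From a component of the commuting graph to the whole class. -/

set_option autoImplicit false
set_option linter.unusedSectionVars false
set_option synthInstance.maxSize 2000

namespace Cfsg.Lib.Fi

open Subgroup Cfsg.Lib.Comp Cfsg.Lib.Known2 Cfsg.Lib.Known2.Cd

universe u

variable {G : Type u} [Group G] {D T : Set G} {r k : ℕ} {c : ℕ → ℕ}

/-- The components of the commuting graph are well behaved. -/
structure LG (D : Set G) : Prop where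
  conj : ∀ g, ∀ a ∈ D, g * a * g⁻¹ ∈ D
  sq : ∀ {a}, a ∈ D → a * a = 1
  step : ∀ {a b v}, a ∈ D → b ∈ Cm D a → v ∈ D → Commute b v → v ∈ Cm D a
  tt : ∀ {a}, a ∈ D → TT (Cm D a)
  mem_of_conj : ∀ {a}, a ∈ D → ∀ {g}, g * a * g⁻¹ ∈ Cm D a → g ∈ closure (Cm D a)
  ne : ∀ {a}, a ∈ D → ∃ x, x ∈ Dd D a
  pair_unique : ∀ {a}, a ∈ D → ∀ {x y z}, x ∈ Dd D a → y ∈ Cm D a → z ∈ Dd D y → a * x = y * z → y = a ∨ y = x
  nm : ∀ {a x}, a ∈ D → x ∈ Dd D a → a * x ∉ D

theorem LG.eq (h : LG D) {a : G} (ha : a ∈ D) {b : G} (hb : b ∈ Cm D a) : Cm D b = Cm D a :=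
  have k : ∀ {a b}, a ∈ D → b ∈ Cm D a → Cm D b ⊆ Cm D a := fun ha hb _ ⟨a1, _, a2, a3, a4⟩ =>
    h.step ha (h.step ha hb a2 a3) a1 a4
  (k ha hb).antisymm (k hb.1 (Cm.symm ha hb))

namespace LG

variable [Finite G] (h : LG D) (hM : ∀ a ∈ D, MBs (Cm D a) r k c) {l : List ℕ} (hl : odB r c l = true) {a : G} (ha : a ∈ D)
include h hM hl ha

theorem mem_of_fix {e : G} (he : e ∈ D) (hg : e * a * e⁻¹ ∈ Cm D a) : e ∈ Cm D a := by
  obtain ⟨b, B, m⟩ := hM a ha e (h.mem_of_conj ha hg) (h.sq he)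
  obtain ⟨a1, -, a2⟩ := B.rel hl
  obtain _ | ⟨i, l⟩ := l
  · simp at a2
  exact h.step ha (B.mem i (a1 i List.mem_cons_self).2) he (B.comm_of_mem m (a1 i List.mem_cons_self).2)

theorem fix_of_comm {x g : G} (hx : x ∈ Dd D a) (hg : Commute g (a * x)) : g * a * g⁻¹ ∈ Cm D a := by
  have x1 := h.step ha (Cm.self ha) hx.1 hx.2.2
  have ax : a * (a * x) = x := by rw [← mul_assoc, h.sq ha, one_mul]
  obtain ⟨b, B, m⟩ := hM a ha (a * x) (mul_mem (subset_closure (Cm.self ha)) (subset_closure x1))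
    ((h.tt ha).sq_mul' (Cm.self ha) x1 hx.2.2)
  have o : orderOf (a * x) = 2 := orderOf_eq_prime ((_root_.sq _).trans ((h.tt ha).sq_mul' (Cm.self ha) x1 hx.2.2)) fun e =>
    hx.2.1 (by rw [← ax, e, mul_one])
  have c1 : Commute a (a * x) := (Commute.refl a).mul_right hx.2.2
  generalize a * x = u at *
  have : ((zpowers u).subgroupOf (centralizer {u})).Normal := normal_subgroupOf_of_le_normalizer (by
    rw [← Core.centralizer_zpowers]; exact centralizer_le_normalizer _)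
  have V := cov_mk o
  generalize QuotientGroup.mk' ((zpowers u).subgroupOf (centralizer {u})) = π at V
  set S : Set (centralizer {u}) := {y | (y : G) ∈ D ∧ y * u ∈ D}
  have u1 : u ≠ 1 := fun e => by simp [e] at o
  have dd : ∀ y ∈ S, y * u ∈ Dd D y := fun y hy =>
    ⟨hy.2, by simpa using u1, (Commute.refl _).mul_right (mem_centralizer_singleton_iff.1 y.2)⟩
  have eq : ∀ y ∈ S, ∀ z : centralizer {u}, π z = π y → (z : G) ∈ Cm D y := fun y hy z e => by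
    rcases V.eq_iff.1 e with rfl | rfl
    exacts [Cm.self hy.1, h.step hy.1 (Cm.self hy.1) hy.2 (dd y hy).2.2]
  have fx : ∀ y ∈ S, ∀ e : centralizer {u}, (e : G) ∈ D → Commute (π e) (π y) → (e : G) ∈ Cm D y := fun y hy e he c =>
    h.mem_of_fix hM hl hy.1 he (eq y hy (e * y * e⁻¹) (by simpa using conj_eq_self_iff.2 c))
  have un : ∀ y ∈ S, ∀ z ∈ S, (z : G) ∈ Cm D y → π z = π y := fun y hy z hz m => V.eq_iff.2 ((h.pair_unique hy.1 (dd y hy) m
    (dd z hz) (by rw [← mul_assoc, ← mul_assoc, h.sq hy.1, h.sq hz.1])).imp Subtype.ext Subtype.ext)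
  have cj : ∀ g, ∀ y ∈ S, g * y * g⁻¹ ∈ S := fun g y hy => ⟨h.conj g y hy.1, by
    convert h.conj g _ hy.2 using 1
    simp only [coe_mul, coe_inv, mul_assoc, mem_centralizer_singleton_iff.1 (inv_mem g.2)]⟩
  let a' : centralizer {u} := ⟨a, mem_centralizer_singleton_iff.2 c1⟩
  have a1 : a' ∈ S := ⟨ha, ax ▸ hx.1⟩
  have y1 := cj ⟨g, mem_centralizer_singleton_iff.2 hg⟩ a' a1
  refine eq a' a1 (⟨g, mem_centralizer_singleton_iff.2 hg⟩ * a' * (⟨g, mem_centralizer_singleton_iff.2 hg⟩)⁻¹) ?_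
  generalize (⟨g, mem_centralizer_singleton_iff.2 hg⟩ : centralizer {u}) * a' * _ = y at y1
  obtain ⟨l1, l2, l3⟩ := B.rel hl
  have k : ∀ L : List (centralizer {u}), (∀ e ∈ L, (e : G) ∈ Cm D a) → ∀ y ∈ S,
      π L.prod * π y * (π L.prod)⁻¹ = π a' ^ L.length * π y * (π a' ^ L.length)⁻¹ := fun L hL => by
    induction L with
    | nil => simp
    | cons e L ih =>
      intro y hy
      have := midpoint (D := π '' S) (by rintro _ ⟨y, a, rfl⟩; rw [← map_mul, show y * y = 1 from Subtype.ext (h.sq a.1), map_one])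
        (by rintro g _ ⟨y, a, rfl⟩; obtain ⟨g, rfl⟩ := V.surj g; exact ⟨_, cj g y a, by simp⟩)
        (by rintro _ ⟨y, a, rfl⟩ _ ⟨z, b, rfl⟩ c; exact un z b y a (fx z b y a.1 c)) (e := π e) (x := π a')
        (by rw [← map_mul, show e * e = 1 from Subtype.ext (h.sq (hL e List.mem_cons_self).1), map_one])
        (by
          rintro _ ⟨s, b, rfl⟩ c
          exact un a' a1 s b (h.eq ha (hL e List.mem_cons_self) ▸ Cm.symm b.1 (fx s b e (hL e List.mem_cons_self).1 c)))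
        ⟨_, cj (a' ^ L.length) y hy, rfl⟩
      rw [map_mul, map_mul, map_inv, map_pow] at this
      rw [List.prod_cons, map_mul, ← conj_conj', ih (fun e he => hL e (List.mem_cons_of_mem _ he)) y hy, this, List.length_cons,
        pow_succ', conj_conj']
  have l4 : ∀ x ∈ l.map b, x ∈ Cm D a ∧ x ∈ centralizer {u} := List.forall_mem_map.2 fun i hi =>
    ⟨B.mem i (l1 i hi).2, mem_centralizer_singleton_iff.2 (B.comm_of_mem m (l1 i hi).2)⟩
  lift l.map b to List (centralizer {u}) using fun x hx => (l4 x hx).2 with L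
  have := k L (fun e he => (l4 _ (List.mem_map_of_mem he)).1) y y1
  rw [show L.prod = 1 from Subtype.ext ((val_list_prod _ L).trans l2)] at this
  obtain ⟨n, e⟩ := List.length_map Subtype.val ▸ l3
  rw [e, pow_succ, pow_mul, _root_.sq, ← map_mul π a', show a' * a' = 1 from Subtype.ext (h.sq ha)] at this
  exact un a' a1 y y1 (fx a' a1 y y1.1 (conj_eq_self_iff.1 (by simpa using this.symm)).symm)

theorem mem_of_comm {x e : G} (hx : x ∈ Dd D a) (he : e ∈ D) (hg : Commute e (a * x)) : e ∈ Cm D a :=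
  h.mem_of_fix hM hl ha he (h.fix_of_comm hM hl ha hx hg)

theorem odd {e : G} (he : e ∈ D) (n : e ∉ Cm D a) : ∃ m : ℕ, (a * e) ^ m * e * ((a * e) ^ m)⁻¹ = a :=
  (dih (h.sq ha) (h.sq he)).resolve_right fun ⟨m, a1, _, a3, a4, a5⟩ => n (h.mem_of_comm hM hl ha (x := a * (a * e) ^ (m + 1))
    ⟨a5 ▸ palindrome_mem (fun _ => h.sq) h.conj m a ha e he, by simpa using a1, (Commute.refl a).mul_right a3⟩ he
    (by rwa [← mul_assoc, h.sq ha, one_mul]))

omit hl in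
theorem all (hl : glB r k c l = true) : Cm D a = D := by
  simp only [glB, Bool.and_eq_true, mapK_eq, force_eq, allN_iff] at hl
  refine Set.Subset.antisymm (fun _ x => x.1) fun w hw => by_contra fun n => ?_
  obtain ⟨x, hx⟩ := h.ne ha
  have x1 := h.step ha (Cm.self ha) hx.1 hx.2.2
  rcases dih (h.sq hw) ((h.tt ha).sq_mul' (Cm.self ha) x1 hx.2.2) with ⟨m, e⟩ | ⟨m, u1, u2, u3, u4, -⟩
  · exact h.nm ha hx ((conj_mem_iff h.conj).1 (e ▸ hw))
  generalize (w * (a * x)) ^ (m + 1) = u at *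
  obtain ⟨b, B, m0⟩ := hM a ha u (h.mem_of_conj ha (h.fix_of_comm hM hl.1 ha hx u4.symm)) u2
  have cm := fun i => B.comm_of_mem m0 (i := i)
  obtain ⟨m, m1, rfl⟩ := B.surj m0
  have k1 : ∀ m < 2 ^ k, bt (msk (((List.range r).map c).flatMap fun x => ((List.range r).map c).map (Nat.xor x))) m = true ↔
      ∃ p ∈ D, ∃ q ∈ D, Commute p q ∧ evb b k m = p * q := fun m hm => by
    simp only [bt_eq, testBit_msk, List.mem_flatMap, List.mem_map, List.mem_range, exists_exists_and_eq_and, xor_eq']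
    refine ⟨fun ⟨i, hi, j, hj, e⟩ => ⟨_, (B.mem i hi).1, _, (B.mem j hj).1, B.comm i hi j hj, by
      rw [← e, B.ea.xor, ← (B.co i hi).2, ← (B.co j hj).2]⟩, fun ⟨p, hp, q, hq, c, e⟩ => ?_⟩
    obtain ⟨l1, -, l2⟩ := B.rel hl.1
    obtain ⟨i, hi⟩ := List.exists_mem_of_length_pos (List.length_map b ▸ l2).pos
    by_cases e1 : q = p
    · exact ⟨i, (l1 i hi).2, i, (l1 i hi).2, by rw [B.inj m hm (by rw [e, e1, h.sq hp]), Nat.xor_self]⟩
    have c1 : ∀ i < r, Commute (b i) (p * q) := fun i hi => e ▸ B.comm_of_mem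
      (evb_mem (fun j hj => subset_closure (by exact ⟨j, hj.trans_le B.kr.1, rfl⟩)) m) hi
    have p1 : p ∈ Cm D a := h.eq ha (B.mem i (l1 i hi).2) ▸ Cm.symm hp
      (h.mem_of_comm hM hl.1 hp ⟨hq, e1, c⟩ (B.mem i (l1 i hi).2).1 (c1 i (l1 i hi).2))
    have q1 := h.step ha p1 hq c
    have c2 := fun i hi => ((h.tt ha).commute_mul_iff p1 q1 (B.mem i hi) (Ne.symm e1) c).1 (c1 i hi)
    obtain ⟨i, hi, rfl⟩ := B.max p p1 fun i hi => (c2 i hi).1
    obtain ⟨j, hj, rfl⟩ := B.max q q1 fun i hi => (c2 i hi).2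
    exact ⟨i, hi, j, hj, B.ea.inj B.inj (Nat.xor_lt_two_pow (B.co i hi).1 (B.co j hj).1) hm (by
      rw [e, B.ea.xor, ← (B.co i hi).2, ← (B.co j hj).2])⟩
  have k2 : ∀ i < r, ∃ g, Commute g (evb b k m) ∧ g * b i * g⁻¹ = w := fun i hi => by
    obtain ⟨j, e⟩ := h.odd hM hl.1 hw (B.mem i hi).1 fun a => n (h.eq ha (B.mem i hi) ▸ Cm.symm hw a)
    exact ⟨_, (u3.mul_left (cm i hi)).pow_left j, e⟩
  have := hl.2 m m1
  rw [cnd_eq, cnd_eq] at this
  split_ifs at this with t1 t2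
  · obtain ⟨i, hi, rfl⟩ := List.mem_map.1 (testBit_msk.1 (bt_eq _ _ ▸ t1))
    exact n (h.step ha (B.mem i (List.mem_range.1 hi)) hw ((B.co i (List.mem_range.1 hi)).2 ▸ u3.symm))
  · obtain ⟨p, hp, q, hq, c, e⟩ := (k1 m m1).1 t2
    have hq' : q ∈ Dd D p := ⟨hq, fun e1 => u1 (by rw [e, e1, h.sq hp]), c⟩
    obtain ⟨l1, -, l2⟩ := B.rel hl.1
    obtain ⟨i, hi⟩ := List.exists_mem_of_length_pos (List.length_map b ▸ l2).pos
    have := h.mem_of_comm hM hl.1 hp hq' (B.mem i (l1 i hi).2).1 (e ▸ cm i (l1 i hi).2)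
    exact n (h.eq ha (B.mem i (l1 i hi).2) ▸ h.eq hp this ▸ h.mem_of_comm hM hl.1 hp hq' hw (e ▸ u3))
  simp only [Bool.and_eq_true, List.any_eq_true, List.mem_map, List.mem_range, exists_exists_and_eq_and, Bool.not_eq_true',
    xor_eq'] at this
  obtain ⟨⟨i, hi, t3⟩, j, hj, t4⟩ := this
  obtain ⟨p, hp, q, hq, c, e⟩ := (k1 _ (Nat.xor_lt_two_pow m1 (B.co i hi).1)).1 t3
  obtain ⟨g, g1, g2⟩ := k2 i hi
  obtain ⟨f, f1, f2⟩ := k2 j hj
  refine absurd ((k1 _ (Nat.xor_lt_two_pow m1 (B.co j hj).1)).2 ⟨_, h.conj (f⁻¹ * g) p hp, _, h.conj (f⁻¹ * g) q hq,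
    commute_conj_conj_iff.2 c, ?_⟩) (by simpa using t4)
  rw [conj_mul, ← e, B.ea.xor, B.ea.xor, ← (B.co i hi).2, ← (B.co j hj).2, ← conj_mul, (f1.inv_left.mul_left g1).eq,
    mul_inv_cancel_right, ← conj_conj', g2, ← f2]
  group

end LG

theorem gl6 : glB 21 9 BU.c [1, 3, 5, 8, 15] = true := by decide +kernel
theorem bu_pair : ∀ i < 21, ∀ j < 21, ∀ m < 21, i ≠ j → BU.c i ^^^ BU.c j ≠ BU.c m ∧ ∀ n < 21, BU.c i ^^^ BU.c j = BU.c m ^^^ BU.c n → m = i ∨ m = j := by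
  decide +kernel

theorem MBs.cj (h : MBs T r k c) (g : G) : MBs ((MulAut.conj g).toMonoidHom '' T) r k c := fun u hu u2 => by
  rw [← MonoidHom.map_closure] at hu
  obtain ⟨u, hu, rfl⟩ := hu
  have i : Function.Injective (MulAut.conj g).toMonoidHom := (MulAut.conj g).injective
  generalize hf : (MulAut.conj g).toMonoidHom = f at *
  obtain ⟨b, B, m⟩ := h u hu (i (by rw [map_mul, u2, map_one]))
  have e := map_evb f b k
  refine ⟨fun i => f (b i), ⟨B.tt.map i, fun i hi => ⟨_, B.mem i hi, rfl⟩, fun i hi j hj => (B.comm i hi j hj).map f, ?_, B.kr,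
    fun j hj => ⟨(B.co j hj).1, (congrArg f (B.co j hj).2).trans (e _)⟩, fun m hm a => B.inj m hm (i ((e m).trans (a.trans (map_one f).symm))),
    fun x hx y hy a => B.binj x hx y hy (i a)⟩, (map_Bs f b r).le ⟨_, m, rfl⟩⟩
  rintro _ ⟨y, hy, rfl⟩ hc
  exact (B.max y hy fun j hj => i (by rw [map_mul, map_mul]; exact hc j hj)).imp fun j a => ⟨a.1, congrArg f a.2⟩

/-- A `U₆(2)` system which controls the centraliser and the class of one of its members. -/
structure GT (a : G) (T : Set G) : Prop where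
  u6 : U6 T
  mem : a ∈ T
  cen : centralizer {a} ≤ closure T
  cls : ∀ v ∈ closure T, IsConj a v → v ∈ T
  mbs : MBs T 21 9 BU.c

theorem GT.cj {a : G} (h : GT a T) (g : G) : GT (g * a * g⁻¹) ((MulAut.conj g).toMonoidHom '' T) := by
  have t := h.u6.vw.tt
  refine ⟨(corr_map t _ (MulAut.conj g).injective.injOn (fun _ _ _ _ => by simp only [map_mul]) fun x hx =>
    ⟨by rw [← map_mul, t.sq hx, map_one], fun e => t.ne_one hx ((MulAut.conj g).injective (e.trans (map_one _).symm))⟩).u6 h.u6,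
    ⟨a, h.mem, rfl⟩, fun v hv => ?_, fun v hv e => ?_, MBs.cj h.mbs g⟩ <;> rw [← MonoidHom.map_closure] at *
  · exact ⟨g⁻¹ * v * g, h.cen (mem_centralizer_singleton_iff.2 (commute_conj_left_iff.1
      (Commute.symm (mem_centralizer_singleton_iff.1 hv))).symm), by simp [mul_assoc]⟩
  · obtain ⟨v, hv, rfl⟩ := hv
    exact ⟨v, h.cls v hv (((isConj_iff.2 ⟨g, rfl⟩).trans e).trans (isConj_iff.2 ⟨g, rfl⟩).symm), rfl⟩

theorem GT.step [Finite G] {a b v : G} (h : GT a T) (hb : b ∈ T) (hv : IsConj a v) (c : Commute b v) : v ∈ T := by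
  obtain ⟨g, g1, rfl⟩ := h.u6.r3.tr a h.mem b hb
  have := h.cen (mem_centralizer_singleton_iff.2 (commute_conj_left_iff.1 c).symm)
  exact h.cls v ((mul_mem_cancel_left (inv_mem g1)).1 ((mul_mem_cancel_right g1).1 this)) hv

theorem GT.cm [Finite G] {a z : G} (h : GT a T) (e : IsConj z a) : Cm (conjugatesOf z) a = T := by
  refine Set.Subset.antisymm (fun b ⟨b1, w, w1, w2, w3⟩ => h.step (h.step h.mem (e.symm.trans w1) w2) (e.symm.trans b1) w3) fun b hb => ?_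
  have k : ∀ b ∈ T, IsConj z b := fun b hb => let ⟨g, _, a⟩ := h.u6.r3.tr a h.mem b hb; e.trans (isConj_iff.2 ⟨g, a⟩)
  by_cases n : Commute a b
  · exact ⟨k b hb, a, e, .refl _, n⟩
  obtain ⟨y, hy⟩ := h.u6.vw.dd a h.mem
  obtain ⟨w, ⟨a1, a2⟩, -⟩ := h.u6.mu_unique h.mem hb n hy
  exact ⟨k b hb, w, k w a1.1.1, a1.1.2.2, a2.symm⟩

theorem GT.top [Finite G] {z : G} (h : GT z T) : closure T = ⊤ ∧ T = conjugatesOf z := by
  have k : ∀ {a}, a ∈ conjugatesOf z → GT a (Cm (conjugatesOf z) a) := fun {a} ha => by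
    obtain ⟨g, rfl⟩ := isConj_iff.1 ha
    exact ((h.cj g).cm ha).symm ▸ h.cj g
  have b2 : ∀ {a x}, a ∈ conjugatesOf z → x ∈ Dd (conjugatesOf z) a → ∃ b, BM (Cm (conjugatesOf z) a) 21 9 BU.c b ∧
      (∀ i < 21, Commute (b i) (a * x)) ∧ ∀ y ∈ Cm (conjugatesOf z) a, ∀ w ∈ Dd (conjugatesOf z) y, a * x = y * w →
        ∃ i < 21, ∃ j < 21, b i = y ∧ b j = w := fun {a x} ha hx => by
    have T := (k ha).u6.vw.tt
    have st : ∀ y ∈ Cm (conjugatesOf z) a, ∀ w ∈ Dd (conjugatesOf z) y, w ∈ Cm (conjugatesOf z) a := fun y hy w hw =>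
      (k ha).step hy (IsConj.trans (IsConj.symm ha) hw.1) hw.2.2
    have x1 := st a (Cm.self ha) x hx
    obtain ⟨b, B, m⟩ := (k ha).mbs (a * x) (mul_mem (subset_closure (Cm.self ha)) (subset_closure x1)) (T.sq_mul' (Cm.self ha) x1 hx.2.2)
    refine ⟨b, B, fun i => B.comm_of_mem m, fun y hy w hw e => ?_⟩
    have c2 := fun i hi => (T.commute_mul_iff hy (st y hy w hw) (B.mem i hi) hw.2.1.symm hw.2.2).1 (e ▸ B.comm_of_mem m hi)
    obtain ⟨i, hi, e1⟩ := B.max y hy fun i hi => (c2 i hi).1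
    obtain ⟨j, hj, e2⟩ := B.max w (st y hy w hw) fun i hi => (c2 i hi).2
    exact ⟨i, hi, j, hj, e1, e2⟩
  have L : LG (conjugatesOf z) := by
    refine ⟨fun g x hx => hx.trans (isConj_iff.2 ⟨g, rfl⟩), fun ha => (k ha).u6.vw.tt.sq (Cm.self ha),
      fun ha hb hv => (k ha).step hb (IsConj.trans (IsConj.symm ha) hv), fun ha => (k ha).u6.vw.tt, fun {a} ha g hg => ?_,
      fun ha => ((k ha).u6.vw.dd _ (Cm.self ha)).imp fun _ x => ⟨x.1.1, x.2⟩, fun {a} ha x y w hx hy hw e => ?_, fun {a x} ha hx e => ?_⟩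
    · obtain ⟨x, a1, a2⟩ := (k ha).u6.r3.tr a (Cm.self ha) _ hg
      refine (mul_mem_cancel_left (inv_mem a1)).1 ((k ha).cen (mem_centralizer_singleton_iff.2 ?_))
      calc _ = x⁻¹ * (g * a * g⁻¹) * g := by group
        _ = _ := by rw [← a2]; group
    · obtain ⟨b, B, -, m⟩ := b2 ha hx
      obtain ⟨i, hi, j, hj, rfl, rfl⟩ := m a (Cm.self ha) x hx rfl
      obtain ⟨p, hp, q, hq, rfl, rfl⟩ := m y hy w hw e
      exact ((bu_pair i hi j hj p hp fun e => hx.2.1 (e ▸ rfl)).2 q hq (B.ea.inj B.inj (Nat.xor_lt_two_pow (B.co i hi).1 (B.co j hj).1)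
        (Nat.xor_lt_two_pow (B.co p hp).1 (B.co q hq).1) (by
          rw [B.ea.xor, B.ea.xor, ← (B.co i hi).2, ← (B.co j hj).2, ← (B.co p hp).2, ← (B.co q hq).2, e]))).imp (congrArg b) (congrArg b)
    · obtain ⟨b, B, c, m⟩ := b2 ha hx
      obtain ⟨p, hp, e1⟩ := B.max (a * x) ((k ha).step (Cm.self ha) (IsConj.trans (IsConj.symm ha) e) ((Commute.refl a).mul_right hx.2.2)) c
      obtain ⟨i, hi, j, hj, rfl, rfl⟩ := m a (Cm.self ha) x hx rfl
      exact (bu_pair i hi j hj p hp fun e => hx.2.1 (e ▸ rfl)).1 (B.ea.inj B.inj (Nat.xor_lt_two_pow (B.co i hi).1 (B.co j hj).1) (B.co p hp).1 (by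
        rw [B.ea.xor, ← (B.co i hi).2, ← (B.co j hj).2, ← (B.co p hp).2, e1]))
  have e := L.all (fun a ha => (k ha).mbs) (IsConj.refl z) gl6
  have e' := h.cm (.refl z)
  exact ⟨eq_top_iff.2 fun g _ => e' ▸ L.mem_of_conj (IsConj.refl z) (e.symm ▸ isConj_iff.2 ⟨g, rfl⟩), e'.symm.trans e⟩

end Cfsg.Lib.Fi
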