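import Cfsg.Agent.Lib.Fi.Fr18
import Cfsg.Agent.Lib.Fi.Gl4
import Cfsg.Agent.Lib.Fi.Fr15

/-! Groups of large Fischer type: recognition of `2².U₆(2)`. -/

set_option maxRecDepth 100000
set_option linter.unusedSectionVars false
set_option synthInstance.maxSize 4000

namespace Cfsg.Lib.Fi

open Cfsg.Lib.Comp Subgroup A12 Cfsg.Lib.Core Cfsg.Lib.Known2 Cfsg.Lib.Amalg U45

universe u

variable {G : Type u} [Group G] {z : G} {A : Subgroup G} {μ : ℕ → G}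

theorem corr_tu {K : Type*} [Group K] {X : Set G} {Z : Set K} {ρ : G → K → Prop} (C : Corr X Z ρ) {n : ℕ} (T : TU' X n) : TU' Z n := by
  obtain ⟨F, _, σ, h, τ, U⟩ := T
  choose! f hf using fun v c => C.s₁ _ (U.mem v c)
  refine ⟨F, _, σ, h, f, fun v hv => (C.m _ _ (hf v hv)).2, fun y hy => ?_, fun v hv => C.t₂.sq (C.m _ _ (hf v hv)).2,
    fun v hv => C.t₂.ne_one (C.m _ _ (hf v hv)).2, fun u v hu hv => ?_, fun u v hu hv => (C.e _ _ _ _ (hf u hu) (hf v hv)).symm.trans (U.eq_iff u v hu hv)⟩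
  · obtain ⟨x, a⟩ := C.s₂ y hy
    obtain ⟨v, hv, rfl⟩ := U.surj x (C.m _ _ a).1
    exact ⟨v, hv, (C.e _ _ _ _ (hf v hv) a).1 rfl⟩
  · exact (C.e _ _ _ _ (C.c _ _ _ _ (hf u hu) (hf v hv)) (hf _ (hu.tv hv))).1 (U.conj u v hu hv)

theorem corr_u6 {K : Type*} [Group K] {X : Set G} {Z : Set K} (h : U6 X) (k : U6 Z) : ∃ ρ, Corr X Z ρ := by
  obtain ⟨s, H⟩ := h.cm
  obtain ⟨t, L⟩ := k.cm
  exact ⟨_, Corr.of_param (P := fun i => okU i = true) H.tt L.tt (fun x => ⟨H.cc.surj x, fun ⟨u, a, e⟩ => e ▸ H.cc.mem u a⟩)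
    (fun x => ⟨L.cc.surj x, fun ⟨u, a, e⟩ => e ▸ L.cc.mem u a⟩)
    (fun i j a b => ⟨fun e => congrArg t (H.cc.inj i j a b e), fun e => congrArg s (L.cc.inj i j a b e)⟩)
    fun i j a b => ⟨_, (H.cc.conj i j a b).1, (H.cc.conj i j a b).2.symm, (L.cc.conj i j a b).2.symm⟩⟩

theorem psu_six {F : Type*} [Field F] [Fintype F] (hF : Fintype.card F = 4) {n : ℕ} (hn : 4 ≤ n) (h1 : 2 ^ 13 ∣ Nat.card (PSU n F 2) * 4)
    (h2 : ¬ 2 ^ 22 ∣ Nat.card (PSU n F 2) * 4) : n = 6 := by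
  have h := Cfsg.Agent.S0280.result (q := 2) hF n (by omega)
  by_contra c
  rcases (by omega : n = 4 ∨ n = 5 ∨ 7 ≤ n) with rfl | rfl | l
  · norm_num [Finset.prod_range_succ] at h; omega
  · norm_num [Finset.prod_range_succ] at h; omega
  have a : 2 ^ 21 ∣ Nat.gcd n (2 + 1) * ((2 + 1) * Nat.card (PSU n F 2)) :=
    h ▸ (pow_dvd_pow 2 ((Nat.le_div_iff_mul_le two_pos).2 (show 7 * 6 ≤ n * (n - 1) from Nat.mul_le_mul l (by omega : 6 ≤ n - 1)))).mul_right _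
  have b := a.trans (mul_dvd_mul_right (Nat.gcd_dvd_right n (2 + 1)) _)
  omega

theorem BS0.A_le [Finite G] (h : BS0 z A μ) {N : Subgroup G} (hN : ∀ a < 24, a ∉ [21, 18, 9] → μ (za a) ∈ N) : A ≤ N := fun y hy => by
  obtain ⟨c, hc, rfl⟩ := h.mem y hy
  have k : ∀ l : List ℕ, (∀ a ∈ l, a < 24 ∧ a ∉ [21, 18, 9]) → μ (l.foldr (fun a c => za a ^^^ c) 0) ∈ N := fun l hl => by
    induction l with
    | nil => exact h.zero ▸ one_mem N
    | cons a l ih => exact h.mul _ _ ▸ mul_mem (hN a (hl a List.mem_cons_self).1 (hl a List.mem_cons_self).2) (ih fun b hb => hl b (List.mem_cons_of_mem _ hb))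
  refine xor_ind (p := fun c => μ c ∈ N) 11 (h.zero ▸ one_mem N) (fun i hi => ?_) (fun m _ n _ a b => h.mul _ _ ▸ mul_mem a b) c hc
  obtain ⟨l, -, a, b⟩ := (by decide +kernel : ∀ i < 11, ∃ l ∈ [[20, 13, 3, 2, 1, 0], [16, 14, 12, 2, 1, 0], [15, 6], [15, 8], [5, 3], [14, 3], [23, 17],
    [23, 22], [1, 0], [2, 0], [0]], (∀ a ∈ l, a < 24 ∧ a ∉ [21, 18, 9]) ∧ l.foldr (fun a c => za a ^^^ c) 0 = 2 ^ i) i hi
  exact b ▸ k l a

theorem LD.psu [Finite G] (h : LD z A μ) (K : Type) [Field K] [Fintype K] (hK : Fintype.card K = 4) {S : Type u} [Group S] (π : YE (μ 1) (μ 2) →* S)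
    (p1 : Function.Surjective π) (p2 : ∀ y, π y = 1 ↔ y.1 ∈ closure ({μ 1, μ 2} : Set G)) : Nonempty (S ≃* PSU 6 K 2) := by
  have : Finite S := .of_surjective π p1
  have z0 : z ∈ YE (μ 1) (μ 2) := h.z_Z.1
  have EY : closure ({μ 1, μ 2} : Set G) ≤ YE (μ 1) (μ 2) := (closure_le _).2 (by rintro _ (rfl | rfl) <;> exact h.A_Y (h.all _))
  have ck : Nat.card π.ker = 4 := by
    rw [show π.ker = (closure {μ 1, μ 2}).subgroupOf _ from Subgroup.ext p2, Nat.card_congr (subgroupOfEquivOfLe EY).toEquiv, h.E_card]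
  have t2 : ∀ x y : YE (μ 1) (μ 2), x.1 ∈ ZE z (μ 1) (μ 2) → y.1 ∈ ZE z (μ 1) (μ 2) → π x = π y → x = y := fun x y hx hy e =>
    Subtype.ext (h.eq_of hx hy.2.1 ((p2 (x⁻¹ * y)).1 (by simp [e])))
  have t5 : ∀ g x : YE (μ 1) (μ 2), x.1 ∈ ZE z (μ 1) (μ 2) → Commute (π g) (π x) → Commute g x := fun g x hx c =>
    conj_eq_self_iff.1 (t2 _ _ (ZE.conj' hx g.2) hx (by simpa using conj_eq_self_iff.2 c))
  have C1 := corr_sub' h.tt (K := YE (μ 1) (μ 2)) fun y hy => (h.TZ hy).1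
  have C2 := corr_map C1.t₂ π (fun x a y b => t2 x y (h.TZ a) (h.TZ b)) (fun _ _ _ _ => by simp only [map_mul]) fun a ha =>
    ⟨by rw [← map_mul, C1.t₂.sq ha, map_one], fun e => by
      have i := (h.TZ ha).2.1
      rcases h.mem_E.1 ((p2 a).1 e) with e | e | e | e <;> rw [e] at i
      exacts [h.ne_of i rfl, (h.dd (by norm_num) (by decide +kernel)).2 i, (h.dd (by norm_num) (by decide +kernel)).2 i,
        (h.dd (by norm_num) (by decide +kernel)).2 i]⟩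
  set T := π '' ((↑) ⁻¹' T2 z μ z : Set (YE (μ 1) (μ 2))) with hT
  have mT : ∀ {y} (hy : y ∈ T2 z μ z), π ⟨y, (h.TZ hy).1⟩ ∈ T := fun hy => ⟨_, hy, rfl⟩
  have pT : ∀ a < 24, a ∉ [21, 18, 9] → μ (za a) ∈ T2 z μ z := fun a a1 a2 =>
    h.step T2.self (by simpa [h.z0] using h.simP (a := 0) (by norm_num) (by decide) a1 a2)
  have C3 := corr_sub C2.t₂
  have top : closure ((↑) ⁻¹' T : Set (closure T)) = ⊤ := closure_closure_coe_preimage
  have ctr : center (closure T) = ⊥ := (eq_bot_iff_forall _).2 fun ⟨g, hg⟩ c => by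
    obtain ⟨g, rfl⟩ := p1 g
    have k : ∀ y ∈ T2 z μ z, Commute g.1 y := fun y hy => commute_coe.2 (t5 g ⟨y, (h.TZ hy).1⟩ (h.TZ hy)
      (congrArg Subtype.val (mem_center_iff.1 c ⟨_, subset_closure (mT hy)⟩)).symm)
    obtain ⟨b, x, b1, x1, -, -, -, -, l⟩ := h.lk
    refine Subtype.ext ((p2 g).2 ((l g (h.cen fun a ha => mem_centralizer_singleton_iff.1 (h.A_le (N := centralizer {g.1})
      (fun a a1 a2 => mem_centralizer_singleton_iff.2 (k _ (pT a a1 a2)).symm) ha)) (k b (h.mN b1)) (k x (h.mN x1))).resolve_right fun e => ?_))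
    obtain ⟨y, y1, y2⟩ := h.r3.nc z T2.self
    exact y2 (by simpa using (k y y1).inv_left.mul_left (show Commute (g.1 * z) y from (h.TZ y1).1 _ e))
  obtain ⟨n, hn, U⟩ := h.tu
  obtain ⟨F, _, _, hF, e, -⟩ := (corr_tu C3 (corr_tu C2 (corr_tu C1 U))).iso hn top ctr
  have cN : Nat.card (((closure T).comap π).map (Subgroup.subtype _)) = Nat.card (PSU n F 2) * 4 := by
    rw [card_map_of_injective (subtype_injective _), card_comap_of_surjective p1, ck, Nat.card_congr e.toEquiv]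
  have mN : ∀ y ∈ T2 z μ z, y ∈ ((closure T).comap π).map (Subgroup.subtype _) := fun y hy => ⟨⟨y, (h.TZ hy).1⟩, subset_closure (mT hy), rfl⟩
  obtain rfl := psu_six hF hn (cN ▸ h.c2 _ (h.A_le fun a a1 a2 => mN _ (pT a a1 a2)) fun y k => mN y (h.mN k))
    fun d => h.syl (d.trans (cN ▸ card_subgroup_dvd_card _))
  have U1 : U6 T := corr_tu C2 (corr_tu C1 U)
  have U2 := C3.u6 U1
  obtain ⟨Q, _, e', _, Y', b, U', P'⟩ := qp6 hK
  obtain ⟨φ, hφ⟩ := (corr_u6 U2 U').choose_spec.iso top ctr P'.top P'.ctr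
  obtain ⟨b, P⟩ := U2.qp top ctr fun u u2 => by
    obtain ⟨Z, z1, z2, z3⟩ := P'.fac (φ u) (by rw [← map_mul, u2, map_one])
    refine ⟨φ.symm '' Z, ?_, ?_, ?_⟩
    · rintro _ ⟨y, hy, rfl⟩
      obtain ⟨x, a, rfl⟩ := hφ.ge (z1 hy)
      simpa using a
    · rintro _ ⟨x, a, rfl⟩ _ ⟨y, c, rfl⟩; exact (z2 x a y c).map φ.symm
    · exact (MonoidHom.map_closure φ.symm.toMonoidHom Z).le ⟨_, z3, φ.symm_apply_apply u⟩
  have M := mbs_of C2.t₂ P.jb P.fac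
  have zT := mT (T2.self (a := z))
  suffices k : GT (π ⟨z, z0⟩) T from ⟨(topEquiv.symm.trans (MulEquiv.subgroupCongr k.top.1.symm)).trans (φ.trans e'.symm)⟩
  refine ⟨U1, zT, ?_, fun v hv c => ?_, M⟩
  · have a := card_conj_orbit (closure T).subtype (π ⟨z, z0⟩)
    rw [show (Set.range fun u : closure T => (closure T).subtype u * π ⟨z, z0⟩ * ((closure T).subtype u)⁻¹) = T from Set.ext fun y =>
      ⟨fun ⟨u, e⟩ => e ▸ C2.t₂.conj_mem u.2 zT, fun hy => let ⟨g, a, b⟩ := U1.r3.tr _ zT y hy; ⟨⟨g, a⟩, b⟩⟩, U1.ncard,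
      Nat.card_congr e.toEquiv, card_psu62 hF, ← card_map_of_injective (subtype_injective _), comap_subtype, subgroupOf_map_subtype] at a
    have b := card_comap_of_surjective p1 (centralizer {π ⟨z, z0⟩})
    rw [show (centralizer {π ⟨z, z0⟩}).comap π = (YE (μ 1) (μ 2) ⊓ centralizer {z}).subgroupOf _ from Subgroup.ext fun g => by
      rw [mem_comap, mem_subgroupOf, mem_inf, mem_centralizer_singleton_iff, mem_centralizer_singleton_iff, and_iff_right g.2]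
      exact ⟨fun c => commute_coe.2 (t5 g ⟨z, z0⟩ h.z_Z c), fun c => (commute_coe.1 (show Commute g.1 (⟨z, z0⟩ : YE (μ 1) (μ 2)).1 from c)).map π⟩,
      Nat.card_congr (subgroupOfEquivOfLe inf_le_left).toEquiv, h.c1, ck] at b
    exact (eq_of_le_of_card_ge inf_le_left (by omega)).ge.trans inf_le_right
  obtain ⟨g, rfl⟩ := isConj_iff.1 c
  obtain ⟨g, rfl⟩ := p1 g
  have yZ : (g * ⟨z, z0⟩ * g⁻¹).1 ∈ ZE z (μ 1) (μ 2) := ZE.conj' h.z_Z g.2
  rw [← map_inv, ← map_mul, ← map_mul] at hv ⊢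
  generalize g * ⟨z, z0⟩ * g⁻¹ = y at hv yZ
  obtain ⟨b, B, m⟩ := M _ hv (by rw [← map_mul, ← map_one π]; exact congrArg π (Subtype.ext (h.sq_of yZ.2.1)))
  have ce : ∀ x y : YE (μ 1) (μ 2), π x = 1 → Commute x y := fun x y e => Subtype.ext (y.2 _ ((p2 x).1 e))
  have t3 : ∀ x : YE (μ 1) (μ 2), π x ∈ T → ∃ y a : YE (μ 1) (μ 2), y.1 ∈ T2 z μ z ∧ π a = 1 ∧ x = y * a := fun x ⟨y, a, b⟩ =>
    ⟨y, y⁻¹ * x, a, by simp [b], by simp⟩
  obtain ⟨w, w0, w1⟩ := B.mem 0 (by norm_num)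
  have k : (closure (Bs b 21)).comap π ≤ closure (π ⁻¹' Bs b 21) := fun x hx => by
    obtain ⟨y, y1, y2⟩ : π x ∈ (closure (π ⁻¹' Bs b 21)).map π := by rwa [MonoidHom.map_closure, Set.image_preimage_eq _ p1]
    have : w * (y⁻¹ * x) ∈ π ⁻¹' Bs b 21 := ⟨0, by norm_num, by simp [y2, w1]⟩
    exact (mul_mem_cancel_left (inv_mem y1)).1 ((mul_mem_cancel_left (subset_closure (by exact ⟨0, by norm_num, w1.symm⟩))).1 (subset_closure this))
  obtain ⟨g, g1, g2⟩ := h.conj_A (B := ((closure (Bs b 21)).comap π).map (Subgroup.subtype _)) (map_subtype_le _)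
    (elem_of_sq (by
      rintro _ ⟨x, hx, rfl⟩
      refine congrArg Subtype.val (sq_of_mem_closure (Z := π ⁻¹' Bs b 21) (fun a ⟨i, hi, e⟩ => ?_) (fun a ⟨i, hi, e⟩ c ⟨j, hj, f⟩ => ?_) (k hx))
      · obtain ⟨y, a, b, c, rfl⟩ := t3 a (e ▸ B.mem i hi)
        rw [← pow_two, (ce a y c).symm.mul_pow, pow_two, pow_two, C1.t₂.sq b, one_mul]
        exact Subtype.ext (by rcases h.mem_E.1 ((p2 a).1 c) with e | e | e | e <;> simp [e, h.sq])
      · obtain ⟨y, a, b, d, rfl⟩ := t3 c (f ▸ B.mem j hj)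
        exact (t5 _ y (h.TZ b) (by simpa [e, f, d] using B.comm i hi j hj)).mul_right (ce a _ d).symm))
    (by rw [card_map_of_injective (subtype_injective _), card_comap_of_surjective p1, B.card, ck]; norm_num)
  exact mT (h.step w0 (h.pl (h.TZ w0) yZ g1 (g2.le (conj_mem_cj g ⟨w, subset_closure ⟨0, by norm_num, w1.symm⟩, rfl⟩)) (g2.le (conj_mem_cj g ⟨y, m, rfl⟩))))

theorem LD.bs [Finite G] (h : LD z A μ) : BS z A μ := ⟨h.toBS0, fun K _ _ hK _ _ π a b _ => .inl (h.psu K hK π a b)⟩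

theorem exists_BS' [Finite G] {z : G} {Q : Subgroup (centralizer ({z} : Set G))} [Q.Normal] (hF : IsOfLargeFischerTypeAt z Q) :
    ∃ A μ, BS z A μ ∧ μ 1 ∈ Qg Q ∧ μ 2 ∈ Qg Q ∧ ∀ t ∈ Q, t ≠ 1 → t * t = 1 → ¬ IsConj z t.1 → IsConj (μ 1) t.1 := by
  obtain ⟨ν, ρ, F, k⟩ := exists_FG hF
  obtain ⟨x, a, b⟩ := F.exists_x
  obtain ⟨s, f, F, e⟩ := k x a b
  obtain ⟨-, m1, m2⟩ := F.bs e
  refine ⟨_, _, (F.ld e).bs, mem_Qg.2 (m1 ▸ F.sQ 5), mem_Qg.2 (m2 ▸ F.sQ 10), fun t tQ t1 t2 n => ?_⟩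
  have n' : t.1 ≠ z := fun e => n (by rw [e])
  obtain ⟨g, -, e⟩ := F.conj_orb F.k1 orb1 (by norm_num) (F.sQ 5) tQ (by rw [F.sν 5 (by norm_num)]; decide +kernel)
    ((sing_iff.2 ⟨F.lt t, (F.sq tQ).1 t2, (F.ne_zero tQ).2 ⟨t1, fun e => n' (congrArg Subtype.val e)⟩⟩).resolve_right fun h => n ((F.hO t tQ n').2 h))
  exact isConj_iff.2 ⟨g, m1 ▸ congrArg Subtype.val e⟩

theorem iso_of_large' [Finite G] {z : G} {Q : Subgroup (centralizer ({z} : Set G))} [Q.Normal] (hF : IsOfLargeFischerTypeAt z Q) :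
    Nonempty (G ≃* Spor.Fi24') :=
  let ⟨_, μ, h, _⟩ := exists_BS' hF
  h.ys.fi24 (t := μ 1) (e := μ 2) ⟨1, by simp, by simp⟩ h.cz.le

end Cfsg.Lib.Fi
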