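import Cfsg.Agent.Lib.Fi.Fr1
import Cfsg.Agent.Lib.Layer.FStar
import Cfsg.Prelude.Def_MonsterType

/-! Groups `2^{1+12}.3.U₄(3).2`: coordinates on the extraspecial group. -/

namespace Cfsg.Lib.Fi

open Cfsg.Lib.Comp Subgroup A12 Cfsg.Lib.Core Cfsg.Lib.Known2
open scoped commutatorElement

variable {G : Type*} [Group G]

open Classical in
/-- The commutator form. -/
noncomputable def βf (a b : G) : ZMod 2 := if a * b = b * a then 0 else 1

open Classical in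
/-- The squaring form. -/
noncomputable def κf (a : G) : ZMod 2 := if a * a = 1 then 0 else 1

theorem β_zero {a b : G} : βf a b = 0 ↔ a * b = b * a := by unfold βf; split_ifs <;> simp [*]
theorem κ_zero {a : G} : κf a = 0 ↔ a * a = 1 := by unfold κf; split_ifs <;> simp [*]
theorem z2_ext : ∀ {a b : ZMod 2}, (a = 0 ↔ b = 0) → a = b := by decide
theorem z2_iff : ∀ a b : ZMod 2, a + b = 0 ↔ (a = 0 ↔ b = 0) := by decide
theorem β_comm (a b : G) : βf a b = βf b a := z2_ext (by rw [β_zero, β_zero, eq_comm])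
theorem β_self (a : G) : βf a a = 0 := β_zero.2 rfl
theorem β_conj (g a b : G) : βf (g * a * g⁻¹) (g * b * g⁻¹) = βf a b := z2_ext (by rw [β_zero, β_zero]; exact conj_comm)
theorem κ_conj (g a : G) : κf (g * a * g⁻¹) = κf a := z2_ext (by rw [κ_zero, κ_zero, conj_mul, conj_eq_one_iff])

section
variable {Q : Subgroup G} {z : G} (h : ES Q z)
include h

theorem _root_.Cfsg.Lib.Known2.ES.β_mul {a x y : G} (ha : a ∈ Q) (hx : x ∈ Q) (hy : y ∈ Q) : βf a (x * y) = βf a x + βf a y :=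
  z2_ext (by rw [β_zero, h.mul_comm_iff ha hx hy, z2_iff, β_zero, β_zero])

theorem _root_.Cfsg.Lib.Known2.ES.β_zp {a x : G} (ha : a ∈ Q) (hx : x ∈ zpowers z) : βf a x = 0 := β_zero.2 (by
  rcases h.mem_zp.1 hx with rfl | rfl
  exacts [by simp, h.cen a ha])

theorem _root_.Cfsg.Lib.Known2.ES.κ_zp {x : G} (hx : x ∈ zpowers z) : κf x = 0 := κ_zero.2 (by
  rcases h.mem_zp.1 hx with rfl | rfl
  exacts [by simp, h.sq])

theorem _root_.Cfsg.Lib.Known2.ES.κ_mul {x y : G} (hx : x ∈ Q) (hy : y ∈ Q) : κf (x * y) = κf x + κf y + βf x y := by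
  have n := h.ne
  have c := h.cen
  have e : ∀ u ∈ Q, y * x = x * y * u → x * y * (x * y) = x * x * (y * y) * (y⁻¹ * u * y) := fun u _ e => by
    calc _ = x * (y * x) * y := by group
      _ = _ := by rw [e]; group
  have z1 : y⁻¹ * z * y = z := by rw [mul_assoc, ← c y hy]; group
  have t : (1 + 1 : ZMod 2) = 0 := rfl
  unfold βf κf
  by_cases k : x * y = y * x
  · rw [e 1 (one_mem _) (by rw [k, mul_one]), if_pos k]
    rcases h.sq_mem x hx with a | a <;> rcases h.sq_mem y hy with b | b <;> simp [a, b, n, h.sq, t]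
  · rw [e z h.mem (h.anti hy hx (Ne.symm k)), if_neg k, z1]
    rcases h.sq_mem x hx with a | a <;> rcases h.sq_mem y hy with b | b <;> simp [a, b, n, h.sq, t]

theorem _root_.Cfsg.Lib.Known2.ES.card_cent [Finite G] {A : Subgroup G} (hA : A ≤ Q) (hz : z ∈ A) :
    Nat.card A * Nat.card ↥(Q ⊓ centralizer (A : Set G)) = 2 * Nat.card Q := by
  induction hn : Nat.card A using Nat.strong_induction_on generalizing A with | _ n ih
  by_cases c : A ≤ zpowers z
  · rw [← hn, le_antisymm c (zpowers_le.2 hz), card_zpowers_invol h.sq h.ne, inf_eq_left.2 fun g hg => mem_cent_zpowers.2 (h.cen g hg)]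
  obtain ⟨a, ha, n1⟩ := SetLike.not_le_iff_exists.1 c
  rw [h.mem_zp, not_or] at n1
  obtain ⟨g, hg, n2⟩ := h.exists_anti (hA ha) n1.1 n1.2
  have c1 := h.card_two hA hg ha (Ne.symm n2)
  have z1 : z ∈ A ⊓ centralizer {g} := ⟨hz, mem_cent_single.2 (h.cen g hg).symm⟩
  obtain ⟨y, hy, k1, k2⟩ := h.exists_sep (inf_le_left.trans hA) z1 (hA ha) fun e => n2 (mem_cent_single.1 e.2)
  have c2 := h.card_two (R := Q ⊓ centralizer (A ⊓ centralizer {g} : Subgroup G)) inf_le_left (hA ha)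
    ⟨hy, fun b hb => (k1 b hb).symm⟩ (Ne.symm k2)
  have p := Nat.card_pos (α := ↥(A ⊓ centralizer {g}))
  have := ih _ (by omega) (inf_le_left.trans hA) z1 rfl
  rw [← this, ← hn, c1, c2, show Q ⊓ centralizer (A ⊓ centralizer {g} : Subgroup G) ⊓ centralizer {a} = Q ⊓ centralizer (A : Set G) from
    le_antisymm (fun u hu => ⟨hu.1.1, fun b hb => ?_⟩) fun u hu => ⟨⟨hu.1, fun b hb => hu.2 b hb.1⟩, mem_cent_single.2 (hu.2 a ha).symm⟩]
  · ring
  have k := (mem_cent_single.1 hu.2).symm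
  by_cases e : g * b = b * g
  · exact hu.1.2 b ⟨hb, mem_cent_single.2 e.symm⟩
  have := hu.1.2 (a * b) ⟨mul_mem ha hb, mem_cent_single.2 ((h.mul_comm_iff hg (hA ha) (hA hb)).2 (iff_of_false (Ne.symm n2) e)).symm⟩
  exact (((h.mul_comm_iff hu.1.1 (hA ha) (hA hb)).1 this.symm).1 k.symm).symm
end

/-- `x` has order three and acts without fixed points on `Q/⟨z⟩`. -/
structure Fpf (Q : Subgroup G) (z x : G) : Prop where
  es : ES Q z
  cen : x * z = z * x
  nm : ∀ y ∈ Q, x * y * x⁻¹ ∈ Q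
  ord : x ^ 3 = 1
  fp : ∀ c ∈ Q, x * c = c * x → c = 1 ∨ c = z

namespace Fpf
variable {Q : Subgroup G} {z x : G} (h : Fpf Q z x)
include h

theorem tri {a : G} (ha : a ∈ Q) : a * (x * a * x⁻¹) * (x * (x * a * x⁻¹) * x⁻¹) ∈ zpowers z := by
  have h1 := h.nm a ha
  have h2 := h.nm _ h1
  have m := mul_mem (mul_mem ha h1) h2
  refine h.es.mem_zp.2 (h.fp _ m (h.es.odd_fix (k := 1) m h.ord ((h.es.mem_Tz m).2 ⟨h.cen, ?_⟩)))
  have := h.es.conj_eq (inv_mem ha) m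
  have k : x * (x * (x * a * x⁻¹) * x⁻¹) * x⁻¹ = a := by
    calc _ = x ^ 3 * a * (x ^ 3)⁻¹ := by simp only [pow_succ, pow_zero]; group
      _ = _ := by rw [h.ord]; group
  rwa [← conj_mul, ← conj_mul, k, show x * a * x⁻¹ * (x * (x * a * x⁻¹) * x⁻¹) * a =
    a⁻¹ * (a * (x * a * x⁻¹) * (x * (x * a * x⁻¹) * x⁻¹)) * a⁻¹⁻¹ by group]

theorem β_tri {a y : G} (ha : a ∈ Q) (hy : y ∈ Q) : βf y (x * (x * a * x⁻¹) * x⁻¹) = βf y a + βf y (x * a * x⁻¹) := by
  have h1 := h.nm a ha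
  have := h.es.β_zp hy (h.tri ha)
  rw [h.es.β_mul hy (mul_mem ha h1) (h.nm _ h1), h.es.β_mul hy ha h1] at this
  exact (z2_ext ((z2_iff _ _).1 this)).symm

theorem anti {a : G} (ha : a ∈ Q) : βf a (x * a * x⁻¹) = κf a := by
  have h1 := h.nm a ha
  have h2 := h.nm _ h1
  have k := h.es.κ_zp (h.tri ha)
  rw [h.es.κ_mul (mul_mem ha h1) h2, h.β_tri ha (mul_mem ha h1), ← h.es.β_mul (mul_mem ha h1) ha h1, β_self, h.es.κ_mul ha h1] at k
  simp only [κ_conj] at k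
  revert k; generalize κf a = s; generalize βf a _ = t; revert s t; decide

theorem basis [Finite G] (hQ : Nat.card Q = 2 ^ 13) : ∀ k ≤ 6, ∃ e : ℕ → G, (∀ i < 2 * k, e i ∈ Q ∧ κf (e i) = 1) ∧
    (∀ i < k, x * e (2 * i) * x⁻¹ = e (2 * i + 1)) ∧ (∀ i < 2 * k, ∀ j < 2 * k, βf (e i) (e j) = if i = j ^^^ 1 then 1 else 0) ∧
    ∃ R ≤ Q, (∀ y, y ∈ R ↔ y ∈ Q ∧ ∀ i < 2 * k, βf (e i) y = 0) ∧ Nat.card R * 4 ^ k = 2 ^ 13 ∧
      ∀ c ∈ R, (∀ y ∈ R, βf c y = 0) → c ∈ zpowers z := fun k => by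
  induction k with
  | zero => exact fun _ => ⟨fun _ => 1, by simp, by simp, by simp, Q, le_rfl, by simp, by simpa, fun c hc k =>
      h.es.mem_zp.2 (h.es.of_cen c hc fun y hy => β_zero.1 (k y hy))⟩
  | succ k ih =>
    intro hk
    obtain ⟨e, e1, e2, e3, R, r1, r2, r3, r4⟩ := ih (by omega)
    obtain ⟨a, ha, ka⟩ : ∃ a ∈ R, κf a = 1 := by
      by_contra! n
      have n := fun a ha => (z2_cases _).resolve_right (n a ha)
      have := card_le_of_le (show R ≤ zpowers z from fun c hc => r4 c hc fun y hy => by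
        simpa [n c hc, n y hy, n _ (mul_mem hc hy)] using (h.es.κ_mul (r1 hc) (r1 hy)).symm)
      rw [card_zpowers_invol h.es.sq h.es.ne] at this
      have : 4 ^ k ≤ 4 ^ 5 := Nat.pow_le_pow_right (by norm_num) (by omega)
      nlinarith
    have nR : ∀ y ∈ R, x * y * x⁻¹ ∈ R := fun y hy => (r2 _).2 ⟨h.nm y (r1 hy), fun i hi => by
      have hy' := ((r2 y).1 hy).2
      obtain ⟨j, rfl | rfl⟩ := Nat.even_or_odd' i
      · have := h.β_tri (e1 _ hi).1 (h.nm y (r1 hy))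
        rwa [β_conj, β_conj, e2 j (by omega), β_comm y, β_comm y, hy' _ hi, hy' _ (by omega), add_zero, eq_comm, β_comm] at this
      · rw [← e2 j (by omega), β_conj, hy' _ (by omega)]⟩
    set b := x * a * x⁻¹ with hb
    have hb' : b ∈ R := nR a ha
    have ab : βf a b = 1 := (h.anti (r1 ha)).trans ka
    have ba : βf b a = 1 := (β_comm _ _).trans ab
    have n1 : a * b ≠ b * a := fun e => by rw [β_zero.2 e] at ab; exact zero_ne_one ab
    have c1 := h.es.card_two r1 (r1 ha) hb' n1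
    have c2 := h.es.card_two (R := R ⊓ centralizer {a}) (inf_le_left.trans r1) (r1 hb') ⟨ha, mem_cent_single.2 rfl⟩ n1.symm
    have m : ∀ y, y ∈ R ⊓ centralizer {a} ⊓ centralizer {b} ↔ y ∈ R ∧ βf a y = 0 ∧ βf b y = 0 := fun y => by
      simp only [mem_inf, mem_cent_single, β_zero, and_assoc, eq_comm (a := y * _)]
    let e' : ℕ → G := fun i => if i < 2 * k then e i else if i = 2 * k then a else b
    have f1 : ∀ i < 2 * k, e' i = e i := fun i hi => if_pos hi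
    have f2 : e' (2 * k) = a := by simp [e']
    have f3 : e' (2 * k + 1) = b := by simp [e']
    have cs : ∀ {p : ℕ → Prop}, (∀ i < 2 * (k + 1), p i) ↔ (∀ i < 2 * k, p i) ∧ p (2 * k) ∧ p (2 * k + 1) := by
      intro p; rw [mul_add, mul_one, Nat.forall_lt_succ_right, Nat.forall_lt_succ_right, and_assoc]
    have x1 : ∀ j < 2 * k + 2, ∀ i < 2 * k + 2, 2 * k ≤ j → (i = j ^^^ 1 ↔ i + j = 4 * k + 1) ∧ (j = i ^^^ 1 ↔ i + j = 4 * k + 1) := by
      have : k < 6 := hk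
      clear * - this; interval_cases k <;> decide
    refine ⟨e', cs.2 ⟨fun i hi => (f1 i hi).symm ▸ e1 i hi, f2.symm ▸ ⟨r1 ha, ka⟩, f3.symm ▸ ⟨r1 hb', (κ_conj _ _).trans ka⟩⟩,
      fun i hi => ?_, ?_, _, inf_le_left.trans (inf_le_left.trans r1), fun y => ?_, by rw [← r3, c1, c2]; ring, fun c hc kc => ?_⟩
    · rcases (Nat.lt_succ_iff_lt_or_eq.1 hi) with hi | rfl
      · rw [f1 _ (by omega), f1 _ (by omega), e2 i hi]
      · rw [f2, f3]
    · have ea := ((r2 a).1 ha).2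
      have eb := ((r2 b).1 hb').2
      refine cs.2 ⟨fun i hi => cs.2 ⟨fun j hj => by rw [f1 i hi, f1 j hj, e3 i hi j hj], ?_, ?_⟩, cs.2 ⟨fun j hj => ?_, ?_, ?_⟩,
        cs.2 ⟨fun j hj => ?_, ?_, ?_⟩⟩
      all_goals simp only [f2, f3, β_self, ab, ba]
      · rw [f1 i hi, ea i hi, if_neg (by rw [(x1 _ (by omega) _ (by omega) le_rfl).1]; omega)]
      · rw [f1 i hi, eb i hi, if_neg (by rw [(x1 _ (by omega) _ (by omega) (by omega)).1]; omega)]
      · rw [f1 j hj, β_comm, ea j hj, if_neg (by rw [(x1 _ (by omega) _ (by omega) le_rfl).2]; omega)]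
      · rw [if_neg (by rw [(x1 _ (by omega) _ (by omega) le_rfl).2]; omega)]
      · rw [if_pos (by rw [(x1 _ (by omega) _ (by omega) le_rfl).2]; omega)]
      · rw [f1 j hj, β_comm, eb j hj, if_neg (by rw [(x1 _ (by omega) _ (by omega) (by omega)).2]; omega)]
      · rw [if_pos (by rw [(x1 _ (by omega) _ (by omega) (by omega)).2]; omega)]
      · rw [if_neg (by rw [(x1 _ (by omega) _ (by omega) (by omega)).2]; omega)]
    · rw [m, r2, cs, f2, f3, and_assoc]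
      exact and_congr_right fun _ => and_congr_left fun _ => forall₂_congr fun i hi => by rw [f1 i hi]
    · obtain ⟨hc, ca, cb⟩ := (m c).1 hc
      rw [β_comm] at ca cb
      refine r4 c hc fun y hy => ?_
      have M := @h.es.β_mul
      have m' := fun y => And.intro (m y) trivial
      have t : (1 + 1 : ZMod 2) = 0 := rfl
      clear hb m
      have := r1 ha; have := r1 hb'; have := r1 hc; have := r1 hy
      rcases z2_cases (βf a y) with u | u <;> rcases z2_cases (βf b y) with v | v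
      · exact kc y ((m' y).1.2 ⟨hy, u, v⟩)
      · simpa [M, *] using kc _ ((m' _).1.2 ⟨mul_mem hy ha, by simp [β_self, *], by simp [*]⟩)
      · simpa [M, *] using kc _ ((m' _).1.2 ⟨mul_mem hy hb', by simp [*], by simp [β_self, *]⟩)
      · simpa [M, mul_mem, *] using kc _ ((m' _).1.2 ⟨mul_mem (mul_mem hy ha) hb', by simp [β_self, mul_mem, *], by simp [β_self, mul_mem, *]⟩)

end Fpf

/-- Coordinates on `Q/⟨z⟩` and the action of the ambient group. -/
structure Fr (Q : Subgroup G) (z : G) (ν : G → ℕ) (ρ : G →* G12) : Prop where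
  ls : LS Q z
  cen : ∀ g, g * z = z * g
  lt : ∀ y, ν y < 4096
  mul : ∀ {x y}, x ∈ Q → y ∈ Q → ν (x * y) = ν x ^^^ ν y
  zero : ∀ {y}, y ∈ Q → (ν y = 0 ↔ y ∈ zpowers z)
  sur : ∀ n < 4096, ∃ y ∈ Q, ν y = n
  κ : ∀ {y}, y ∈ Q → κf y = q0 (ν y)
  β : ∀ {x y}, x ∈ Q → y ∈ Q → βf x y = B0 (ν x) (ν y)
  conj : ∀ h {y}, y ∈ Q → ν (h * y * h⁻¹) = ψ (ρ h) (ν y)
  ker : ρ.ker = Q

theorem B0_pow : ∀ k < 12, ∀ n, B0 (2 ^ k) n = cB n (k ^^^ 1) := fun k hk n => by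
  interval_cases k <;> simp +decide [B0, Finset.sum_range_succ, cB]

theorem exists_fr [Finite G] {Q : Subgroup G} {z x : G} (h : LS Q z) (hz : ∀ g, g * z = z * g) (hQ : Nat.card Q = 2 ^ 13)
    (hx : Fpf Q z x) : ∃ ν ρ, Fr Q z ν ρ ∧ ρ x = X0 := by
  classical
  obtain ⟨e, e1, e2, e3, R, r1, r2, r3, -⟩ := hx.basis hQ 6 le_rfl
  let ν : G → ℕ := fun y => Nat.ofBits fun k : Fin 12 => decide (βf (e (k ^^^ 1)) y = 1)
  have lt : ∀ y, ν y < 4096 := fun y => Nat.ofBits_lt_two_pow _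
  have x1 : ∀ k < 12, k ^^^ 1 < 12 ∧ (k ^^^ 1) ^^^ 1 = k := by decide
  have cν : ∀ y, ∀ k < 12, cB (ν y) k = βf (e (k ^^^ 1)) y := fun y k hk => by
    rw [cB, Nat.testBit_ofBits_lt _ _ hk]
    rcases z2_cases (βf (e (k ^^^ 1)) y) with a | a <;> simp [a]
  have ext : ∀ m < 4096, ∀ n < 4096, (∀ k < 12, cB m k = cB n k) → m = n := fun m hm n hn c => Nat.eq_of_testBit_eq fun k => by
    by_cases hk : k < 12
    · have := c k hk; unfold cB at this; revert this; cases m.testBit k <;> cases n.testBit k <;> simp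
    · have := Nat.pow_le_pow_right two_pos (not_lt.1 hk)
      rw [Nat.testBit_lt_two_pow (hm.trans_le this), Nat.testBit_lt_two_pow (hn.trans_le this)]
  have mul : ∀ {x y}, x ∈ Q → y ∈ Q → ν (x * y) = ν x ^^^ ν y := fun {x y} a b => ext _ (lt _) _ (xor_lt (lt _) (lt _)) fun k hk => by
    rw [cB_xor, cν _ _ hk, cν _ _ hk, cν _ _ hk, h.β_mul (e1 _ (x1 k hk).1).1 a b]
  have zR : zpowers z = R := eq_of_le_of_card_ge (fun y hy => (r2 y).2 ⟨zpowers_le.2 h.mem hy, fun i hi => h.β_zp (e1 i hi).1 hy⟩)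
    (by rw [card_zpowers_invol h.sq h.ne]; omega)
  have zero : ∀ {y}, y ∈ Q → (ν y = 0 ↔ y ∈ zpowers z) := fun {y} hy => by
    rw [zR, r2, and_iff_right hy]
    exact ⟨fun c i hi => by rw [← (x1 i hi).2, ← cν y _ (x1 i hi).1, c, cB_zero],
      fun c => ext _ (lt _) _ (by norm_num) fun k hk => by rw [cν y k hk, c _ (x1 k hk).1, cB_zero]⟩
  have eqv : ∀ {x y}, x ∈ Q → y ∈ Q → ν x = ν y → ∃ u ∈ zpowers z, y = x * u := fun {x y} a b c => by
    refine ⟨x⁻¹ * y, (zero (mul_mem (inv_mem a) b)).1 ?_, by group⟩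
    have := mul a (mul_mem (inv_mem a) b)
    rw [mul_inv_cancel_left, c] at this
    exact Nat.xor_right_inj.1 (this.symm.trans (Nat.xor_zero _).symm)
  have νe : ∀ k < 12, ν (e k) = 2 ^ k := fun k hk => ext _ (lt _) _ (Nat.pow_lt_pow_right (n := 12) one_lt_two hk) fun j hj => by
    rw [cν _ j hj, e3 _ (x1 j hj).1 k hk, cB, Nat.testBit_two_pow]
    simp [eq_comm]
  have nQ := fun g => h.norm g (hz g)
  have cz : ∀ g, ∀ u ∈ zpowers z, g * u * g⁻¹ = u := fun g u hu => conj_eq_of_comm (mem_cent_zpowers.2 (hz g) u hu).symm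
  have zQ := zpowers_le.2 h.mem
  have νz : ∀ {y u}, y ∈ Q → u ∈ zpowers z → ν (y * u) = ν y := fun a b => by rw [mul a (zQ b), (zero (zQ b)).2 b, Nat.xor_zero]
  have key : ∀ n < 4096, ∃ u ∈ Q, ν u = n ∧ (∀ y ∈ Q, βf u y = B0 n (ν y)) ∧ κf u = q0 n ∧ ν (x * u * x⁻¹) = xm n := by
    refine code_ind ⟨1, one_mem _, (zero (one_mem _)).2 (one_mem _), fun y _ => by rw [B0_comm, B0_zero, β_zero]; simp,
      by rw [q0_zero, κ_zero, one_mul], by rw [conj_eq_one_iff.2 rfl, (zero (one_mem _)).2 (one_mem _)]; rfl⟩ (fun i hi => ?_) ?_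
    · refine ⟨e i, (e1 i hi).1, νe i hi, fun y _ => by rw [B0_pow i hi, cν y _ (x1 i hi).1, (x1 i hi).2], ?_, ?_⟩
      · rw [(e1 i hi).2]; interval_cases i <;> decide
      obtain ⟨j, rfl | rfl⟩ := Nat.even_or_odd' i
      · rw [e2 j (by omega), νe _ (by omega)]
        have : j < 6 := by omega
        interval_cases j <;> rfl
      · have a := (e1 (2 * j) (by omega)).1
        have := (zero (zQ (hx.tri a))).2 (hx.tri a)
        rw [e2 j (by omega), mul (mul_mem a (e1 _ hi).1) (nQ _ _ (e1 _ hi).1), mul a (e1 _ hi).1, νe _ hi, νe _ (by omega),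
          Nat.xor_eq_zero_iff] at this
        rw [← this]
        have : j < 6 := by omega
        interval_cases j <;> rfl
    · rintro _ hm _ hn ⟨u, a, rfl, b, c, d⟩ ⟨v, a', rfl, b', c', d'⟩
      refine ⟨u * v, mul_mem a a', mul a a', fun y hy => ?_, by rw [h.κ_mul a a', c, c', b v a', q0_xor], ?_⟩
      · rw [β_comm, h.β_mul hy a a', β_comm, b y hy, β_comm, b' y hy, B0_left]
      · rw [← conj_mul, mul (nQ _ _ a) (nQ _ _ a'), d, d', ← X0_ap hm, ← X0_ap hn, ← X0_ap (xor_lt hm hn), G12.xor _ hm hn]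
  choose! s s1 s2 s3 s4 s5 using key
  have κ : ∀ {y}, y ∈ Q → κf y = q0 (ν y) := fun {y} hy => by
    obtain ⟨u, hu, e⟩ := eqv (s1 _ (lt y)) hy (s2 _ (lt y))
    conv_lhs => rw [e, h.κ_mul (s1 _ (lt y)) (zQ hu), s4 _ (lt y), h.κ_zp hu, h.β_zp (s1 _ (lt y)) hu, add_zero, add_zero]
  have cj : ∀ g {y}, y ∈ Q → ν (g * s (ν y) * g⁻¹) = ν (g * y * g⁻¹) := fun g y hy => by
    obtain ⟨u, hu, e⟩ := eqv (s1 _ (lt y)) hy (s2 _ (lt y))
    conv_rhs => rw [e, ← conj_mul, cz g u hu, νz (nQ _ _ (s1 _ (lt y))) hu]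
  obtain ⟨ρ0, hρ⟩ := exists_perm_hom (L := G) (N := 4096) (fun g n => ν (g * s n * g⁻¹)) (fun _ _ _ => lt _)
    (fun n hn => by simpa using s2 n hn) fun a b n hn => by rw [cj a (nQ _ _ (s1 n hn))]; congr 1; group
  have c2 : ∀ g {y}, y ∈ Q → ν (g * y * g⁻¹) = ρ0 g (ν y) := fun g y hy => by rw [(hρ g).2 _ (lt y), cj g hy]
  let ρ : G →* G12 := ρ0.codRestrict G12 fun g => ⟨(hρ g).1, fun m hm n hn => by
    rw [← s2 m hm, ← s2 n hn, ← mul (s1 m hm) (s1 n hn), ← c2 g (s1 m hm), ← c2 g (s1 n hn), ← c2 g (mul_mem (s1 m hm) (s1 n hn)),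
      ← conj_mul, mul (nQ _ _ (s1 m hm)) (nQ _ _ (s1 n hn))], fun n hn => by
    rw [(hρ g).2 n hn, ← κ (nQ _ _ (s1 n hn)), κ_conj, s4 n hn]⟩
  refine ⟨ν, ρ, ⟨h, hz, lt, mul, zero, fun n hn => ⟨_, s1 n hn, s2 n hn⟩, κ, fun {x y} a b => ?_, c2, le_antisymm (fun g hg => ?_)
    fun g hg => G12.ext' fun n hn => ?_⟩, G12.ext' fun n hn => by rw [X0_ap hn, ← s5 n hn]; exact (hρ x).2 n hn⟩
  · obtain ⟨u, hu, e⟩ := eqv (s1 _ (lt x)) a (s2 _ (lt x))
    conv_lhs => rw [e, β_comm, h.β_mul b (s1 _ (lt x)) (zQ hu), h.β_zp b hu, add_zero, β_comm, s3 _ (lt x) y b]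
  · refine h.mem_of_inner (hz g) fun y hy => ?_
    obtain ⟨u, hu, e⟩ := eqv hy (nQ g y hy) (by rw [c2 g hy]; exact (congrArg (fun a => ψ a (ν y)) hg).symm)
    exact (h.mem_zp.1 hu).imp (fun k => by rw [e, k, mul_one]) fun k => by rw [e, k]
  · refine ((hρ g).2 n hn).trans ?_
    rcases h.conj_eq hg (s1 n hn) with e | e
    · rw [e, s2 n hn]; rfl
    · rw [e, νz (s1 n hn) (mem_zpowers z), s2 n hn]; rfl

theorem G12.inj (g : G12) {m n : ℕ} : ψ g m = ψ g n ↔ m = n := (ψ g).injective.eq_iff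

namespace Fr
variable {Q : Subgroup G} {z : G} {ν : G → ℕ} {ρ : G →* G12} (h : Fr Q z ν ρ)
include h

theorem twist (g : G12) : Fr Q z (fun y => ψ g (ν y)) ((MulAut.conj g).toMonoidHom.comp ρ) where
  ls := h.ls
  cen := h.cen
  lt := fun y => G12.lt g (h.lt y)
  mul := fun a b => by rw [h.mul a b, G12.xor g (h.lt _) (h.lt _)]
  zero := fun a => by rw [← h.zero a, ← G12.inj g (m := ν _) (n := 0), G12.zero]
  sur := fun n hn => (h.sur _ (G12.lt g⁻¹ hn)).imp fun y k => ⟨k.1, by rw [k.2, G12.ap_inv]⟩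
  κ := fun a => by rw [h.κ a, G12.q g (h.lt _)]
  β := fun a b => by rw [h.β a b, G12.B g (h.lt _) (h.lt _)]
  conj := fun a y b => by rw [h.conj a b]; exact (congrArg (fun n => ψ g (ψ (ρ a) n)) (G12.inv_ap g _)).symm
  ker := by rw [← MonoidHom.comap_ker, (MonoidHom.ker_eq_bot_iff _).2 (MulAut.conj g).injective]; exact h.ker

theorem nm (g : G) {y : G} (hy : y ∈ Q) : g * y * g⁻¹ ∈ Q := h.ls.norm g (h.cen g) y hy
theorem zQ : zpowers z ≤ Q := zpowers_le.2 h.ls.mem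
theorem one : ν 1 = 0 := (h.zero (one_mem _)).2 (one_mem _)
theorem νz : ν z = 0 := (h.zero h.ls.mem).2 (mem_zpowers _)
theorem mul_z {y : G} (hy : y ∈ Q) : ν (y * z) = ν y := by rw [h.mul hy h.ls.mem, h.νz, Nat.xor_zero]
theorem inv {y : G} (hy : y ∈ Q) : ν y⁻¹ = ν y := by
  have := h.mul (inv_mem hy) hy
  rwa [inv_mul_cancel, h.one, eq_comm, Nat.xor_eq_zero_iff] at this
theorem eq_or {x y : G} (hx : x ∈ Q) (hy : y ∈ Q) (e : ν x = ν y) : y = x ∨ y = x * z := by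
  have := h.ls.mem_zp.1 ((h.zero (mul_mem (inv_mem hx) hy)).1 (by rw [h.mul (inv_mem hx) hy, h.inv hx, e, Nat.xor_self]))
  exact this.imp (fun k => (inv_mul_eq_one.1 k).symm) inv_mul_eq_iff_eq_mul.1
theorem ne_zero {y : G} (hy : y ∈ Q) : ν y ≠ 0 ↔ y ≠ 1 ∧ y ≠ z := by rw [Ne, h.zero hy, h.ls.mem_zp, not_or]
theorem sq {y : G} (hy : y ∈ Q) : y * y = 1 ↔ q0 (ν y) = 0 := by rw [← h.κ hy, κ_zero]
theorem comm {x y : G} (hx : x ∈ Q) (hy : y ∈ Q) : x * y = y * x ↔ B0 (ν x) (ν y) = 0 := by rw [← h.β hx hy, β_zero]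
theorem mem {g : G} : ρ g = 1 ↔ g ∈ Q := SetLike.ext_iff.1 h.ker g
theorem fix {g y : G} (hy : y ∈ Q) : ψ (ρ g) (ν y) = ν y ↔ g * y * g⁻¹ = y ∨ g * y * g⁻¹ = y * z := by
  rw [← h.conj g hy]
  exact ⟨fun e => h.eq_or hy (h.nm g hy) e.symm, fun e => e.elim (congrArg ν) fun e => by rw [e, h.mul_z hy]⟩

/-- Conjugacy in `Q` is read off from the codes. -/
theorem exists_conj {x y g : G} (hx : x ∈ Q) (hy : y ∈ Q) (n : ν y ≠ 0) (e : ψ (ρ g) (ν x) = ν y) :
    ∃ a, ρ a = ρ g ∧ a * x * a⁻¹ = y := by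
  rcases h.eq_or hy (h.nm g hx) (e.symm.trans (h.conj g hx).symm) with k | k
  · exact ⟨g, rfl, k⟩
  obtain ⟨a, ha, c⟩ := h.ls.exists_anti hy ((h.ne_zero hy).1 n).1 ((h.ne_zero hy).1 n).2
  refine ⟨a⁻¹ * g, by rw [map_mul, h.mem.2 (inv_mem ha), one_mul], ?_⟩
  rw [mul_inv_rev, inv_inv, show a⁻¹ * g * x * (g⁻¹ * a) = a⁻¹ * (g * x * g⁻¹) * a by group, k, ← h.ls.conj_anti ha hy c.symm]; group

theorem card_map [Finite G] {B : Subgroup G} : Nat.card B = Nat.card (B.map ρ) * Nat.card ↥(B ⊓ Q) := by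
  rw [← card_top (G := B), card_map_ker (ρ.comp B.subtype) le_top, ← map_map, ← MonoidHom.range_eq_map, range_subtype,
    ← MonoidHom.comap_ker, h.ker, ← card_map_of_injective (K := Q.comap B.subtype) (subtype_injective B), map_comap_eq, range_subtype]
end Fr

/-- The frame with the action identified. -/
structure FT (Q : Subgroup G) (z : G) (ν : G → ℕ) (ρ : G →* G12) : Prop extends Fr Q z ν ρ where
  card : Nat.card Q = 2 ^ 13
  k1 : K1 ≤ ρ.range
  n0 : ρ.range ≤ N0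
  cr : Nat.card ρ.range = 19595520

theorem comm_cent {X a b : G} (ha : a ∈ normalizer (zpowers X : Set G)) (hb : b ∈ normalizer (zpowers X : Set G)) :
    ⁅a, b⁆ ∈ centralizer {X} := by
  obtain ⟨i, e⟩ := (mem_normalizer_iff.1 ha X).1 (mem_zpowers X)
  obtain ⟨j, e'⟩ := (mem_normalizer_iff.1 hb X).1 (mem_zpowers X)
  obtain ⟨k, e''⟩ := (mem_normalizer_iff''.1 (mul_mem hb ha) X).1 (mem_zpowers X)
  have p : ∀ {a b : G} {i j : ℤ}, X ^ i = a * X * a⁻¹ → X ^ j = b * X * b⁻¹ → a * b * X ^ k * (a * b)⁻¹ = X ^ (i * j * k) := by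
    intro a b i j e e'
    rw [← conj_zpow, show a * b * X * (a * b)⁻¹ = a * (b * X * b⁻¹) * a⁻¹ by group, ← e', ← conj_zpow, ← e, zpow_mul, zpow_mul]
  have := (p e e').trans ((congrArg (fun n => X ^ (n * k)) (mul_comm i j)).trans (p e' e).symm)
  simp only [e''] at this
  refine mem_cent_single.2 (comm_of_conj_eq ?_)
  calc _ = a * b * ((b * a)⁻¹ * X * (b * a)) * (a * b)⁻¹ := by rw [commutatorElement_def]; group
    _ = _ := by rw [this]; group

theorem exists_FT [Finite G] {Q N M : Subgroup G} {z : G} (h : LS Q z) (hz : ∀ g, g * z = z * g) (hQ : Nat.card Q = 2 ^ 13)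
    (hQN : Q ≤ N) (hN : Nat.card N = 3 * Nat.card Q) (hM : Cov43 M N) [n : N.Normal] [m : M.Normal] (hi : M.index = 2) :
    ∃ ν ρ, FT Q z ν ρ := by
  obtain ⟨x, xN, ox, fp⟩ := h.fpf hQ hQN hN hM fun g _ => mem_cent_single.2 (hz g)
  obtain ⟨ν, ρ, F, hx⟩ := exists_fr h hz hQ ⟨h.toES, hz x, h.norm x (hz x), ox ▸ pow_orderOf_eq_one x, fp⟩
  have e : N.map ρ = zpowers X0 := by
    have := F.card_map (B := N)
    rw [inf_eq_right.2 hQN, hN] at this
    exact (eq_of_le_of_card_ge (zpowers_le.2 (mem_map.2 ⟨x, xN, hx⟩)) (by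
      rw [Nat.card_zpowers, X0_ord, Nat.eq_of_mul_eq_mul_right Nat.card_pos this])).symm
  have c := e ▸ hM.map (f := ρ) (inf_le_left.trans (F.ker.le.trans hQN))
  have nm : ∀ {K : Subgroup G} [K.Normal] (ρ : G →* G12), ρ.range ≤ normalizer (K.map ρ : Set G12) := fun {K} k ρ => by
    rw [MonoidHom.range_eq_map, ← normalizer_eq_top K]; exact le_normalizer_map _
  obtain ⟨g, -, hg⟩ := cls43 c (c.le (zpowers_le.2 (mem_cent_single.2 rfl)) fun a ha b hb =>
    comm_cent (e ▸ nm ρ (map_le_range _ _ ha)) (e ▸ nm ρ (map_le_range _ _ hb)))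
  rw [map_map] at hg
  have F := F.twist g
  refine ⟨_, _, F, hQ, hg ▸ map_le_range _ _, by rw [← norm_K1, ← hg]; exact nm _, ?_⟩
  have c1 := F.card_map (B := M)
  have c2 := F.card_map (B := ⊤)
  rw [hg, K1_card, inf_eq_right.2 (hQN.trans hM.1), hQ] at c1
  rw [top_inf_eq, ← MonoidHom.range_eq_map, card_top, ← M.card_mul_index, hi, c1, hQ] at c2
  omega

theorem FT.twist {Q : Subgroup G} {z : G} {ν : G → ℕ} {ρ : G →* G12} (h : FT Q z ν ρ) {g : G12} (hg : g ∈ ρ.range) :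
    FT Q z (fun y => ψ g (ν y)) ((MulAut.conj g).toMonoidHom.comp ρ) ∧ ((MulAut.conj g).toMonoidHom.comp ρ).range = ρ.range := by
  have e : ((MulAut.conj g).toMonoidHom.comp ρ).range = ρ.range := by
    rw [MonoidHom.range_comp]; exact mem_normalizer_iff_map_conj_eq.1 (le_normalizer hg)
  exact ⟨⟨h.toFr.twist g, h.card, e ▸ h.k1, e ▸ h.n0, e ▸ h.cr⟩, e⟩

/-- The involution as an element of its centraliser. -/
def zc (z : G) : centralizer ({z} : Set G) := ⟨z, mem_cent_single.2 rfl⟩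

theorem zc_cen {z : G} (g : centralizer ({z} : Set G)) : g * zc z = zc z * g := Subtype.ext (mem_cent_single.1 g.2)

theorem FT.of [Finite G] {z : G} {Q : Subgroup (centralizer ({z} : Set G))} [hQ : Q.Normal] (hF : IsOfLargeFischerTypeAt z Q) :
    ∃ ν ρ, FT Q (zc z) ν ρ := by
  obtain ⟨⟨h2, hf, hE, hc, -⟩, N, M, _, _, h1, h3, h4, ⟨K, _, _, hK, ⟨e⟩⟩, h5⟩ := hF
  obtain ⟨w, -, es⟩ := exists_ES hE
  have l := hf ▸ Layer.centralizer_fstar_le (G := centralizer ({z} : Set G))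
  have sc := fun g (k : ∀ x ∈ Q, g * x = x * g) => es.of_cen g (l fun x hx => (k x hx).symm) k
  obtain rfl : zc z = w := (sc _ fun x _ => (zc_cen x).symm).resolve_left fun k => by
    rw [show z = 1 from congrArg Subtype.val k, orderOf_one] at h2; omega
  obtain ⟨e'⟩ := U43x.iso hK
  exact exists_FT ⟨es, sc, fun g _ x hx => hQ.conj_mem x hx g⟩ zc_cen hc h1 h4 (Cov43.of h3 (e.trans e'.symm)) h5

end Cfsg.Lib.Fi
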