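import Cfsg.Agent.Lib.Fi.O12e

/-! Groups of large Fischer type: the conjugates of `z` in `Q`. -/

namespace Cfsg.Lib.Fi

open Cfsg.Lib.Comp Subgroup A12 Cfsg.Lib.Core Cfsg.Lib.Known2 Cfsg.Lib.Amalg

variable {G : Type*} [Group G]

theorem norm_of_two [Finite G] {H N : Subgroup G} (h : H ≤ N) (hc : Nat.card N = 2 * Nat.card H) : N ≤ normalizer (H : Set G) := by
  have := (H.subgroupOf N).card_mul_index
  rw [card_subgroupOf_of_le h, hc, mul_comm] at this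
  exact (normal_subgroupOf_iff_le_normalizer h).1 (normal_of_index_eq_two (Nat.eq_of_mul_eq_mul_right Nat.card_pos this))

theorem _root_.Cfsg.Lib.Known2.LP.elem {Q Q1 : Subgroup G} {z b : G} (h : LP Q Q1 z b) : IsElementaryAbelian 2 (Q ⊓ Q1) := by
  have k : ∀ u ∈ zpowers z, u ∈ zpowers b → u = 1 := fun u a c =>
    (h.l.mem_zp.1 a).elim id fun a => (h.r.mem_zp.1 c).elim id fun c => absurd (c.symm.trans a) h.ne
  refine ⟨⟨⟨fun x y => Subtype.ext ?_⟩⟩, fun a ha => k _ (h.l.mem_zp.2 (pow_two a ▸ h.l.sq_mem a ha.1))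
    (h.r.mem_zp.2 (pow_two a ▸ h.r.sq_mem a ha.2))⟩
  exact commutatorElement_eq_one_iff_mul_comm.1 (k _ (h.l.commutator_mem x.2.1 y.2.1) (h.r.commutator_mem x.2.2 y.2.2))

theorem _root_.Cfsg.Lib.Known2.ES.card_ab [Finite G] {Q A : Subgroup G} {z : G} (h : ES Q z) (hQ : Nat.card Q = 2 ^ 13) (hA : A ≤ Q)
    (hz : z ∈ A) (hc : IsMulCommutative A) : Nat.card A ≤ 128 := by
  have := h.card_cent hA hz
  have := card_le_of_le (le_inf hA (le_centralizer A))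
  nlinarith

theorem Fr.cent_map {Q : Subgroup G} {z s : G} {ν : G → ℕ} {ρ : G →* G12} (h : Fr Q z ν ρ) (hs : s ∈ Q) (n : ν s ≠ 0) :
    (centralizer {s}).map ρ = ρ.range ⊓ stab ψ (ν s) := by
  refine le_antisymm ?_ ?_
  · rintro _ ⟨g, hg, rfl⟩
    exact ⟨⟨g, rfl⟩, (h.fix hs).2 (.inl (conj_eq_of_comm (mem_cent_single.1 hg)))⟩
  · rintro _ ⟨⟨g, rfl⟩, hg⟩
    obtain ⟨a, e, k⟩ := h.exists_conj hs hs n hg
    exact ⟨a, mem_cent_single.2 (comm_of_conj_eq k), e⟩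

theorem Fr.lift {Q : Subgroup G} [Q.Normal] {z : G} {ν : G → ℕ} {ρ : G →* G12} (h : Fr Q z ν ρ) :
    ∃ ι : G ⧸ Q →* G12, Function.Injective ι ∧ ∀ S : Subgroup G, (S.map (QuotientGroup.mk' Q)).map ι = S.map ρ :=
  ⟨QuotientGroup.lift Q ρ h.ker.ge, (QuotientGroup.injective_lift_iff _ _ _).2 h.ker.symm, fun S => by rw [map_map]; rfl⟩

theorem Fr.conj_orb {Q : Subgroup G} {z s t : G} {ν : G → ℕ} {ρ : G →* G12} (F : Fr Q z ν ρ) {K : Subgroup G12} (hK : K ≤ ρ.range)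
    {a A m : ℕ} (o : Orb ψ K a A m) (n : a ≠ 0) (hs : s ∈ Q) (ht : t ∈ Q) (h1 : A.testBit (ν s) = true) (h2 : A.testBit (ν t) = true) :
    ∃ g, ρ g ∈ K ∧ g * s * g⁻¹ = t := by
  obtain ⟨u, hu, e⟩ := (o.1 _).1 h1
  obtain ⟨v, hv, e'⟩ := (o.1 _).1 h2
  obtain ⟨w, hw⟩ := hK (mul_mem hv (inv_mem hu))
  obtain ⟨x, k, k'⟩ := F.exists_conj (g := w) hs ht (fun c => n ((G12.inj v).1 (e'.trans (c.trans (G12.zero _).symm))))
    (by rw [hw, ← e, G12.mul, G12.inv_ap, e'])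
  exact ⟨x, k ▸ hw ▸ mul_mem hv (inv_mem hu), k'⟩

theorem FT.exists_std {Q : Subgroup G} {z s : G} {ν : G → ℕ} {ρ : G →* G12} (h : FT Q z ν ρ) {a A m : ℕ} (o : Orb ψ K1 a A m)
    (hs : A.testBit (ν s) = true) : ∃ ν' ρ', FT Q z ν' ρ' ∧ ρ'.range = ρ.range ∧ ν' s = a := by
  obtain ⟨g, hg, e⟩ := (o.1 _).1 hs
  exact ⟨_, _, (h.twist (h.k1 (inv_mem hg))).1, (h.twist (h.k1 (inv_mem hg))).2, by rw [← e, G12.inv_ap]⟩

/-- `Q` as a subgroup of the ambient group. -/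
abbrev Qg {z : G} (Q : Subgroup (centralizer ({z} : Set G))) : Subgroup G := Q.map (centralizer {z}).subtype

theorem mem_Qg {z : G} {Q : Subgroup (centralizer ({z} : Set G))} {x : centralizer ({z} : Set G)} : x.1 ∈ Qg Q ↔ x ∈ Q :=
  mem_map_iff_mem (subtype_injective _)

namespace FT
variable {z : G} {Q : Subgroup (centralizer ({z} : Set G))} {ν : centralizer ({z} : Set G) → ℕ} {ρ : centralizer ({z} : Set G) →* G12}
  (F : FT Q (zc z) ν ρ)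
include F

theorem lsg : LS (Qg Q) z := by
  have h := F.ls
  have v := @Subtype.val_injective G (· ∈ centralizer {z})
  have sc : ∀ g, (∀ x ∈ Qg Q, g * x = x * g) → g = 1 ∨ g = z := fun g k =>
    (h.selfc ⟨g, mem_cent_single.2 (k z (mem_Qg.2 h.mem))⟩ fun x hx => v (k _ (mem_Qg.2 hx))).imp (congrArg Subtype.val) (congrArg Subtype.val)
  refine ⟨⟨mem_Qg.2 h.mem, fun e => h.ne (v e), congrArg Subtype.val h.sq, ?_, fun x _ => sc x, ?_, ?_, ?_⟩, sc, ?_⟩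
  · rintro _ ⟨x, -, rfl⟩; exact mem_cent_single.1 x.2
  · rintro _ ⟨x, a, rfl⟩ _ ⟨y, b, rfl⟩; exact (h.comm x a y b).imp (congrArg Subtype.val) (congrArg Subtype.val)
  · rintro _ ⟨x, a, rfl⟩; exact (h.sq_mem x a).imp (congrArg Subtype.val) (congrArg Subtype.val)
  · obtain ⟨x, a, y, b, e⟩ := h.nonab; exact ⟨_, mem_Qg.2 a, _, mem_Qg.2 b, fun k => e (v k)⟩
  · rintro g k _ ⟨x, a, rfl⟩; exact mem_Qg.2 (F.nm ⟨g, mem_cent_single.2 k⟩ a)

theorem cardg : Nat.card (Qg Q) = 2 ^ 13 := (card_map_of_injective (subtype_injective _)).trans F.card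

variable [Finite G]

theorem lp {s : centralizer ({z} : Set G)} {g : G} (hs : s ∈ Q) (hg : g * z * g⁻¹ = s) (n : s.1 ≠ z) : LP (Qg Q) (cj g (Qg Q)) z s :=
  hg ▸ F.lsg.lp (hg ▸ mem_Qg.2 hs) (hg ▸ n) (by rw [F.cardg]; norm_num)

theorem sing {s : centralizer ({z} : Set G)} {g : G} (hs : s ∈ Q) (hg : g * z * g⁻¹ = s) (n : s.1 ≠ z) :
    A12.O1.testBit (ν s) = true ∨ A12.O2.testBit (ν s) = true :=
  sing_iff.2 ⟨F.lt s, (F.sq hs).1 (Subtype.ext (F.lp hs hg n).r.sq), (F.ne_zero hs).2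
    ⟨fun e => (F.lp hs hg n).r.ne (congrArg Subtype.val e), fun e => n (congrArg Subtype.val e)⟩⟩

theorem key {s : centralizer ({z} : Set G)} {g : G} (hs : s ∈ Q) (hg : g * z * g⁻¹ = s) (n : s.1 ≠ z) (h5 : ν s = 5 ∨ ν s = 85) :
    ν s = 85 ∧ ((cj g (Qg Q)).subgroupOf _).map ρ = Py 4 ∧ Nat.card ↥(Qg Q ⊓ cj g (Qg Q)) = 2 ^ 7 := by
  have L := F.lp hs hg n
  obtain ⟨y, hy, k⟩ := L.r.exists_anti L.zQ L.l.ne L.ne.symm
  have c1 := L.r.card_two le_rfl L.zQ hy k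
  have c2 := L.l.card_ab F.cardg inf_le_left ⟨L.l.mem, L.zQ⟩ L.elem.1
  have c3 := F.card_map (B := (cj g (Qg Q)).subgroupOf _)
  rw [← card_map_of_injective (subtype_injective _), ← card_map_of_injective (K := _ ⊓ Q) (subtype_injective _),
    map_inf _ _ _ (subtype_injective _), subgroupOf_map_subtype, inf_assoc, inf_eq_right.2 (map_subtype_le Q), inf_comm _ (Qg Q)] at c3
  rw [card_cj, F.cardg] at c1
  have n0 : ν s ≠ 0 := by omega
  have l := (le_pCoreOf (p := 2) (K := ((cj g (Qg Q)).subgroupOf _).map ρ) (M := ρ.range ⊓ stab ψ (ν s)) (F.cent_map hs n0 ▸ map_mono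
    fun x hx => mem_cent_single.2 (Subtype.ext (L.r.cen _ hx))) (F.cent_map hs n0 ▸ (map_mono fun x hx =>
      mem_normalizer_of_conj_mem fun y hy => L.r.norm _ (congrArg Subtype.val (mem_cent_single.1 hx)) _ hy).trans (le_normalizer_map _))
    (L.r.isPGroup.comap_subtype.map _)).trans (pCoreOf_le_pCoreOf (M := N0 ⊓ stab ψ (ν s)) (inf_le_inf_right _ F.n0) (le_normalizer_inf
      (inf_le_left.trans (norm_of_two F.n0 (by rw [F.cr, N0_card]))) (inf_le_right.trans le_normalizer)))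
  have c4 := card_le_of_le l
  rcases h5 with e | e <;> rw [e] at l c4
  · rw [op5] at c4; nlinarith
  rw [op85] at l c4
  have c5 := Py_card (i := 4) (by norm_num)
  have : Nat.card (((cj g (Qg Q)).subgroupOf _).map ρ) = 32 := le_antisymm (by omega) (by nlinarith)
  exact ⟨e, eq_of_le_of_card_ge l (by omega), by rw [this] at c3; omega⟩

theorem key2 {s : centralizer ({z} : Set G)} {g : G} (hs : s ∈ Q) (hg : g * z * g⁻¹ = s) (n : s.1 ≠ z) :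
    A12.O2.testBit (ν s) = true ∧ ρ.range = H0 := by
  rcases F.sing hs hg n with k | k
  · obtain ⟨_, _, F', -, e⟩ := F.exists_std orb1 k
    have := (F'.key hs hg n (.inl e)).1
    omega
  obtain ⟨_, _, F', r, e⟩ := F.exists_std orb2 k
  refine ⟨k, (eq_of_le_of_card_ge (H0_eq ▸ sup_le (zpowers_le.2 ?_) F.k1) (by rw [H0_card, F.cr])).symm⟩
  exact r ▸ map_le_range _ _ ((F'.key hs hg n (.inr e)).2.1.ge e0_mem)

end FT

theorem exists_FT0 [Finite G] {z : G} {Q : Subgroup (centralizer ({z} : Set G))} [Q.Normal] (hF : IsOfLargeFischerTypeAt z Q) :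
    ∃ ν ρ, FT Q (zc z) ν ρ ∧ ρ.range = H0 ∧ ∀ s ∈ Q, s.1 ≠ z → (IsConj z s.1 ↔ A12.O2.testBit (ν s) = true) := by
  obtain ⟨ν, ρ, F⟩ := FT.of hF
  obtain ⟨g, ⟨a, b⟩, c⟩ := hF.1.2.2.2.2
  obtain ⟨k, r⟩ := F.key2 b rfl c
  refine ⟨ν, ρ, F, r, fun s hs n => ⟨fun h => (isConj_iff.1 h).elim fun g e => (F.key2 hs e n).1, fun h => ?_⟩⟩
  obtain ⟨x, -, k⟩ := F.conj_orb F.k1 orb2 (by norm_num) b hs k h
  exact (isConj_iff.2 ⟨g, rfl⟩).trans (isConj_iff.2 ⟨x, congrArg Subtype.val k⟩)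

end Cfsg.Lib.Fi
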