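import Cfsg.Agent.Lib.Fi.O12e
import Cfsg.Agent.Lib.Fi.A12e
import Cfsg.Agent.Lib.Amalg.Syl

/-! The offender `B = 2⁴` in the Sylow subgroup `T₀` of `3·U₄(3)·2`. -/

set_option maxRecDepth 100000

namespace Cfsg.Lib.Fi

open Cfsg.Lib.Comp Subgroup A12 Cfsg.Lib.Core

/-- The elements of order at most two of `T₀`; the first sixteen form `B`. -/
noncomputable def bj (j : ℕ) : G12 := MO.v (ent IL j)

theorem bj_zero : bj 0 = 1 := MO.v_def
theorem bj_mul {i j : ℕ} (hi : i < 16) (hj : j < 16) : bj (i ^^^ j) = bj i * bj j :=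
  MO.eq_mul (allN_iff.1 (allN_iff.1 b_mul i hi) j hj)
theorem x16 {i j : ℕ} (hi : i < 16) (hj : j < 16) : i ^^^ j < 16 := Nat.xor_lt_two_pow (n := 4) hi hj
theorem bj_sq {i : ℕ} (hi : i < 16) : bj i * bj i = 1 := by rw [← bj_mul hi hi, Nat.xor_self, bj_zero]

theorem FL_iff {i n : ℕ} (hi : i < 72) : (nth 0 FL i).testBit n = true ↔ n < 4096 ∧ ψ (bj i) n = n ∧ q0 n = 0 := by
  rw [← beq_tt.1 (allN_iff.1 fl_ok i hi), testBit_difS, VO.fix, and_assoc]
  refine and_congr_right fun h => and_congr_right fun _ => ?_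
  rw [QT_iff h]; rcases z2_cases (q0 n) with e | e <;> simp [e]

theorem bj_ne {j : ℕ} (h0 : j ≠ 0) (h : j < 16) : bj j ≠ 1 := fun e => by
  obtain ⟨i, rfl⟩ := Nat.exists_eq_succ_of_ne_zero h0
  refine ne_of_neB (allN_iff.1 b_ne i (by omega)) (Nat.eq_of_testBit_eq fun n => Bool.eq_iff_iff.2 ?_)
  rw [FL_iff (by omega), e, ← bj_zero]; exact (FL_iff (i := 0) (by norm_num)).symm

theorem bj_inj {i j : ℕ} (hi : i < 16) (hj : j < 16) (e : bj i = bj j) : i = j := by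
  by_contra n
  exact bj_ne (fun k => n (Nat.xor_eq_zero_iff.1 k)) (x16 hi hj) (by rw [bj_mul hi hj, e, bj_sq hj])

/-- The group `B`. -/
def Bg : Subgroup G12 where
  carrier := {g | ∃ j < 16, bj j = g}
  one_mem' := ⟨0, by norm_num, bj_zero⟩
  mul_mem' := by rintro _ _ ⟨i, a, rfl⟩ ⟨j, b, rfl⟩; exact ⟨_, x16 a b, bj_mul a b⟩
  inv_mem' := by rintro _ ⟨i, a, rfl⟩; exact ⟨i, a, eq_inv_of_mul_eq_one_left (bj_sq a)⟩

theorem Bg_card : Nat.card Bg = 16 := by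
  have : (Bg : Set G12) = bj '' (Finset.range 16 : Set ℕ) := Set.ext fun g => by simp only [Set.mem_image, Finset.coe_range]; rfl
  rw [← SetLike.coe_sort_coe, this, Nat.card_coe_set_eq, Set.InjOn.ncard_image fun i a j b => bj_inj (by simpa using a) (by simpa using b),
    Set.ncard_coe_finset, Finset.card_range]

theorem Bg_cp : Bg ≤ MO.cp (IL.take 16) := by
  rintro _ ⟨j, hj, rfl⟩
  have : ∀ j < 16, ent IL j ∈ IL.take 16 := by decide +kernel
  exact MO.mem_cp (this j hj)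
theorem Bg_K1 : Bg ≤ K1 := Bg_cp.trans (MO.le_of_leA b_le)
theorem Bg_T : Bg ≤ Py 1 := Bg_cp.trans (Py_eq 1 ▸ MO.le_of_leA b_T)

theorem exists_bj {t : G12} (ht : t ∈ Py 1) (h : t * t = 1) : ∃ i < 72, bj i = t := by
  obtain ⟨v, c, k, e⟩ := (yPc MO).cos il_cov le_rfl (t := t) (by simpa [wv] using ht)
  rw [PS_bot _ le_rfl, mem_bot, inv_mul_eq_one] at e
  have s : ∀ a, fw force (dF par12 yA) v a = MO.φ t a := fun a => e ▸ (MO.sdF yA).fw fc_force v a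
  simp only [force_eq, cnd_eq, ble_tt] at k
  split_ifs at k with a
  · exact absurd (by rw [s, s, ← Equiv.Perm.mul_apply, ← map_mul, h, map_one, Equiv.Perm.one_apply]) (ne_of_neB k)
  · exact ⟨_, not_le.1 a, (MO.eq_of_baseB s (MO.ap_eq _) k).symm⟩

theorem offender {Y : Subgroup G12} (h1 : Y ≤ Py 1) (h2 : ∀ y ∈ Y, y * y = 1) {U : Set ℕ}
    (hU : ∀ n ∈ U, n < 4096 ∧ q0 n = 0 ∧ ∀ y ∈ Y, ψ y n = n) {k : ℕ} (hk : k ≤ 6) (hc : 2 ^ k ≤ U.ncard)
    (h : 1024 ≤ 2 ^ k * Nat.card Y) : Y ≤ Bg := fun y hy => by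
  classical
  have c : ∀ p : ℕ → Bool, (∀ j < 72, bj j ∈ Y → p j = true) → Nat.card Y ≤ cnN 72 p := fun p hp => by
    rw [cnN_eq, ← SetLike.coe_sort_coe, Nat.card_coe_set_eq, ← Set.ncard_coe_finset]
    refine (Set.ncard_le_ncard (fun y hy => ?_) ((Finset.finite_toSet _).image bj)).trans (Set.ncard_image_le (Finset.finite_toSet _))
    obtain ⟨j, a, rfl⟩ := exists_bj (h1 hy) (h2 y hy)
    exact ⟨j, by simpa using ⟨a, hp j a hy⟩, rfl⟩
  obtain ⟨i, hi, rfl⟩ := exists_bj (h1 hy) (h2 y hy)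
  by_contra n
  obtain ⟨i, rfl⟩ := Nat.exists_eq_add_of_le (not_lt.1 fun k => n ⟨i, k, rfl⟩)
  have c0 : Nat.card Y ≤ 72 := (c (fun _ => true) fun _ _ _ => rfl).trans (by decide +kernel)
  have m : 2 ^ k ∈ [16, 32, 64] := by interval_cases k <;> first | omega | decide
  have := ble_tt.1 (allL_iff.1 ((forceH_eq _ _).symm.trans (allN_iff.1 fl_cnt i (by omega))) _ m)
  refine absurd (h.trans (Nat.mul_le_mul_left _ (c _ fun j hj e => ble_tt.2 ?_))) (not_le.2 this)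
  have b : ∀ q, (Nat.land (nth 0 FL (16 + i)) (nth 0 FL j)).testBit q = true ↔ (nth 0 FL (16 + i)).testBit q = true ∧
    (nth 0 FL j).testBit q = true := fun q => by rw [land_eq', Nat.testBit_and, Bool.and_eq_true]
  have l := fun q k => ((FL_iff hi).1 ((b q).1 k).1).1
  refine hc.trans (le_of_le_of_eq ?_ (VO.cnt l rfl))
  exact Set.ncard_le_ncard (fun q a => (b q).2 ⟨(FL_iff hi).2 ⟨(hU q a).1, (hU q a).2.2 _ hy, (hU q a).2.1⟩,
    (FL_iff hj).2 ⟨(hU q a).1, (hU q a).2.2 _ e, (hU q a).2.1⟩⟩) ((Set.finite_lt_nat 4096).subset l)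

theorem WS_iff {n : ℕ} : WS.testBit n = true ↔ n < 4096 ∧ q0 n = 0 ∧ ∀ y ∈ Bg, ψ y n = n := by
  obtain ⟨a, b⟩ := cnd_tt.1 ws_ok
  refine ⟨fun h => ?_, fun h => ?_⟩
  · have := fun j hj => (FL_iff (i := j) (by omega)).1 (subS_sound (allN_iff.1 b j hj) h)
    exact ⟨(this 0 (by norm_num)).1, (this 0 (by norm_num)).2.2, fun _ ⟨j, hj, e⟩ => e ▸ (this j hj).2.1⟩
  · have := fun j hj => (FL_iff (i := j) (by omega)).2 ⟨h.1, h.2.2 _ ⟨j, hj, rfl⟩, h.2.1⟩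
    simp only [← beq_tt.1 a, land_eq', Nat.testBit_and, Bool.and_eq_true]
    exact ⟨⟨this 1 (by norm_num), this 2 (by norm_num)⟩, this 4 (by norm_num), this 8 (by norm_num)⟩

/-- Coordinates on `W`. -/
noncomputable def wc (m : ℕ) : ℕ := xl WB 6 m

theorem wc_xor (m n : ℕ) : wc (m ^^^ n) = wc m ^^^ wc n := xl_xor _ _ _ _

theorem wc_ok : (∀ m < 64, WS.testBit (wc m) = true ∧ WS.testBit (xm (wc m)) = true ∧ (wc m = 0 → m = 0)) ∧
    ∀ v < 4096, WS.testBit v = true → ∃ m < 64, wc m = v := by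
  have : cnd (allN 64 fun m => decide (WS.testBit (wc m) = true ∧ WS.testBit (xm (wc m)) = true ∧ (wc m = 0 → m = 0)))
    (allN 4096 fun v => cnd (WS.testBit v) ((List.range 64).any fun m => Nat.beq (wc m) v) true) false = true := by decide +kernel
  simp only [cnd_tt, allN_iff, decide_eq_true_eq] at this
  exact ⟨this.1, fun v hv h => by simpa [h, cnd_eq] using this.2 v hv⟩

theorem WS_wc {v : ℕ} : WS.testBit v = true ↔ ∃ m < 64, wc m = v :=
  ⟨fun h => wc_ok.2 v (WS_iff.1 h).1 h, fun ⟨m, a, e⟩ => e ▸ (wc_ok.1 m a).1⟩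
theorem x64 {i j : ℕ} (hi : i < 64) (hj : j < 64) : i ^^^ j < 64 := Nat.xor_lt_two_pow (n := 6) hi hj
theorem WS_xor {m n : ℕ} (hm : WS.testBit m = true) (hn : WS.testBit n = true) : WS.testBit (m ^^^ n) = true := by
  obtain ⟨m, a, rfl⟩ := WS_wc.1 hm
  obtain ⟨n, b, rfl⟩ := WS_wc.1 hn
  exact WS_wc.2 ⟨_, x64 a b, wc_xor _ _⟩
theorem WS_xm {m : ℕ} (hm : WS.testBit m = true) : WS.testBit (xm m) = true := by
  obtain ⟨m, a, rfl⟩ := WS_wc.1 hm; exact (wc_ok.1 m a).2.1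
theorem WS_B {m n : ℕ} (hm : WS.testBit m = true) (hn : WS.testBit n = true) : B0 m n = 0 := by
  rw [B0_eq, (WS_iff.1 hm).2.1, (WS_iff.1 hn).2.1, (WS_iff.1 (WS_xor hm hn)).2.1]; rfl
theorem wc_inj {m n : ℕ} (hm : m < 64) (hn : n < 64) (e : wc m = wc n) : m = n :=
  Nat.xor_eq_zero_iff.1 ((wc_ok.1 _ (x64 hm hn)).2.2 (by rw [wc_xor, e, Nat.xor_self]))
theorem T0_WS : Py 1 ≤ sst ψ WS := Py_eq 1 ▸ VO.le_sst t_inv

theorem WS_perp {n : ℕ} (hn : n < 4096) (h : ∀ m, WS.testBit m = true → B0 n m = 0) : WS.testBit n = true := by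
  have : (allN 4096 fun n => cnd (allN 6 fun i => Nat.beq (bit QT (n ^^^ wc (2 ^ i))) (bit QT n)) (WS.testBit n) true) = true := by
    decide +kernel
  have := allN_iff.1 this n hn
  rwa [allN_iff.2 fun i hi => beq_tt.2 ?_] at this
  have w := (wc_ok.1 _ (Nat.pow_lt_pow_right (n := 6) one_lt_two hi)).1
  have := h _ w
  rw [B0_eq, (WS_iff.1 w).2.1, add_zero, QT_ok _ hn, QT_ok _ (xor_lt hn (WS_iff.1 w).1), cB, cB] at this
  rw [bit_eq, bit_eq]
  revert this; cases QT.testBit n <;> cases QT.testBit (_ ^^^ _) <;> simp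

theorem T0_syl : Amalg.Syl 2 (Py 1) H0 := Amalg.syl_of_not_dvd T0_le (.of_card (Py_card (by norm_num))) (by
  have := ((Py 1).subgroupOf H0).card_mul_index
  rw [card_subgroupOf_of_le T0_le, Py_card (by norm_num), H0_card] at this
  rw [relIndex]; omega)

theorem fix_WS {g : G12} (hg : g ∈ H0) (h : ∀ n, WS.testBit n = true → ψ g n = n) : g ∈ Bg := by
  let Y := H0 ⊓ ⨅ n ∈ {n | WS.testBit n = true}, stab ψ n
  have m : ∀ y, y ∈ Y ↔ y ∈ H0 ∧ ∀ n, WS.testBit n = true → ψ y n = n := fun y => by simp only [Y, mem_inf, mem_iInf]; rfl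
  have s : ∀ y ∈ Y, y * y = 1 := fun y hy => G12.ext' fun n hn => by
    have l := xor_lt hn (G12.lt y hn)
    have := ((m y).1 hy).2 _ (WS_perp l fun w hw => by
      rw [B0_left, ← G12.B y hn (WS_iff.1 hw).1, ((m y).1 hy).2 w hw, z2_add])
    rw [G12.xor y hn (G12.lt y hn), Nat.xor_comm n] at this
    exact (G12.mul _ _ _).trans (Nat.xor_right_inj.1 this)
  refine offender (U := {n | WS.testBit n = true}) (T0_syl.le_of_le_normalizer (Amalg.isPGroup_iff_mem.2 fun y hy => ⟨1, (pow_two y).trans (s y hy)⟩)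
    inf_le_left fun t ht => mem_normalizer_of_conj_mem fun y hy => (m _).2 ⟨mul_mem (mul_mem (T0_le ht) hy.1) (inv_mem (T0_le ht)), fun n hn => ?_⟩) s
    (fun n hn => ⟨(WS_iff.1 hn).1, (WS_iff.1 hn).2.1, fun y hy => ((m y).1 hy).2 n hn⟩) le_rfl
    (VO.cnt (fun n hn => (WS_iff.1 hn).1) (by decide +kernel)).ge ?_ ((m g).2 ⟨hg, h⟩)
  · rw [G12.mul, G12.mul, ((m y).1 hy).2 _ ((sst_bit (inv_mem (T0_WS ht)) n).trans hn), G12.ap_inv]
  · have := card_le_of_le (show Bg ≤ Y from fun y hy => (m y).2 ⟨K1_H0 (Bg_K1 hy), fun n hn => (WS_iff.1 hn).2.2 y hy⟩)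
    rw [Bg_card] at this; omega

/-- Elements moving `bj j` to `bj 1`. -/
noncomputable def gj (j : ℕ) : G12 := MO.v (ent GJ j)
/-- The action of `gj j` on `B`. -/
noncomputable def pt4 (j i : ℕ) : ℕ := look A12.PT 4 (Nat.add (Nat.mul 16 j) i)

theorem gj_mem (j : ℕ) : gj j ∈ K1 ⊓ sst ψ WS := le_inf (MO.le_of_leA gj_le) (VO.le_sst gj_inv) (MO.ent_mem_cp _ _)
theorem gj_conj {i j : ℕ} (hj : j < 16) (hi : i < 16) : gj j * bj i * (gj j)⁻¹ = bj (pt4 j i) :=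
  MO.cj (allN_iff.1 (allN_iff.1 gj_cj j hj) i hi)
theorem pt4_ok : ∀ j < 16, (j ≠ 0 → pt4 j j = 1) ∧ ∀ i < 16, pt4 j i < 16 := by decide +kernel

theorem NB_le : MO.cp BW ≤ H0 ⊓ sst ψ WS := le_inf (MO.le_of_leA nb_le) (VO.le_sst nb_inv)
theorem NB_orb : Orb ψ (MO.cp BW) (wc 1) (Nat.land WS A12.O1) 18 := by
  have : wc 1 = look WB 12 0 := by decide +kernel
  exact this ▸ VO.orb nb_orb

theorem mv_ok : ∀ j < 16, ∀ m < 64, j ≠ 0 → (TI.testBit (64 * j + m) = true → look NT 12 (64 * j + m) ^^^ ψ (bj j) (look NT 12 (64 * j + m)) = wc m) ∧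
    (TI.testBit (64 * j + m) = false → ∃ m' < 64, ψ (gj j) (wc m) = wc m' ∧ ∃ e n, n < 4096 ∧ xm^[e] (wc m') ^^^ (n ^^^ ψ (bj 1) n) = wc m0) := by
  have : (allN 16 fun j => allN 64 fun m => cnd (Nat.beq j 0) true (cnd (TI.testBit (64 * j + m))
      (Nat.beq (look NT 12 (64 * j + m) ^^^ ap parV (ent IL j) (look NT 12 (64 * j + m))) (wc m))
      (force (look MT 6 (64 * j + m)) fun m' => force (look NT 12 (64 + m')) fun n => decide (m' < 64 ∧ ap parV (ent GJ j) (wc m) = wc m' ∧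
        n < 4096 ∧ xm^[look XT 2 m'] (wc m') ^^^ (n ^^^ ap parV (ent IL 1) n) = wc m0)))) = true := by decide +kernel
  simp only [allN_iff, VO.ap, force_eq, cnd_eq, beq_tt] at this
  intro j hj m hm h
  have := this j hj m hm
  rw [if_neg h] at this
  refine ⟨fun k => beq_tt.1 (by rwa [if_pos k] at this), fun k => ?_⟩
  rw [if_neg (by simp [k]), decide_eq_true_eq] at this
  exact ⟨_, this.1, this.2.1, _, _, this.2.2⟩

end Cfsg.Lib.Fi
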