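import Cfsg.Agent.Lib.Fi.Fr3
import Cfsg.Agent.Lib.Fi.O12f

/-! Groups `2^{1+12}.3.U₄(3).2`: the centraliser of an element of order three and the subgroup `2¹¹`. -/

namespace Cfsg.Lib.Fi

open Cfsg.Lib.Comp Subgroup A12 Cfsg.Lib.Core Cfsg.Lib.Known2 Cfsg.Lib.Amalg

variable {G : Type*} [Group G]

/-- The power `z ^ a` of an involution. -/
def zp (z : G) (a : ZMod 2) : G := if a = 0 then 1 else z

theorem zp_zero (z : G) : zp z 0 = 1 := if_pos rfl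
theorem zp_one (z : G) : zp z 1 = z := if_neg one_ne_zero
theorem zp_add {z : G} (h : z * z = 1) (a b : ZMod 2) : zp z (a + b) = zp z a * zp z b := by
  rcases z2_cases a with rfl | rfl <;> rcases z2_cases b with rfl | rfl <;> simp [zp_zero, zp_one, z2_add, h]
theorem zp_comm {z g : G} (h : g * z = z * g) (a : ZMod 2) : g * zp z a = zp z a * g := by
  rcases z2_cases a with rfl | rfl <;> simp [zp_zero, zp_one, h]
theorem zp_mem (z : G) (a : ZMod 2) : zp z a ∈ zpowers z := by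
  rcases z2_cases a with rfl | rfl <;> simp [zp_zero, zp_one]
theorem zp_inj {z : G} (h : z ≠ 1) {a b : ZMod 2} (e : zp z a = zp z b) : a = b := by
  rcases z2_cases a with rfl | rfl <;> rcases z2_cases b with rfl | rfl <;> simp_all [zp_zero, zp_one, eq_comm]
theorem exists_zp {z x y : G} (h : y = x ∨ y = x * z) : ∃ a, y = x * zp z a :=
  h.elim (fun e => ⟨0, by rw [zp_zero, mul_one, e]⟩) fun e => ⟨1, by rw [zp_one, e]⟩
theorem _root_.Cfsg.Lib.Known2.ES.sw {Q : Subgroup G} {z x y : G} (h : ES Q z) (hx : x ∈ Q) (hy : y ∈ Q) :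
    x * y = y * x * zp z (βf x y) := by
  unfold βf; split_ifs with e
  exacts [by rw [zp_zero, mul_one, e], by rw [zp_one, h.anti hx hy e]]

theorem xm_fix : ∀ n < 4096, xm n = n → n = 0 := by
  have : (allN 4096 fun n => cnd (Nat.beq (xm n) n) (Nat.beq n 0) true) = true := by decide +kernel
  intro n hn e
  simpa [e, cnd_eq] using allN_iff.1 this n hn

theorem xm3 {n : ℕ} (h : n < 4096) : xm (xm (xm n)) = n := by
  rw [(xm_ok _ (xm_ok n h).1).2.2.1, (xm_ok n h).2.2.1, Nat.xor_comm n, ← Nat.xor_assoc, Nat.xor_self, Nat.zero_xor]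

/-- The frame with an element of order three and an equivariant section. -/
structure FX (Q : Subgroup G) (z : G) (ν : G → ℕ) (ρ : G →* G12) (x : G) (s : ℕ → G) : Prop extends FT Q z ν ρ where
  r0 : ρ.range = H0
  rx : ρ x = X0
  x3 : x ^ 3 = 1
  sQ : ∀ n, s n ∈ Q
  sν : ∀ n < 4096, ν (s n) = n
  scj : ∀ d, d * x = x * d → ∀ n < 4096, d * s n * d⁻¹ = s (ψ (ρ d) n)
  smul : ∀ m < 4096, ∀ n < 4096, s m * s n = s (m ^^^ n) * zp z (B0 (xm m) n)

theorem Fr.fpf {Q : Subgroup G} {z x : G} {ν : G → ℕ} {ρ : G →* G12} (F : Fr Q z ν ρ) (h : ρ x = X0) (x3 : x ^ 3 = 1) : Fpf Q z x :=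
  ⟨F.ls.toES, F.cen x, fun _ => F.nm x, x3, fun c hc e => F.ls.mem_zp.1 ((F.zero hc).1 (xm_fix _ (F.lt c) (by
    rw [← X0_ap (F.lt c), ← h, ← F.conj x hc, conj_eq_of_comm e])))⟩

theorem FT.exists_FX {Q : Subgroup G} {z x : G} {ν : G → ℕ} {ρ : G →* G12} (F : FT Q z ν ρ) (r : ρ.range = H0) (h : ρ x = X0)
    (x3 : x ^ 3 = 1) : ∃ s, FX Q z ν ρ x s := by
  let σ : G → G := fun y => x * y * x⁻¹ * (x * (x * y * x⁻¹) * x⁻¹)
  have cz := fun g a => zp_comm (F.cen g) a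
  have σQ : ∀ y ∈ Q, σ y ∈ Q := fun y hy => mul_mem (F.nm x hy) (F.nm x (F.nm x hy))
  have σν : ∀ y ∈ Q, ν (σ y) = ν y := fun y hy => by
    have := (F.zero (F.zQ ((F.fpf h x3).tri hy))).2 ((F.fpf h x3).tri hy)
    rwa [mul_assoc, F.mul hy (σQ y hy), Nat.xor_eq_zero_iff, eq_comm] at this
  have σm : ∀ y ∈ Q, ∀ w ∈ Q, σ y * σ w = σ (y * w) * zp z (B0 (xm (ν y)) (ν w)) := fun y hy w hw => by
    have := F.ls.sw (F.nm x (F.nm x hy)) (F.nm x hw)
    rw [β_conj, F.β (F.nm x hy) hw, F.conj x hy, h, X0_ap (F.lt y)] at this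
    simp only [σ]
    rw [← conj_mul (a := y), ← conj_mul (a := x * y * x⁻¹), mul_assoc (x * y * x⁻¹), ← mul_assoc _ (x * w * x⁻¹), this]
    simp only [mul_assoc _ (zp _ _), ← cz, mul_assoc]
  have σe : ∀ y ∈ Q, ∀ w ∈ Q, ν y = ν w → σ w = σ y := fun y hy w hw e => by
    rcases F.eq_or hy hw e with rfl | rfl
    · rfl
    have := σm y hy z F.ls.mem
    rw [F.νz, B0_zero, zp_zero, mul_one] at this
    simp only [← this, σ, conj_eq_of_comm (F.cen x), F.ls.sq, mul_one]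
  choose! t t1 t2 using F.sur
  classical
  refine ⟨fun n => if n < 4096 then σ (t n) else 1, F, r, h, x3, fun n => ?_, fun n hn => ?_, fun d e n hn => ?_, fun m hm n hn => ?_⟩
  · split_ifs with k
    exacts [σQ _ (t1 n k), one_mem _]
  · rw [if_pos hn, σν _ (t1 n hn), t2 n hn]
  · rw [if_pos hn, if_pos (G12.lt _ hn), σe _ (F.nm d (t1 n hn)) _ (t1 _ (G12.lt _ hn)) (by rw [F.conj d (t1 n hn), t2 n hn, t2 _ (G12.lt _ hn)])]
    simp only [σ]
    have k : ∀ y, d * (x * y * x⁻¹) * d⁻¹ = x * (d * y * d⁻¹) * x⁻¹ := fun y => by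
      calc _ = d * x * y * (d * x)⁻¹ := by group
        _ = _ := by rw [e]; group
    rw [← conj_mul (b := d), k, k, k]
  · rw [if_pos hm, if_pos hn, if_pos (xor_lt hm hn), σm _ (t1 m hm) _ (t1 n hn), t2 m hm, t2 n hn,
      σe _ (mul_mem (t1 m hm) (t1 n hn)) _ (t1 _ (xor_lt hm hn)) (by rw [F.mul (t1 m hm) (t1 n hn), t2 m hm, t2 n hn, t2 _ (xor_lt hm hn)])]

theorem FT.exists_x {Q : Subgroup G} {z : G} {ν : G → ℕ} {ρ : G →* G12} (F : FT Q z ν ρ) : ∃ x, ρ x = X0 ∧ x ^ 3 = 1 := by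
  obtain ⟨x, h⟩ := F.k1 (K1_cov.1 (mem_zpowers X0))
  have k : X0 ^ 3 = 1 := X0_ord ▸ pow_orderOf_eq_one X0
  refine ⟨x ^ 4, by rw [map_pow, h, pow_succ, k, one_mul], ?_⟩
  rw [← pow_mul, mul_comm, pow_mul]
  exact F.ls.pow_four (F.mem.1 (by rw [map_pow, h, k]))

namespace FX
variable {Q : Subgroup G} {z x : G} {ν : G → ℕ} {ρ : G →* G12} {s : ℕ → G} (F : FX Q z ν ρ x s)
include F

theorem cz (g : G) (a : ZMod 2) : g * zp z a = zp z a * g := zp_comm (F.cen g) a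
theorem s0 : s 0 = 1 := by simpa [B0_zero, zp_zero] using F.smul 0 (by norm_num) 0 (by norm_num)
theorem s_sq {n : ℕ} (h : n < 4096) : s n * s n = zp z (q0 n) := by
  rw [F.smul n h n h, Nat.xor_self, F.s0, one_mul, B0_comm, (xm_ok n h).2.1]
theorem s_inv {n : ℕ} (h : n < 4096) : (s n)⁻¹ = s n * zp z (q0 n) :=
  inv_eq_of_mul_eq_one_right (by rw [← mul_assoc, F.s_sq h, ← zp_add F.ls.sq, z2_add, zp_zero])
theorem eq_s {y : G} (h : y ∈ Q) : ∃ a, y = s (ν y) * zp z a := exists_zp (F.eq_or (F.sQ _) h (F.sν _ (F.lt y)))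
theorem D_Q {d : G} (h : d * x = x * d) (e : ρ d = 1) : d = 1 ∨ d = z := (F.fpf F.rx F.x3).fp d (F.mem.1 e) h.symm
theorem D_eq {d d' : G} (h : d * x = x * d) (h' : d' * x = x * d') (e : ρ d = ρ d') : ∃ a, d' = d * zp z a :=
  exists_zp ((F.D_Q (d := d⁻¹ * d') (mem_cent_single.1 (mul_mem (inv_mem (mem_cent_single.2 h)) (mem_cent_single.2 h')))
    (by rw [map_mul, map_inv, e, inv_mul_cancel])).imp (fun k => (inv_mul_eq_one.1 k).symm) inv_mul_eq_iff_eq_mul.1)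
theorem D_K1 {d : G} (h : d * x = x * d) : ρ d ∈ K1 :=
  H0_GU.le ⟨F.r0.le ⟨d, rfl⟩, mem_cent_single.2 (by rw [← F.rx, ← map_mul, h, map_mul])⟩

theorem exD {g : G12} (hg : g ∈ K1) : ∃ d, d * x = x * d ∧ ρ d = g := by
  obtain ⟨a, rfl⟩ := F.k1 hg
  have hu : a * x * a⁻¹ * x⁻¹ ∈ Q := F.mem.1 (by
    simp only [map_mul, map_inv, F.rx, conj_eq_of_comm (mem_cent_single.1 (K1_GU hg)), mul_inv_cancel])
  have l := (xm_ok _ (F.lt (a * x * a⁻¹ * x⁻¹))).1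
  obtain ⟨y, hy, e⟩ := F.sur _ l
  have m := mul_mem (mul_mem hy hu) (F.nm x (inv_mem hy))
  refine ⟨y * a, ?_, by rw [map_mul, F.mem.2 hy, one_mul]⟩
  rcases F.ls.mem_zp.1 ((F.zero m).1 (by
    rw [F.mul (mul_mem hy hu) (F.nm x (inv_mem hy)), F.mul hy hu, F.conj x (inv_mem hy), F.inv hy, F.rx, e, X0_ap l, Nat.xor_right_comm,
      ← (xm_ok _ l).2.2.1, xm3 (F.lt _), Nat.xor_self])) with k | k
  · exact comm_of_conj_eq (mul_inv_eq_one.1 (by rw [← k]; group))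
  have : (y * a * x * (y * a)⁻¹) ^ 3 = (z * x) ^ 3 := by rw [← k]; congr 1; group
  rw [conj_pow, F.x3, (show Commute z x from (F.cen x).symm).mul_pow, F.x3, pow_succ, pow_two, F.ls.sq] at this
  exact absurd (by simpa using this.symm) F.ls.ne

omit F in
theorem D_mul {a b : G} (ha : a * x = x * a) (hb : b * x = x * b) : a * b * x = x * (a * b) := Commute.mul_left ha hb
omit F in
theorem D_cj {a b : G} (ha : a * x = x * a) (hb : b * x = x * b) : a * b * a⁻¹ * x = x * (a * b * a⁻¹) :=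
  D_mul (D_mul ha hb) (Commute.inv_left ha)

theorem D_gj {d : G} {j : ℕ} (i : ℕ) (hi : i < 16) (hj : j < 16) (e : ρ d = bj j) :
    ∃ g, g * x = x * g ∧ ρ g = gj i ∧ ρ (g * d * g⁻¹) = bj (pt4 i j) :=
  (F.exD (gj_mem i).1).imp fun g k => ⟨k.1, k.2, by rw [map_mul, map_mul, map_inv, k.2, e, gj_conj hi hj]⟩

theorem E_sq {d : G} (h : d * x = x * d) (e : ρ d ∈ Bg) : d * d = 1 := by
  obtain ⟨j, hj, e⟩ := e
  have L := fun j hj => F.exD (Bg_K1 ⟨j, hj, rfl⟩)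
  obtain ⟨a, ha, ea⟩ := L 1 (by norm_num)
  have k : ∀ d j, d * x = x * d → j < 16 → j ≠ 0 → ρ d = bj j → d * d = a * a := fun d j h hj n e => by
    obtain ⟨g, k1, -, k2⟩ := F.D_gj j hj hj e
    obtain ⟨c, k⟩ := F.D_eq ha (D_cj k1 h) (by rw [k2, (pt4_ok j hj).1 n, ea])
    have : g * (d * d) * g⁻¹ = a * a := by
      rw [← conj_mul, k, mul_assoc, ← mul_assoc _ a, ← F.cz, mul_assoc, ← zp_add F.ls.sq, z2_add, zp_zero, mul_one]
    rcases F.D_Q (D_mul h h) (by rw [map_mul, e, bj_sq hj]) with k | k <;> rw [← this, k]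
    exacts [by simp, (conj_eq_of_comm (F.cen g)).symm]
  by_cases n : j = 0
  · rcases F.D_Q h (by rw [← e, n, bj_zero]) with rfl | rfl
    exacts [one_mul _, F.ls.sq]
  rw [k d j h hj n e.symm]
  refine (F.D_Q (D_mul ha ha) (by rw [map_mul, ea, bj_sq (by norm_num)])).resolve_right fun q => F.ls.ne ?_
  have an : ∀ u v i j, u * x = x * u → v * x = x * v → i < 16 → j < 16 → i ≠ 0 → j ≠ 0 → i ^^^ j ≠ 0 → ρ u = bj i → ρ v = bj j →
      v * u = u * v * z := fun u v i j hu hv hi hj n1 n2 n3 eu ev => by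
    have := k _ _ (D_mul hu hv) (x16 hi hj) n3 (by rw [map_mul, eu, ev, bj_mul hi hj])
    calc _ = (u * u)⁻¹ * u * (u * v * (u * v)) * v * (v * v)⁻¹ := by group
      _ = _ := by rw [this, k u i hu hi n1 eu, k v j hv hj n2 ev, q, F.ls.inv_z, ← F.cen u, mul_assoc u, F.ls.sq, mul_one]
  obtain ⟨b, hb, eb⟩ := L 2 (by norm_num)
  obtain ⟨c, hc, ec⟩ := L 4 (by norm_num)
  have := an a _ 1 6 ha (D_mul hb hc) (by norm_num) (by norm_num) (by norm_num) (by norm_num) (by decide) ea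
    (by rw [map_mul, eb, ec, ← bj_mul (by norm_num) (by norm_num)]; rfl)
  rw [mul_assoc, an a c 1 4 ha hc (by norm_num) (by norm_num) (by norm_num) (by norm_num) (by decide) ea ec, ← mul_assoc, ← mul_assoc,
    an a b 1 2 ha hb (by norm_num) (by norm_num) (by norm_num) (by norm_num) (by decide) ea eb, mul_assoc _ z, ← F.cen] at this
  simpa [mul_assoc] using this

end FX

/-- The preimage of `W` in `Q`. -/
def Wh (Q : Subgroup G) (ν : G → ℕ) : Set G := {y | y ∈ Q ∧ WS.testBit (ν y) = true}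

/-- Coordinates on `2¹¹`. -/
noncomputable def mu (z : G) (s f : ℕ → G) (c : ℕ) : G := s (wc (c % 64)) * f (c / 64 % 16) * zp z (cB c 10)

theorem elem_of_sq {A : Subgroup G} (h : ∀ a ∈ A, a * a = 1) : IsElementaryAbelian 2 A :=
  ⟨⟨⟨fun a b => Subtype.ext (by
    have := fun a ha => inv_eq_of_mul_eq_one_right (h a ha)
    rw [coe_mul, ← this _ (mul_mem a.2 b.2), mul_inv_rev, this _ a.2, this _ b.2, coe_mul])⟩⟩, fun a ha => (pow_two a).trans (h a ha)⟩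

/-- The frame with lifts of the elements of `B`. -/
structure FA (Q : Subgroup G) (z : G) (ν : G → ℕ) (ρ : G →* G12) (x : G) (s f : ℕ → G) : Prop extends FX Q z ν ρ x s where
  fD : ∀ j, f j * x = x * f j
  fρ : ∀ j < 16, ρ (f j) = bj j
  fmul : ∀ i j, f (i ^^^ j) = f i * f j

theorem FX.exists_FA {Q : Subgroup G} {z x : G} {ν : G → ℕ} {ρ : G →* G12} {s : ℕ → G} (F : FX Q z ν ρ x s) {a : ℕ → G}
    (ha : ∀ i < 4, a i * x = x * a i ∧ ρ (a i) = bj (2 ^ i)) : ∃ f, FA Q z ν ρ x s f ∧ ∀ i < 4, f (2 ^ i) = a i := by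
  let E := centralizer {x} ⊓ Bg.comap ρ
  have l := fun i hi => Nat.pow_lt_pow_right (n := 4) (m := i) one_lt_two hi
  have m : ∀ i, (if i < 4 then a i else 1) ∈ E := fun i => by
    split_ifs with h
    exacts [⟨mem_cent_single.2 (ha i h).1, _, l i h, (ha i h).2.symm⟩, one_mem _]
  have q := fun d (hd : d ∈ E) => F.E_sq (mem_cent_single.1 hd.1) hd.2
  have k := pw2_xor m (fun a ha b hb => elemAb_le_cent (elem_of_sq q) hb a ha) (fun i => q _ (m i)) 4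
  have p := fun i (hi : i < 4) => (pw2_pow (fun i => if i < 4 then a i else 1) 4 i).trans ((if_pos hi).trans (if_pos hi))
  refine ⟨_, ⟨F, fun j => mem_cent_single.1 (pw2_mem m 4 j).1, xor_ind 4 (by simp [pw2, bj_zero]) (fun i hi => by rw [p i hi, (ha i hi).2])
    fun i hi j hj u v => by rw [k, map_mul, u, v, bj_mul hi hj], k⟩, p⟩

theorem FX.exists_FA' {Q : Subgroup G} {z x : G} {ν : G → ℕ} {ρ : G →* G12} {s : ℕ → G} (F : FX Q z ν ρ x s) : ∃ f, FA Q z ν ρ x s f := by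
  choose! a ha using fun i (hi : i < 4) => F.exD (Bg_K1 ⟨_, Nat.pow_lt_pow_right (n := 4) (m := i) one_lt_two hi, rfl⟩)
  exact (F.exists_FA ha).imp fun _ => And.left

theorem WS_mod (c : ℕ) : WS.testBit (wc (c % 64)) = true := (wc_ok.1 _ (Nat.mod_lt _ (by norm_num))).1

theorem cd_ok : ∀ j < 16, ∀ m < 64, ∀ e : ZMod 2, 64 * j + m + 1024 * e.val < 2048 ∧ (64 * j + m + 1024 * e.val) % 64 = m ∧
    (64 * j + m + 1024 * e.val) / 64 % 16 = j ∧ cB (64 * j + m + 1024 * e.val) 10 = e := by decide +kernel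

theorem mu_cd (z : G) (s f : ℕ → G) {j m : ℕ} (hj : j < 16) (hm : m < 64) (e : ZMod 2) :
    mu z s f (64 * j + m + 1024 * e.val) = s (wc m) * f j * zp z e := by
  obtain ⟨-, a, b, c⟩ := cd_ok j hj m hm e
  rw [mu, a, b, c]

namespace FA
variable {Q : Subgroup G} {z x : G} {ν : G → ℕ} {ρ : G →* G12} {s f : ℕ → G} (F : FA Q z ν ρ x s f)
include F

theorem f0 : f 0 = 1 := by simpa using F.fmul 0 0
theorem f_s {j n : ℕ} (hj : j < 16) (hn : WS.testBit n = true) : f j * s n = s n * f j :=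
  comm_of_conj_eq (by rw [F.scj _ (F.fD j) n (WS_iff.1 hn).1, (WS_iff.1 hn).2.2 _ ⟨j, hj, (F.fρ j hj).symm⟩])
theorem s_W {m n : ℕ} (hm : WS.testBit m = true) (hn : WS.testBit n = true) : s m * s n = s (m ^^^ n) := by
  rw [F.smul m (WS_iff.1 hm).1 n (WS_iff.1 hn).1, WS_B (WS_xm hm) hn, zp_zero, mul_one]

theorem mu_mul (c d : ℕ) : mu z s f (c ^^^ d) = mu z s f c * mu z s f d := by
  unfold mu
  rw [Nat.xor_mod_two_pow (n := 6), Nat.xor_div_two_pow (n := 6), Nat.xor_mod_two_pow (n := 4), wc_xor, cB_xor, zp_add F.ls.sq,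
    ← F.s_W (WS_mod c) (WS_mod d), F.fmul, mul_assoc _ (zp _ _) (_ * _), ← F.cz (_ * _ * _) (cB c 10)]
  have := F.f_s (Nat.mod_lt (c / 64) (by norm_num)) (WS_mod d)
  simp only [← mul_assoc]
  rw [mul_assoc (s _) (f _), this, mul_assoc _ (zp _ _), F.cz (zp _ _)]
  simp only [← mul_assoc]

theorem mu_zero : mu z s f 0 = 1 := by simpa using F.mu_mul 0 0
theorem mu_sq (c : ℕ) : mu z s f c * mu z s f c = 1 := by rw [← F.mu_mul, Nat.xor_self, F.mu_zero]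
theorem mu_ρ (c : ℕ) : ρ (mu z s f c) = bj (c / 64 % 16) := by
  rw [mu, map_mul, map_mul, F.mem.2 (F.sQ _), F.mem.2 (F.zQ (zp_mem _ _)), F.fρ _ (Nat.mod_lt _ (by norm_num)), one_mul, mul_one]
theorem mu_Q {c : ℕ} : mu z s f c ∈ Q ↔ c / 64 % 16 = 0 := by
  rw [← F.mem, F.mu_ρ, ← bj_zero]; exact ⟨bj_inj (Nat.mod_lt _ (by norm_num)) (by norm_num), congrArg bj⟩
theorem mu_ν {c : ℕ} (h : c / 64 % 16 = 0) : ν (mu z s f c) = wc (c % 64) := by
  rw [mu, h, F.f0, mul_one, F.mul (F.sQ _) (F.zQ (zp_mem _ _)), (F.zero (F.zQ (zp_mem _ _))).2 (zp_mem _ _), F.sν _ (WS_iff.1 (WS_mod c)).1,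
    Nat.xor_zero]
theorem mu_z (c : ℕ) : mu z s f (c ^^^ 1024) = mu z s f c * z := by
  rw [F.mu_mul, show mu z s f 1024 = s (wc 0) * f 0 * zp z 1 from rfl, wc, xl_zero, F.s0, F.f0, zp_one, one_mul, one_mul]

theorem mu_one {c : ℕ} (hc : c < 2048) (h : mu z s f c = 1) : c = 0 := by
  have a := F.mu_Q.1 (h ▸ one_mem _)
  have b := (wc_ok.1 _ (Nat.mod_lt _ (by norm_num))).2.2 ((F.mu_ν a).symm.trans (h ▸ F.one))
  rw [mu, a, b, wc, xl_zero, F.s0, F.f0, one_mul, one_mul, ← zp_zero z] at h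
  have : ∀ c < 2048, c / 64 % 16 = 0 → c % 64 = 0 → cB c 10 = 0 → c = 0 := by decide +kernel
  exact this c hc a b (zp_inj F.ls.ne h)

theorem mu_inj {c d : ℕ} (hc : c < 2048) (hd : d < 2048) (h : mu z s f c = mu z s f d) : c = d :=
  Nat.xor_eq_zero_iff.1 (F.mu_one (Nat.xor_lt_two_pow (n := 11) hc hd) (by rw [F.mu_mul, h, F.mu_sq]))

theorem cent_iff {g : G} : g ∈ centralizer (Wh Q ν) ↔ ∀ n, WS.testBit n = true → g * s n = s n * g := by
  refine ⟨fun h n hn => (h _ ⟨F.sQ n, (F.sν n (WS_iff.1 hn).1).symm ▸ hn⟩).symm, fun h y hy => ?_⟩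
  obtain ⟨a, e⟩ := F.eq_s hy.1
  rw [e, mul_assoc, ← F.cz, ← mul_assoc, ← h _ hy.2, mul_assoc]

theorem mem_A {g : G} : g ∈ centralizer (Wh Q ν) ↔ ∃ c < 2048, mu z s f c = g := by
  have k : ∀ j < 16, f j ∈ centralizer (Wh Q ν) := fun j hj => F.cent_iff.2 fun n => F.f_s hj
  refine ⟨fun h => ?_, ?_⟩
  · obtain ⟨j, hj, e⟩ := fix_WS (F.r0.le ⟨g, rfl⟩) fun n hn => by
      rw [← F.sν n (WS_iff.1 hn).1, ← F.conj g (F.sQ n), conj_eq_of_comm (F.cent_iff.1 h n hn)]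
    have q : g * (f j)⁻¹ ∈ Q := F.mem.1 (by rw [map_mul, map_inv, F.fρ j hj, e, mul_inv_cancel])
    obtain ⟨m, hm, e1⟩ := WS_wc.1 (WS_perp (F.lt _) fun n hn => by
      rw [← F.sν n (WS_iff.1 hn).1, ← F.comm q (F.sQ n)]; exact F.cent_iff.1 (mul_mem h (inv_mem (k j hj))) n hn)
    obtain ⟨a, e2⟩ := F.eq_s q
    exact ⟨_, (cd_ok j hj m hm a).1, by rw [mu_cd _ _ _ hj hm, mul_assoc, F.cz, ← mul_assoc, e1, ← e2, inv_mul_cancel_right]⟩
  · rintro ⟨c, -, rfl⟩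
    exact mul_mem (mul_mem (F.cent_iff.2 fun n hn => by rw [F.s_W hn (WS_mod c), F.s_W (WS_mod c) hn, Nat.xor_comm])
      (k _ (Nat.mod_lt _ (by norm_num)))) (F.cent_iff.2 fun n _ => (F.cz _ _).symm)

theorem A_elem : IsElementaryAbelian 2 (centralizer (Wh Q ν)) := elem_of_sq fun _ h => by
  obtain ⟨c, -, rfl⟩ := F.mem_A.1 h; exact F.mu_sq c

theorem A_card : Nat.card (centralizer (Wh Q ν)) = 2 ^ 11 := by
  have : (centralizer (Wh Q ν) : Set G) = mu z s f '' (Finset.range 2048 : Set ℕ) := Set.ext fun g => by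
    simp only [Set.mem_image, Finset.coe_range]; exact F.mem_A
  rw [← SetLike.coe_sort_coe, this, Nat.card_coe_set_eq, Set.InjOn.ncard_image fun i a j b => F.mu_inj (by simpa using a) (by simpa using b),
    Set.ncard_coe_finset, Finset.card_range]; rfl

theorem A_map : (centralizer (Wh Q ν)).map ρ = Bg := le_antisymm
  (by rintro _ ⟨_, h, rfl⟩; obtain ⟨c, -, rfl⟩ := F.mem_A.1 h; exact ⟨_, Nat.mod_lt _ (by norm_num), (F.mu_ρ c).symm⟩)
  (by rintro _ ⟨j, hj, rfl⟩; exact ⟨f j, F.cent_iff.2 fun n => F.f_s hj, F.fρ j hj⟩)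

theorem A_le : centralizer (Wh Q ν) ≤ (Py 1).comap ρ := map_le_iff_le_comap.1 (F.A_map.trans_le Bg_T)
theorem z_A : z ∈ centralizer (Wh Q ν) := fun g _ => F.cen g
theorem W_A {y : G} (h : y ∈ Wh Q ν) : y ∈ centralizer (Wh Q ν) := fun _ k => (F.comm k.1 h.1).2 (WS_B k.2 h.2)

theorem norm_A {g : G} (h : ρ g ∈ sst ψ WS) : g ∈ normalizer (centralizer (Wh Q ν) : Set G) := by
  have k : ∀ g, ρ g ∈ sst ψ WS → ∀ a ∈ centralizer (Wh Q ν), g * a * g⁻¹ ∈ centralizer (Wh Q ν) := fun g h a ha y hy => by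
    have := ha (g⁻¹ * y * g⁻¹⁻¹) ⟨F.nm _ hy.1, by rw [F.conj _ hy.1, map_inv, sst_bit (inv_mem h), hy.2]⟩
    simpa [mul_assoc] using congrArg (fun u => g * u * g⁻¹) this
  exact mem_normalizer_iff.2 fun a => ⟨k g h a, fun e => by simpa [mul_assoc] using k g⁻¹ (map_inv ρ g ▸ inv_mem h) _ e⟩

variable [Finite G]

theorem A_Q : Nat.card ↥(centralizer (Wh Q ν) ⊓ Q) = 2 ^ 7 := by
  have := F.card_map (B := centralizer (Wh Q ν))
  rw [F.A_card, F.A_map, Bg_card] at this; omega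

theorem T_card : Nat.card ((Py 1).comap ρ) = 2 ^ 21 := by
  rw [card_map_ker ρ (ker_le_comap _ _), map_comap_eq_self (F.r0 ▸ T0_le), F.ker, F.card, Py_card (by norm_num)]; rfl

theorem T_syl : Amalg.Syl 2 ((Py 1).comap ρ) ⊤ := syl_of_not_dvd le_top (.of_card F.T_card) (by
  have := ((Py 1).comap ρ).card_mul_index
  rw [F.T_card, ← card_top (G := G), card_map_ker ρ le_top, ← MonoidHom.range_eq_map, F.cr, F.ker, F.card] at this
  rw [relIndex_top_right]; omega)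

theorem uniq {B : Subgroup G} (h : B ≤ (Py 1).comap ρ) (he : IsElementaryAbelian 2 B) (hc : 2 ^ 11 ≤ Nat.card B) :
    B = centralizer (Wh Q ν) := by
  have e1 := elemAb_sup he (elem_of_sq (A := zpowers z) fun a ha => κ_zero.1 (F.ls.κ_zp ha)) fun g _ => mem_cent_zpowers.2 (F.cen g)
  have l := sup_le h (F.zQ.trans (F.ker.ge.trans (ker_le_comap _ _)))
  have c0 := hc.trans (card_le_of_le (le_sup_left (b := zpowers z)))
  have z1 : z ∈ B ⊔ zpowers z := mem_sup_right (mem_zpowers z)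
  refine eq_of_le_of_card_ge (le_sup_left.trans (b := B ⊔ zpowers z) ?_) (F.A_card.trans_le hc)
  generalize B ⊔ zpowers z = C at *
  have c1 := F.ls.card_ab F.card inf_le_right ⟨z1, F.ls.mem⟩ (elemAb_of_le e1 inf_le_left).1
  obtain ⟨j, -, c2⟩ := (Nat.dvd_prime_pow Nat.prime_two).1 (F.card ▸ card_dvd_of_le (inf_le_right : C ⊓ Q ≤ Q))
  have c3 := F.card_map (B := C)
  have c4 : Nat.card ↥(C ⊓ Q) ≤ 2 * (ν '' ↑(C ⊓ Q)).ncard := by
    rw [← SetLike.coe_sort_coe, Nat.card_coe_set_eq, two_mul]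
    refine (Set.ncard_le_ncard (t := s '' (ν '' ↑(C ⊓ Q)) ∪ (fun n => s n * z) '' (ν '' ↑(C ⊓ Q))) (fun y hy => ?_)).trans
      ((Set.ncard_union_le _ _).trans (add_le_add (Set.ncard_image_le (Set.toFinite _)) (Set.ncard_image_le (Set.toFinite _))))
    exact (F.eq_or (F.sQ _) hy.2 (F.sν _ (F.lt y))).imp (fun e => ⟨_, ⟨y, hy, rfl⟩, e.symm⟩) fun e => ⟨_, ⟨y, hy, rfl⟩, e.symm⟩
  have j7 : j ≤ 7 := (Nat.pow_le_pow_iff_right one_lt_two).1 (c2 ▸ c1)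
  have u : ∀ n ∈ ν '' ↑(C ⊓ Q), n < 4096 ∧ q0 n = 0 ∧ ∀ y ∈ C.map ρ, ψ y n = n := by
    rintro _ ⟨y, hy, rfl⟩
    refine ⟨F.lt y, (F.sq hy.2).1 ((pow_two y).symm.trans (e1.2 y hy.1)), ?_⟩
    rintro _ ⟨g, hg, rfl⟩
    exact (F.fix hy.2).2 (.inl (conj_eq_of_comm (elemAb_le_cent e1 hy.1 g hg)))
  have o := offender (map_le_iff_le_comap.2 l) (fun y hy => (pow_two y).symm.trans ((elemAb_map e1 ρ).2 y hy)) u (k := j - 1) (by omega)
    (by rw [c2] at c4; interval_cases j <;> omega) (by rw [c2] at c3; interval_cases j <;> omega)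
  have c5 := card_le_of_le o
  have e2 := eq_of_le_of_card_ge o (by rw [Bg_card]; nlinarith)
  have e3 := eq_of_le_of_card_ge (show C ⊓ Q ≤ centralizer (Wh Q ν) ⊓ Q from fun y hy => ⟨F.W_A ⟨hy.2, WS_iff.2 (e2 ▸ u _ ⟨y, hy, rfl⟩)⟩, hy.2⟩)
    (by rw [F.A_Q]; rw [e2, Bg_card] at c3; omega)
  exact fun g hg y hy => elemAb_le_cent e1 hg y (e3.ge ⟨F.W_A hy, hy.1⟩).1

end FA

theorem exists_FA [Finite G] {z : G} {Q : Subgroup (centralizer ({z} : Set G))} [Q.Normal] (hF : IsOfLargeFischerTypeAt z Q) :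
    ∃ ν ρ, (∀ x, ρ x = X0 → x ^ 3 = 1 → ∃ s f, FA Q (zc z) ν ρ x s f) ∧ FT Q (zc z) ν ρ ∧
      ∀ s ∈ Q, s.1 ≠ z → (IsConj z s.1 ↔ A12.O2.testBit (ν s) = true) := by
  obtain ⟨ν, ρ, F, r, h⟩ := exists_FT0 hF
  exact ⟨ν, ρ, fun x a b => (F.exists_FX r a b).imp fun _ k => k.exists_FA', F, h⟩

end Cfsg.Lib.Fi
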