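import Cfsg.Agent.Lib.Fi.O12f
import Cfsg.Agent.Lib.Golay.M24

/-! Codes for the elements of `2¹¹` and the Golay cocode. -/

set_option maxRecDepth 100000

namespace Cfsg.Lib.Fi

open Cfsg.Lib.Comp Subgroup A12

theorem gm_ok : ∀ j < 16, ∀ m < 64, TI.testBit (64 * j + m) = true → look NT 12 (64 * j + m) < 4096 ∧
    B0 (xm (look NT 12 (64 * j + m))) (ψ (bj j) (look NT 12 (64 * j + m))) + q0 (look NT 12 (64 * j + m)) = cB GM (64 * j + m) := by
  have : (allN 16 fun j => allN 64 fun m => cnd (TI.testBit (64 * j + m)) (force (look NT 12 (64 * j + m)) fun n =>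
      force (ap parV (ent IL j) n) fun k => force (xm n) fun u => decide (n < 4096 ∧ B0 u k + q0 n = cB GM (64 * j + m))) true) = true := by
    decide +kernel
  simp only [allN_iff, VO.ap, force_eq, cnd_eq] at this
  intro j hj m hm h
  simpa only [h, if_true, decide_eq_true_eq, bj] using this j hj m hm

/-- The number of conjugates of `z` in the pair with code `c`. -/
noncomputable def wt (a b c : ℕ) : ℕ :=
  if c < 64 then if c = 0 then 1 else if A12.O2.testBit (wc c) then 2 else 0 else if TI.testBit c then a else b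

theorem wt_ok : ∀ a < 3, ∀ b < 3, ∀ r ≤ 11, (∑ c ∈ Finset.range 1024, wt a b c) ∣ 2 ^ (r * (11 - r)) * ∏ i ∈ Finset.range r, (2 ^ r - 2 ^ i) →
    a = 1 ∧ b = 2 := by
  have : ∀ a < 3, ∀ b < 3, ∑ c ∈ Finset.range 1024, wt a b c = 91 + 240 * a + 720 * b := by decide +kernel
  intro a ha b hb
  rw [this a ha b hb]; revert a b; decide +kernel

theorem wt_sum : ∑ c ∈ Finset.range 1024, wt 1 2 c = 1771 := by decide +kernel

theorem chi_ok {χ : ℕ} (h : χ < 65536) (h0 : Nat.land χ 279 = 0) (k : ∀ k < 16, ∀ i < 16, ∀ j < 16,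
    cB χ (i ^^^ j) + cB χ (pt4 k (i ^^^ j)) = cB χ i + cB χ (pt4 k i) + (cB χ j + cB χ (pt4 k j))) : χ ∈ chi :: bad3 := by
  have : (allN 65536 fun χ => cnd (Nat.beq (Nat.land χ 279) 0) (cnd (allN 16 fun k => allN 16 fun i => allN 16 fun j => decide
    (cB χ (i ^^^ j) + cB χ (pt4 k (i ^^^ j)) = cB χ i + cB χ (pt4 k i) + (cB χ j + cB χ (pt4 k j)))) (decide (χ ∈ chi :: bad3)) true) true)
      = true := by decide +kernel
  have := allN_iff.1 this χ h
  rwa [beq_tt.2 h0, allN_iff.2 fun a ha => allN_iff.2 fun i hi => allN_iff.2 fun j hj => decide_eq_true (k a ha i hi j hj), cnd_eq, cnd_eq,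
    if_pos rfl, if_pos rfl, decide_eq_true_eq] at this

theorem pt4_xor : ∀ k < 16, ∀ i < 16, ∀ j < 16, pt4 k (i ^^^ j) = pt4 k i ^^^ pt4 k j := by decide +kernel

/-- The codes of the involutions not conjugate to `z`. -/
noncomputable def DL (χ c : ℕ) : Bool :=
  cnd (Nat.beq (c / 64 % 16) 0) (DQ.testBit c) (cnd (TI.testBit c) (decide (cB c 10 + cB GM (c % 1024) = cB χ (c / 64 % 16))) false)

theorem dq_ok : ∀ c < 2048, (TI.testBit c = TI.testBit (64 * (c / 64 % 16) + c % 64) ∧ c % 1024 = 64 * (c / 64 % 16) + c % 64) ∧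
    (c / 64 % 16 = 0 → (DQ.testBit c = true ↔ c ≠ 0 ∧ c ≠ 1024 ∧ ¬ A12.O2.testBit (wc (c % 64)) = true) ∧
      (DQ.testBit c = true → A12.O1.testBit (wc (c % 64)) = true)) := by decide +kernel

/-- The valency of `c`. -/
noncomputable def vl (χ c : ℕ) : ℕ := cnN 2048 fun d => cnd (DL χ d) (DL χ (c ^^^ d)) false

theorem vl_ok : ∀ χ ∈ bad3, vl χ 1 ≠ vl χ 64 := by decide +kernel

/-- The code attached to a point. -/
noncomputable def lp (i : ℕ) : ℕ := look LL 12 i

theorem DL_gen : ∀ i < 11, ∃ c < 2048, DL chi c = true ∧ DL chi (c ^^^ 2 ^ i) = true := by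
  have : (allN 11 fun i => (List.range 2048).any fun c => cnd (DL chi c) (DL chi (c ^^^ 2 ^ i)) false) = true := by decide +kernel
  simpa [allN_iff, cnd_tt] using this

theorem DL_iff : ∀ c < 2048, DL chi c = true → ∃ i < 24, ∃ j < 24, i ≠ j ∧ c = lp i ^^^ lp j := by
  have : (allN 2048 fun c => cnd (DL chi c) ((List.range 24).any fun i => force (c ^^^ lp i) fun a => (List.range 24).any fun j =>
    cnd (Nat.beq a (lp j)) (neB i j) false) true) = true := by decide +kernel
  intro c hc h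
  have := allN_iff.1 this c hc
  simp only [h, cnd_eq, if_true, List.any_eq_true, force_eq, List.mem_range, beq_tt, Bool.if_false_right, Bool.and_eq_true, decide_eq_true_eq] at this
  obtain ⟨i, a, j, b, e, n⟩ := this
  exact ⟨i, a, j, b, ne_of_neB n, by rw [← e, Nat.xor_comm c, ← Nat.xor_assoc, Nat.xor_self, Nat.zero_xor]⟩

theorem lp_ok : ∀ i < 24, cB (lp i) 11 = 1 ∧ xl LL 24 (2 ^ i) = lp i ∧ ∀ j < 24, lp i ^^^ lp j < 2048 ∧ (i ≠ j → DL chi (lp i ^^^ lp j) = true) := by
  decide +kernel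

theorem lp_four : ∀ i < 24, ∀ j < 24, i ≠ j → ∀ k < 24, ∀ l < 24, (lp i ^^^ lp j = lp k ^^^ lp l → i = k ∧ j = l ∨ i = l ∧ j = k) ∧
    (k ≠ l → DL chi (lp i ^^^ lp j ^^^ (lp k ^^^ lp l)) = true → i = k ∨ i = l ∨ j = k ∨ j = l) := by
  have : (forceH (Nat.ofBits fun c : Fin 2048 => cnd (Nat.beq c 0) true (DL chi c)) fun D => allN 24 fun i => allN 24 fun j => cnd (Nat.beq i j) true
    (force (lp i ^^^ lp j) fun a => allN 24 fun k => force (a ^^^ lp k) fun b => allN 24 fun l => cnd (Nat.testBit D (b ^^^ lp l))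
      (decide ((a = lp k ^^^ lp l → i = k ∧ j = l ∨ i = l ∧ j = k) ∧ (k ≠ l → i = k ∨ i = l ∨ j = k ∨ j = l))) true)) = true := by
    decide +kernel
  simp only [forceH_eq, force_eq, allN_iff] at this
  intro i hi j hj n k hk l hl
  have := this i hi j hj
  rw [cnd_eq, if_neg (by simpa using n), allN_iff] at this
  have := allN_iff.1 (this k hk) l hl
  have t := Nat.xor_lt_two_pow (n := 11) ((lp_ok i hi).2.2 j hj).1 ((lp_ok k hk).2.2 l hl).1
  rw [Nat.xor_assoc, Nat.testBit_ofBits_lt _ _ t, cnd_eq, cnd_eq] at this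
  refine ⟨fun e => ?_, fun a e => ?_⟩
  · rw [if_pos (by simp [e]), decide_eq_true_eq] at this; exact this.1 e
  · rw [if_pos (by simp [e]), decide_eq_true_eq] at this; exact this.2 a

theorem xl_lt (k m : ℕ) : xl LL k m < 4096 := by
  induction k with
  | zero => exact Nat.succ_pos _
  | succ k ih =>
    change cnd _ (_ ^^^ xl LL k _) (xl LL k _) < _
    rw [cnd_eq]; split_ifs
    exacts [xor_lt (look_lt _ _ _) ih, ih]

theorem xl_cw {m : ℕ} (h : Golay.isCw m = true) : xl LL 24 m = 0 :=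
  Golay.isCw_induction (P := fun m => xl LL 24 m = 0) (xl_zero _ _) (by decide +kernel) (by decide +kernel)
    (fun a b u v => by rw [xl_xor, u, v]; rfl) h

theorem cw_xl {m : ℕ} (hm : m < 2 ^ 24) (h : xl LL 24 m = 0) : Golay.isCw m = true := by
  have l := Nat.mod_lt m (show 0 < 4096 by norm_num)
  have : (allN 4096 fun u => cnd (Nat.beq (xl LL 24 (4096 * u)) 0) (Nat.beq u 0) true) = true := by decide +kernel
  have b := Nat.xor_lt_two_pow hm (Golay.cwN_lt l)
  have c : (m ^^^ Golay.cwN (m % 4096)) % 4096 = 0 := by rw [Nat.xor_mod_two_pow (n := 12), Golay.cwN_mod l]; exact Nat.xor_self _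
  have := allN_iff.1 this ((m ^^^ Golay.cwN (m % 4096)) / 4096) (by omega)
  rw [Nat.mul_div_cancel' (Nat.dvd_of_mod_eq_zero c), xl_xor, h, xl_cw (Golay.isCw_cwN l)] at this
  have := beq_tt.1 this
  rw [Nat.xor_eq_zero_iff.1 (show m ^^^ Golay.cwN (m % 4096) = 0 by omega)]
  exact Golay.isCw_cwN l

end Cfsg.Lib.Fi
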