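import Cfsg.Agent.Lib.Fi.Fr4
import Cfsg.Agent.Lib.Fi.O12g
import Cfsg.Agent.Lib.Fi.Jp

/-! Groups of large Fischer type: fusion in the subgroup `2¹¹`. -/

set_option maxRecDepth 100000

namespace Cfsg.Lib.Fi

open Cfsg.Lib.Comp Subgroup A12 Cfsg.Lib.Core Cfsg.Lib.Known2 Cfsg.Lib.Amalg

variable {G : Type*} [Group G]

namespace FA
variable {Q : Subgroup G} {z x : G} {ν : G → ℕ} {ρ : G →* G12} {s f : ℕ → G} (F : FA Q z ν ρ x s f)
include F

theorem cj_zp (g a : G) (e : ZMod 2) : g * (a * zp z e) * g⁻¹ = g * a * g⁻¹ * zp z e := by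
  rw [← conj_mul, conj_eq_of_comm (F.cz g e)]

theorem s_f {j n : ℕ} (hj : j < 16) (hn : n < 4096) :
    s n * f j * (s n)⁻¹ = s (n ^^^ ψ (bj j) n) * f j * zp z (B0 (xm n) (ψ (bj j) n) + q0 n) := by
  rw [F.s_inv hn, show s n * f j * (s n * zp z (q0 n)) = s n * (f j * s n * (f j)⁻¹) * f j * zp z (q0 n) by group, F.scj _ (F.fD j) n hn,
    F.fρ j hj, F.smul n hn _ (G12.lt _ hn), mul_assoc _ (zp _ _), ← F.cz, zp_add F.ls.sq]; group

theorem typeI {j m : ℕ} (hj : j < 16) (n : j ≠ 0) (hm : m < 64) (h : TI.testBit (64 * j + m) = true) :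
    ∃ g, g * f j * g⁻¹ = s (wc m) * f j * zp z (cB GM (64 * j + m)) :=
  ⟨_, by rw [F.s_f hj (gm_ok j hj m hm h).1, (gm_ok j hj m hm h).2, (mv_ok j hj m hm n).1 h]⟩

theorem f_cj {k : ℕ} (hk : k < 16) : ∃ g, g * x = x * g ∧ ρ g = gj k ∧ ∀ i < 16, ∃ a, g * f i * g⁻¹ = f (pt4 k i) * zp z a :=
  (F.exD (gj_mem k).1).imp fun g h => ⟨h.1, h.2, fun i hi => F.D_eq (F.fD _) (FX.D_cj h.1 (F.fD i)) (by
    rw [map_mul, map_mul, map_inv, h.2, F.fρ i hi, gj_conj hk hi, F.fρ _ ((pt4_ok k hk).2 i hi)])⟩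

theorem f_one {j : ℕ} (hj : j < 16) (n : j ≠ 0) : ∃ g a, g * x = x * g ∧ g * f j * g⁻¹ = f 1 * zp z a := by
  obtain ⟨g, h, -, k⟩ := F.f_cj hj
  obtain ⟨a, e⟩ := k j hj
  exact ⟨g, a, h, (pt4_ok j hj).1 n ▸ e⟩

theorem typeII {j m : ℕ} (hj : j < 16) (n : j ≠ 0) (hm : m < 64) (h : TI.testBit (64 * j + m) = false) :
    ∃ g a, g * (s (wc m) * f j) * g⁻¹ = s (wc m0) * f 1 * zp z a := by
  obtain ⟨m', hm', e1, e, u, hu, e2⟩ := (mv_ok j hj m hm n).2 h
  obtain ⟨g, h, r, k⟩ := F.f_cj hj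
  obtain ⟨a, e3⟩ := k j hj
  have l := fun m hm => (WS_iff.1 (wc_ok.1 m hm).1).1
  have k : xm^[e] (wc m') < 4096 ∧ x ^ e * (s (wc m') * f 1) * (x ^ e)⁻¹ = s (xm^[e] (wc m')) * f 1 := by
    clear e2
    induction e with
    | zero => simpa using l m' hm'
    | succ e ih =>
      rw [Function.iterate_succ_apply', pow_succ', ← X0_ap ih.1, ← F.rx, ← F.scj x rfl _ ih.1, ← conj_eq_of_comm (F.fD 1).symm, conj_mul, ← ih.2]
      exact ⟨G12.lt _ ih.1, by rw [conj_eq_of_comm (F.fD 1).symm]; group⟩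
  obtain ⟨b, e4⟩ := exists_zp (F.ls.conj_eq (F.sQ u) (F.sQ (xm^[e] (wc m'))))
  refine ⟨s u * x ^ e * g, B0 (xm u) (ψ (bj 1) u) + q0 u + (a + b) + B0 (xm (xm^[e] (wc m'))) (u ^^^ ψ (bj 1) u), ?_⟩
  rw [show ∀ y, s u * x ^ e * g * y * (s u * x ^ e * g)⁻¹ = s u * (x ^ e * (g * y * g⁻¹) * (x ^ e)⁻¹) * (s u)⁻¹ from fun y => by group,
    ← conj_mul (b := g), F.scj g h _ (l m hm), r, e1, e3, (pt4_ok j hj).1 n, ← mul_assoc (s (wc m')), F.cj_zp, k.2, F.cj_zp, ← conj_mul, e4,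
    F.s_f (by norm_num) hu, mul_assoc _ (zp _ _), ← F.cz, ← mul_assoc, ← mul_assoc, ← mul_assoc, F.smul _ k.1 _ (xor_lt hu (G12.lt _ hu)), e2,
    mul_assoc _ (zp _ _), ← F.cz, mul_assoc, mul_assoc, mul_assoc, ← zp_add F.ls.sq, ← zp_add F.ls.sq, mul_assoc, ← F.cz, mul_assoc,
    ← zp_add F.ls.sq]

end FA

theorem DL_pos (χ : ℕ) {c : ℕ} (h : c / 64 % 16 = 0) : DL χ c = DQ.testBit c := by rw [DL, h]; rfl
theorem DL_neg (χ : ℕ) {c : ℕ} (hc : c < 2048) (h : c / 64 % 16 ≠ 0) : DL χ c = true ↔ TI.testBit (64 * (c / 64 % 16) + c % 64) = true ∧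
    cB c 10 + cB GM (64 * (c / 64 % 16) + c % 64) = cB χ (c / 64 % 16) := by
  rw [DL, cnd_eq, if_neg (mt beq_tt.1 h), cnd_tt, decide_eq_true_eq, (dq_ok c hc).1.1, (dq_ok c hc).1.2]

theorem fusion_of_uniq [Finite G] {A : Subgroup G} (he : IsElementaryAbelian 2 A) (hc : Nat.card A = 2 ^ 11)
    (u : ∀ P : Subgroup G, IsPGroup 2 P → ∃ g, ∀ B ≤ P, IsElementaryAbelian 2 B → 2 ^ 11 ≤ Nat.card B → cj g B = A)
    {a b : G} (ha : a ∈ A) (hb : b ∈ A) (h : IsConj a b) : ∃ m ∈ normalizer (A : Set G), m * a * m⁻¹ = b := by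
  obtain ⟨g, rfl⟩ := isConj_iff.1 h
  have c : ∀ B, IsElementaryAbelian 2 B → g * a * g⁻¹ ∈ B → B ≤ centralizer {g * a * g⁻¹} := fun B e hB y hy =>
    mem_cent_single.2 (elemAb_le_cent e hB y hy)
  obtain ⟨P, hP, l⟩ := exists_syl_ge (elemAb_isPGroup he) (c A he hb)
  obtain ⟨k, hk, l'⟩ := hP.exists_conj_le (elemAb_isPGroup (elemAb_map he _)) (c _ (elemAb_map he _) (conj_mem_cj g ha))
  obtain ⟨w, hw⟩ := u P hP.isPGroup
  refine ⟨k * g, cj_eq_self_iff.1 (cj_inj.1 ((hw _ (cj_mul k g A ▸ l') (elemAb_map he _) (by rw [card_cj, hc])).trans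
    (hw A l he hc.ge).symm)), ?_⟩
  conv_rhs => rw [← conj_eq_of_comm (mem_cent_single.1 hk)]
  group

theorem ncard_orb_dvd [Finite G] {A : Subgroup G} {a : G} (ha : a ∈ A) :
    {y | ∃ g ∈ normalizer (A : Set G), g * a * g⁻¹ = y}.ncard ∣ Nat.card (MulAut A) := by
  have h3 := relIndex_mul_relIndex ⊥ (centralizer {a} ⊓ normalizer (A : Set G)) _ bot_le inf_le_right
  rw [relIndex_bot_left, relIndex_bot_left, inf_relIndex_right, card_conj_orb (normalizer (A : Set G)) a, inf_comm, mul_comm] at h3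
  have := Nat.eq_of_mul_eq_mul_right Nat.card_pos h3
  rw [← this]
  refine (index_dvd_of_le (H := A.normalizerMonoidHom.ker) fun g e => ?_).trans (index_ker A.normalizerMonoidHom ▸ card_subgroup_dvd_card _)
  have := congrArg Subtype.val (DFunLike.congr_fun e ⟨a, ha⟩)
  exact mem_cent_single.2 (comm_of_conj_eq this)

open Classical in
/-- The number of conjugates of `z` among `a` and `a z`. -/
noncomputable def nz (z : G) (a : centralizer ({z} : Set G)) : ℕ :=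
  (if IsConj z a.1 then 1 else 0) + if IsConj z (a * zc z).1 then 1 else 0

theorem ic_cj {z : G} (g a : centralizer ({z} : Set G)) : IsConj z (g * a * g⁻¹).1 ↔ IsConj z a.1 :=
  ⟨fun h => h.trans (isConj_iff.2 ⟨g.1, rfl⟩).symm, fun h => h.trans (isConj_iff.2 ⟨g.1, rfl⟩)⟩

theorem nz_lt (z : G) (a : centralizer ({z} : Set G)) : nz z a < 3 := by unfold nz; split_ifs <;> omega

theorem nz_cj {z : G} (h : zc z * zc z = 1) {g a b : centralizer ({z} : Set G)} {e : ZMod 2} (k : g * a * g⁻¹ = b * zp (zc z) e) :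
    nz z a = nz z b := by
  unfold nz
  rw [← ic_cj g a, ← ic_cj g (a * _), ← conj_mul, conj_eq_of_comm (zc_cen g), k]
  rcases z2_cases e with rfl | rfl
  · rw [zp_zero, mul_one]
  · rw [zp_one, mul_assoc, h, mul_one, add_comm]

/-- The frame together with the description of the conjugates of `z` in `Q`. -/
structure FG {z : G} (Q : Subgroup (centralizer ({z} : Set G))) (ν : centralizer ({z} : Set G) → ℕ) (ρ : centralizer ({z} : Set G) →* G12)
    (x : centralizer ({z} : Set G)) (s f : ℕ → centralizer ({z} : Set G)) : Prop extends FA Q (zc z) ν ρ x s f where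
  hO : ∀ s ∈ Q, s.1 ≠ z → (IsConj z s.1 ↔ A12.O2.testBit (ν s) = true)

namespace FG
variable {z : G} {Q : Subgroup (centralizer ({z} : Set G))} {ν : centralizer ({z} : Set G) → ℕ} {ρ : centralizer ({z} : Set G) →* G12}
  {x : centralizer ({z} : Set G)} {s f : ℕ → centralizer ({z} : Set G)} (F : FG Q ν ρ x s f)
include F

theorem not_one : ¬ IsConj z 1 := fun h => F.lsg.ne (isConj_one_right.1 h.symm)
theorem elem : IsElementaryAbelian 2 (Qg (centralizer (Wh Q ν))) := elemAb_map F.A_elem _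
theorem cardA : Nat.card (Qg (centralizer (Wh Q ν))) = 2 ^ 11 := (card_map_of_injective (subtype_injective _)).trans F.A_card
theorem zA : z ∈ Qg (centralizer (Wh Q ν)) := mem_Qg.2 F.z_A
theorem muA (c : ℕ) : (mu (zc z) s f c).1 ∈ Qg (centralizer (Wh Q ν)) :=
  mem_Qg.2 (F.mem_A.2 ⟨c % 2048, Nat.mod_lt _ (by norm_num), by
    unfold mu cB
    rw [Nat.testBit_mod_two_pow c 11, show c % 2048 % 64 = c % 64 by omega, show c % 2048 / 64 % 16 = c / 64 % 16 by omega]; rfl⟩)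
theorem memA {a : G} (h : a ∈ Qg (centralizer (Wh Q ν))) : ∃ c < 2048, (mu (zc z) s f c).1 = a := by
  obtain ⟨a, h, rfl⟩ := h
  obtain ⟨c, k, rfl⟩ := F.mem_A.1 h
  exact ⟨c, k, rfl⟩
theorem cenA : centralizer (Qg (centralizer (Wh Q ν)) : Set G) ≤ Qg (centralizer (Wh Q ν)) := fun g h =>
  (mem_Qg (x := ⟨g, mem_cent_single.2 (h z F.zA).symm⟩)).2 fun _ hy => Subtype.ext (h _ (mem_Qg.2 (F.W_A hy)))

theorem ic_Q {c : ℕ} (hc : c < 2048) (h : c / 64 % 16 = 0) (n : c ≠ 1024) :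
    IsConj z (mu (zc z) s f c).1 ↔ A12.O2.testBit (wc (c % 64)) = true := by
  rw [← F.mu_ν h]
  exact F.hO _ (F.mu_Q.2 h) fun e => n (F.mu_inj hc (by norm_num) (Subtype.ext (by rw [e, ← Nat.zero_xor 1024, F.mu_z, F.mu_zero, one_mul]; rfl)))

omit F in
theorem mu_lt {c : ℕ} (h : c < 1024) : mu (zc z) s f c = s (wc (c % 64)) * f (c / 64 % 16) := by
  rw [mu, cB, Nat.testBit_lt_two_pow (i := 10) h]; exact mul_one _

theorem nz_mu {c : ℕ} (hc : c < 1024) : nz z (mu (zc z) s f c) = wt (nz z (f 1)) (nz z (s (wc m0) * f 1)) c := by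
  unfold wt
  by_cases h : c < 64
  · rw [if_pos h]
    by_cases h0 : c = 0
    · rw [if_pos h0, h0, F.mu_zero, nz, one_mul]; exact congrArg₂ _ (if_neg F.not_one) (if_pos (IsConj.refl _))
    have : ∀ c < 64, c ^^^ 1024 = c + 1024 := by decide
    rw [if_neg h0, nz, ← F.mu_z, this c h, F.ic_Q (by omega) (by omega) (by omega), F.ic_Q (by omega) (by omega) (by omega),
      show (c + 1024) % 64 = c by omega, Nat.mod_eq_of_lt h]
    split_ifs <;> rfl
  have hj := Nat.mod_lt (c / 64) (show 0 < 16 by norm_num)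
  have hm := Nat.mod_lt c (show 0 < 64 by norm_num)
  rw [if_neg h, (dq_ok c (by omega)).1.1, mu_lt hc]
  split_ifs with k
  · obtain ⟨g, e⟩ := F.typeI hj (by omega) hm k
    obtain ⟨g, a, -, e'⟩ := F.f_one hj (by omega)
    exact (nz_cj F.ls.sq e).symm.trans (nz_cj F.ls.sq e')
  · obtain ⟨g, a, e⟩ := F.typeII hj (by omega) hm (by simpa using k)
    exact nz_cj F.ls.sq e

variable [Finite G]

theorem T_sylg : Amalg.Syl 2 (Qg ((Py 1).comap ρ)) ⊤ := by
  obtain ⟨T, h, -, l⟩ := F.lsg.exists_syl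
  refine h.of_card_ge (F.T_syl.isPGroup.map _) le_top ?_
  rw [← card_subgroupOf_of_le l, card_map_of_injective (subtype_injective _)]
  exact F.T_syl.card_le h.isPGroup.comap_subtype le_top

theorem uq (P : Subgroup G) (hP : IsPGroup 2 P) :
    ∃ g, ∀ B ≤ P, IsElementaryAbelian 2 B → 2 ^ 11 ≤ Nat.card B → cj g B = Qg (centralizer (Wh Q ν)) := by
  obtain ⟨g, -, l⟩ := F.T_sylg.exists_conj_le hP le_top
  refine ⟨g, fun B h e c => ?_⟩
  have l1 := (cj_mono g h).trans l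
  have l2 := l1.trans (map_subtype_le _)
  rw [← F.uniq (B := (cj g B).subgroupOf _) (fun y hy => mem_Qg.1 (l1 hy)) (elem_of_sq fun a ha => Subtype.ext ((pow_two a.1).symm.trans
    ((elemAb_map e _).2 _ ha))) (by rwa [card_subgroupOf_of_le l2, card_cj]), Qg, map_subgroupOf_eq_of_le l2]

theorem fus {a b : G} (ha : a ∈ Qg (centralizer (Wh Q ν))) (hb : b ∈ Qg (centralizer (Wh Q ν))) (h : IsConj a b) :
    ∃ m ∈ normalizer (Qg (centralizer (Wh Q ν)) : Set G), m * a * m⁻¹ = b := fusion_of_uniq F.elem F.cardA F.uq ha hb h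

theorem cnt : {y | ∃ g ∈ normalizer (Qg (centralizer (Wh Q ν)) : Set G), g * z * g⁻¹ = y}.ncard =
    ∑ c ∈ Finset.range 1024, wt (nz z (f 1)) (nz z (s (wc m0) * f 1)) c := by
  classical
  have : {y | ∃ g ∈ normalizer (Qg (centralizer (Wh Q ν)) : Set G), g * z * g⁻¹ = y} =
      (fun c => (mu (zc z) s f c).1) '' ((Finset.range 2048).filter fun c => IsConj z (mu (zc z) s f c).1 : Finset ℕ) := by
    refine Set.ext fun y => ⟨fun ⟨g, a, e⟩ => ?_, fun ⟨c, a, e⟩ => F.fus F.zA (e ▸ F.muA c) (e ▸ (Finset.mem_filter.1 a).2)⟩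
    obtain ⟨c, k, rfl⟩ := F.memA (e ▸ (mem_normalizer_iff.1 a z).1 F.zA)
    exact ⟨c, Finset.mem_filter.2 ⟨Finset.mem_range.2 k, isConj_iff.2 ⟨g, e⟩⟩, rfl⟩
  rw [this, Set.InjOn.ncard_image fun i a j b e => F.mu_inj (Finset.mem_range.1 (Finset.mem_filter.1 a).1)
    (Finset.mem_range.1 (Finset.mem_filter.1 b).1) (Subtype.ext e), Set.ncard_coe_finset, Finset.card_filter, Finset.sum_range_add _ 1024 1024,
    ← Finset.sum_add_distrib]
  refine Finset.sum_congr rfl fun c hc => ?_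
  have : ∀ c < 1024, 1024 + c = c ^^^ 1024 := by decide +kernel
  rw [← F.nz_mu (Finset.mem_range.1 hc), this c (Finset.mem_range.1 hc), F.mu_z, nz]

theorem ab : nz z (f 1) = 1 ∧ nz z (s (wc m0) * f 1) = 2 := by
  obtain ⟨r, hr, e⟩ := (Nat.dvd_prime_pow Nat.prime_two).1 (F.cardA ▸ (frattini _).index_dvd_card)
  exact wt_ok _ (nz_lt _ _) _ (nz_lt _ _) r hr (F.cnt ▸ (ncard_orb_dvd F.zA).trans (Coprime.card_mulAut_dvd F.cardA e))

theorem cardM : 2 ^ 11 * 244823040 ≤ Nat.card (normalizer (Qg (centralizer (Wh Q ν)) : Set G)) := by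
  have := card_le_of_le (show Qg ((MO.cp BW).comap ρ) ≤ normalizer (Qg (centralizer (Wh Q ν)) : Set G) ⊓ centralizer {z} from le_inf
    ((map_mono fun g hg => F.norm_A (NB_le hg).2).trans (le_normalizer_map _)) (map_subtype_le _))
  rw [card_map_of_injective (subtype_injective _), card_map_ker ρ (ker_le_comap _ _), map_comap_eq_self (F.r0 ▸ NB_le.trans inf_le_left), F.ker,
    F.card] at this
  have l : 34560 ≤ Nat.card (MO.cp BW) := nb_lb MO
  rw [card_conj_orb _ z, F.cnt, F.ab.1, F.ab.2, wt_sum]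
  omega

theorem ic_z {j : ℕ} (hj : j < 16) (n : j ≠ 0) : IsConj z (f j * zc z).1 ↔ ¬ IsConj z (f j).1 := by
  obtain ⟨g, a, -, e⟩ := F.f_one hj n
  have := (nz_cj F.ls.sq e).trans F.ab.1
  unfold nz at this
  split_ifs at this <;> simp_all

theorem ic_II {j m : ℕ} (hj : j < 16) (n : j ≠ 0) (hm : m < 64) (h : TI.testBit (64 * j + m) = false) (e : ZMod 2) :
    IsConj z (s (wc m) * f j * zp (zc z) e).1 := by
  obtain ⟨g, a, k⟩ := F.typeII hj n hm h
  have := (nz_cj F.ls.sq k).trans F.ab.2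
  unfold nz at this
  rcases z2_cases e with rfl | rfl
  · rw [zp_zero, mul_one]; split_ifs at this <;> first | assumption | omega
  · rw [zp_one]; split_ifs at this <;> first | assumption | omega

theorem exists_good : ∃ f, FG Q ν ρ x s f ∧ ∀ i < 4, ¬ IsConj z (f (2 ^ i)).1 := by
  classical
  have l := fun i hi => Nat.pow_lt_pow_right (n := 4) (m := i) one_lt_two hi
  obtain ⟨f', F', e⟩ := F.exists_FA (a := fun i => if IsConj z (f (2 ^ i)).1 then f (2 ^ i) * zc z else f (2 ^ i)) fun i hi => by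
    split_ifs
    exacts [⟨FX.D_mul (F.fD _) (zc_cen x).symm, by rw [map_mul, F.mem.2 F.ls.mem, mul_one, F.fρ _ (l i hi)]⟩, ⟨F.fD _, F.fρ _ (l i hi)⟩]
  refine ⟨f', ⟨F', F.hO⟩, fun i hi => ?_⟩
  rw [e i hi]; split_ifs with h
  exacts [fun k => (F.ic_z (l i hi) (by positivity)).1 k h, h]

open Classical in
/-- The code of the conjugates of `z` among the lifts. -/
noncomputable def χ (_ : FG Q ν ρ x s f) : ℕ := Nat.ofBits fun j : Fin 16 => decide (IsConj z (f j).1)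

omit [Finite G] in
theorem χ_iff {j : ℕ} (hj : j < 16) : cB F.χ j = 0 ↔ ¬ IsConj z (f j).1 := by
  rw [cB, χ, Nat.testBit_ofBits_lt _ _ hj]; simp

theorem ic_f {j : ℕ} (hj : j < 16) (n : j ≠ 0) (e : ZMod 2) : ¬ IsConj z (f j * zp (zc z) e).1 ↔ e = cB F.χ j := by
  have := F.χ_iff hj
  rcases z2_cases e with rfl | rfl
  · rw [zp_zero, mul_one, eq_comm, this]
  · rw [zp_one, F.ic_z hj n, ← this]; rcases z2_cases (cB F.χ j) with k | k <;> simp [k]

theorem χ_mem (h : ∀ i < 4, ¬ IsConj z (f (2 ^ i)).1) : F.χ ∈ chi :: bad3 := by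
  have c0 : cB F.χ 0 = 0 := (F.χ_iff (by norm_num)).2 (F.f0 ▸ F.not_one)
  refine chi_ok (Nat.ofBits_lt_two_pow _) (Nat.eq_of_testBit_eq fun i => ?_) fun k hk => ?_
  · have t : ∀ j, cB F.χ j = 0 → F.χ.testBit j = false := fun j e => by unfold cB at e; revert e; cases F.χ.testBit j <;> simp
    have l := fun i hi => t _ ((F.χ_iff (Nat.pow_lt_pow_right (n := 4) (m := i) one_lt_two hi)).2 (h i hi))
    rw [land_eq', Nat.testBit_and, Nat.zero_testBit]
    by_cases k : i < 9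
    · have := t 0 c0; have := l 0; have := l 1; have := l 2; have := l 3
      interval_cases i <;> simp_all +decide
    · rw [Nat.testBit_lt_two_pow (x := 279) (lt_of_lt_of_le (by norm_num) (Nat.pow_le_pow_right two_pos (not_lt.1 k))), Bool.and_false]
  obtain ⟨g, -, -, e⟩ := F.f_cj hk
  choose! a e using e
  have p : ∀ k < 16, ∀ i < 16, pt4 k i = 0 ↔ i = 0 := by decide +kernel
  have t : ∀ i < 16, cB F.χ i + cB F.χ (pt4 k i) = a i := fun i hi => by
    by_cases n : i = 0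
    · have := e i hi
      rw [(p k hk i hi).2 n, n, F.f0, one_mul, ← n, conj_eq_one_iff.2 rfl, ← zp_zero (zc z)] at this
      rw [(p k hk i hi).2 n, ← zp_inj F.ls.ne this, n, c0]; rfl
    have := F.ic_f ((pt4_ok k hk).2 i hi) (fun e => n ((p k hk i hi).1 e)) (a i)
    rw [← e i hi, ic_cj, ← F.χ_iff hi] at this
    revert this; generalize cB _ i = u; generalize cB _ _ = v; generalize a i = w; revert u v w; decide
  intro i hi j hj
  rw [t i hi, t j hj, t _ (x16 hi hj)]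
  have := e _ (x16 hi hj)
  rw [F.fmul, ← conj_mul, e i hi, e j hj, pt4_xor k hk i hi j hj, F.fmul, mul_assoc, ← mul_assoc (zp _ _), ← F.cz, mul_assoc, ← zp_add F.ls.sq,
    ← mul_assoc, mul_right_inj] at this
  exact (zp_inj F.ls.ne this).symm

theorem dl {c : ℕ} (hc : c < 2048) : (mu (zc z) s f c).1 ≠ 1 ∧ ¬ IsConj z (mu (zc z) s f c).1 ↔ DL F.χ c = true := by
  have d := (dq_ok c hc).2
  have hj := Nat.mod_lt (c / 64) (show 0 < 16 by norm_num)
  have hm := Nat.mod_lt c (show 0 < 64 by norm_num)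
  rw [show (mu (zc z) s f c).1 ≠ 1 ↔ c ≠ 0 from not_congr ⟨fun e => F.mu_one hc (Subtype.ext e), fun e => by rw [e, F.mu_zero]; rfl⟩]
  by_cases h : c / 64 % 16 = 0
  · rw [DL_pos _ h, (d h).1]
    refine and_congr_right fun _ => ?_
    by_cases n : c = 1024
    · rw [n, ← Nat.zero_xor 1024, F.mu_z, F.mu_zero, one_mul]; exact iff_of_false (not_not.2 (IsConj.refl z)) fun e => e.1 rfl
    · rw [F.ic_Q hc h n, and_iff_right n]
  rw [and_iff_right (by omega), DL_neg _ hc h, mu]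
  by_cases k : TI.testBit (64 * (c / 64 % 16) + c % 64) = true
  · obtain ⟨g, e⟩ := F.typeI hj h hm k
    rw [and_iff_right k, ← F.ic_f hj h, ← ic_cj g (f _ * _), F.cj_zp, e, mul_assoc _ (zp _ _), ← zp_add F.ls.sq, add_comm (cB c 10), ← add_assoc,
      z2_add, zero_add]
  · exact iff_of_false (not_not.2 (F.ic_II hj h hm (by simpa using k) _)) fun e => k e.1

theorem tr0 {a : G} (ha : a ∈ Qg (centralizer (Wh Q ν))) (h1 : a ≠ 1) (h2 : ¬ IsConj z a) :
    IsConj a (f 1 * zp (zc z) (cB F.χ 1)).1 := by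
  have k : ∀ c < 2048, DL F.χ c = true → c / 64 % 16 ≠ 0 → IsConj (mu (zc z) s f c).1 (f 1 * zp (zc z) (cB F.χ 1)).1 := fun c hc h n => by
    have hj := Nat.mod_lt (c / 64) (show 0 < 16 by norm_num)
    have h' := ((F.dl hc).2 h).2
    rw [DL_neg _ hc n] at h
    obtain ⟨g, e⟩ := F.typeI hj n (Nat.mod_lt c (by norm_num)) h.1
    obtain ⟨g', a, -, e'⟩ := F.f_one hj n
    have : g' * g⁻¹ * mu (zc z) s f c * (g' * g⁻¹)⁻¹ = f 1 * zp (zc z) (a + (cB GM (64 * (c / 64 % 16) + c % 64) + cB c 10)) := by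
      rw [zp_add F.ls.sq, ← mul_assoc, ← e', ← F.cj_zp,
        show ∀ y, g' * y * g'⁻¹ = g' * g⁻¹ * (g * y * g⁻¹) * (g' * g⁻¹)⁻¹ from fun y => by group, F.cj_zp, e, mul_assoc _ (zp _ _),
        ← zp_add F.ls.sq, ← add_assoc, z2_add, zero_add, mu]
    rw [← (F.ic_f (by norm_num) one_ne_zero _).1 (this ▸ mt (ic_cj _ _).1 h'), ← this]
    exact isConj_iff.2 ⟨(g' * g⁻¹).1, rfl⟩
  have q : ∀ c < 2048, DL F.χ c = true → c / 64 % 16 = 0 → ∀ d < 2048, DL F.χ d = true → d / 64 % 16 = 0 →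
      IsConj (mu (zc z) s f c).1 (mu (zc z) s f d).1 := fun c hc h n d hd h' n' => by
    rw [DL_pos _ ‹_›] at h h'
    obtain ⟨g, -, e⟩ := F.conj_orb F.k1 orb1 (by norm_num) (F.mu_Q.2 n) (F.mu_Q.2 n') (F.mu_ν n ▸ ((dq_ok c hc).2 n).2 h)
      (F.mu_ν n' ▸ ((dq_ok d hd).2 n').2 h')
    exact isConj_iff.2 ⟨g.1, congrArg Subtype.val e⟩
  obtain ⟨c, hc, rfl⟩ := F.memA ha
  have h := (F.dl hc).1 ⟨h1, h2⟩
  by_cases n : c / 64 % 16 = 0
  swap
  · exact k c hc h n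
  obtain ⟨m, hm, e⟩ := F.fus F.zA (F.muA 65) (F.ic_II (j := 1) (m := 1) (by norm_num) one_ne_zero (by norm_num) (by decide +kernel) 0)
  have u : ∀ d < 2048, DL F.χ d = true → d / 64 % 16 = 0 → ¬ IsConj (mu (zc z) s f c).1 (f 1 * zp (zc z) (cB F.χ 1)).1 →
      m * (mu (zc z) s f d).1 * m⁻¹ ∈ Qg Q := fun d hd h' n' w => by
    obtain ⟨b, hb, e⟩ := F.memA ((mem_normalizer_iff.1 hm _).1 (F.muA d))
    have i := isConj_iff.2 ⟨m, e.symm⟩
    refine e ▸ mem_Qg.2 (F.mu_Q.2 (by_contra fun r => w (((q c hc h n d hd h' n').trans i).trans (k b hb ((F.dl hb).1 ⟨fun o => ?_, fun o => ?_⟩) r))))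
    exacts [((F.dl hd).2 h').1 (conj_eq_one_iff.1 (e.symm.trans o)), ((F.dl hd).2 h').2 (o.trans i.symm)]
  by_contra w
  have := mul_mem (u 1 (by norm_num) rfl rfl w) (u (1 ^^^ 1024) (by decide) rfl rfl w)
  rw [conj_mul, ← coe_mul, F.mu_z, ← mul_assoc, F.mu_sq, one_mul] at this
  exact absurd (F.mu_Q.1 (mem_Qg.1 (e ▸ this))) (by norm_num)

theorem tr {a b : G} (ha : a ∈ Qg (centralizer (Wh Q ν))) (hb : b ∈ Qg (centralizer (Wh Q ν))) (h1 : a ≠ 1) (h2 : ¬ IsConj z a)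
    (h3 : b ≠ 1) (h4 : ¬ IsConj z b) : IsConj a b := (F.tr0 ha h1 h2).trans (F.tr0 hb h3 h4).symm

theorem vl_le {c d : ℕ} (hc : c < 2048) (hd : d < 2048) (h : IsConj (mu (zc z) s f c).1 (mu (zc z) s f d).1) : vl F.χ c ≤ vl F.χ d := by
  obtain ⟨m, hm, e⟩ := F.fus (F.muA c) (F.muA d) h
  choose φ l k using fun c => F.memA ((mem_normalizer_iff.1 hm _).1 (F.muA c))
  have t : ∀ u < 2048, ∀ v < 2048, (mu (zc z) s f v).1 = m * (mu (zc z) s f u).1 * m⁻¹ → DL F.χ u = true → DL F.χ v = true :=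
    fun u hu v hv e o => (F.dl hv).1 (e ▸ ⟨fun r => ((F.dl hu).2 o).1 (conj_eq_one_iff.1 r),
      fun r => ((F.dl hu).2 o).2 (r.trans (isConj_iff.2 ⟨m, rfl⟩).symm)⟩)
  rw [vl, vl, cnN_eq, cnN_eq]
  refine Finset.card_le_card_of_injOn φ (fun u hu => ?_) fun u hu v hv e => ?_
  · simp only [Finset.coe_filter, Finset.mem_range, Set.mem_ofPred_eq, cnd_tt] at hu ⊢
    exact ⟨l u, t u hu.1 _ (l u) (k u) hu.2.1, t _ (Nat.xor_lt_two_pow (n := 11) hc hu.1) _ (Nat.xor_lt_two_pow (n := 11) hd (l u))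
      (by rw [F.mu_mul, F.mu_mul, coe_mul, coe_mul, ← conj_mul, e, k]) hu.2.2⟩
  · simp only [Finset.coe_filter, Finset.mem_range, Set.mem_ofPred_eq] at hu hv
    exact F.mu_inj hu.1 hv.1 (Subtype.ext (conj_injective (x := m) (by simp only [← k, e])))

theorem χ_eq (h : ∀ i < 4, ¬ IsConj z (f (2 ^ i)).1) : F.χ = chi := by
  refine (List.mem_cons.1 (F.χ_mem h)).resolve_right fun k => vl_ok _ k ?_
  have a := (F.dl (c := 1) (by norm_num)).2 rfl
  have b := (F.dl (c := 64) (by norm_num)).2 (by revert k; generalize F.χ = u; revert u; decide +kernel)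
  have := F.tr (F.muA 1) (F.muA 64) a.1 a.2 b.1 b.2
  exact le_antisymm (F.vl_le (by norm_num) (by norm_num) this) (F.vl_le (by norm_num) (by norm_num) this.symm)

end FG

end Cfsg.Lib.Fi
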