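import Cfsg.Agent.Lib.Fi.Fr5

/-! Groups of large Fischer type: the normaliser `2¹¹.M₂₄` of the Thompson subgroup. -/

set_option maxRecDepth 100000

namespace Cfsg.Lib.Fi

open Cfsg.Lib.Comp Subgroup A12 Cfsg.Lib.Core Cfsg.Lib.Known2 Cfsg.Lib.Amalg
open scoped Pointwise

variable {G : Type*} [Group G]

theorem whitney {α : Type*} [Finite α] {e : α → G} (cm : ∀ p q, e p * e q = e q * e p) (sq : ∀ p, e p * e p = 1) {D : G → Prop}
    (hD : ∀ a, D a ↔ ∃ p q, p ≠ q ∧ a = e p * e q) (w3 : ∀ p q r s, p ≠ q → e p * e q = e r * e s → p = r ∧ q = s ∨ p = s ∧ q = r)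
    (w2 : ∀ p q r s, p ≠ q → r ≠ s → D (e p * e q * (e r * e s)) → p = r ∨ p = s ∨ q = r ∨ q = s) {o a b : α} (oa : a ≠ o) (ob : b ≠ o)
    (ab : a ≠ b) (φ : G →* G) (hφ : Function.Injective φ) (h : ∀ x, D x → D (φ x)) :
    ∃ π : Equiv.Perm α, ∀ p q, φ (e p * e q) = e (π p) * e (π q) := by
  classical
  have k : ∀ p q r, e p * e r * (e q * e r) = e p * e q := fun p q r => by rw [cm q r, mul_assoc, ← mul_assoc (e r), sq, one_mul]
  have d := fun p q n => h _ ((hD _).2 ⟨p, q, n, rfl⟩)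
  have d2 : ∀ p q, p ≠ q → D (φ (e p * e o) * φ (e q * e o)) := fun p q n => by rw [← map_mul, k]; exact d p q n
  obtain ⟨t, u, v, ut, vt, eu, ev⟩ : ∃ t u v, u ≠ t ∧ v ≠ t ∧ φ (e a * e o) = e u * e t ∧ φ (e b * e o) = e v * e t := by
    obtain ⟨p, q, n, e1⟩ := (hD _).1 (d a o oa)
    obtain ⟨r, s, n', e2⟩ := (hD _).1 (d b o ob)
    rcases w2 p q r s n n' (e1 ▸ e2 ▸ d2 a b ab) with rfl | rfl | rfl | rfl
    exacts [⟨p, q, s, n.symm, n'.symm, e1.trans (cm _ _), e2.trans (cm _ _)⟩, ⟨p, q, r, n.symm, n', e1.trans (cm _ _), e2⟩,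
      ⟨q, p, s, n, n'.symm, e1, e2.trans (cm _ _)⟩, ⟨q, p, r, n, n', e1, e2⟩]
  have key : ∀ q, ∃ w, φ (e q * e o) = e w * e t := fun q => by
    by_cases q1 : q = o
    · exact ⟨t, by rw [q1, sq, sq, map_one]⟩
    by_cases q2 : q = a
    · exact ⟨u, q2 ▸ eu⟩
    by_cases q3 : q = b
    · exact ⟨v, q3 ▸ ev⟩
    obtain ⟨r, s, n, e1⟩ := (hD _).1 (d q o q1)
    by_cases r1 : r = t
    · exact ⟨s, r1 ▸ e1.trans (cm _ _)⟩
    by_cases s1 : s = t
    · exact ⟨r, s1 ▸ e1⟩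
    have uv : u ≠ v := fun c => (w3 a o b o oa (hφ (by rw [eu, ev, c]))).elim (fun c => ab c.1) fun c => oa c.1
    have c1 := w2 r s u t n ut (e1 ▸ eu ▸ d2 q a q2)
    have c2 := w2 r s v t n vt (e1 ▸ ev ▸ d2 q b q3)
    have : e r * e s = e u * e v := by
      rcases c1 with rfl | c | rfl | c <;> rcases c2 with rfl | c | rfl | c <;> first | contradiction | rfl | exact cm _ _
    exact ((w3 q o a b q1 (hφ (by rw [e1, this, ← k a b o, map_mul, eu, ev, k]))).elim (fun c => q2 c.1) fun c => q3 c.1).elim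
  choose π hπ using key
  have m : ∀ p q, φ (e p * e q) = e (π p) * e (π q) := fun p q => by rw [← k p q o, map_mul, hπ, hπ, k]
  refine ⟨Equiv.ofBijective π (Finite.injective_iff_bijective.1 fun p q c => by_contra fun n => ?_), m⟩
  exact (w3 p q o o n (hφ (by rw [m, c, sq, sq, map_one]))).elim (fun c => n (c.1.trans c.2.symm)) fun c => n (c.1.trans c.2.symm)

/-- The structure of the Thompson subgroup `A = 2¹¹`. -/
structure TA (z : G) (A : Subgroup G) (μ : ℕ → G) : Prop where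
  mul : ∀ c d, μ (c ^^^ d) = μ c * μ d
  one : ∀ c < 2048, μ c = 1 → c = 0
  all : ∀ c, μ c ∈ A
  mem : ∀ a ∈ A, ∃ c < 2048, μ c = a
  dl : ∀ c < 2048, μ c ≠ 1 ∧ ¬ IsConj z (μ c) ↔ DL chi c = true
  tr : ∀ a ∈ A, ∀ b ∈ A, a ≠ 1 → ¬ IsConj z a → b ≠ 1 → ¬ IsConj z b → IsConj a b
  cen : centralizer (A : Set G) ≤ A
  fus : ∀ a ∈ A, ∀ b ∈ A, IsConj a b → ∃ m ∈ normalizer (A : Set G), m * a * m⁻¹ = b
  cardM : 2 ^ 11 * 244823040 ≤ Nat.card (normalizer (A : Set G))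
  card : Nat.card A = 2 ^ 11
  elem : IsElementaryAbelian 2 A

theorem TA.conj {z : G} {A : Subgroup G} {μ : ℕ → G} (h : TA z A μ) (g : G) : TA z (cj g A) fun c => g * μ c * g⁻¹ := by
  have i : ∀ a, IsConj a (g * a * g⁻¹) := fun a => isConj_iff.2 ⟨g, rfl⟩
  have j : ∀ a, IsConj z (g * a * g⁻¹) ↔ IsConj z a := fun a => ⟨fun k => k.trans (i a).symm, fun k => k.trans (i a)⟩
  refine ⟨fun c d => by rw [h.mul, conj_mul], fun c hc e => h.one c hc (conj_eq_one_iff.1 e), fun c => conj_mem_cj g (h.all c), ?_,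
    fun c hc => by rw [← h.dl c hc, j, Ne, conj_eq_one_iff], ?_, cj_centralizer g A ▸ cj_mono g h.cen, ?_,
    by rw [← cj_normalizer, card_cj]; exact h.cardM, (card_cj _ _).trans h.card, elemAb_map h.elem _⟩
  · rintro _ ⟨a, ha, rfl⟩
    obtain ⟨c, hc, rfl⟩ := h.mem a ha
    exact ⟨c, hc, rfl⟩
  · rintro _ ⟨a, ha, rfl⟩ _ ⟨b, hb, rfl⟩ a1 a2 b1 b2
    exact ((i a).symm.trans (h.tr a ha b hb (mt conj_eq_one_iff.2 a1) (mt (j a).2 a2) (mt conj_eq_one_iff.2 b1) (mt (j b).2 b2))).trans (i b)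
  · rintro _ ⟨a, ha, rfl⟩ _ ⟨b, hb, rfl⟩ k
    obtain ⟨m, hm, rfl⟩ := h.fus a ha b hb (((i a).trans k).trans (i b).symm)
    exact ⟨_, cj_normalizer g A ▸ conj_mem_cj g hm, by simp [mul_assoc]⟩

theorem exists_FG [Finite G] {z : G} {Q : Subgroup (centralizer ({z} : Set G))} [Q.Normal] (hF : IsOfLargeFischerTypeAt z Q) :
    ∃ ν ρ, FT Q (zc z) ν ρ ∧ ∀ x, ρ x = X0 → x ^ 3 = 1 → ∃ s f, ∃ F : FG Q ν ρ x s f, F.χ = chi := by
  obtain ⟨ν, ρ, k, F, h⟩ := exists_FA hF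
  refine ⟨ν, ρ, F, fun x a b => ?_⟩
  obtain ⟨s, f, F⟩ := k x a b
  obtain ⟨f, F, e⟩ := FG.exists_good ⟨F, h⟩
  exact ⟨s, f, F, F.χ_eq e⟩

theorem exists_TA [Finite G] {z : G} {Q : Subgroup (centralizer ({z} : Set G))} [Q.Normal] (hF : IsOfLargeFischerTypeAt z Q) (T : Sylow 2 G) :
    ∃ μ, TA z (thompsonSubgroupOf 2 (T : Subgroup G)) μ := by
  obtain ⟨ν, ρ, F, k⟩ := exists_FG hF
  obtain ⟨x, a, b⟩ := F.exists_x
  obtain ⟨s, f, F, e⟩ := k x a b
  have h : TA z _ fun c => (mu (zc z) s f c).1 := ⟨fun c d => congrArg Subtype.val (F.mu_mul c d), fun c hc e => F.mu_one hc (Subtype.ext e),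
    F.muA, fun _ => F.memA, fun c hc => e ▸ F.dl hc, fun a ha b hb => F.tr ha hb, F.cenA, fun a ha b hb => F.fus ha hb, F.cardM, F.cardA, F.elem⟩
  obtain ⟨g, -, l⟩ := (syl_top T).exists_conj_le (elemAb_isPGroup F.elem) le_top
  obtain ⟨w, hw⟩ := F.uq T T.isPGroup'
  have h := h.conj g
  refine ⟨_, thompson_eq h.elem l (fun B hB c => or_iff_not_imp_right.2 fun n => ?_) ▸ h⟩
  exact (cj_inj.1 ((hw B hB c (h.card.ge.trans (not_lt.1 n))).trans (hw _ l h.elem h.card.ge).symm)).le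

/-- The element attached to a point. -/
noncomputable def ep (μ : ℕ → G) (p : GolayPt) : G := μ (lp (Golay.gc.idx p))

namespace TA
variable {z : G} {A : Subgroup G} {μ : ℕ → G} (h : TA z A μ)
include h

theorem zero : μ 0 = 1 := by simpa using h.mul 0 0
theorem sq (c : ℕ) : μ c * μ c = 1 := by rw [← h.mul, Nat.xor_self, h.zero]
theorem inj {c d : ℕ} (hc : c < 2048) (hd : d < 2048) (e : μ c = μ d) : c = d :=
  Nat.xor_eq_zero_iff.1 (h.one _ (Nat.xor_lt_two_pow (n := 11) hc hd) (by rw [h.mul, e, h.sq]))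
theorem ep_mul (p q : GolayPt) : ep μ p * ep μ q = μ (lp (Golay.gc.idx p) ^^^ lp (Golay.gc.idx q)) := (h.mul _ _).symm
omit h in
theorem lp_lt (p q : GolayPt) : lp (Golay.gc.idx p) ^^^ lp (Golay.gc.idx q) < 2048 :=
  ((lp_ok _ (Golay.gc.idx_lt p)).2.2 _ (Golay.gc.idx_lt q)).1

theorem hD (a : G) : a ∈ A ∧ a ≠ 1 ∧ ¬ IsConj z a ↔ ∃ p q, p ≠ q ∧ a = ep μ p * ep μ q := by
  refine ⟨fun ⟨k, l⟩ => ?_, ?_⟩
  · obtain ⟨c, hc, rfl⟩ := h.mem a k
    obtain ⟨i, hi, j, hj, n, rfl⟩ := DL_iff c hc ((h.dl c hc).1 l)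
    exact ⟨Golay.gc.pt i, Golay.gc.pt j, mt (Golay.gc.pt_inj hi hj).1 n, by rw [h.ep_mul, Golay.gc.idx_pt i hi, Golay.gc.idx_pt j hj]⟩
  · rintro ⟨p, q, n, rfl⟩
    rw [h.ep_mul]
    exact ⟨h.all _, (h.dl _ (lp_lt p q)).2 (((lp_ok _ (Golay.gc.idx_lt p)).2.2 _ (Golay.gc.idx_lt q)).2 (mt Golay.gc.idx_inj.1 n))⟩

theorem w3 (p q r s : GolayPt) (n : p ≠ q) (e : ep μ p * ep μ q = ep μ r * ep μ s) : p = r ∧ q = s ∨ p = s ∧ q = r := by
  rw [h.ep_mul, h.ep_mul] at e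
  simpa only [Golay.gc.idx_inj] using (lp_four _ (Golay.gc.idx_lt p) _ (Golay.gc.idx_lt q) (mt Golay.gc.idx_inj.1 n) _ (Golay.gc.idx_lt r) _
    (Golay.gc.idx_lt s)).1 (h.inj (lp_lt p q) (lp_lt r s) e)

theorem exists_π {g : G} (hg : g ∈ normalizer (A : Set G)) :
    ∃ π ∈ M24, ∀ p q, g * (ep μ p * ep μ q) * g⁻¹ = ep μ (π p) * ep μ (π q) := by
  have cm := fun c d => elemAb_le_cent h.elem (h.all d) _ (h.all c)
  obtain ⟨π, e⟩ := whitney (e := ep μ) (fun _ _ => cm _ _) (fun _ => h.sq _) h.hD h.w3 (fun p q r s n n' k => by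
    rw [h.ep_mul, h.ep_mul, ← h.mul] at k
    simpa only [Golay.gc.idx_inj] using (lp_four _ (Golay.gc.idx_lt p) _ (Golay.gc.idx_lt q) (mt Golay.gc.idx_inj.1 n) _ (Golay.gc.idx_lt r) _
      (Golay.gc.idx_lt s)).2 (mt Golay.gc.idx_inj.1 n') ((h.dl _ (Nat.xor_lt_two_pow (n := 11) (lp_lt p q) (lp_lt r s))).1 k.2))
    (o := none) (a := some 0) (b := some 1) (by simp) (by simp) (by decide) (MulAut.conj g).toMonoidHom (MulAut.conj g).injective
    fun x k => ⟨(mem_normalizer_iff.1 hg x).1 k.1, mt conj_eq_one_iff.1 k.2.1, fun c => k.2.2 (c.trans (isConj_iff.2 ⟨g, rfl⟩).symm)⟩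
  refine ⟨π, Golay.mem_M24_iff.2 fun s hs => ?_, e⟩
  let a := g * ep μ none * g⁻¹ * ep μ (π none)
  have aA : a ∈ A := mul_mem ((mem_normalizer_iff.1 hg _).1 (h.all _)) (h.all _)
  have key : ∀ m < 2 ^ 24, ∃ m' < 2 ^ 24, Golay.om m' = π • Golay.om m ∧ cB (xl LL 24 m') 11 = cB (xl LL 24 m) 11 ∧
      μ (xl LL 24 m') = g * μ (xl LL 24 m) * g⁻¹ * zp a (cB (xl LL 24 m) 11) := by
    refine xor_ind 24 ⟨0, by norm_num, by simp [Golay.om, Golay.gc.ofMask_zero], rfl, by simp [xl_zero, h.zero, cB_zero, zp_zero]⟩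
      (fun i hi => ?_) ?_
    · have l := Golay.gc.idx_lt (π (Golay.gc.pt i))
      refine ⟨2 ^ _, Nat.pow_lt_pow_right one_lt_two l, by simp [Golay.om, Golay.gc.ofMask_two_pow l, Golay.gc.ofMask_two_pow hi, Golay.gc.pt_idx],
        by rw [(lp_ok _ l).2.1, (lp_ok _ l).1, (lp_ok _ hi).2.1, (lp_ok _ hi).1], ?_⟩
      rw [(lp_ok _ l).2.1, (lp_ok _ hi).2.1, (lp_ok _ hi).1, zp_one, ← mul_assoc, conj_mul]
      have := e (Golay.gc.pt i) none
      rw [ep, Golay.gc.idx_pt i hi] at this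
      exact (eq_mul_inv_of_mul_eq this.symm).trans (congrArg _ (inv_eq_of_mul_eq_one_right (h.sq _)))
    · rintro m - n - ⟨m', a1, a2, a3, a4⟩ ⟨n', b1, b2, b3, b4⟩
      refine ⟨_, Nat.xor_lt_two_pow a1 b1, by simp only [Golay.om, Golay.gc.ofMask_xor, Golay.smul_symmDiff, ← a2, ← b2],
        by simp only [xl_xor, cB_xor, a3, b3], ?_⟩
      rw [xl_xor, xl_xor, h.mul, h.mul, a4, b4, cB_xor, zp_add ((pow_two a).symm.trans (h.elem.2 a aA)), ← conj_mul, mul_assoc, mul_assoc _ _ (zp a _ * _),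
        ← mul_assoc (zp a _), ← zp_comm (elemAb_le_cent h.elem aA _ ((mem_normalizer_iff.1 hg _).1 (h.all _))), mul_assoc _ (zp a _)]
      simp only [mul_assoc]
  obtain ⟨m, hm, rfl⟩ := Golay.exists_isCw hs
  obtain ⟨m', a1, a2, a3, a4⟩ := key m (Golay.isCw_lt hm)
  rw [xl_cw hm, cB_zero] at a3 a4
  have : ∀ c < 4096, cB c 11 = 0 → c < 2048 := by decide +kernel
  exact a2 ▸ Golay.om_mem_cw (cw_xl a1 (h.one _ (this _ (xl_lt _ _) a3) (by simpa [h.zero, zp_zero] using a4)))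

theorem π_uniq {π σ : Equiv.Perm GolayPt} (e : ∀ p q, ep μ (π p) * ep μ (π q) = ep μ (σ p) * ep μ (σ q)) : π = σ :=
  Equiv.ext fun p => by_contra fun n => by
    have k : ∀ q, p ≠ q → π p = σ q := fun q c => (h.w3 _ _ _ _ (π.injective.ne c) (e p q)).elim (fun c => absurd c.1 n) And.left
    have : ∀ p : GolayPt, ∃ q r, p ≠ q ∧ p ≠ r ∧ q ≠ r := by decide +kernel
    obtain ⟨q, r, a, b, c⟩ := this p
    exact c (σ.injective ((k q a).symm.trans (k r b)))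

theorem exists_θ [Finite G] : ∃ θ : normalizer (A : Set G) →* Equiv.Perm GolayPt, θ.range = M24 ∧ θ.ker = A.subgroupOf _ ∧
    ∀ g p q, g.1 * (ep μ p * ep μ q) * g.1⁻¹ = ep μ (θ g p) * ep μ (θ g q) := by
  choose π a b using fun g : normalizer (A : Set G) => h.exists_π g.2
  let θ := MonoidHom.mk' π fun g k => h.π_uniq fun p q => by
    rw [← b, Equiv.Perm.mul_apply, Equiv.Perm.mul_apply, ← b, ← b, coe_mul]; group
  have k : θ.ker = A.subgroupOf _ := by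
    refine le_antisymm (fun g e => h.cen fun y hy => ?_) fun g e => h.π_uniq fun p q => ?_
    · have d : ∀ c < 2048, DL chi c = true → μ c ∈ centralizer {g.1} := fun c hc k => by
        obtain ⟨p, q, -, k⟩ := (h.hD _).1 ⟨h.all c, (h.dl c hc).2 k⟩
        exact mem_cent_single.2 (comm_of_conj_eq (by rw [k, b, show π g = 1 from e]; rfl)).symm
      obtain ⟨c, hc, rfl⟩ := h.mem y hy
      refine mem_cent_single.1 (xor_ind (p := fun c => μ c ∈ centralizer {g.1}) 11 (h.zero ▸ one_mem _) (fun i hi => ?_)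
        (fun m _ n _ u v => h.mul m n ▸ mul_mem u v) c hc)
      obtain ⟨c, hc, u, v⟩ := DL_gen i hi
      have := mul_mem (d c hc u) (d _ (Nat.xor_lt_two_pow (n := 11) hc (Nat.pow_lt_pow_right one_lt_two hi)) v)
      rwa [h.mul, ← mul_assoc, h.sq, one_mul] at this
    · exact (b g p q).symm.trans (conj_eq_of_comm (elemAb_le_cent h.elem (mul_mem (h.all _) (h.all _)) _ e))
  refine ⟨θ, eq_of_le_of_card_ge (by rintro _ ⟨g, rfl⟩; exact a g) ?_, k, b⟩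
  have := card_map_ker θ le_top
  have c := h.cardM
  rw [card_top, k, card_subgroupOf_of_le le_normalizer, h.card, ← MonoidHom.range_eq_map] at this
  rw [Golay.card_M24]; omega

end TA

end Cfsg.Lib.Fi
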