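import Cfsg.Agent.Lib.Fi.Fr6

/-! Groups of large Fischer type: the centraliser `6·U₄(3)` of an element of order three. -/

set_option maxRecDepth 100000

namespace Cfsg.Lib.Fi

open Cfsg.Lib.Comp Subgroup A12 Cfsg.Lib.Core Cfsg.Lib.Known2 Cfsg.Lib.Amalg
open scoped commutatorElement

variable {G : Type*} [Group G]

theorem X0_comm : X0 ∈ ⁅K1, K1⁆ :=
  have p1 : PS (MO.d pA) 7 0 ≤ K1 := (MO.cp_eq_PS pA rfl).ge.trans (MO.le_of_leA p_le)
  commutator_mono p1 p1 ((pPc MO).dc (MO.relT _) dc (PS_mono (by norm_num) le_rfl (p_x.ge (mem_zpowers X0))))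

theorem eq_X0 {N : Subgroup G12} (h : N ≤ H0) (hn : H0 ≤ normalizer (N : Set G12)) (hc : Nat.card N = 3) : N = zpowers X0 := by
  have l : N ≤ K1 := fun y hy => by
    have i : (K1.subgroupOf H0).index = 2 := by
      have := (K1.subgroupOf H0).card_mul_index
      rw [card_subgroupOf_of_le K1_H0, K1_card, H0_card] at this; omega
    have k : y ^ 3 = 1 := by simpa [hc, Subtype.ext_iff] using pow_card_eq_one' (G := N) (x := ⟨y, hy⟩)
    exact mem_of_pow_mem (p := 3) (k := 2) (by norm_num) (k ▸ one_mem _) (sq_mem_of_index_two i ⟨y, h hy⟩)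
  obtain ⟨x, θ, a, b⟩ := K1_cov
  have := U43x.simple
  have := U43x.pk.finite
  have := (normal_subgroupOf_iff_le_normalizer l).2 (K1_H0.trans hn)
  refine eq_of_le_of_card_ge ?_ (by rw [Nat.card_zpowers, X0_ord, hc])
  rcases (this.map θ a).eq_bot_or_eq_top with e | e
  · exact fun y hy => b.le ((Subgroup.map_eq_bot_iff _).1 e (x := ⟨y, l hy⟩) hy)
  have c := Nat.le_of_dvd Nat.card_pos (card_map_dvd (N.subgroupOf K1) θ)
  have d := card_map_ker θ le_top
  rw [card_top, K1_card, b, card_subgroupOf_of_le x, Nat.card_zpowers, X0_ord, map_top_of_surjective _ a] at d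
  rw [e, card_subgroupOf_of_le l] at c; omega

namespace FX
variable {Q : Subgroup G} {z x : G} {ν : G → ℕ} {ρ : G →* G12} {s : ℕ → G} (F : FX Q z ν ρ x s)
include F

theorem D_map : (centralizer {x}).map ρ = K1 := le_antisymm (by rintro _ ⟨d, h, rfl⟩; exact F.D_K1 (mem_cent_single.1 h))
  fun _ h => (F.exD h).imp fun _ k => ⟨mem_cent_single.2 k.1, k.2⟩

theorem xz_ord : orderOf (x * z) = 6 := by
  have : orderOf x = 3 := orderOf_eq_prime F.x3 fun e => by have := X0_ord; rw [← F.rx, e] at this; simp at this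
  rw [(show Commute x z from F.cen x).orderOf_mul_eq_mul_orderOf_of_coprime (by rw [this, F.ls.orderOf_eq]; norm_num), this, F.ls.orderOf_eq]

theorem D_cov : Cov43 (centralizer {x}) (zpowers (x * z)) := by
  obtain ⟨-, θ, a, b⟩ := K1_cov
  have c : Commute x z := F.cen x
  have z1 : z ∈ zpowers (x * z) := ⟨(3 : ℕ), by simp only [zpow_natCast, c.mul_pow, F.x3, pow_succ z, pow_zero, F.ls.sq, one_mul]⟩
  have x1 : x ∈ zpowers (x * z) := by simpa using mul_mem (mem_zpowers (x * z)) (inv_mem z1)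
  let η : centralizer {x} →* K1 := (ρ.comp (Subgroup.subtype _)).codRestrict K1 fun d => F.D_K1 (mem_cent_single.1 d.2)
  refine ⟨zpowers_le.2 (mem_cent_single.2 (D_mul rfl c.symm)), θ.comp η, a.comp fun g => ?_, Subgroup.ext fun d => ?_⟩
  · obtain ⟨d, h, e⟩ := F.exD g.2
    exact ⟨⟨d, mem_cent_single.2 h⟩, Subtype.ext e⟩
  refine (SetLike.ext_iff.1 b (η d)).trans ⟨fun ⟨k, e⟩ => ?_, fun ⟨k, e⟩ => ⟨k, ?_⟩⟩
  · obtain ⟨u, e⟩ := F.D_eq ((Commute.refl x).zpow_left k) (mem_cent_single.1 d.2) (by rw [map_zpow, F.rx]; exact e)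
    exact mem_subgroupOf.2 (e ▸ mul_mem (zpow_mem x1 k) (zpowers_le.2 z1 (zp_mem z u)))
  · exact (by rw [map_zpow, map_mul, F.rx, F.mem.2 F.ls.mem, mul_one] : X0 ^ k = ρ ((x * z) ^ k)).trans (congrArg ρ e)

end FX

theorem FG.perfect [Finite G] {z : G} {Q : Subgroup (centralizer ({z} : Set G))} {ν : centralizer ({z} : Set G) → ℕ}
    {ρ : centralizer ({z} : Set G) →* G12} {x : centralizer ({z} : Set G)} {s f : ℕ → centralizer ({z} : Set G)} (F : FG Q ν ρ x s f)
    (h : F.χ = chi) : Group.IsPerfect (centralizer ({x} : Set (centralizer ({z} : Set G)))) := by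
  have k : ∀ j < 16, j ≠ 0 → (f 1)⁻¹ * (f j * zp (zc z) (cB chi j)) ∈ ⁅centralizer {x}, centralizer {x}⁆ := fun j hj n => by
    obtain ⟨g, a, c, e⟩ := F.f_one hj n
    have := (F.ic_f hj n _).2 rfl
    rw [← ic_cj g, F.cj_zp, e, mul_assoc, ← zp_add F.ls.sq, F.ic_f (by norm_num) one_ne_zero, h] at this
    have e' : g * (f j * zp (zc z) (cB chi j)) * g⁻¹ = f 1 := by rw [F.cj_zp, e, mul_assoc, ← zp_add F.ls.sq, this]; exact mul_one _
    rw [show f j * zp (zc z) (cB chi j) = g⁻¹ * f 1 * g by rw [← e']; group,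
      show (f 1)⁻¹ * (g⁻¹ * f 1 * g) = ⁅(f 1)⁻¹, g⁻¹⁆ by rw [commutatorElement_def]; group]
    exact commutator_mem_commutator (inv_mem (mem_cent_single.2 (F.fD 1))) (inv_mem (mem_cent_single.2 c))
  have f2 := k 3 (by norm_num) (by norm_num)
  rw [show f 3 = f 1 * f 2 from F.fmul 1 2, show cB chi 3 = 0 from rfl, zp_zero, mul_one, inv_mul_cancel_left] at f2
  have f1 := mul_mem (k 2 (by norm_num) (by norm_num)) (inv_mem f2)
  rw [show cB chi 2 = 0 from rfl, zp_zero, mul_one, mul_inv_cancel_right, inv_mem_iff] at f1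
  have f4 := mul_mem f1 (k 4 (by norm_num) (by norm_num))
  rw [show cB chi 4 = 0 from rfl, zp_zero, mul_one, mul_inv_cancel_left] at f4
  have z1 := mul_mem (inv_mem f4) (k 5 (by norm_num) (by norm_num))
  rw [show f 5 = f 1 * f 4 from F.fmul 1 4, show cB chi 5 = 1 from rfl, zp_one, mul_assoc (f 1), inv_mul_cancel_left, inv_mul_cancel_left] at z1
  obtain ⟨d, hd, e⟩ := (map_commutator _ _ ρ).ge (F.D_map ▸ X0_comm)
  obtain ⟨a, e⟩ := F.D_eq (mem_cent_single.1 (commutator_le_self _ hd)) rfl (e.trans F.rx.symm)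
  exact isPerfect_iff.2 (le_antisymm (commutator_le_self _) (F.D_cov.le (zpowers_le.2 (mul_mem ((congrArg (· ∈ _) e).mpr (mul_mem hd (zpowers_le.2 z1 (zp_mem _ a)))) z1))
    fun a ha b hb => commutator_mem_commutator ha hb))

end Cfsg.Lib.Fi
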