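import Cfsg.Agent.Lib.Fi.O12g

/-! The singular point `⟨85⟩` of the unitary space. -/

set_option maxRecDepth 100000

namespace Cfsg.Lib.Fi

open Cfsg.Lib.Comp Subgroup A12 Cfsg.Lib.Core

theorem K1_idx : (K1.subgroupOf H0).index = 2 := by
  have := (K1.subgroupOf H0).card_mul_index
  rw [card_subgroupOf_of_le K1_H0, K1_card, H0_card] at this; omega

theorem X0_K1 : X0 ∈ K1 := K1_cov.1 (mem_zpowers _)

theorem H0_semi {g : G12} (hg : g ∈ H0) (h : g ∉ K1) {n : ℕ} (hn : n < 4096) : ψ g (xm n) = xm (xm (ψ g n)) := by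
  have m : e0 ∈ H0 := H0_eq.ge (mem_sup_left (mem_zpowers _))
  have k : g * e0⁻¹ ∈ K1 := (mul_mem_iff_of_index_two K1_idx (a := ⟨g, hg⟩) (b := ⟨e0⁻¹, inv_mem m⟩)).2
    (iff_of_false h fun k => e0_GU (K1_GU (inv_mem_iff.1 k)))
  have e : e0 * X0 = X0 * X0 * e0 := mul_inv_eq_iff_eq_mul.1 ((MO.pw e0_x).trans (pow_two _))
  have l := G12.lt e0 hn
  rw [← inv_mul_cancel_right g e0]
  generalize g * e0⁻¹ = a at k
  rw [G12.mul, G12.mul _ _ n, ← X0_ap hn, ← G12.mul e0, e, G12.mul, G12.mul, X0_ap l, X0_ap (xm_ok _ l).1,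
    GU0_xm (K1_GU k) (xm_ok _ l).1, GU0_xm (K1_GU k) l]

theorem K1_of_fix {g : G12} (hg : g ∈ H0) {n : ℕ} (hn : n < 4096) (h0 : n ≠ 0) (h1 : ψ g n = n) (h2 : ψ g (xm n) = xm n) : g ∈ K1 := by
  by_contra h
  rw [H0_semi hg h hn, h1, (xm_ok n hn).2.2.1] at h2
  exact h0 (Nat.xor_left_inj.1 (h2.trans (Nat.zero_xor _).symm))

/-- The point `⟨85⟩`. -/
def U4 : List ℕ := [0, 85, 170, 255]

theorem fix85 {n : ℕ} (hn : n < 4096) (h : ∀ g ∈ H0 ⊓ stab ψ 85, ψ g n = n ∨ ψ g n = n ^^^ 85) : n ∈ U4 := by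
  have : (allN 4096 fun n => cnd (allN 8 fun i => force (ap parV (ent yA (i + 1)) n) fun m => decide (m = n ∨ m = n ^^^ 85))
      (force (ap parV (ent GJ 14) (xm (xm n))) fun m => decide ((m = n ∨ m = n ^^^ 85) → n ∈ U4)) true) = true := by decide +kernel
  have := allN_iff.1 this n hn
  have a : ∀ m < 4096, ψ (gj 14 * X0 * X0) m = ap parV (ent GJ 14) (xm (xm m)) := fun m hm => by
    rw [G12.mul, G12.mul, X0_ap hm, X0_ap (xm_ok _ hm).1, VO.ap]; rfl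
  rw [allN_iff.2 fun i hi => ?_, cnd_eq, if_pos rfl, force_eq, decide_eq_true_eq, ← a n hn] at this
  · exact this (h _ ⟨K1_H0 (mul_mem (mul_mem (gj_mem 14).1 X0_K1) X0_K1), (a 85 (by norm_num)).trans (by decide +kernel)⟩)
  · have m : MO.v (ent yA (i + 1)) ∈ Py 1 := mem_PS (x := i + 2) (by omega) (by omega)
    rw [force_eq, decide_eq_true_eq, VO.ap]; exact h _ ⟨T0_le m, (Py_le 1 m).2⟩

theorem U4_ok : ∀ u ∈ U4, u < 4096 ∧ B0 u 85 = 0 ∧ B0 u 170 = 0 ∧ ∀ v ∈ U4, u ^^^ v ∈ U4 := by decide +kernel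

noncomputable def bB (m n : ℕ) : Bool := Nat.beq (bit QT (Nat.xor m n)) (Nat.xor (bit QT m) (bit QT n))
theorem bB_iff {m n : ℕ} (hm : m < 4096) (hn : n < 4096) : bB m n = true ↔ B0 m n = 0 := by
  rw [bB, beq_tt, B0_eq, QT_ok _ hm, QT_ok _ hn, QT_ok _ (xor_lt hm hn), cB, cB, cB, bit_eq, bit_eq, bit_eq, xor_eq']
  cases QT.testBit m <;> cases QT.testBit n <;> cases QT.testBit (_ ^^^ _) <;> decide

theorem E1_perp {g : G12} (hg : g ∈ Py 5) : ∀ m < 4096, B0 m 85 = 0 → B0 m 170 = 0 → ψ g m ^^^ m ∈ U4 := by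
  have : (allN 4096 fun m => cnd (cnd (bB m 85) (bB m 170) false)
      (allN 4 fun i => decide (ap parV (ent yA (i + 5)) m ^^^ m ∈ U4)) true) = true := by decide +kernel
  refine closure_induction (p := fun g _ => ∀ m < 4096, B0 m 85 = 0 → B0 m 170 = 0 → ψ g m ^^^ m ∈ U4) ?_
    (fun m _ _ _ => by simp [U4]) (fun a b _ _ j k m hm c1 c2 => ?_) (fun a ha k => ?_) hg
  · rintro _ ⟨i, ⟨h1, h2⟩, rfl⟩ m hm c1 c2
    have := allN_iff.1 this _ hm
    rw [cnd_eq, if_pos (cnd_tt.2 ⟨(bB_iff hm (by norm_num)).2 c1, (bB_iff hm (by norm_num)).2 c2⟩)] at this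
    have := of_decide_eq_true (allN_iff.1 this (i - 6) (by omega))
    rwa [VO.ap, show i - 6 + 5 = Nat.pred i by simp; omega] at this
  · obtain ⟨u1, u2, u3, u4⟩ := U4_ok _ (k m hm c1 c2)
    rw [B0_left, c1, add_zero] at u2
    rw [B0_left, c2, add_zero] at u3
    have := u4 _ (j _ (G12.lt b hm) u2 u3)
    rwa [Nat.xor_comm, Nat.xor_assoc, Nat.xor_xor_cancel_left, ← G12.mul] at this
  · rwa [inv_eq_of_mul_eq_one_right ((pow_two a).symm.trans (E0_ab.2 a (PS_mono (by norm_num) le_rfl ha)))]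

def PB : List ℕ := [5, 10, 17, 34, 65, 130, 283, 539, 1051, 2075]
theorem PB_ok : ∀ m ∈ PB, m < 4096 ∧ B0 m 85 = 0 ∧ B0 m 170 = 0 := by decide +kernel

theorem U_perp {n : ℕ} (hn : n < 4096) (h : ∀ m ∈ PB, B0 n m = 0) : n ∈ U4 := by
  have : (allN 4096 fun n => cnd (allL PB (bB n)) (decide (n ∈ U4)) true) = true := by decide +kernel
  have := allN_iff.1 this n hn
  rwa [allL_iff.2 fun m hm => (bB_iff hn (PB_ok m hm).1).2 (h m hm), cnd_eq, if_pos rfl, decide_eq_true_eq] at this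

theorem bj_perp {i : ℕ} (hi : i < 72) (h : ∀ m ∈ PB, ψ (bj i) m = m) : bj i = 1 := by
  have : ∀ i < 72, (∀ m ∈ PB, ap parV (ent IL i) m = m) → i = 0 := by decide +kernel
  rw [this i hi fun m hm => (VO.ap _ _).trans (h m hm), bj_zero]

theorem y5_ok : ∃ g ∈ Py 4, ψ g 10 = 160 :=
  ⟨_, mem_PS (x := 6) (by norm_num) (by norm_num), (VO.ap _ _).symm.trans (by decide +kernel)⟩

end Cfsg.Lib.Fi
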