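import Cfsg.Agent.Lib.Fi.Fr5
import Cfsg.Agent.Lib.Fi.O12h
import Cfsg.Agent.Lib.Fi.Zc2
import Cfsg.Agent.Lib.Linear.SmallIso

/-! Groups of large Fischer type: the subgroup `2^{3+12}.(L₃(2) × A₆)`. -/

set_option maxRecDepth 100000

namespace Cfsg.Lib.Fi

open Cfsg.Lib.Comp Subgroup A12 Cfsg.Lib.Core Cfsg.Lib.Known2 Cfsg.Lib.Amalg Matrix
open scoped commutatorElement

variable {G : Type*} [Group G]

theorem hom_rel {A B : Type*} [Group A] [Group B] (r : A → B → Prop) (t : ∀ a, ∃ b, r a b)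
    (m : ∀ a b c d, r a b → r c d → r (a * c) (b * d)) (u : ∀ a b c, r a b → r a c → b = c) : ∃ f : A →* B, ∀ a b, r a b ↔ f a = b := by
  choose f hf using t
  exact ⟨MonoidHom.mk' f fun a b => u _ _ _ (hf _) (m _ _ _ _ (hf a) (hf b)), fun a b => ⟨u _ _ _ (hf a), fun e => e ▸ hf a⟩⟩

theorem pCore_simple {A : Type*} [Group A] [Finite A] [IsSimpleGroup A] {n : ℕ} (h : Nat.card A = 3 * n) : pCore 2 A = ⊥ :=
  ((pCore_normal 2 A).eq_bot_or_eq_top).resolve_right fun e => by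
    obtain ⟨k, c⟩ := (pCore_eq_top_iff.1 e).exists_card_eq
    exact absurd (Nat.prime_three.dvd_of_dvd_pow (c ▸ h ▸ dvd_mul_right 3 n)) (by norm_num)

theorem prod_quot {L S A : Type*} [Group L] [Group S] [Group A] (φ : L →* S) (θ : φ.ker →* A) (h1 : Function.Surjective θ)
    (h2 : center A = ⊥) (h3 : pCore 2 A = ⊥) (h4 : pCore 2 S = ⊥) (h5 : IsPGroup 2 θ.ker) {Y : Set L}
    (h6 : ∀ q ∈ Y, ∀ c, θ (MulAut.conjNormal q c) = θ c) (h7 : ∀ N : Subgroup L, N.Normal → Y ⊆ N → ∀ m, ∃ d ∈ N, φ d = m) :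
    ∃ Φ : L →* S × A, Function.Surjective Φ ∧ Φ.ker = θ.ker.map φ.ker.subtype ∧ Φ.ker = pCore 2 L := by
  have k : θ.ker = pCore 2 _ := by rw [← comap_pCore_of_surjective h1 h5, h3]; rfl
  have ch : θ.ker.Characteristic := k ▸ pCore_characteristic 2 _
  let D : Subgroup L := ⟨⟨⟨{d | ∀ c, θ (MulAut.conjNormal d c) = θ c}, fun {a b} u v c => by rw [map_mul, MulAut.mul_apply, u, v]⟩,
    fun c => by rw [map_one, MulAut.one_apply]⟩, fun {a} u c => by rw [← u, ← MulAut.mul_apply, ← map_mul, mul_inv_cancel, map_one, MulAut.one_apply]⟩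
  have n : D.Normal := ⟨fun d hd l c => by
    have := characteristic_iff_le_comap.1 ch (MulAut.conjNormal l) ((MonoidHom.eq_iff θ).1 (hd (MulAut.conjNormal l⁻¹ c)))
    refine (MonoidHom.eq_iff θ).2 ?_
    convert mem_comap.1 this using 1
    exact Subtype.ext (by simp [mul_assoc])⟩
  obtain ⟨η, e⟩ := hom_rel (fun l a => ∃ d ∈ D, ∃ c : φ.ker, l = d * c ∧ θ c = a) (fun l => by
    obtain ⟨d, a, b⟩ := h7 D n h6 (φ l)
    exact ⟨_, d, a, ⟨d⁻¹ * l, by simp [b]⟩, by simp, rfl⟩) (by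
    rintro _ _ _ _ ⟨d, a, c, rfl, rfl⟩ ⟨d', a', c', rfl, rfl⟩
    exact ⟨_, mul_mem a a', MulAut.conjNormal d'⁻¹ c * c', by simp [mul_assoc], by rw [map_mul, inv_mem a']⟩) (by
    rintro _ _ _ ⟨d, a, c, rfl, rfl⟩ ⟨d', a', c', e, rfl⟩
    have m : ((c' * c⁻¹ : φ.ker) : L) ∈ D := by
      rw [show ((c' * c⁻¹ : φ.ker) : L) = d'⁻¹ * d by rw [coe_mul, coe_inv, mul_inv_eq_iff_eq_mul, mul_assoc, e, inv_mul_cancel_left]]
      exact mul_mem (inv_mem a') a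
    have : θ (c' * c⁻¹) ∈ center A := mem_center_iff.2 fun y => by
      obtain ⟨y, rfl⟩ := h1 y
      conv_lhs => rw [← m y, MulAut.conjNormal_val, MulAut.conj_apply, map_mul, map_mul, map_inv, inv_mul_cancel_right]
    rw [h2, mem_bot, map_mul, map_inv, mul_inv_eq_one] at this
    exact this.symm)
  have s : Function.Surjective (φ.prod η) := fun ⟨m, a⟩ => by
    obtain ⟨d, u, rfl⟩ := h7 D n h6 m
    obtain ⟨c, rfl⟩ := h1 a
    exact ⟨d * c, Prod.ext (by simp [show φ c = 1 from c.2]) ((e _ _).1 ⟨d, u, c, rfl, rfl⟩)⟩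
  have ke : (φ.prod η).ker = θ.ker.map φ.ker.subtype := Subgroup.ext fun l => by
    rw [MonoidHom.ker_prod]
    exact ⟨fun h => ⟨⟨l, h.1⟩, ((e l _).1 ⟨1, one_mem _, ⟨l, h.1⟩, by simp, rfl⟩).symm.trans h.2, rfl⟩,
      fun ⟨c, a, b⟩ => b ▸ ⟨c.2, (e _ _).1 ⟨1, one_mem _, c, by simp, a⟩⟩⟩
  refine ⟨_, s, ke, ?_⟩
  rw [← comap_pCore_of_surjective s (ke ▸ h5.map _), show pCore 2 (S × A) = ⊥ from eq_bot_iff.2 fun y hy => Prod.ext
    ((h4 ▸ map_pCore_le_of_surjective (f := MonoidHom.fst S A) Prod.fst_surjective :) ⟨y, hy, rfl⟩)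
    ((h3 ▸ map_pCore_le_of_surjective (f := MonoidHom.snd S A) Prod.snd_surjective :) ⟨y, hy, rfl⟩)]
  rfl

theorem exists_sl {n : ℕ} {V : Subgroup G} {v : (Fin n → ZMod 2) → G} (h1 : ∀ a b, v (a + b) = v a * v b) (h2 : Function.Injective v)
    (h3 : ∀ y, y ∈ V ↔ ∃ a, v a = y) :
    ∃ φ : normalizer (V : Set G) →* SpecialLinearGroup (Fin n) (ZMod 2), ∀ l a, l.1 * v a * l.1⁻¹ = v ((φ l).1 *ᵥ a) := by
  have a : ∀ l : normalizer (V : Set G), ∃ M : Matrix (Fin n) (Fin n) (ZMod 2), ∀ a, l.1 * v a * l.1⁻¹ = v (M *ᵥ a) := fun l => by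
    choose f hf using fun a => (h3 _).1 ((mem_normalizer_iff.1 l.2 _).1 ((h3 _).2 ⟨a, rfl⟩))
    refine ⟨LinearMap.toMatrix' ((AddMonoidHom.mk' f fun a b => h2 ?_).toZModLinearMap 2), fun a => ?_⟩
    · rw [h1, hf, hf, hf, h1, conj_mul]
    · rw [← toLin'_apply, toLin'_toMatrix', ← hf]; rfl
  choose M hM using a
  have u : ∀ l N, (∀ a, l.1 * v a * l.1⁻¹ = v (N *ᵥ a)) → M l = N := fun l N h =>
    toLin'.injective (LinearMap.ext fun a => h2 ((hM l a).symm.trans (h a)))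
  have m : ∀ l k, M (l * k) = M l * M k := fun l k => u _ _ fun a => by rw [← mulVec_mulVec, ← hM, ← hM, coe_mul]; group
  have d : ∀ l, (M l).det = 1 := fun l => by
    have := congrArg det (m l l⁻¹)
    rw [mul_inv_cancel, u 1 1 (by simp), det_one, det_mul] at this
    exact (z2_cases _).resolve_left fun e => by simp [e] at this
  exact ⟨MonoidHom.mk' (fun l => ⟨M l, d l⟩) fun l k => Subtype.ext (m l k), hM⟩

theorem sl_gen {n : ℕ} {L : Type*} [Group L] (φ : L →* SpecialLinearGroup (Fin n) (ZMod 2)) {N : Subgroup L} [N.Normal] (o : Fin n)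
    (h1 : ∀ r : Fin n → ZMod 2, r o = 0 → ∃ q ∈ N, (φ q).1 = 1 + vecMulVec (Pi.single o 1) r)
    (h2 : ∀ i, ∃ l, (φ l).1 *ᵥ Pi.single o 1 = Pi.single i 1) (m : SpecialLinearGroup (Fin n) (ZMod 2)) : ∃ d ∈ N, φ d = m := by
  have cm : ∀ a b, (φ (a * b)).1 = (φ a).1 * (φ b).1 := fun a b => congrArg Subtype.val (map_mul φ a b)
  refine (diagonal_transvection_induction_of_det_ne_zero (fun M => ∃ d ∈ N, (φ d).1 = M) m.1 (by simp) (fun D h => ⟨1, one_mem _, ?_⟩)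
    (fun t => ?_) ?_).imp fun d h => ⟨h.1, Subtype.ext h.2⟩
  · rw [det_diagonal, Finset.prod_ne_zero_iff] at h
    rw [show D = 1 from funext fun i => (z2_cases _).resolve_left (h i (Finset.mem_univ _))]; simp
  · rcases z2_cases t.c with e | e
    · exact ⟨1, one_mem _, by simp [TransvectionStruct.toMatrix, e]⟩
    obtain ⟨l, a⟩ := h2 t.i
    obtain ⟨q, b, c⟩ := h1 (Pi.single t.j 1 ᵥ* (φ l).1) (by
      have := congrFun a t.j
      simpa [Pi.single_eq_of_ne t.hij.symm] using this)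
    refine ⟨_, Normal.conj_mem inferInstance q b l, ?_⟩
    rw [cm, cm, c, mul_add, add_mul, mul_one, mul_vecMulVec, vecMulVec_mul, a, vecMul_vecMul, ← cm, mul_inv_cancel,
      show (φ 1).1 = 1 from congrArg Subtype.val (map_one φ), vecMul_one, TransvectionStruct.toMatrix, e, transvection, single_eq_single_vecMulVec_single]
  · rintro _ _ _ _ ⟨a, u, rfl⟩ ⟨b, v, rfl⟩
    exact ⟨_, mul_mem u v, cm _ _⟩

def cd (a : Fin 3 → ZMod 2) : ℕ := 85 * (a 1).val + 170 * (a 2).val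

theorem cd_a : ∀ a, cd a ∈ U4 ∧ (cd a = 0 → a 0 = 0 → a = 0) ∧ cd (a + Pi.single 0 1) = cd a ∧
    ∀ b, cd (a + b) = cd a ^^^ cd b ∧ B0 (xm (cd a)) (cd b) = 0 := by decide +kernel
theorem cd_b : ∀ u ∈ U4, xm u ∈ U4 ∧ ∀ e, ∃ a, cd a = u ∧ a 0 = e := by decide +kernel
theorem cd_c : ∀ r : Fin 3 → ZMod 2, r 0 = 0 → ∃ m < 4, ∀ a, B0 m (cd a) = r ⬝ᵥ a := by decide +kernel

/-- The subgroup `V` of order eight. -/
def VH {Q : Subgroup G} {z : G} {ν : G → ℕ} {ρ : G →* G12} (F : Fr Q z ν ρ) : Subgroup G where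
  carrier := {y | y ∈ Q ∧ ν y ∈ U4}
  one_mem' := ⟨one_mem _, by rw [F.one]; decide⟩
  mul_mem' := fun a b => ⟨mul_mem a.1 b.1, F.mul a.1 b.1 ▸ (U4_ok _ a.2).2.2.2 _ b.2⟩
  inv_mem' := fun a => ⟨inv_mem a.1, (F.inv a.1).symm ▸ a.2⟩

noncomputable def vh (z : G) (s : ℕ → G) (a : Fin 3 → ZMod 2) : G := s (cd a) * zp z (a 0)

namespace FX
variable {Q : Subgroup G} {z x : G} {ν : G → ℕ} {ρ : G →* G12} {s : ℕ → G} (F : FX Q z ν ρ x s)
include F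

theorem ν_zp {y : G} (h : y ∈ Q) (a : ZMod 2) : ν (y * zp z a) = ν y := by
  rw [F.mul h (F.zQ (zp_mem z a)), (F.zero (F.zQ (zp_mem z a))).2 (zp_mem z a), Nat.xor_zero]
theorem vh_ν (a : Fin 3 → ZMod 2) : ν (vh z s a) = cd a := (F.ν_zp (F.sQ _) _).trans (F.sν _ (U4_ok _ (cd_a a).1).1)
theorem vh_add (a b : Fin 3 → ZMod 2) : vh z s (a + b) = vh z s a * vh z s b := by
  rw [vh, vh, vh, mul_assoc, ← mul_assoc (zp _ _), ← F.cz, ← mul_assoc, ← mul_assoc, F.smul _ (U4_ok _ (cd_a a).1).1 _ (U4_ok _ (cd_a b).1).1,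
    ((cd_a a).2.2.2 b).2, ((cd_a a).2.2.2 b).1, zp_zero, mul_one, mul_assoc, Pi.add_apply, zp_add F.ls.sq]
theorem vh_inj : Function.Injective (vh z s) := fun a b e => by
  have k : vh z s (a + b) = 1 := by
    rw [F.vh_add, e, ← F.vh_add, show b + b = 0 from funext fun i => z2_add _, vh, show cd 0 = 0 from rfl, F.s0, one_mul]; rfl
  have c : cd (a + b) = 0 := by rw [← F.vh_ν, k, F.one]
  rw [vh, c, F.s0, one_mul] at k
  have := (cd_a _).2.1 c (zp_inj F.ls.ne k)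
  exact funext fun i => (by decide : ∀ u v : ZMod 2, u + v = 0 → u = v) _ _ (congrFun this i)
theorem mem_VH (y : G) : y ∈ VH F.toFr ↔ ∃ a, vh z s a = y := by
  refine ⟨fun h => ?_, fun ⟨a, e⟩ => e ▸ ⟨mul_mem (F.sQ _) (F.zQ (zp_mem _ _)), (F.vh_ν a).symm ▸ (cd_a a).1⟩⟩
  obtain ⟨e, k⟩ := F.eq_s h.1
  obtain ⟨a, u, v⟩ := (cd_b _ h.2).2 e
  exact ⟨a, by rw [vh, u, v, ← k]⟩
theorem VH_card : Nat.card (VH F.toFr) = 8 := by
  rw [← Nat.card_congr (Equiv.ofBijective (fun a => (⟨_, (F.mem_VH _).2 ⟨a, rfl⟩⟩ : VH F.toFr))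
    ⟨fun a b e => F.vh_inj (congrArg Subtype.val e), fun y => ((F.mem_VH _).1 y.2).imp fun a => Subtype.ext⟩)]
  simp
theorem cent_VH {g : G} : g ∈ centralizer (VH F.toFr : Set G) ↔ g * s 85 = s 85 * g ∧ g * s 170 = s 170 * g := by
  have m : ∀ n ∈ U4, s n ∈ VH F.toFr := fun n hn => ⟨F.sQ n, (F.sν n (U4_ok n hn).1).symm ▸ hn⟩
  refine ⟨fun h => ⟨(h _ (m _ (by decide))).symm, (h _ (m _ (by decide))).symm⟩, fun h y hy => ?_⟩
  obtain ⟨a, e⟩ := F.eq_s hy.1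
  have : ∀ n ∈ U4, Commute g (s n) := by
    have := F.smul 85 (by norm_num) 170 (by norm_num)
    rw [show B0 (xm 85) 170 = 0 by decide +kernel, zp_zero, mul_one] at this
    simp only [U4, List.forall_mem_cons]
    exact ⟨F.s0 ▸ Commute.one_right g, h.1, h.2, this ▸ Commute.mul_right h.1 h.2, by simp⟩
  exact e ▸ ((this _ hy.2).mul_right (F.cz g a)).symm
theorem cent_VH_Q {g : G} (h : g ∈ Q) : g ∈ centralizer (VH F.toFr : Set G) ↔ B0 (ν g) 85 = 0 ∧ B0 (ν g) 170 = 0 := by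
  rw [F.cent_VH, F.comm h (F.sQ _), F.comm h (F.sQ _), F.sν _ (by norm_num), F.sν _ (by norm_num)]
theorem VH_ab : VH F.toFr ≤ centralizer (VH F.toFr : Set G) := fun _ h => (F.cent_VH_Q h.1).2 ⟨(U4_ok _ h.2).2.1, (U4_ok _ h.2).2.2.1⟩
theorem cent_VH_map : (centralizer (VH F.toFr : Set G)).map ρ = K1 ⊓ stab ψ 85 := by
  refine le_antisymm ?_ fun g hg => ?_
  · rintro _ ⟨g, hg, rfl⟩
    have k : ∀ n < 4096, g * s n = s n * g → ψ (ρ g) n = n := fun n hn e => by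
      simpa [F.sν n hn] using (F.fix (F.sQ n)).2 (.inl (conj_eq_of_comm e))
    have a := k _ (by norm_num) (F.cent_VH.1 hg).1
    exact ⟨K1_of_fix (F.r0 ▸ ⟨g, rfl⟩) (by norm_num) (by norm_num) a (k _ (by decide) (F.cent_VH.1 hg).2), a⟩
  · obtain ⟨d, a, rfl⟩ := F.exD hg.1
    refine ⟨d, F.cent_VH.2 ⟨comm_of_conj_eq ?_, comm_of_conj_eq ?_⟩, rfl⟩ <;> rw [F.scj d a _ (by norm_num)]
    exacts [congrArg s hg.2, congrArg s ((GU0_xm (K1_GU hg.1) (n := 85) (by norm_num)).trans (congrArg xm hg.2))]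
theorem Q_vh {r : Fin 3 → ZMod 2} (h : r 0 = 0) : ∃ q ∈ Q, ∀ a, q * vh z s a * q⁻¹ = vh z s ((1 + vecMulVec (Pi.single 0 1) r) *ᵥ a) := by
  obtain ⟨m, u, k⟩ := cd_c r h
  refine ⟨_, F.sQ m, fun a => ?_⟩
  have c := ((F.mem_VH _).2 ⟨a, rfl⟩).1
  rw [F.ls.toES.sw (F.sQ m) c, F.β (F.sQ m) c, F.vh_ν, F.sν m (by omega), k, mul_assoc, ← F.cz, ← mul_assoc, mul_inv_cancel_right, add_mulVec,
    one_mulVec, vecMulVec_mulVec, F.vh_add]
  rcases z2_cases (r ⬝ᵥ a) with e | e <;> rw [e] <;> simp [vh, cd, F.s0]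
theorem cent_85 {c y : G} (h : c * s 85 = s 85 * c) (hy : y ∈ VH F.toFr) : ν (y⁻¹ * (c * y * c⁻¹)) = 0 ∨ ν (y⁻¹ * (c * y * c⁻¹)) = 85 := by
  have a : ψ (ρ c) 85 = 85 := by simpa [F.sν 85] using (F.fix (F.sQ 85)).2 (.inl (conj_eq_of_comm h))
  have b : ψ (ρ c) 170 = 170 ∨ ψ (ρ c) 170 = 255 := by
    by_cases k : ρ c ∈ K1
    exacts [.inl ((GU0_xm (K1_GU k) (n := 85) (by norm_num)).trans (congrArg xm a)),
      .inr ((H0_semi (F.r0 ▸ ⟨c, rfl⟩) k (n := 85) (by norm_num)).trans (by rw [a]; rfl))]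
  have d := G12.xor (ρ c) (m := 85) (n := 170) (by norm_num) (by norm_num)
  rw [F.mul (inv_mem hy.1) (F.nm c hy.1), F.inv hy.1, F.conj c hy.1]
  have := hy.2
  simp only [U4, List.mem_cons, List.not_mem_nil, or_false] at this
  rcases this with e | e | e | e <;> rw [e]
  · rw [G12.zero]; decide
  · rw [a]; decide
  · rcases b with b | b <;> rw [b] <;> decide
  · rw [show ψ (ρ c) 255 = _ from d, a]; rcases b with b | b <;> rw [b] <;> decide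

theorem mem_Z2 {y : G} (h : y ∈ Q) : ν y = 0 ∨ ν y = 85 ↔ y = 1 ∨ y = z ∨ y = s 85 ∨ y = z * s 85 := by
  rw [F.zero h, F.ls.mem_zp, or_assoc, ← F.cen]
  refine or_congr_right (or_congr_right ⟨fun e => F.eq_or (F.sQ _) h ((F.sν _ (by norm_num)).trans e.symm), ?_⟩)
  rintro (rfl | rfl)
  exacts [F.sν _ (by norm_num), (F.mul_z (F.sQ _)).trans (F.sν _ (by norm_num))]

end FX

namespace FG
variable {z : G} {Q : Subgroup (centralizer ({z} : Set G))} {ν : centralizer ({z} : Set G) → ℕ} {ρ : centralizer ({z} : Set G) →* G12}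
  {x : centralizer ({z} : Set G)} {s f : ℕ → centralizer ({z} : Set G)} (F : FG Q ν ρ x s f)
include F

theorem exists_w [Finite G] : ∃ w ∈ normalizer (Qg (VH F.toFr) : Set G), w * z * w⁻¹ = s 85 ∧ cj w (cj w (Qg Q)) = Qg Q ∧
    ((cj w (Qg Q)).subgroupOf _).map ρ = Py 4 ∧ LS (cj w (Qg Q)) (s 85) ∧ (s 170).1 ∈ cj w (Qg Q) := by
  have e : ν (s 85) = 85 := F.sν _ (by norm_num)
  have n : (s 85).1 ≠ z := fun k => by rw [show s 85 = zc z from Subtype.ext k, F.νz] at e; omega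
  obtain ⟨g, hg⟩ := isConj_iff.1 ((F.hO _ (F.sQ 85) n).2 (by rw [e]; decide +kernel))
  have L := F.lp (F.sQ 85) hg n
  obtain ⟨a, a1, a2, a3⟩ := L.symm.exists_y
  obtain ⟨y, y1, y2⟩ := L.l.exists_anti L.bQ L.r.ne L.ne
  obtain ⟨w1, w2⟩ := L.l.swap L.bQ L.r.sq y1 (Ne.symm y2) (comm_of_conj_eq a2) (a3.trans L.zb.symm)
  generalize y * a * y = w at w1 w2
  have k := (F.key (F.sQ 85) hg n (.inr e)).2.1
  have c1 := L.cj_eq w w1
  have c2 := L.symm.cj_eq w w2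
  have m : (s 170).1 ∈ cj g (Qg Q) := by
    obtain ⟨_, u', v⟩ := y5_ok
    obtain ⟨q, u, rfl⟩ := k.ge u'
    have c : q * s 10 * q⁻¹ * (s 10)⁻¹ ∈ (cj g (Qg Q)).subgroupOf _ := by
      rw [mul_assoc, mul_assoc, ← mul_assoc (s 10)]
      exact mul_mem u (L.r.norm (s 10) (congrArg Subtype.val ((F.comm (F.sQ 10) (F.sQ 85)).2 (by
        rw [e, F.sν _ (by norm_num)]; decide +kernel))) _ (inv_mem u))
    have d := F.nm q (F.sQ 10)
    rcases F.eq_or (mul_mem d (inv_mem (F.sQ 10))) (F.sQ 170) (by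
      rw [F.mul d (inv_mem (F.sQ 10)), F.inv (F.sQ 10), F.conj q (F.sQ 10), F.sν _ (by norm_num), F.sν _ (by norm_num), v]; rfl) with h | h <;> rw [h]
    exacts [c, mul_mem c L.zQ]
  refine ⟨w, mem_normalizer_of_conj_mem ?_, w1, by rw [c1, c2], c1 ▸ k, c1 ▸ L.r, c1 ▸ m⟩
  rintro _ ⟨v, hv, rfl⟩
  have v1 : v.1 ∈ cj g (Qg Q) := by
    obtain ⟨a, e⟩ := F.eq_s hv.1
    have := F.smul 85 (by norm_num) 170 (by norm_num)
    rw [show B0 (xm 85) 170 = 0 by decide +kernel, zp_zero, mul_one] at this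
    have : ∀ n ∈ U4, s n ∈ (cj g (Qg Q)).subgroupOf _ := by
      simp only [U4, List.forall_mem_cons]
      exact ⟨F.s0 ▸ one_mem _, L.r.mem, m, this ▸ mul_mem L.r.mem m, by simp⟩
    exact e ▸ mul_mem (this _ hv.2) (zpowers_le.2 (show zc z ∈ (cj g (Qg Q)).subgroupOf _ from L.zQ) (zp_mem _ a))
  obtain ⟨q, q1, q2⟩ : w * v * w⁻¹ ∈ Qg Q := c2 ▸ mem_map_of_mem _ v1
  refine ⟨q, ⟨q1, fix85 (F.lt q) fun c hc => ?_⟩, q2⟩
  rw [← F.r0, ← e, ← F.cent_map (F.sQ 85) (by omega)] at hc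
  obtain ⟨c, hc, rfl⟩ := hc
  have c3 : (c : G) * s 85 = s 85 * c := congrArg Subtype.val (mem_cent_single.1 hc)
  have c4 : (c : G) * z = z * c := mem_cent_single.1 c.2
  have i : ∀ {a b : G}, w * a * w⁻¹ = b → c * b = b * c → w⁻¹ * c * w * a = a * (w⁻¹ * c * w) := fun h k => by
    subst h; apply (MulAut.conj w).injective; simpa [mul_assoc] using k
  obtain ⟨d, hd⟩ : ∃ d : centralizer ({z} : Set G), d.1 = w⁻¹ * c * w := ⟨⟨_, mem_cent_single.2 (i w1 c3)⟩, rfl⟩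
  have := (F.mem_Z2 (mul_mem (inv_mem hv.1) (F.nm _ hv.1))).1 (F.cent_85 (c := d) (Subtype.ext (by simpa [hd] using i w2 c4)) hv)
  have j : ((q⁻¹ * (c * q * c⁻¹) :) : G) = w * (v⁻¹ * (d * v * d⁻¹) :) * w⁻¹ := by
    simp only [coe_mul, coe_inv, show (q : G) = _ from q2, coe_subtype, hd]; group
  have := (F.mem_Z2 (mul_mem (inv_mem q1) (F.nm c q1))).2 (by
    simp only [Subtype.ext_iff (a1 := q⁻¹ * _), j]
    rcases this with h | h | h | h <;> rw [h]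
    exacts [.inl (by simp), .inr (.inr (.inl w1)), .inr (.inl w2), .inr (.inr (.inr (by
      rw [coe_mul, ← conj_mul, show w * (zc z).1 * w⁻¹ = _ from w1, w2]; exact L.zb.symm)))])
  rw [F.mul (inv_mem q1) (F.nm _ q1), F.inv q1, F.conj c q1] at this
  exact this.imp (fun h => (Nat.xor_eq_zero_iff.1 h).symm) fun h => by rw [← h, Nat.xor_xor_cancel_left]

theorem l3 [Finite G] : ∃ R : Subgroup G, R = (pCore 2 (normalizer (Qg (VH F.toFr) : Set G))).map (Subgroup.subtype _) ∧ IsSpecial 2 R ∧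
    Nat.card R = 2 ^ 15 ∧ (center R).map R.subtype = Qg (VH F.toFr) ∧ ∃ Φ : normalizer (Qg (VH F.toFr) : Set G) →*
      SpecialLinearGroup (Fin 3) (ZMod 2) × alternatingGroup (Fin 6), Function.Surjective Φ ∧ Φ.ker = R.subgroupOf _ := by
  obtain ⟨w, w0, w1, w2, w3, w4, w5⟩ := F.exists_w
  have mV : ∀ y, y ∈ Qg (VH F.toFr) ↔ ∃ a, (vh (zc z) s a).1 = y := fun y =>
    ⟨fun ⟨v, a, e⟩ => ((F.mem_VH v).1 a).imp fun _ k => (congrArg Subtype.val k).trans e, fun ⟨a, e⟩ => ⟨_, (F.mem_VH _).2 ⟨a, rfl⟩, e⟩⟩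
  obtain ⟨φ, hφ⟩ := exists_sl (v := fun a => (vh (zc z) s a).1) (fun a b => congrArg Subtype.val (F.vh_add a b))
    (Subtype.val_injective.comp F.vh_inj) mV
  have inj : ∀ l M, (∀ a, l.1 * (vh (zc z) s a).1 * l.1⁻¹ = (vh (zc z) s (M *ᵥ a)).1) → (φ l).1 = M := fun l M h =>
    toLin'.injective (LinearMap.ext fun a => F.vh_inj (Subtype.ext ((hφ l a).symm.trans (h a))))
  have zV : z ∈ Qg (VH F.toFr) := ⟨zc z, ⟨F.ls.mem, by rw [F.νz]; decide⟩, rfl⟩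
  have nH : ∀ g : centralizer ({z} : Set G), (∀ u ∈ U4, ψ (ρ g) u ∈ U4) → g.1 ∈ normalizer (Qg (VH F.toFr) : Set G) := fun g h =>
    mem_normalizer_of_conj_mem (by rintro _ ⟨v, a, rfl⟩; exact ⟨_, ⟨F.nm g a.1, F.conj g a.1 ▸ h _ a.2⟩, rfl⟩)
  have nQ : ∀ g ∈ Q, g.1 ∈ normalizer (Qg (VH F.toFr) : Set G) := fun g h => nH g fun u k => by rwa [F.mem.2 h, map_one]
  have nx := nH x fun u k => by rw [F.rx, X0_ap (U4_ok u k).1]; exact (cd_b u k).1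
  have cC : ∀ g : centralizer ({z} : Set G), g.1 ∈ centralizer (Qg (VH F.toFr) : Set G) ↔ g ∈ centralizer (VH F.toFr : Set _) := fun g =>
    ⟨fun h y a => Subtype.ext (h y ⟨y, a, rfl⟩), by rintro h _ ⟨y, a, rfl⟩; exact congrArg Subtype.val (h y a)⟩
  have kφ : ∀ l, l ∈ φ.ker ↔ l.1 ∈ centralizer (Qg (VH F.toFr) : Set G) := fun l => ⟨fun h y b => by
    obtain ⟨a, rfl⟩ := (mV y).1 b
    refine (comm_of_conj_eq ((hφ l a).trans ?_)).symm
    rw [show φ l = 1 from h, show (1 : SpecialLinearGroup (Fin 3) (ZMod 2)).1 = 1 from rfl, one_mulVec], fun h =>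
      Subtype.ext (inj l 1 fun a => by rw [one_mulVec]; exact conj_eq_of_comm (h _ ((mV _).2 ⟨a, rfl⟩)).symm)⟩
  let ι : φ.ker →* centralizer ({z} : Set G) := ((Subgroup.subtype _).comp φ.ker.subtype).codRestrict _ fun c =>
    mem_cent_single.2 ((kφ _).1 c.2 z zV).symm
  have ιr : ι.range = centralizer (VH F.toFr : Set _) := Subgroup.ext fun g => ⟨fun ⟨c, e⟩ => (cC g).1 (e ▸ (kφ _).1 c.2), fun h =>
    ⟨⟨⟨g, centralizer_le_normalizer _ ((cC g).2 h)⟩, (kφ _).2 ((cC g).2 h)⟩, rfl⟩⟩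
  have ρr : (ρ.comp ι).range = K1 ⊓ stab ψ 85 := by rw [MonoidHom.range_comp, ιr, F.cent_VH_map]
  have p5 : Py 5 ≤ K1 ⊓ stab ψ 85 := le_inf E1_le ((Py_le 5).trans inf_le_right)
  obtain ⟨θ0, t1, t2⟩ := exists_A6 (X := K1 ⊓ stab ψ 85) (E := Py 5) (inf_le_inf_right _ K1_le_N0)
    (by rw [← inf_assoc, E0_K1, inf_eq_left.2 ((Py_le 5).trans inf_le_right)])
    (by have := card_stab85 le_rfl K1_le_N0; rw [K1_card] at this; rw [Py_card (by norm_num)]; omega)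
  let θ := θ0.comp ((ρ.comp ι).codRestrict _ fun c => ρr.le ⟨c, rfl⟩)
  have kθ : ∀ c, c ∈ θ.ker ↔ ρ (ι c) ∈ Py 5 := fun c => SetLike.ext_iff.1 t2 _
  set RH := centralizer (VH F.toFr : Set _) ⊓ (Py 5).comap ρ with hRH
  have eR : (θ.ker.map φ.ker.subtype).map (Subgroup.subtype _) = Qg RH := Subgroup.ext fun y => ⟨by
    rintro ⟨_, ⟨c, a, rfl⟩, rfl⟩; exact ⟨ι c, ⟨ιr.le ⟨c, rfl⟩, (kθ c).1 a⟩, rfl⟩, by
    rintro ⟨g, a, rfl⟩; obtain ⟨c, rfl⟩ := ιr.ge a.1; exact ⟨_, ⟨c, (kθ c).2 a.2, rfl⟩, rfl⟩⟩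
  have QR : ∀ g ∈ Q, g ∈ centralizer (VH F.toFr : Set _) → g ∈ RH := fun g a b => ⟨b, mem_comap.2 (F.mem.2 a ▸ one_mem _)⟩
  have cR : Nat.card (Qg RH) = 2 ^ 15 := by
    have a := F.card_map (B := RH)
    have b := F.ls.toES.card_cent (A := VH F.toFr) (fun _ h => h.1) ⟨F.ls.mem, by rw [F.νz]; decide⟩
    rw [show RH.map ρ = Py 5 from le_antisymm (map_le_iff_le_comap.2 inf_le_right) fun g h => by
      obtain ⟨c, u, rfl⟩ := F.cent_VH_map.ge (p5 h); exact ⟨c, ⟨u, h⟩, rfl⟩, Py_card (by norm_num), show RH ⊓ Q = Q ⊓ centralizer (VH F.toFr : Set _) from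
      le_antisymm (fun _ h => ⟨h.2, h.1.1⟩) fun g h => ⟨QR g h.1 h.2, h.1⟩] at a
    rw [F.VH_card, F.card] at b
    rw [card_map_of_injective (subtype_injective _)]; omega
  have pR : IsPGroup 2 (Qg RH) := .of_card cR
  have := Linear.sl_isSimpleGroup_of_card_two (ι := Fin 3) (F := ZMod 2) (by simp) (by simp)
  have := alternatingGroup.isSimpleGroup (α := Fin 6) (by simp)
  have e0 : vh (zc z) s (Pi.single 0 1) = zc z := by simp [vh, cd, F.s0, zp_one]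
  have e1 : vh (zc z) s (Pi.single 1 1) = s 85 := (congrArg (· * _) (congrArg s rfl)).trans (mul_one _)
  have e2 : vh (zc z) s (Pi.single 2 1) = s 170 := (congrArg (· * _) (congrArg s rfl)).trans (mul_one _)
  have x1 : x.1 * (s 85).1 * x.1⁻¹ = s 170 := congrArg Subtype.val ((F.scj x rfl 85 (by norm_num)).trans (by rw [F.rx, X0_ap (by norm_num)]; rfl))
  have xw : x.1 * w * z * (x.1 * w)⁻¹ = s 170 := by rw [← x1, ← w1]; group
  obtain ⟨Φ, s1, s2, s3⟩ := prod_quot φ θ (t1.comp fun g => (ρr.ge g.2).imp fun _ => Subtype.ext)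
    (alternatingGroup.center_eq_bot (by simp)) (pCore_simple (n := 120) (by simp; rfl))
    (pCore_simple (n := 56) Linear.card_SL_three_two)
    (((eR ▸ pR).of_equiv (equivMapOfInjective _ _ (subtype_injective _)).symm).of_equiv (equivMapOfInjective _ _ (subtype_injective _)).symm)
    (Y := {l | l.1 ∈ Qg Q}) (by
      rintro ⟨_, n⟩ ⟨q, hq, rfl⟩ c
      refine congrArg θ0 (Subtype.ext ?_)
      change ρ (q * ι c * q⁻¹) = ρ (ι c)
      rw [map_mul, map_mul, map_inv, F.mem.2 hq]; simp) fun N _ h => sl_gen φ 0 (fun r k => by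
      obtain ⟨q, a, b⟩ := F.Q_vh k
      exact ⟨⟨q, nQ q a⟩, h (mem_Qg.2 a), inj _ _ fun a => congrArg Subtype.val (b a)⟩) fun i => by
      have u : ∀ l a, l.1 * z * l.1⁻¹ = (vh (zc z) s a).1 → (φ l).1 *ᵥ Pi.single 0 1 = a := fun l a k =>
        F.vh_inj (Subtype.ext ((hφ l _).symm.trans (by rw [e0]; exact k)))
      fin_cases i
      exacts [⟨1, u _ _ ((by simp : _ = z).trans (congrArg Subtype.val e0.symm))⟩, ⟨⟨w, w0⟩, u _ _ (w1.trans (congrArg _ e1.symm))⟩,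
        ⟨⟨x * w, mul_mem nx w0⟩, u _ _ (xw.trans (congrArg _ e2.symm))⟩]
  rw [← s2, s3] at eR
  have nR : normalizer (Qg (VH F.toFr) : Set G) ≤ normalizer (Qg RH : Set G) := eR ▸ le_normalizer_pCoreOf _
  have P1 : ∀ p ∈ Qg Q, p ∈ Qg RH → ∀ r ∈ Qg RH, ⁅p, r⁆ ∈ Qg (VH F.toFr) := by
    rintro _ ⟨p, a, rfl⟩ b _ ⟨r, c, rfl⟩
    have d := F.nm r (inv_mem a)
    obtain ⟨b1, b2⟩ := (F.cent_VH_Q a).1 (mem_Qg.1 b).1
    refine ⟨p * (r * p⁻¹ * r⁻¹), ⟨mul_mem a d, ?_⟩, by simp [commutatorElement_def, mul_assoc]⟩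
    rw [F.mul a d, F.conj r (inv_mem a), F.inv a, Nat.xor_comm]
    exact E1_perp c.2 _ (F.lt p) b1 b2
  have P2 : ∀ p ∈ cj w (Qg Q), p ∈ Qg RH → ∀ r ∈ Qg RH, ⁅p, r⁆ ∈ Qg (VH F.toFr) := by
    rintro _ ⟨p, a, rfl⟩ b r c
    have := (mem_normalizer_iff.1 w0 _).1 (P1 p a ((mem_normalizer_iff.1 (nR w0) _).2 b) _ ((mem_normalizer_iff''.1 (nR w0) _).1 c))
    convert this using 1
    simp [commutatorElement_def, mul_assoc]
  have bV : (s 85).1 ∈ Qg (VH F.toFr) := (mV _).2 ⟨_, congrArg _ e1⟩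
  have dec : ∀ r ∈ Qg RH, ∃ p q, (p ∈ Qg Q ∧ p ∈ Qg RH) ∧ (q ∈ cj w (Qg Q) ∧ q ∈ Qg RH) ∧ r = p * q := by
    rintro _ ⟨r, a, rfl⟩
    obtain ⟨q, b, c⟩ := w3.ge (PS_mono (by norm_num) le_rfl a.2)
    have m : q ∈ RH := ⟨F.cent_VH.2 ⟨Subtype.ext (w4.cen _ b), ?_⟩, mem_comap.2 (c ▸ a.2)⟩
    · exact ⟨_, _, ⟨mem_Qg.2 (F.mem.1 (by rw [map_mul, map_inv, c, mul_inv_cancel])), mem_Qg.2 (mul_mem a (inv_mem m))⟩, ⟨b, mem_Qg.2 m⟩, by simp⟩
    refine Subtype.ext ((w4.comm _ b _ w5).resolve_right fun e => ?_)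
    have k : ψ (ρ q) 170 = 170 := c ▸ (GU0_xm (K1_GU (E1_le a.2)) (n := 85) (by norm_num)).trans (congrArg xm (Py_le 5 a.2).2)
    have := F.conj q (F.sQ 170)
    rw [show q * s 170 * q⁻¹ = s 170 * s 85 from Subtype.ext (by
      rw [coe_mul, coe_mul, show q.1 * (s 170).1 = _ from e, mul_assoc (s 170).1, w4.cen _ b, coe_inv, coe_mul, ← mul_assoc]
      exact mul_inv_cancel_right _ _), F.mul (F.sQ _) (F.sQ _), F.sν _ (by norm_num),
      F.sν _ (by norm_num), k] at this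
    exact absurd this (by decide)
  have RN : Qg RH ≤ normalizer (Qg (VH F.toFr) : Set G) := eR ▸ map_subtype_le _
  have P3 : ∀ p ∈ Qg RH, ∀ r ∈ Qg RH, ⁅p, r⁆ ∈ Qg (VH F.toFr) := fun p a r b => by
    obtain ⟨p, q, u, v, rfl⟩ := dec p a
    rw [show ⁅p * q, r⁆ = p * ⁅q, r⁆ * p⁻¹ * ⁅p, r⁆ by group]
    exact mul_mem ((mem_normalizer_iff.1 (RN u.2) _).1 (P2 q v.1 v.2 r b)) (P1 p u.1 u.2 r b)
  have sR : ∀ m ∈ PB, s m ∈ RH := fun m h => QR _ (F.sQ m) ((F.cent_VH_Q (F.sQ m)).2 (by rw [F.sν m (PB_ok m h).1]; exact (PB_ok m h).2))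
  have zR : ∀ l ∈ normalizer (Qg (VH F.toFr) : Set G), l * z * l⁻¹ ∈ ⁅Qg RH, Qg RH⁆ := fun l h => by
    have : ⁅s 5, s 34⁆ = zc z := by
      rw [commutatorElement_def, F.ls.toES.sw (F.sQ 5) (F.sQ 34), F.β (F.sQ _) (F.sQ _), F.sν _ (by norm_num), F.sν _ (by norm_num),
        show B0 5 34 = 1 by decide +kernel, zp_one, mul_assoc (s 34 * s 5), ← F.cen, ← mul_assoc, mul_inv_cancel_right, F.cen, mul_inv_cancel_right]
    rw [show l * z * l⁻¹ = ⁅l * s 5 * l⁻¹, l * s 34 * l⁻¹⁆ from (congrArg (l * ·.1 * l⁻¹) this).symm.trans (by simp [commutatorElement_def, mul_assoc])]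
    exact commutator_mem_commutator ((mem_normalizer_iff.1 (nR h) _).1 (mem_Qg.2 (sR 5 (by decide))))
      ((mem_normalizer_iff.1 (nR h) _).1 (mem_Qg.2 (sR 34 (by decide))))
  have VR : Qg (VH F.toFr) ≤ Qg RH := map_mono fun y h => QR y h.1 (F.VH_ab h)
  have fr := frat_eq (Y := Qg (VH F.toFr)) pR (fun y h => by
    obtain ⟨a, rfl⟩ := (mV y).1 h
    have k : ∀ (i : Fin 3) (c : ZMod 2), (vh (zc z) s (Pi.single i c)).1 ∈ ⁅Qg RH, Qg RH⁆ := fun i c => by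
      rcases z2_cases c with rfl | rfl
      · rw [Pi.single_zero, vh, show cd 0 = 0 from rfl, F.s0, one_mul]; exact one_mem _
      fin_cases i
      exacts [(congrArg Subtype.val e0).symm ▸ by simpa [zc] using zR 1 (one_mem _), e1 ▸ w1 ▸ zR w w0, e2 ▸ xw ▸ zR _ (mul_mem nx w0)]
    rw [← Finset.univ_sum_single a, Fin.sum_univ_three, F.vh_add, F.vh_add]
    exact mul_mem (mul_mem (k _ _) (k _ _)) (k _ _)) ⟨P3, fun r h => by
    obtain ⟨p, q, u, v, rfl⟩ := dec r h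
    rw [show (p * q) ^ 2 = p * p * ⁅p⁻¹, q⁆ * (q * q) by rw [pow_two]; group]
    refine mul_mem (mul_mem ?_ (P3 _ (inv_mem u.2) _ v.2)) ?_
    exacts [(F.lsg.sq_mem p u.1).elim (· ▸ one_mem _) (· ▸ zV), (w4.sq_mem q v.1).elim (· ▸ one_mem _) (· ▸ bV)]⟩
  have ce : center (Qg RH) = (Qg (VH F.toFr)).subgroupOf _ := Subgroup.ext fun ⟨_, r, a, rfl⟩ => ⟨fun h => by
    have k : ∀ m ∈ PB, r * s m = s m * r := fun m u => Subtype.ext (congrArg Subtype.val (mem_center_iff.1 h ⟨_, mem_Qg.2 (sR m u)⟩)).symm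
    obtain ⟨i, u, v⟩ := exists_bj (PS_mono (by norm_num) le_rfl a.2) ((pow_two _).symm.trans (E0_ab.2 _ (PS_mono (by norm_num) le_rfl a.2)))
    have q := F.mem.1 (v.symm.trans (bj_perp u fun m c => by
      simpa [F.sν m (PB_ok m c).1, v] using (F.fix (F.sQ m)).2 (.inl (conj_eq_of_comm (k m c)))))
    exact mem_Qg.2 ⟨q, U_perp (F.lt r) fun m c => F.sν m (PB_ok m c).1 ▸ (F.comm q (F.sQ m)).1 (k m c)⟩, fun h =>
    mem_center_iff.2 fun ⟨_, y, b, rfl⟩ => Subtype.ext (congrArg Subtype.val (b.1 r (mem_Qg.1 h))).symm⟩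
  exact ⟨_, eR.symm, ⟨pR, fr.1.trans ce.symm, fr.2.trans ce.symm⟩, cR, ce ▸ map_subgroupOf_eq_of_le VR, Φ, s1, by
    rw [← eR, s3, subgroupOf_map_subtype_self]⟩

end FG

end Cfsg.Lib.Fi
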