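import Cfsg.Agent.Lib.Fi.Fr8
import Cfsg.Agent.Lib.Fi.Fr6
import Cfsg.Agent.Lib.Layer.Quasisimple
import Cfsg.Agent.S0822
import Cfsg.Agent.S0283
import Cfsg.Agent.Lib.Known2.Glob
import Cfsg.Agent.S0270
import Cfsg.Agent.Lib.Comp.Big3

/-! Groups of large Fischer type: the subgroup `2².U₆(2)`. -/

set_option maxRecDepth 100000

namespace Cfsg.Lib.Fi

open Cfsg.Lib.Comp Subgroup A12 Cfsg.Lib.Core Cfsg.Lib.Known2 Cfsg.Lib.Amalg
open scoped commutatorElement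

universe u

variable {G : Type u} [Group G]

/-- The recognition of `U₆(2)`. -/
def R6 : Prop := ∀ (G : Type u) [Group G] [Finite G] (z : G), orderOf z = 2 → ∀ (K : Type) [Field K] [Fintype K], Fintype.card K = 4 →
  IsExtraspecial 2 (pCore 2 (centralizer ({z} : Set G))) → Nat.card (pCore 2 (centralizer ({z} : Set G))) = 2 ^ 9 →
  centralizer (pCore 2 (centralizer ({z} : Set G)) : Set (centralizer ({z} : Set G))) ≤ pCore 2 (centralizer ({z} : Set G)) →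
  ∀ [(pCore 2 (centralizer ({z} : Set G))).Normal], (centralizer ({z} : Set G) ⧸ pCore 2 (centralizer ({z} : Set G)) ≃* PSp 2 (ZMod 3)) →
  Nonempty (G ≃* PSU 6 K 2) ∨ centralizer ({z} : Set G) ⊔ oddCore G = ⊤

theorem mem_cl2 {a b x : G} (ha : a * a = 1) (hb : b * b = 1) (c : Commute a b) :
    x ∈ closure ({a, b} : Set G) ↔ x = 1 ∨ x = a ∨ x = b ∨ x = a * b := by
  have a1 : a ∈ closure ({a, b} : Set G) := subset_closure (by simp)
  have b1 : b ∈ closure ({a, b} : Set G) := subset_closure (by simp)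
  refine ⟨fun h => ?_, by rintro (rfl | rfl | rfl | rfl); exacts [one_mem _, a1, b1, mul_mem a1 b1]⟩
  have k1 : ∀ y, a * (a * y) = y := fun y => by rw [← mul_assoc, ha, one_mul]
  have k2 : b * (a * b) = a := by rw [c.eq, ← mul_assoc, hb, one_mul]
  induction h using closure_induction_left with
  | one => exact .inl rfl
  | mul_left x hx y _ ih => rcases hx with rfl | rfl <;> rcases ih with rfl | rfl | rfl | rfl <;> simp [ha, hb, k1, k2, c.symm.eq]
  | inv_mul_cancel x hx y _ ih =>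
    rcases hx with rfl | rfl <;> rcases ih with rfl | rfl | rfl | rfl <;>
      simp [inv_eq_of_mul_eq_one_right ha, inv_eq_of_mul_eq_one_right hb, ha, hb, k1, k2, c.symm.eq]

theorem card_cl2 {a b : G} (ha : a * a = 1) (hb : b * b = 1) (c : Commute a b) (h1 : a ≠ 1) (h2 : b ≠ 1) (h3 : a ≠ b) :
    Nat.card (closure ({a, b} : Set G)) = 4 := by
  classical
  have : (closure ({a, b} : Set G) : Set G) = ({1, a, b, a * b} : Finset G) := Set.ext fun x => by simpa using mem_cl2 ha hb c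
  have n : a * b ≠ 1 := fun e => h3 ((eq_inv_of_mul_eq_one_left e).trans (inv_eq_of_mul_eq_one_right hb))
  rw [← SetLike.coe_sort_coe, this, Nat.card_coe_set_eq, Set.ncard_coe_finset, Finset.card_eq_four.2 ⟨1, a, b, a * b, h1.symm, h2.symm, n.symm, h3,
    by simpa using h2, by simpa using h1, rfl⟩]

theorem mem_cent2 {a b g : G} : g ∈ centralizer (closure ({a, b} : Set G) : Set G) ↔ Commute g a ∧ Commute g b := by
  rw [centralizer_closure, mem_centralizer_iff]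
  exact ⟨fun h => ⟨(h a (by simp)).symm, (h b (by simp)).symm⟩, by rintro h x (rfl | rfl); exacts [h.1.symm, h.2.symm]⟩

theorem idx2_aut {S : Type*} [Group S] [Finite S] [IsSimpleGroup S] (h : center S = ⊥) {N : Subgroup (MulAut S)} (h1 : N.index = 2)
    (h2 : Nat.card N = Nat.card S) (h3 : 2 < Nat.card S) : Nonempty (N ≃* S) := by
  have := normal_of_index_eq_two h1
  have i : Function.Injective (MulAut.conj : S →* MulAut S) := (injective_iff_map_eq_one _).2 fun a e =>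
    h.le (mem_center_iff.2 fun g => (mul_inv_eq_iff_eq_mul.1 (DFunLike.congr_fun e g)).symm)
  rcases (inferInstance : (N.comap MulAut.conj).Normal).eq_bot_or_eq_top with e | e
  · have k := Nat.le_of_dvd (by norm_num) (h1 ▸ relIndex_dvd_index_of_normal N MulAut.conj.range)
    rw [MonoidHom.range_eq_map, ← relIndex_comap, e, relIndex_top_right, index_bot] at k
    omega
  · refine ⟨(MulEquiv.subgroupCongr (eq_of_le_of_card_ge (H := MulAut.conj.range) (by rintro _ ⟨a, rfl⟩; exact e.ge (mem_top a)) ?_).symm).trans (MonoidHom.ofInjective i).symm⟩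
    rw [h2, Nat.card_congr (MonoidHom.ofInjective i).toEquiv]

theorem X5_psp : Nonempty (↥(K1 ⊓ stab ψ 5) ≃* PSp 2 (ZMod 3)) ∧ Nat.card ↥(K1 ⊓ stab ψ 5) = 25920 := by
  have : Fact (Nat.Prime 2) := ⟨Nat.prime_two⟩
  let := Fintype.ofFinite (GaloisField 2 2)
  have hF : Fintype.card (GaloisField 2 2) = 2 ^ 2 := by rw [← Nat.card_eq_fintype_card, GaloisField.card 2 2 (by norm_num)]
  have c : Nat.card ↥(K1 ⊓ stab ψ 5) = 25920 := by have := orb1.card; rw [K1_card] at this; omega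
  obtain ⟨e⟩ := X5_iso
  obtain ⟨e'⟩ := O6_aut hF
  have := Cfsg.Agent.S0283.result hF 4 (by norm_num) (by norm_num)
  have c2 := card_psu42 hF
  have : Finite (PSU 4 (GaloisField 2 2) 2) := Nat.finite_of_card_ne_zero (by omega)
  have l : K1 ⊓ stab ψ 5 ≤ H0 ⊓ stab ψ 5 := inf_le_inf_right _ K1_H0
  have c3 := card_map_of_injective (K := (K1 ⊓ stab ψ 5).subgroupOf _) (f := (e.trans e').toMonoidHom) (e.trans e').injective
  rw [Nat.card_congr (subgroupOfEquivOfLe l).toEquiv, c] at c3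
  have c4 := card_mul_index (((K1 ⊓ stab ψ 5).subgroupOf _).map (e.trans e').toMonoidHom)
  rw [c3, ← Nat.card_congr e'.toEquiv, card_O6] at c4
  obtain ⟨f⟩ := idx2_aut (Comp.center_eq_bot (by rw [c2]; norm_num)) (by omega : _ = 2) (c3.trans c2.symm) (by omega)
  exact ⟨⟨(subgroupOfEquivOfLe l).symm.trans ((equivMapOfInjective _ _ (e.trans e').injective).trans (f.trans
    (Cfsg.Agent.S0822.result hF (ZMod.card 3)).some))⟩, c⟩

/-- A basis of the perp of the unitary point `⟨5, 10⟩`. -/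
def PE : List ℕ := [5, 10, 80, 96, 112, 144, 272, 528, 1040, 2064]
theorem PE_ok : ∀ m ∈ PE, m < 4096 ∧ B0 m 5 = 0 ∧ B0 m 10 = 0 := by decide +kernel
theorem E_perp {n : ℕ} (hn : n < 4096) (h : ∀ m ∈ PE, B0 n m = 0) : n ∈ [0, 5, 10, 15] := by
  have : (allN 4096 fun n => cnd (allL PE (bB n)) (decide (n ∈ [0, 5, 10, 15])) true) = true := by decide +kernel
  have := allN_iff.1 this n hn
  rwa [allL_iff.2 fun m hm => (bB_iff hn (PE_ok m hm).1).2 (h m hm), cnd_eq, if_pos rfl, decide_eq_true_eq] at this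
theorem l4 : ∀ n ∈ [0, 5, 10, 15], n < 4096 := by decide
theorem PE_nc : ∃ m ∈ PE, ∃ n ∈ PE, B0 m n ≠ 0 := by decide +kernel
theorem PE_mv : ∃ m ∈ PE, ψ (bj 1) m ^^^ m ∉ [0, 5, 10, 15] := by
  obtain ⟨m, a, b⟩ : ∃ m ∈ PE, ap parV (ent IL 1) m ^^^ m ∉ [0, 5, 10, 15] := by decide +kernel
  exact ⟨m, a, (VO.ap _ _).symm.trans rfl ▸ b⟩

namespace FX
variable {Q : Subgroup G} {z x : G} {ν : G → ℕ} {ρ : G →* G12} {s : ℕ → G} (F : FX Q z ν ρ x s)
include F

theorem s15 : s 5 * s 10 = s 15 := by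
  rw [F.smul 5 (by norm_num) 10 (by norm_num), show B0 (xm 5) 10 = 0 by decide +kernel, zp_zero, mul_one]; rfl
theorem sq5 : s 5 * s 5 = 1 := by rw [F.s_sq (by norm_num), show q0 5 = 0 by decide +kernel, zp_zero]
theorem sq10 : s 10 * s 10 = 1 := by rw [F.s_sq (by norm_num), show q0 10 = 0 by decide +kernel, zp_zero]
theorem c510 : Commute (s 5) (s 10) := (F.comm (F.sQ 5) (F.sQ 10)).2 (by rw [F.sν 5 (by norm_num), F.sν 10 (by norm_num)]; decide +kernel)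
theorem mem_E {y : G} : y ∈ closure ({s 5, s 10} : Set G) ↔ ∃ n ∈ [0, 5, 10, 15], s n = y := by
  rw [mem_cl2 F.sq5 F.sq10 F.c510, F.s15]; simp [F.s0, eq_comm]
theorem E_Q : closure ({s 5, s 10} : Set G) ≤ Q := fun y h => by obtain ⟨n, -, rfl⟩ := F.mem_E.1 h; exact F.sQ n
theorem E_ν {y : G} (h : y ∈ closure ({s 5, s 10} : Set G)) : ν y ∈ [0, 5, 10, 15] := by
  obtain ⟨n, a, rfl⟩ := F.mem_E.1 h
  rwa [F.sν n (l4 n a)]
theorem s_inj {m n : ℕ} (hm : m < 4096) (hn : n < 4096) (e : s m = s n) : m = n := by rw [← F.sν m hm, e, F.sν n hn]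
theorem z_E : z ∉ closure ({s 5, s 10} : Set G) := fun h => by
  obtain ⟨n, a, e⟩ := F.mem_E.1 h
  have := F.sν n (l4 n a)
  rw [e, F.νz] at this
  exact F.ls.ne (by rw [← e, ← this, F.s0])
theorem E_card : Nat.card (closure ({s 5, s 10} : Set G)) = 4 :=
  card_cl2 F.sq5 F.sq10 F.c510 (fun e => by simpa using F.s_inj (by norm_num) (by norm_num) (e.trans F.s0.symm))
    (fun e => by simpa using F.s_inj (by norm_num) (by norm_num) (e.trans F.s0.symm)) fun e => by simpa using F.s_inj (by norm_num) (by norm_num) e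
theorem cent_E_Q {g : G} (h : g ∈ Q) : g ∈ centralizer (closure ({s 5, s 10} : Set G) : Set G) ↔ B0 (ν g) 5 = 0 ∧ B0 (ν g) 10 = 0 := by
  rw [mem_cent2, commute_iff_eq, commute_iff_eq, F.comm h (F.sQ _), F.comm h (F.sQ _), F.sν 5 (by norm_num), F.sν 10 (by norm_num)]
theorem s_PE {m : ℕ} (h : m ∈ PE) : s m ∈ centralizer (closure ({s 5, s 10} : Set G) : Set G) :=
  (F.cent_E_Q (F.sQ m)).2 ((F.sν m (PE_ok m h).1).symm ▸ (PE_ok m h).2)
theorem cent_E_map : (centralizer (closure ({s 5, s 10} : Set G) : Set G)).map ρ = K1 ⊓ stab ψ 5 := by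
  refine le_antisymm ?_ fun g hg => ?_
  · rintro _ ⟨g, hg, rfl⟩
    have k : ∀ n < 4096, g * s n = s n * g → ψ (ρ g) n = n := fun n hn e => by
      simpa [F.sν n hn] using (F.fix (F.sQ n)).2 (.inl (conj_eq_of_comm e))
    have a := k _ (by norm_num) (mem_cent2.1 hg).1
    exact ⟨K1_of_fix (F.r0 ▸ ⟨g, rfl⟩) (by norm_num) (by norm_num) a (k _ (by decide) (mem_cent2.1 hg).2), a⟩
  · obtain ⟨d, a, rfl⟩ := F.exD hg.1
    refine ⟨d, mem_cent2.2 ⟨comm_of_conj_eq ?_, comm_of_conj_eq ?_⟩, rfl⟩ <;> rw [F.scj d a _ (by norm_num)]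
    exacts [congrArg s hg.2, congrArg s ((GU0_xm (K1_GU hg.1) (n := 5) (by norm_num)).trans (congrArg xm hg.2))]
theorem J_card [Finite G] : Nat.card ↥(Q ⊓ centralizer (closure ({s 5, s 10} : Set G) : Set G)) = 2 ^ 11 := by
  have n : ∀ a < 4096, ∀ b < 4096, B0 a b ≠ 0 → s a * s b ≠ s b * s a := fun a ha b hb h e =>
    h (by rw [← F.sν a ha, ← F.sν b hb]; exact (F.comm (F.sQ a) (F.sQ b)).1 e)
  have c1 := F.ls.toES.card_two le_rfl (F.sQ 5) (F.sQ 2) (n 5 (by norm_num) 2 (by norm_num) (by decide +kernel))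
  have c2 := F.ls.toES.card_two (R := Q ⊓ centralizer {s 5}) inf_le_left (F.sQ 10) (y := s 1) ⟨F.sQ 1, mem_centralizer_singleton_iff.2
    ((F.comm (F.sQ 1) (F.sQ 5)).2 (by rw [F.sν 1 (by norm_num), F.sν 5 (by norm_num)]; decide +kernel))⟩
    (n 10 (by norm_num) 1 (by norm_num) (by decide +kernel))
  have : Q ⊓ centralizer (closure ({s 5, s 10} : Set G) : Set G) = Q ⊓ centralizer {s 5} ⊓ centralizer {s 10} :=
    Subgroup.ext fun g => by simp only [mem_inf, mem_cent2, mem_centralizer_singleton_iff, and_assoc, commute_iff_eq]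
  rw [this]; have := F.card; omega

end FX

theorem FA.rec6 {H : Type*} [Group H] [Finite H] [Finite G] {Q : Subgroup H} {z x : H} {ν : H → ℕ} {ρ : H →* G12} {s f : ℕ → H} (F : FA Q z ν ρ x s f)
    {w : G} (ι : centralizer (closure ({s 5, s 10} : Set H) : Set H) →* G) (h1 : ∀ c, ι c = 1 ↔ c.1 ∈ closure ({s 5, s 10} : Set H))
    (h2 : ι.range = centralizer {w}) (h3 : ∀ h, ι ⟨z, h⟩ = w) (K : Type) [Field K] [Fintype K] (hK : Fintype.card K = 4) :
    (R6.{u} → Nonempty (G ≃* PSU 6 K 2) ∨ centralizer ({w} : Set G) ⊔ oddCore G = ⊤) ∧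
      ∃ J : Subgroup G, IsPGroup 2 J ∧ ∀ g, (∀ y ∈ J, Commute y g) → g = 1 ∨ g = w := by
  let C := centralizer (closure ({s 5, s 10} : Set H) : Set H)
  have zC : z ∈ C := fun g _ => F.cen g
  let κ : C →* centralizer ({w} : Set G) := ι.codRestrict _ fun c => h2.le ⟨c, rfl⟩
  have k1 : Function.Surjective κ := fun ⟨g, hg⟩ => let ⟨c, e⟩ := h2.ge hg; ⟨c, Subtype.ext e⟩
  have k2 : ∀ c, κ c = 1 ↔ c.1 ∈ closure ({s 5, s 10} : Set H) := fun c => Subtype.ext_iff.trans (h1 c)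
  have k3 : κ ⟨z, zC⟩ = zc w := Subtype.ext (h3 _)
  obtain ⟨⟨e⟩, c0⟩ := X5_psp
  let θ0 : C →* ↥(K1 ⊓ stab ψ 5) := (ρ.comp C.subtype).codRestrict _ fun c => F.cent_E_map.le ⟨c, c.2, rfl⟩
  have t1 : Function.Surjective (e.toMonoidHom.comp θ0) := e.surjective.comp fun ⟨g, hg⟩ =>
    let ⟨c, a, b⟩ := F.cent_E_map.ge hg; ⟨⟨c, a⟩, Subtype.ext b⟩
  have t2 : ∀ c d, e.toMonoidHom.comp θ0 c = e.toMonoidHom.comp θ0 d ↔ ρ c = ρ d := fun c d => e.injective.eq_iff.trans Subtype.ext_iff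
  generalize e.toMonoidHom.comp θ0 = θ at t1 t2
  have t3 : ∀ c, θ c = 1 ↔ c.1 ∈ Q := fun c => by rw [← map_one θ, t2, ← F.mem]; simp
  let τ := κ.liftOfSurjective k1 ⟨θ, fun c hc => (t3 c).2 (F.E_Q ((k2 c).1 hc))⟩
  have u1 : ∀ c, τ (κ c) = θ c := fun c => κ.liftOfRightInverse_comp_apply _ _ _ c
  have u2 : Function.Surjective τ := fun y => let ⟨c, e⟩ := t1 y; ⟨κ c, (u1 c).trans e⟩
  have u3 : ∀ y, y ∈ τ.ker ↔ ∃ c : C, c.1 ∈ Q ∧ κ c = y := fun y => by
    obtain ⟨c, rfl⟩ := k1 y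
    rw [MonoidHom.mem_ker, u1, t3]
    exact ⟨fun a => ⟨c, a, rfl⟩, fun ⟨d, a, b⟩ => (t3 c).1 (by rw [← u1, ← b, u1, (t3 d).2 a])⟩
  have nz : zc w ≠ 1 := fun e => F.z_E ((k2 _).1 (k3.trans e))
  have cm : ∀ c d : C, c.1 ∈ Q → d.1 ∈ Q → κ c * κ d = κ d * κ c → B0 (ν c) (ν d) = 0 := fun c d hc hd e => (F.comm hc hd).1 (by_contra fun n => nz (by
    have : c * d = d * c * ⟨z, zC⟩ := Subtype.ext (F.ls.toES.anti hc hd n)
    rwa [← map_mul, this, map_mul, map_mul, k3, mul_eq_left] at e))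
  have E : ES τ.ker (zc w) := by
    refine ⟨(u3 _).2 ⟨_, F.ls.mem, k3⟩, nz, by rw [← k3, ← map_mul, ← map_one κ]; exact congrArg κ (Subtype.ext F.ls.sq), fun y _ => zc_cen y,
      fun y hy h => ?_, fun y hy y' hy' => ?_, fun y hy => ?_, ?_⟩
    · obtain ⟨c, a, rfl⟩ := (u3 y).1 hy
      have m := E_perp (F.lt c) fun m hm => by
        have := cm c ⟨_, F.s_PE hm⟩ a (F.sQ m) (h _ ((u3 _).2 ⟨_, F.sQ m, rfl⟩))
        rwa [F.sν m (PE_ok m hm).1] at this
      have m1 := F.mem_E.2 ⟨_, m, rfl⟩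
      have m2 : s (ν c) ∈ C := (F.cent_E_Q (F.sQ _)).2 (by rw [F.sν _ (F.lt _)]; exact (F.cent_E_Q a).1 c.2)
      rcases F.eq_or (F.sQ (ν c)) a (F.sν _ (F.lt _)) with b | b
      · exact .inl ((k2 c).2 (b ▸ m1))
      · exact .inr (by rw [show c = ⟨_, m2⟩ * ⟨z, zC⟩ from Subtype.ext b, map_mul, (k2 _).2 m1, one_mul, k3])
    · obtain ⟨c, a, rfl⟩ := (u3 y).1 hy
      obtain ⟨d, b, rfl⟩ := (u3 y').1 hy'
      rw [← k3, ← map_mul, ← map_mul, ← map_mul]
      exact (F.ls.comm _ a _ b).imp (fun e => congrArg κ (Subtype.ext e)) fun e => congrArg κ (Subtype.ext e)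
    · obtain ⟨c, a, rfl⟩ := (u3 y).1 hy
      rw [← k3, ← map_mul, ← map_one κ]
      exact (F.ls.sq_mem _ a).imp (fun e => congrArg κ (Subtype.ext e)) fun e => congrArg κ (Subtype.ext e)
    · obtain ⟨m, a, n, b, c⟩ := PE_nc
      refine ⟨_, (u3 _).2 ⟨⟨_, F.s_PE a⟩, F.sQ m, rfl⟩, _, (u3 _).2 ⟨⟨_, F.s_PE b⟩, F.sQ n, rfl⟩, fun e => c ?_⟩
      have := cm _ _ (F.sQ m) (F.sQ n) e
      rwa [F.sν m (PE_ok m a).1, F.sν n (PE_ok n b).1] at this
  have hs := Cfsg.Agent.S0270.result (F := ZMod 3) 2 le_rfl (by simp)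
  have c1 : Nat.card (PSp 2 (ZMod 3)) = 3 * 8640 := (Nat.card_congr e.toEquiv).symm.trans c0
  have : Finite (PSp 2 (ZMod 3)) := Nat.finite_of_card_ne_zero (by omega)
  have p : pCore 2 (centralizer ({w} : Set G)) = τ.ker := le_antisymm ((Subgroup.map_eq_bot_iff _).1 (eq_bot_iff.2 ((pCore_simple c1).le.trans'
    (le_pCore (hN := (pCore_normal _ _).map _ u2) ((isPGroup_pCore _ _).map _))))) (le_pCore E.isPGroup)
  have c2 : Nat.card τ.ker = 2 ^ 9 := by
    have a := card_comap_of_surjective k1 τ.ker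
    have l : closure ({s 5, s 10} : Set H) ≤ C := (closure_le _).2 (by
      rintro _ (rfl | rfl)
      exacts [mem_cent2.2 ⟨.refl _, F.c510⟩, mem_cent2.2 ⟨F.c510.symm, .refl _⟩])
    rw [show τ.ker.comap κ = (Q ⊓ C).subgroupOf C from Subgroup.ext fun c => by
        rw [mem_comap, MonoidHom.mem_ker, u1, t3, mem_subgroupOf]; exact (and_iff_left c.2).symm,
      show κ.ker = (closure ({s 5, s 10} : Set H)).subgroupOf C from Subgroup.ext k2, Nat.card_congr (subgroupOfEquivOfLe l).toEquiv,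
      Nat.card_congr (subgroupOfEquivOfLe inf_le_right).toEquiv, F.J_card, F.E_card] at a
    omega
  have c3 : centralizer (τ.ker : Set _) ≤ τ.ker := by
    refine (Subgroup.map_eq_bot_iff _).1 ((((inferInstance : (centralizer (τ.ker : Set _)).Normal).map τ u2).eq_bot_or_eq_top).resolve_right fun h => ?_)
    have fC : f 1 ∈ C := mem_cent2.2 ⟨F.f_s (by norm_num) (by decide +kernel), F.f_s (by norm_num) (by decide +kernel)⟩
    obtain ⟨y, a, b⟩ := h.ge (mem_top (θ ⟨_, fC⟩))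
    obtain ⟨c, rfl⟩ := k1 y
    rw [u1, t2, F.fρ 1 (by norm_num)] at b
    obtain ⟨m, m1, m2⟩ := PE_mv
    have := F.E_ν ((k2 (c * ⟨_, F.s_PE m1⟩ * c⁻¹ * (⟨_, F.s_PE m1⟩)⁻¹)).1 (by
      rw [map_mul, map_mul, map_mul, ← a _ ((u3 _).2 ⟨⟨_, F.s_PE m1⟩, F.sQ m, rfl⟩)]; simp))
    simp only [coe_mul, coe_inv] at this
    rw [F.mul (F.nm _ (F.sQ m)) (inv_mem (F.sQ m)), F.conj _ (F.sQ m), F.inv (F.sQ m), F.sν m (PE_ok m m1).1, b] at this
    exact m2 this
  refine ⟨fun h6 => h6 G w (by rw [← E.orderOf_eq]; exact orderOf_coe (zc w)) K hK (p ▸ E.isExtraspecial) (p ▸ c2) (p ▸ c3)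
    ((QuotientGroup.quotientMulEquivOfEq p).trans (QuotientGroup.quotientKerEquivOfSurjective τ u2)), Qg τ.ker, E.isPGroup.map _, fun g hg => ?_⟩
  have a : g ∈ centralizer ({w} : Set G) := mem_centralizer_singleton_iff.2 (hg _ (mem_Qg.2 E.mem)).symm
  have b : ∀ y ∈ τ.ker, y * ⟨g, a⟩ = ⟨g, a⟩ * y := fun y hy => Subtype.ext (hg _ (mem_Qg.2 hy))
  exact (E.of_cen _ (c3 b) fun y hy => (b y hy).symm).imp (congrArg Subtype.val) (congrArg Subtype.val)

theorem fix_odd [Finite G] {P : Subgroup G} (hP : IsPGroup 2 P) {D : Set G} (hD : Odd D.ncard) (h : ∀ p ∈ P, ∀ d ∈ D, p * d * p⁻¹ ∈ D) :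
    ∃ d ∈ D, ∀ p ∈ P, Commute p d := by
  have : Fact (Nat.Prime 2) := ⟨Nat.prime_two⟩
  let : MulAction P D := { smul p d := ⟨_, h p p.2 d d.2⟩, one_smul d := Subtype.ext (show (1 : G) * d * 1⁻¹ = d by simp)
                           mul_smul p q d := Subtype.ext (conj_conj' p.1 q.1 d.1).symm }
  obtain ⟨d, hd⟩ := hP.nonempty_fixed_point_of_prime_not_dvd_card D (by rw [Nat.card_coe_set_eq]; exact hD.not_two_dvd_nat)
  exact ⟨d, d.2, fun p hp => conj_eq_self_iff.1 (congrArg Subtype.val (hd ⟨p, hp⟩))⟩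

theorem fix_odd' [Finite G] {u : G} (hu : u * u = 1) {D : Set G} (hD : Odd D.ncard) (h : ∀ d ∈ D, u * d * u⁻¹ ∈ D) : ∃ d ∈ D, Commute u d := by
  obtain ⟨d, a, b⟩ := fix_odd (P := zpowers u) (fun ⟨x, hx⟩ => ⟨1, Subtype.ext (by
    rcases (mem_zpowers_invol hu).1 hx with rfl | rfl <;> simp [pow_two, *])⟩) hD fun p hp d hd => by
    rcases (mem_zpowers_invol hu).1 hp with rfl | rfl
    exacts [by simpa using hd, h d hd]
  exact ⟨d, a, b u (mem_zpowers u)⟩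

namespace TA
variable {z : G} {A : Subgroup G} {μ : ℕ → G} (h : TA z A μ)
include h

theorem comm (c d : ℕ) : Commute (μ c) (μ d) := elemAb_le_cent h.elem (h.all d) _ (h.all c)

theorem move [Finite G] {l l' : List ℕ} (h1 : l.Nodup ∧ l'.Nodup ∧ l.length = l'.length ∧ l.length ≤ 5 ∧ (∀ i ∈ l, i < 24) ∧ ∀ i ∈ l', i < 24) :
    ∃ g ∈ normalizer (A : Set G), ∀ i < l.length, ∀ j < l.length,
      g * μ (lp (l.getD i 0) ^^^ lp (l.getD j 0)) * g⁻¹ = μ (lp (l'.getD i 0) ^^^ lp (l'.getD j 0)) := by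
  obtain ⟨a, b, c, d, e, f⟩ := h1
  obtain ⟨θ, t1, -, t2⟩ := h.exists_θ
  have n : ∀ {l : List ℕ}, l.Nodup → (∀ i ∈ l, i < 24) → (l.map Golay.gc.pt).Nodup := fun a e =>
    a.map_on fun i hi j hj => (Golay.gc.pt_inj (e i hi) (e j hj)).1
  obtain ⟨σ, s1, s2⟩ := Golay.exists_M24_list (n a e) (n b f) (by simpa using c) (by simpa using d)
  obtain ⟨g, rfl⟩ := t1.ge s1
  have k : ∀ i < l.length, l.getD i 0 < 24 ∧ l'.getD i 0 < 24 ∧ θ g (Golay.gc.pt (l.getD i 0)) = Golay.gc.pt (l'.getD i 0) := fun i hi => by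
    rw [List.getD_eq_getElem _ _ hi, List.getD_eq_getElem _ _ (c ▸ hi)]
    exact ⟨e _ (List.getElem_mem _), f _ (List.getElem_mem _), by simpa [hi, c ▸ hi] using congrArg (·[i]?) s2⟩
  refine ⟨g, g.2, fun i hi j hj => ?_⟩
  have := t2 g (Golay.gc.pt (l.getD i 0)) (Golay.gc.pt (l.getD j 0))
  rwa [(k i hi).2.2, (k j hj).2.2, h.ep_mul, h.ep_mul, Golay.gc.idx_pt _ (k i hi).1, Golay.gc.idx_pt _ (k j hj).1,
    Golay.gc.idx_pt _ (k i hi).2.1, Golay.gc.idx_pt _ (k j hj).2.1] at this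

end TA

end Cfsg.Lib.Fi
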