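import Cfsg.Agent.Lib.Push.LXf

/-! Large extraspecial subgroups of order `2^13` with `z` weakly closed: commuting pairs (adapted from `Lib/Small/CoW1`). -/

set_option autoImplicit false

namespace Cfsg.Lib.Known2

open Subgroup Cfsg.Lib.Amalg
open scoped commutatorElement

variable {G : Type*} [Group G] [Finite G] {X : Set G} {E : G → Subgroup G} {z t s f x y y' u w e δ : G}

/-- weakly closed families, order `2^13` -/
structure W13 (X : Set G) (E : G → Subgroup G) : Prop where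
  ls : ∀ t ∈ X, LS (E t) t
  conj : ∀ t ∈ X, ∀ g, g * t * g⁻¹ ∈ X
  cE : ∀ t ∈ X, ∀ g, E (g * t * g⁻¹) = cj g (E t)
  wc : ∀ t ∈ X, ∀ r ∈ X, r ∈ E t → r = t
  card : ∀ t ∈ X, Nat.card (E t) = 8192

theorem LS.ab128 {Q Y : Subgroup G} (h : LS Q z) (hc : Nat.card Q = 8192) (hY : Y ≤ Q) (hz : z ∈ Y)
    (hab : ∀ a ∈ Y, ∀ b ∈ Y, a * b = b * a) : Nat.card Y ≤ 128 := by
  have h1 := h.card_mul_cent hY hz
  have h2 := card_le_of_le (show Y ≤ Q ⊓ 𝐂 Y from le_inf hY fun a ha b hb => hab b hb a ha)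
  nlinarith

namespace W13
variable (F : W13 X E)
include F

omit [Finite G] in
theorem big (t : G) (ht : t ∈ X) : 32 < Nat.card (E t) := by rw [F.card t ht]; norm_num

omit [Finite G] in
theorem cX (ht : t ∈ X) (x : G) : t * ⁅t, x⁆ ∈ X := cm_conj (F.ls t ht).sq x ▸ F.conj t ht x

omit [Finite G] in
theorem cm_triv (ht : t ∈ X) (h : ⁅t, x⁆ ∈ E t) : ⁅t, x⁆ = 1 :=
  mul_eq_left.1 (F.wc t ht _ (F.cX ht x) (mul_mem (F.ls t ht).mem h))

variable (p : Pa X z t)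
include p

omit [Finite G] in
theorem nm : t ∉ E z := fun h => p.ne (F.wc z p.hz t p.ht h)

omit [Finite G] in
theorem cen (h1 : δ ∈ E z) (h2 : δ ∈ E t) (hw : w ∈ E z) (hc : Commute t w) : Commute δ w := by
  by_contra h
  have := (F.ls t p.ht).norm w hc.symm δ h2
  rw [(F.ls z p.hz).toES.conj_anti hw h1 fun e => h e.symm, mul_mem_cancel_left h2] at this
  exact F.nm p.symm this

omit [Finite G] in
theorem sq1 (h1 : δ ∈ E z) (h2 : δ ∈ E t) : δ * δ = 1 :=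
  ((F.ls z p.hz).sq_mem δ h1).resolve_right fun e => F.nm p.symm (e ▸ mul_mem h2 h2)

omit [Finite G] in
theorem cm_inf (hw : w ∈ E z) (hc : Commute t w) (hu : u ∈ E t) (hc' : Commute u z) : ⁅u, w⁆ ∈ E z ⊓ E t :=
  Subgroup.mem_inf.2 ⟨(F.ls z p.hz).cm_mem hc' hw, by
    rw [← inv_mem_iff, commutatorElement_inv]; exact (F.ls t p.ht).cm_mem hc.symm hu⟩

theorem L (α : ∀ y ∈ E z, ⁅t, y⁆ ≠ z) (h1 : δ ∈ E z) (h2 : δ ∈ E t) (h3 : δ ≠ 1) : ∃ e ∈ E z, ⁅t, e⁆ = δ * z := by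
  obtain ⟨e, he, h | h⟩ := (F.ls z p.hz).perp (F.ls t p.ht).sq p.c h1 fun y hy e =>
    F.cen p h1 h2 hy (cm_one.1 (e.resolve_right (α y hy)))
  · exact absurd (h.trans (F.cm_triv p.ht (h ▸ h2))) h3
  · exact ⟨e, he, by rw [h, mul_assoc, (F.ls z p.hz).sq, mul_one]⟩

theorem M2 (h1 : δ ∈ E z) (h2 : δ ∈ E t) (h3 : δ ≠ 1) (hx : x ∈ E z) (hxd : Commute δ x) (ha : Commute t ⁅t, x⁆)
    (haz : ⁅t, x⁆ ≠ z) : ⁅t, x⁆ = 1 ∨ ⁅t, x⁆ = δ * z := by
  have h := F.ls z p.hz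
  have h' := F.ls t p.ht
  have hq := F.cX p.ht x
  have hm := h.cm_mem p.c hx
  refine or_iff_not_imp_left.2 fun h4 => ?_
  obtain ⟨e, he, h5⟩ := F.L ⟨p.ht, hq, fun e => h4 (mul_eq_left.1 e), (Commute.refl t).mul_left ha.symm⟩ (fun y _ e => haz (by
    have := F.cX hq y
    rw [e, mul_assoc, ← ha.eq, ← mul_assoc, h'.sq, one_mul] at this
    exact F.wc z p.hz _ this hm)) h2 (by
      rw [← cm_conj h'.sq, F.cE t p.ht, ← conj_eq_of_comm hxd.symm.eq]; exact conj_mem_cj x h2) h3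
  have := F.cX hq e
  rw [h5, h'.cen δ h2, mul_assoc, ← mul_assoc _ t, ← ha.eq, ← mul_assoc, ← mul_assoc, h'.sq, one_mul] at this
  rw [h.cen δ h1, ← F.wc z p.hz _ this (mul_mem hm h1), mul_assoc, F.sq1 p h1 h2, mul_one]

omit [Finite G] in
theorem sqa (α : ∀ y ∈ E z, ⁅t, y⁆ ≠ z) (hx : x ∈ E z) : ⁅t, x⁆ * ⁅t, x⁆ = 1 ∧ Commute t ⁅t, x⁆ := by
  have h := F.ls z p.hz
  have h1 := h.cm_cm (F.ls t p.ht).sq hx p.c
  have h2 := (h.sq_mem _ (h.cm_mem p.c hx)).resolve_right fun e => α _ (h.cm_mem p.c hx) (h1.trans e)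
  exact ⟨h2, cm_one.1 (h1.trans h2)⟩

theorem four (α : ∀ y ∈ E z, ⁅t, y⁆ ≠ z) (h1 : δ ∈ E z) (h2 : δ ∈ E t) (h3 : δ ≠ 1) :
    ∃ S : Set G, S.ncard ≤ 4 ∧ ∀ x ∈ E z, ⁅t, x⁆ ∈ S := by
  have h := F.ls z p.hz
  obtain ⟨y, hy, h4⟩ := h.toES.exists_anti h1 h3 fun e => F.nm p.symm (e ▸ h2)
  have key : ∀ x ∈ E z, ⁅t, x⁆ ∈ ({1, δ * z, ⁅t, y⁆, ⁅t, y⁆ * (y * (δ * z) * y⁻¹)} : Set G) := fun x hx => by
    by_cases h5 : Commute δ x
    · rcases F.M2 p h1 h2 h3 hx h5 (F.sqa p α hx).2 (α x hx) with e | e <;> simp [e]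
    have h6 := mul_mem (inv_mem hy) hx
    rw [← mul_inv_cancel_left y x, cm_mul]
    rcases F.M2 p h1 h2 h3 h6 ((h.cmul h1 (inv_mem hy) hx).2 (iff_of_false (fun e => h4 (Commute.inv_right_iff.1 e)) h5))
      (F.sqa p α h6).2 (α _ h6) with e | e <;> simp [e]
  exact ⟨_, ncard_four _ _ _ _, key⟩

theorem c128 (α : ∀ y ∈ E z, ⁅t, y⁆ ≠ z) : 128 ≤ Nat.card ↥(E z ⊓ centralizer {t}) := by
  have h := F.ls z p.hz
  have h' := F.ls t p.ht
  let S : Set G := {a | ∃ x ∈ E z, ⁅t, x⁆ = a}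
  have h5 := LS.card_le_of h'.sq (Q := E z) (S := S) fun x hx => ⟨x, hx, rfl⟩
  have hd : Disjoint S ((· * z) '' S) := by
    rw [Set.disjoint_left]
    rintro _ ⟨x, hx, rfl⟩ ⟨_, ⟨x', hx', rfl⟩, e⟩
    refine α (x'⁻¹ * x) (mul_mem (inv_mem hx') hx) ?_
    have e1 := cm_mul t x' (x'⁻¹ * x)
    rw [mul_inv_cancel_left, ← e] at e1
    have e2 : x' * ⁅t, x'⁻¹ * x⁆ * x'⁻¹ = z := (mul_left_cancel e1).symm
    calc _ = x'⁻¹ * (x' * ⁅t, x'⁻¹ * x⁆ * x'⁻¹) * x' := by group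
      _ = z := by rw [e2, h.cen _ (inv_mem hx')]; group
  have h6 : (S ∪ (· * z) '' S).ncard ≤ Nat.card ↥(E z ⊓ centralizer {t}) := Set.ncard_le_ncard (by
    rintro _ (⟨x, hx, rfl⟩ | ⟨_, ⟨x, hx, rfl⟩, rfl⟩)
    · exact ⟨h.cm_mem p.c hx, mem_cent_single.2 (F.sqa p α hx).2.symm⟩
    · exact ⟨mul_mem (h.cm_mem p.c hx) h.mem, mem_cent_single.2 ((F.sqa p α hx).2.mul_right p.c).symm⟩)
  rw [Set.ncard_union_eq hd, Set.ncard_image_of_injective _ (mul_left_injective z)] at h6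
  rw [F.card z p.hz] at h5
  nlinarith

theorem beta1 (hy : y ∈ E z) (hy' : ⁅t, y⁆ = z) : E z ⊓ E t = ⊥ := by
  have h := F.ls z p.hz
  have h' := F.ls t p.ht
  refine eq_bot_iff.2 fun δ ⟨h1, h2⟩ => mem_bot.2 (by_contra fun h3 => ?_)
  have h4 : ∀ x ∈ E z, ⁅t, x⁆ = z → ¬ Commute δ x := fun x hx e h4 => by
    obtain ⟨x', -, rfl⟩ := h.perp0 h'.sq p.c h1 hx e (fun w hw => F.cen p h1 h2 hw) h4
    exact h3 (F.cm_triv p.ht h2)
  rcases h.cent_P h1 (F.sq1 p h1 h2) (r := t) fun x hx e => by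
    have hm := h.cm_mem p.c hx
    have h5 := h.cm_cm h'.sq hx p.c
    rcases F.M2 p h1 h2 h3 hx e (cm_one.1 (h5.trans ((h.sq_mem _ hm).resolve_right fun e' => h4 _ hm (h5.trans e')
      (h.perp' h'.sq p.c hx h1 (Or.inl (cm_one.2 (h'.cen δ h2).symm))).symm))) (fun e' => h4 x hx e' e) with e' | e'
    · exact cm_one.1 e'
    · have := h.cm_mul_z hx hy'
      rw [e', mul_assoc, h.sq, mul_one] at this
      exact absurd (this.symm.trans (F.cm_triv p.ht (this ▸ h2))) h3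
    with (e | e) | (e | e) <;> refine F.nm p ?_ <;> rw [e]
  exacts [one_mem _, h.mem, h1, mul_mem h1 h.mem]

variable (h0 : E z ⊓ E t = ⊥)
include h0

omit [Finite G] in
theorem cw (hu : u ∈ E t) (hc : Commute u z) (hw : w ∈ E z) (hc' : Commute t w) : Commute u w :=
  cm_one.1 (mem_bot.1 (h0.le (F.cm_inf p hw hc' hu hc)))

omit [Finite G] in
theorem cw' (hu : u ∈ E t) (hc : Commute u z) (hx : x ∈ E z) (hw : w ∈ E z) (hc' : Commute t w) : Commute ⁅u, x⁆ w := by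
  rw [(F.ls z p.hz).dual hc hx hw, cm_one.2 (F.cw p h0 hu hc hw hc').inv_left]; exact Commute.one_right x

theorem ab (α : ∀ y ∈ E z, ⁅t, y⁆ ≠ z) (hu : u ∈ E t) (hc : Commute u z) (hw : w ∈ E t) (hc' : Commute w z) : Commute u w := by
  have h := F.ls z p.hz
  have k : ∀ u ∈ E t, Commute u z → ∀ x ∈ E z, Commute t ⁅u, x⁆ := fun u hu hc x hx => by
    obtain ⟨y, hy, e | e⟩ := h.perp (F.ls t p.ht).sq p.c (h.cm_mem hc hx) fun y hy e =>
      F.cw' p h0 hu hc hx hy (cm_one.1 (e.resolve_right (α y hy))) <;> rw [e]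
    exacts [(F.sqa p α hy).2, (F.sqa p α hy).2.mul_right p.c]
  have k' : ∀ u ∈ E t, Commute u z → ∀ w ∈ E t, Commute w z → ∀ x ∈ E z, u * w * x * (u * w)⁻¹ = ⁅w, x⁆ * ⁅u, x⁆ * x :=
    fun u hu hc w hw hc' x hx => by
      rw [← conj_eq_of_comm (F.cw p h0 hu hc (h.cm_mem hc' hx) (k w hw hc' x hx)).eq]
      simp only [commutatorElement_def]; group
  rcases h.selfc ((w * u)⁻¹ * (u * w)) fun x hx => comm_of_conj_eq (by
    calc _ = (w * u)⁻¹ * (u * w * x * (u * w)⁻¹) * (w * u) := by group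
      _ = _ := by
        rw [k' u hu hc w hw hc' x hx, (F.cw' p h0 hw hc' hx (h.cm_mem hc hx) (k u hu hc x hx)).eq, ← k' w hw hc' u hu hc x hx]
        group) with e | e
  · exact (inv_mul_eq_one.1 e).symm
  · exact absurd (e ▸ mul_mem (inv_mem (mul_mem hw hu)) (mul_mem hu hw)) (F.nm p.symm)

theorem surj (hy : y ∈ E z) (e : ⁅t, y⁆ = z) (hy' : y' ∈ E t) (e' : ⁅z, y'⁆ = t)
    (hc : Nat.card ↥(E z ⊓ centralizer {t}) ≤ Nat.card ↥(E t ⊓ centralizer {z})) (hw : w ∈ E z) (hw' : Commute t w) :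
    ∃ u ∈ E t, Commute u z ∧ ⁅u, y⁆ = w := by
  have h := F.ls z p.hz
  have h' := F.ls t p.ht
  have h1 : E (y * t * y⁻¹) ⊓ E t = ⊥ := by
    rw [cm_conj h'.sq, e, p.c.eq, ← cj_eq_bot_iff (g := y'⁻¹), cj_inf, ← F.cE _ p.ht, conj_eq_of_comm (h'.cen _ (inv_mem hy')),
      ← h0]
    nth_rewrite 1 [← e', ← cm_conj h.sq, F.cE z p.hz, cj_inv_cj]
    rfl
  obtain ⟨u, hu⟩ := (Function.Injective.bijective_of_nat_card_le (f := fun u : ↥(E t ⊓ centralizer {z}) =>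
    (⟨⁅u.1, y⁆, h.cm_mem (mem_cent_single.1 u.2.2) hy, mem_cent_single.2 (comm_of_conj_eq (by
      rw [conjugate_commutatorElement, conj_eq_of_comm (h'.cen _ u.2.1).symm, show t * y * t⁻¹ = ⁅t, y⁆ * y by
        simp [commutatorElement_def], e, ← h.cen y hy, h.cm_z (mem_cent_single.1 u.2.2)])).symm⟩ : ↥(E z ⊓ centralizer {t})))
    (fun a b e => by
      have h5 := (mul_mem (inv_mem a.2) b.2).1
      have h7 : y * ((a : G)⁻¹ * b) * y⁻¹ = (a : G)⁻¹ * b := by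
        calc _ = (a : G)⁻¹ * (⁅a.1, y⁆ * y * b * y⁻¹) := by simp only [commutatorElement_def]; group
          _ = _ := by rw [show ⁅a.1, y⁆ = ⁅b.1, y⁆ from congrArg Subtype.val e]; simp only [commutatorElement_def]; group
      exact Subtype.ext (inv_mul_eq_one.1 (mem_bot.1 (h1.le ⟨by rw [F.cE t p.ht, ← h7]; exact conj_mem_cj y h5, h5⟩)))) hc).2
    ⟨w, hw, mem_cent_single.2 hw'.symm⟩
  exact ⟨u, u.2.1, mem_cent_single.1 u.2.2, congrArg Subtype.val hu⟩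

theorem beta2 (hy : y ∈ E z) (e : ⁅t, y⁆ = z) (f1 : f * z * f⁻¹ = t) (f2 : f * t * f⁻¹ = z) : False := by
  have h := F.ls z p.hz
  have h' := F.ls t p.ht
  have hE : E t = cj f (E z) := f1 ▸ F.cE z p.hz f
  have S := fun {y w} hy e => F.surj (y := y) (w := w) p h0 hy e (hE ▸ conj_mem_cj f hy)
    (by rw [← f1, ← e, conjugate_commutatorElement, f2, e]) (by rw [hE, ← f2, ← cj_centralizer_singleton, f2, ← cj_inf, card_cj])
  have hab : ∀ a ∈ E z, ∀ b ∈ E z, Commute t a → Commute t b → Commute a b := fun a ha b hb h1 h2 => by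
    obtain ⟨u, hu, h3, rfl⟩ := S hy e ha h1
    exact F.cw' p h0 hu h3 hy hb h2
  by_cases h1 : ∀ x ∈ E z, ⁅t, x⁆ * ⁅t, x⁆ = 1
  · obtain ⟨w, hw, h2, h3⟩ : ∃ w ∈ E z, Commute t w ∧ w * w = z := by
      by_contra! hn
      obtain ⟨x, hx, rfl⟩ := h.perp0 h'.sq p.c hy hy e (fun w hw h2 => by
        obtain ⟨u, hu, h3, rfl⟩ := S hy e hw h2
        exact ((h.cm_sq h3 hy).2 ((h.sq_mem _ hw).resolve_right (hn _ hw h2))).symm) (Commute.refl y)
      exact h.ne (by rw [← e, h.cm_cm h'.sq hx p.c, h1 x hx])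
    have h4 : Commute (f * w * f⁻¹) z := f2 ▸ h2.symm.conj f
    exact F.nm p (h.ab4 h'.sq p.c hab hw h2 h3 h4 (by rw [conj_mul, h3, f1]) fun b hb hb' =>
      F.cw p h0 (hE ▸ conj_mem_cj f hw) h4 hb hb')
  push Not at h1
  obtain ⟨x, hx, h1⟩ := h1
  have ha := h.cm_mem p.c hx
  have h2 := (h.cm_cm h'.sq hx p.c).trans ((h.sq_mem _ ha).resolve_left h1)
  have h3 : ∀ g ∈ E z, (∀ w ∈ E z, Commute t w → Commute g w) → Commute g ⁅t, x⁆ → ⁅t, g⁆ = 1 ∨ ⁅t, g⁆ = z := fun g hg h3 h4 => by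
    obtain ⟨g', hg', rfl⟩ := h.perp0 h'.sq p.c hg ha h2 h3 h4
    rw [h.cm_cm h'.sq hg' p.c]; exact h.sq_mem _ hg
  obtain ⟨b, hb⟩ : ∃ b, ∀ g ∈ E z, (∀ w ∈ E z, Commute t w → Commute g w) → ⁅t, g⁆ ∈ ({1, z, b, b * z} : Set G) := by
    by_cases h4 : ∀ g ∈ E z, (∀ w ∈ E z, Commute t w → Commute g w) → Commute g ⁅t, x⁆
    · exact ⟨1, fun g hg h5 => by rcases h3 g hg h5 (h4 g hg h5) with e | e <;> simp [e]⟩
    push Not at h4
    obtain ⟨g₀, hg₀, h4, h5⟩ := h4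
    refine ⟨⁅t, g₀⁆, fun g hg h6 => ?_⟩
    by_cases h7 : Commute g ⁅t, x⁆
    · rcases h3 g hg h6 h7 with e | e <;> simp [e]
    rw [← mul_inv_cancel_left g₀ g, cm_mul]
    rcases h3 _ (mul_mem (inv_mem hg₀) hg) (fun w hw h8 => (h4 w hw h8).inv_left.mul_left (h6 w hw h8))
      ((h.cmul ha (inv_mem hg₀) hg).2 (iff_of_false (fun e => h5 (Commute.inv_right_iff.1 e).symm) fun e => h7 e.symm)).symm
      with e | e <;> simp [e, conj_eq_of_comm (h.cen g₀ hg₀)]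
  have h4 : Nat.card ↥(E z ⊓ centralizer {t}) ≤ 4 := le_trans (Set.ncard_le_ncard fun w hw => by
    obtain ⟨u, hu, h5, rfl⟩ := S ha h2 hw.1 (mem_cent_single.1 hw.2).symm
    have h6 := h.cm_mem h5 hx
    have h7 := hb _ h6 fun w hw h7 => F.cw' p h0 hu h5 hx hw h7
    rw [commutatorElement_def u, conjugate_commutatorElement, conj_eq_of_comm (h'.cen u hu), show u * x * u⁻¹ = ⁅u, x⁆ * x by
      simp [commutatorElement_def], cm_mul]
    rcases h.toES.conj_eq h6 ha with e | e <;> rw [e]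
    · rwa [mul_inv_cancel_right]
    · rw [h.cen _ ha, ← mul_assoc, mul_inv_cancel_right]
      rcases h7 with e | e | e | e <;> rw [e] <;> simp [mul_assoc, h.sq]) (ncard_four 1 z b (b * z))
  have h5 := ncard_two_mul (T := {a | ∃ x ∈ E z, ⁅t, x⁆ = a}) (S := (E z ⊓ centralizer {t} : Subgroup G)) ⁅t, x⁆ (by
    rintro _ ⟨g, hg, rfl⟩
    have h5 := h.cm_mem p.c hg
    have h6 := h.cm_cm h'.sq hg p.c
    refine (h.sq_mem _ h5).imp (fun e => ⟨h5, mem_cent_single.2 (cm_one.1 (h6.trans e)).symm⟩) fun e =>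
      ⟨mul_mem h5 ha, mem_cent_single.2 (cm_one.1 (by rw [h.cm_mul_z h5 h2, h6, e, h.sq])).symm⟩)
  have h6 := LS.card_le_of h'.sq (Q := E z) (S := {a | ∃ x ∈ E z, ⁅t, x⁆ = a}) fun x hx => ⟨x, hx, rfl⟩
  have h7 := F.big z p.hz
  change _ ≤ 2 * Nat.card ↥(E z ⊓ centralizer {t}) at h5
  nlinarith

theorem kk (α : ∀ y ∈ E z, ⁅t, y⁆ ≠ z) (hu : u ∈ E t) (hc : Commute u z) (hx : x ∈ E z) :
    Commute t ⁅u, x⁆ ∧ ⁅u, x⁆ * ⁅u, x⁆ = 1 := by
  have h := F.ls z p.hz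
  obtain ⟨y, hy, e | e⟩ := h.perp (F.ls t p.ht).sq p.c (h.cm_mem hc hx) fun y hy e =>
    F.cw' p h0 hu hc hx hy (cm_one.1 (e.resolve_right (α y hy))) <;> rw [e]
  exacts [⟨(F.sqa p α hy).2, (F.sqa p α hy).1⟩, ⟨(F.sqa p α hy).2.mul_right p.c, by
    rw [(show Commute z _ from (h.cen _ (h.cm_mem p.c hy)).symm).mul_mul_mul_comm, (F.sqa p α hy).1, h.sq, mul_one]⟩]

theorem sqA (α : ∀ y ∈ E z, ⁅t, y⁆ ≠ z) (hu : u ∈ E t) (hc : Commute u z) : u * u = 1 := by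
  have h := F.ls z p.hz
  refine ((F.ls t p.ht).sq_mem u hu).resolve_right fun e => F.nm p (h.mem_of_inner p.c fun x hx => Or.inl ?_)
  have k := F.kk p h0 α hu hc hx
  have k2 := F.cw p h0 hu hc (h.cm_mem hc hx) k.1
  have : t * x * t⁻¹ = u * ⁅u, x⁆ * u⁻¹ * ⁅u, x⁆ * x := by rw [← e]; simp only [commutatorElement_def]; group
  rw [this, conj_eq_of_comm k2, k.2, one_mul]

omit h0 in
theorem inj (H : ∀ z t, Pa X z t → E z ⊓ E t = ⊥) (α' : ∀ y ∈ E t, ⁅z, y⁆ ≠ t) (hy : y ∈ E z) (hn : ¬ Commute t y)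
    (hc : Commute t ⁅t, y⁆) (hB : ∀ u ∈ E t, Commute u z → Commute t ⁅u, y⁆) : False := by
  have h := F.ls z p.hz
  have h' := F.ls t p.ht
  have h1 : E (y * t * y⁻¹) ⊓ E t = ⊥ := H _ _ ⟨F.conj t p.ht y, p.ht, fun e => hn (comm_of_conj_eq e.symm).symm, by
    rw [cm_conj h'.sq]; exact (Commute.refl t).mul_right hc⟩
  have hab : ∀ a ∈ E z, Commute t a → ∀ b ∈ E z, Commute t b → Commute a b := fun a ha h1 b hb h2 =>
    F.ab p.symm (H _ _ p.symm) α' ha h1.symm hb h2.symm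
  let A : Subgroup G := E z ⊓ centralizer {t} ⊓ centralizer {y}
  have h2 : Nat.card ↥(E t ⊓ centralizer {z}) ≤ Nat.card A := Nat.card_le_card_of_injective
    (fun u => ⟨⁅u.1, y⁆, ⟨h.cm_mem (mem_cent_single.1 u.2.2) hy,
      mem_cent_single.2 (hB _ u.2.1 (mem_cent_single.1 u.2.2)).symm⟩, mem_cent_single.2
      ((h.cm_sq (mem_cent_single.1 u.2.2) hy).2 (F.sqA p.symm (H _ _ p.symm) α' (h.cm_mem (mem_cent_single.1 u.2.2) hy)
        (hB _ u.2.1 (mem_cent_single.1 u.2.2)).symm))⟩)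
    (fun a b e => by
      have h5 := (mul_mem (inv_mem a.2) b.2).1
      have h7 : y * ((a : G)⁻¹ * b) * y⁻¹ = (a : G)⁻¹ * b := by
        calc _ = (a : G)⁻¹ * (⁅a.1, y⁆ * y * b * y⁻¹) := by simp only [commutatorElement_def]; group
          _ = _ := by rw [show ⁅a.1, y⁆ = ⁅b.1, y⁆ from congrArg Subtype.val e]; simp only [commutatorElement_def]; group
      exact Subtype.ext (inv_mul_eq_one.1 (mem_bot.1 (h1.le ⟨by rw [F.cE t p.ht, ← h7]; exact conj_mem_cj y h5, h5⟩))))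
  have h3 := F.c128 p.symm α'
  have hle : A ⊔ zpowers y ≤ E z := sup_le (fun a ha => ha.1.1) (zpowers_le.2 hy)
  have hA : ∀ a ∈ A, A ⊔ zpowers y ≤ centralizer {a} := fun a ha =>
    sup_le (fun b hb => mem_cent_single.2 (hab b hb.1.1 (mem_cent_single.1 hb.1.2).symm a ha.1.1
      (mem_cent_single.1 ha.1.2).symm)) (zpowers_le.2 (mem_cent_single.2 (mem_cent_single.1 ha.2).symm))
  have h4 := h.ab128 (F.card z p.hz) hle (mem_sup_left ⟨⟨h.mem, mem_cent_single.2 p.c.symm⟩,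
    mem_cent_single.2 (h.cen y hy).symm⟩) fun a ha b hb => by
      have : A ⊔ zpowers y ≤ centralizer {a} := sup_le (fun c hc => mem_cent_single.2
        (mem_cent_single.1 (hA c hc ha)).symm) (zpowers_le.2 (mem_cent_single.2 (mem_cent_single.1
          ((sup_le (fun c hc => hc.2) (zpowers_le.2 (mem_cent_single.2 rfl)) : A ⊔ zpowers y ≤ centralizer {y}) ha)).symm))
      exact (mem_cent_single.1 (this hb)).symm
  have h5 := KS9.mul_card_le_of_lt (h.toES.isPGroup.to_le hle) (lt_of_le_of_ne (le_sup_left (b := zpowers y)) fun e =>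
    hn (mem_cent_single.1 (e.ge (mem_sup_right (mem_zpowers y))).1.2).symm)
  omega

omit h0 in
theorem nob (H : ∀ z t, Pa X z t → E z ⊓ E t = ⊥) (α' : ∀ y ∈ E t, ⁅z, y⁆ ≠ t) : False := by
  have h := F.ls z p.hz
  have h' := F.ls t p.ht
  by_cases α : ∀ y ∈ E z, ⁅t, y⁆ ≠ z
  · obtain ⟨y, hy, hn⟩ : ∃ y ∈ E z, ¬ Commute t y := by
      by_contra! hn
      exact F.nm p (h.mem_of_inner p.c fun x hx => Or.inl (conj_eq_of_comm (hn x hx)))
    exact F.inj p H α' hy hn (F.sqa p α hy).2 fun u hu hc => (F.kk p (H _ _ p) α hu hc hy).1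
  push Not at α
  obtain ⟨y, hy, e⟩ := α
  refine F.inj p H α' hy (fun e' => h.ne (e.symm.trans (cm_one.2 e'))) (e ▸ p.c) fun u hu hc => comm_of_conj_eq ?_
  rw [conjugate_commutatorElement, conj_eq_of_comm (h'.cen _ hu).symm, show t * y * t⁻¹ = ⁅t, y⁆ * y by
    simp [commutatorElement_def], e, ← h.cen y hy, h.cm_z hc]

omit h0 in
theorem allbot (H : ∀ z t, Pa X z t → E z ⊓ E t = ⊥) : False := by
  have h := F.ls z p.hz
  have h' := F.ls t p.ht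
  by_cases α' : ∀ y ∈ E t, ⁅z, y⁆ ≠ t
  · exact F.nob p H α'
  by_cases α : ∀ y ∈ E z, ⁅t, y⁆ ≠ z
  · exact F.nob p.symm H α
  push Not at α α'
  obtain ⟨y, hy, e⟩ := α
  obtain ⟨y', hy', e'⟩ := α'
  have a1 : y * z * y⁻¹ = z := conj_eq_of_comm (h.cen y hy)
  have a2 : y * t * y⁻¹ = t * z := by rw [cm_conj h'.sq, e]
  have b1 : y' * t * y'⁻¹ = t := conj_eq_of_comm (h'.cen y' hy')
  have b2 : y' * z * y'⁻¹ = z * t := by rw [cm_conj h.sq, e']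
  refine F.beta2 p (H _ _ p) hy e (f := y * y' * y) ?_ ?_
  · calc _ = y * (y' * (y * z * y⁻¹) * y'⁻¹) * y⁻¹ := by group
      _ = y * (z * t) * y⁻¹ := by rw [a1, b2]
      _ = y * z * y⁻¹ * (y * t * y⁻¹) := by group
      _ = t := by rw [a1, a2, p.c.eq, ← mul_assoc, h.sq, one_mul]
  · calc _ = y * (y' * (y * t * y⁻¹) * y'⁻¹) * y⁻¹ := by group
      _ = y * (y' * t * y'⁻¹ * (y' * z * y'⁻¹)) * y⁻¹ := by rw [a2]; group
      _ = z := by rw [b1, b2, ← p.c.eq, ← mul_assoc t, h'.sq, one_mul, a1]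

end W13
end Cfsg.Lib.Known2
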