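import Cfsg.Agent.Lib.Fi.Fx1
import Cfsg.Agent.Lib.Push.LXa

/-! More facts on `3·U₄(3)·2²` inside `O₁₂⁺(2)`. -/

set_option autoImplicit false
set_option maxRecDepth 100000

namespace Cfsg.Lib.Fi.Fw

open Cfsg.Lib.Comp Subgroup A12 Cfsg.Lib.Core Cfsg.Lib.Known2
open scoped commutatorElement

theorem H0_idx : H0.relIndex N0 = 2 := by
  have := card_mul_relIndex H0_N0
  rw [H0_card, N0_card] at this; omega

theorem GU_idx : GU0.relIndex N0 = 2 := by
  rw [← inf_relIndex_left]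
  exact (eq_of_index_two (H := N0 ⊓ GU0) le_rfl inf_le_left (fun h => e0_GU (h.ge (Py_le 4 e0_mem).1).2) (by
    have a := card_mul_relIndex (inf_le_left : N0 ⊓ GU0 ≤ N0)
    have b : 19595520 ≤ Nat.card ↥(N0 ⊓ GU0) := N0_GU ▸ k2 MO
    have c : (N0 ⊓ GU0).relIndex N0 ≠ 1 := fun e => e0_GU (relIndex_eq_one.1 e (Py_le 4 e0_mem).1).2
    rw [N0_card] at a ⊢
    generalize (N0 ⊓ GU0).relIndex N0 = r at a c
    rcases r with _ | _ | _ | r
    · omega
    · omega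
    · omega
    · nlinarith)).2

theorem two_comm {G : Type*} [Group G] {M H : Subgroup G} (h : M.relIndex H = 2) {a b : G} (ha : a ∈ H) (hb : b ∈ H) : ⁅a, b⁆ ∈ M := by
  rw [commutatorElement_def, mul_mem_two h (mul_mem (mul_mem ha hb) (inv_mem ha)) (inv_mem hb),
    mul_mem_two h (mul_mem ha hb) (inv_mem ha), mul_mem_two h ha hb, inv_mem_iff, inv_mem_iff]
  tauto

theorem N0_sq {a : G12} (ha : a ∈ N0) : a * a ∈ K1 :=
  H0_GU.le ⟨(mul_mem_two H0_idx ha ha).2 Iff.rfl, (mul_mem_two GU_idx ha ha).2 Iff.rfl⟩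

theorem N0_nm {R : Subgroup G12} (h1 : K1 ≤ R) (h2 : R ≤ N0) : N0 ≤ normalizer (R : Set G12) := fun g hg =>
  mem_normalizer_of_conj_mem fun y hy => by simpa [commutatorElement_def] using mul_mem (h1 (N0_comm hg (h2 hy))) hy

/-- The commutators with `g`. -/
def dS (g : G12) : Set ℕ := {a | ∃ n < 4096, a = ψ g n ^^^ n}

theorem big_bj {i : ℕ} (hi : i < 72) (h0 : bj i ≠ 1) : 5 ≤ (dS (bj i)).ncard := by
  have : (allN 72 fun i => cnd (Nat.beq i 0) true (Nat.ble 5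
    ((List.range 13).map fun k => ap parV (ent IL i) (2 ^ k % 4096) ^^^ 2 ^ k % 4096).dedup.length)) = true := by decide +kernel
  have := allN_iff.1 this i hi
  rw [cnd_eq, if_neg (fun e => h0 (by rw [beq_tt.1 e, bj_zero])), ble_tt, ← List.card_toFinset, ← Set.ncard_coe_finset] at this
  refine this.trans (Set.ncard_le_ncard (fun a ha => ?_) ((Set.finite_lt_nat 4096).subset ?_))
  · simp only [List.coe_toFinset, List.mem_map, Set.mem_ofPred_eq] at ha
    obtain ⟨k, -, rfl⟩ := ha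
    exact ⟨_, Nat.mod_lt _ (by norm_num), by rw [VO.ap]; rfl⟩
  · rintro _ ⟨n, hn, rfl⟩; exact xor_lt (G12.lt _ hn) hn

theorem big_H0 {t : G12} (ht : t ∈ H0) (h2 : t * t = 1) (h1 : t ≠ 1) : 5 ≤ (dS t).ncard := by
  haveI := Invol.fact_two
  obtain ⟨k, -, hk⟩ := T0_syl.exists_conj_le (isPGroup_zpowers_of_pow_eq_one (k := 1) (by rwa [pow_one, sq])) (zpowers_le.2 ht)
  obtain ⟨i, hi, e⟩ := exists_bj (hk (Amalg.conj_mem_cj k (mem_zpowers t))) (by rw [conj_mul, h2, mul_one, mul_inv_cancel])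
  refine (big_bj hi (e ▸ fun c => h1 (conj_eq_one_iff.1 c))).trans
    ((Set.ncard_le_ncard (t := ψ k '' dS t) ?_ (((Set.finite_lt_nat 4096).subset ?_).image _)).trans (Set.ncard_image_le ?_))
  · rintro _ ⟨n, hn, rfl⟩
    have l := G12.lt k⁻¹ hn
    exact ⟨_, ⟨_, l, rfl⟩, by rw [G12.xor k (G12.lt _ l) l, G12.ap_inv, e, G12.mul, G12.mul]⟩
  · rintro _ ⟨n, hn, rfl⟩; exact xor_lt (G12.lt _ hn) hn
  · exact (Set.finite_lt_nat 4096).subset (by rintro _ ⟨n, hn, rfl⟩; exact xor_lt (G12.lt _ hn) hn)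

end Cfsg.Lib.Fi.Fw
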