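import Cfsg.Agent.Lib.Fi.Fw3
import Cfsg.Agent.Lib.Fi.Fw1
import Cfsg.Agent.Lib.Known2.LE3

/-! Groups `2^{1+12}.3.U₄(3).X` with `X ≤ 2²`: the conjugates of `z` in `Q`. -/

set_option autoImplicit false

namespace Cfsg.Lib.Fi.Fw

open Cfsg.Lib.Comp Subgroup A12 Cfsg.Lib.Core Cfsg.Lib.Known2 Cfsg.Lib.Amalg
open scoped commutatorElement

variable {G : Type*} [Group G]

/-- The frame with the action between `K₁` and its normaliser. -/
structure FK (Q : Subgroup G) (z : G) (ν : G → ℕ) (ρ : G →* G12) : Prop extends Fr Q z ν ρ where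
  card : Nat.card Q = 2 ^ 13
  k1 : K1 ≤ ρ.range
  n0 : ρ.range ≤ N0

theorem exists_FK [Finite G] {Q N M : Subgroup G} {z : G} (h : LS Q z) (hz : ∀ g, g * z = z * g) (hQ : Nat.card Q = 2 ^ 13)
    (hQN : Q ≤ N) (hN : Nat.card N = 3 * Nat.card Q) (hM : Cov43 M N) [n : N.Normal] [m : M.Normal] :
    ∃ ν ρ, FK Q z ν ρ ∧ M.map ρ = K1 := by
  obtain ⟨x, xN, ox, fp⟩ := h.fpf hQ hQN hN hM fun g _ => mem_cent_single.2 (hz g)
  obtain ⟨ν, ρ, F, hx⟩ := exists_fr h hz hQ ⟨h.toES, hz x, h.norm x (hz x), ox ▸ pow_orderOf_eq_one x, fp⟩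
  have e : N.map ρ = zpowers X0 := by
    have := F.card_map (B := N)
    rw [inf_eq_right.2 hQN, hN] at this
    exact (eq_of_le_of_card_ge (zpowers_le.2 (mem_map.2 ⟨x, xN, hx⟩)) (by
      rw [Nat.card_zpowers, X0_ord, Nat.eq_of_mul_eq_mul_right Nat.card_pos this])).symm
  have c := e ▸ hM.map (f := ρ) (inf_le_left.trans (F.ker.le.trans hQN))
  have nm : ∀ {K : Subgroup G} [K.Normal] (ρ : G →* G12), ρ.range ≤ normalizer (K.map ρ : Set G12) := fun {K} k ρ => by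
    rw [MonoidHom.range_eq_map, ← normalizer_eq_top K]; exact le_normalizer_map _
  obtain ⟨g, -, hg⟩ := cls43 c (c.le (zpowers_le.2 (mem_cent_single.2 rfl)) fun a ha b hb =>
    comm_cent (e ▸ nm ρ (map_le_range _ _ ha)) (e ▸ nm ρ (map_le_range _ _ hb)))
  rw [map_map] at hg
  exact ⟨_, _, ⟨F.twist g, hQ, hg ▸ map_le_range _ _, by rw [← norm_K1, ← hg]; exact nm _⟩, hg⟩

theorem FK.twist {Q : Subgroup G} {z : G} {ν : G → ℕ} {ρ : G →* G12} (h : FK Q z ν ρ) {g : G12} (hg : g ∈ ρ.range) :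
    FK Q z (fun y => ψ g (ν y)) ((MulAut.conj g).toMonoidHom.comp ρ) ∧ ((MulAut.conj g).toMonoidHom.comp ρ).range = ρ.range := by
  have e : ((MulAut.conj g).toMonoidHom.comp ρ).range = ρ.range := by
    rw [MonoidHom.range_comp]; exact mem_normalizer_iff_map_conj_eq.1 (le_normalizer hg)
  exact ⟨⟨h.toFr.twist g, h.card, e ▸ h.k1, e ▸ h.n0⟩, e⟩

theorem ls_comap {H : Type*} [Group H] {Q : Subgroup G} {z : G} (h : LS Q z) (ι : H →* G) (hι : Function.Injective ι)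
    (hQ : Q ≤ ι.range) {w : H} (hw : ι w = z) : LS (Q.comap ι) w := by
  subst hw
  have sc : ∀ g, (∀ x ∈ Q.comap ι, g * x = x * g) → g = 1 ∨ g = w := fun g k =>
    (h.selfc (ι g) fun x hx => by
      obtain ⟨y, rfl⟩ := hQ hx
      rw [← map_mul, k y hx, map_mul]).imp (fun e => hι (e.trans (map_one ι).symm)) fun e => hι e
  refine ⟨⟨h.mem, fun e => h.ne (by rw [e, map_one]), hι (by rw [map_mul, h.sq, map_one]), fun x hx => hι ?_, fun x _ => sc x,
    fun x hx y hy => ?_, fun x hx => ?_, ?_⟩, sc, fun g k x hx => ?_⟩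
  · rw [map_mul, map_mul]; exact h.cen _ hx
  · exact (h.comm _ hx _ hy).imp (fun e => hι (by simpa using e)) fun e => hι (by simpa using e)
  · exact (h.sq_mem _ hx).imp (fun e => hι (by simpa using e)) fun e => hι (by simpa using e)
  · obtain ⟨x, a, y, b, e⟩ := h.nonab
    obtain ⟨x, rfl⟩ := hQ a
    obtain ⟨y, rfl⟩ := hQ b
    exact ⟨x, a, y, b, fun k => e (by rw [← map_mul, k, map_mul])⟩
  · rw [mem_comap, map_mul, map_mul, map_inv]
    exact h.norm _ (by rw [← map_mul, k, map_mul]) _ hx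

theorem fr_restrict {H : Type*} [Group H] {Q : Subgroup G} {z : G} {ν : G → ℕ} {ρ : G →* G12} (F : Fr Q z ν ρ) (ι : H →* G)
    (hι : Function.Injective ι) (hQ : Q ≤ ι.range) {w : H} (hw : ι w = z) : Fr (Q.comap ι) w (fun y => ν (ι y)) (ρ.comp ι) := by
  have l := ls_comap F.ls ι hι hQ hw
  subst hw
  exact
  { ls := l
    cen := fun g => hι (by rw [map_mul, map_mul]; exact F.cen _)
    lt := fun y => F.lt _
    mul := fun a b => by rw [map_mul]; exact F.mul a b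
    zero := fun a => by rw [F.zero a, F.ls.mem_zp, l.mem_zp, map_eq_one_iff ι hι, hι.eq_iff]
    sur := fun n hn => by
      obtain ⟨y, a, e⟩ := F.sur n hn
      obtain ⟨y, rfl⟩ := hQ a
      exact ⟨y, a, e⟩
    κ := fun a => (z2_ext (by rw [κ_zero, κ_zero, ← map_mul, map_eq_one_iff ι hι])).trans (F.κ a)
    β := fun a b => (z2_ext (by rw [β_zero, β_zero, ← map_mul, ← map_mul, hι.eq_iff])).trans (F.β a b)
    conj := fun g y a => by rw [map_mul, map_mul, map_inv]; exact F.conj _ a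
    ker := by rw [← MonoidHom.comap_ker, F.ker] }

theorem card_comap_inj {H : Type*} [Group H] {Q : Subgroup G} (ι : H →* G) (hι : Function.Injective ι) (hQ : Q ≤ ι.range) :
    Nat.card (Q.comap ι) = Nat.card Q := by
  rw [← card_map_of_injective (K := Q.comap ι) hι, map_comap_eq_self hQ]

namespace FK
variable {z : G} {Q : Subgroup (centralizer ({z} : Set G))} {ν : centralizer ({z} : Set G) → ℕ} {ρ : centralizer ({z} : Set G) →* G12}
  (F : FK Q (zc z) ν ρ)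
include F

theorem lsg : LS (Qg Q) z := by
  have h := F.ls
  have v := @Subtype.val_injective G (· ∈ centralizer {z})
  have sc : ∀ g, (∀ x ∈ Qg Q, g * x = x * g) → g = 1 ∨ g = z := fun g k =>
    (h.selfc ⟨g, mem_cent_single.2 (k z (mem_Qg.2 h.mem))⟩ fun x hx => v (k _ (mem_Qg.2 hx))).imp (congrArg Subtype.val) (congrArg Subtype.val)
  refine ⟨⟨mem_Qg.2 h.mem, fun e => h.ne (v e), congrArg Subtype.val h.sq, ?_, fun x _ => sc x, ?_, ?_, ?_⟩, sc, ?_⟩
  · rintro _ ⟨x, -, rfl⟩; exact mem_cent_single.1 x.2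
  · rintro _ ⟨x, a, rfl⟩ _ ⟨y, b, rfl⟩; exact (h.comm x a y b).imp (congrArg Subtype.val) (congrArg Subtype.val)
  · rintro _ ⟨x, a, rfl⟩; exact (h.sq_mem x a).imp (congrArg Subtype.val) (congrArg Subtype.val)
  · obtain ⟨x, a, y, b, e⟩ := h.nonab; exact ⟨_, mem_Qg.2 a, _, mem_Qg.2 b, fun k => e (v k)⟩
  · rintro g k _ ⟨x, a, rfl⟩; exact mem_Qg.2 (F.nm ⟨g, mem_cent_single.2 k⟩ a)

theorem cardg : Nat.card (Qg Q) = 2 ^ 13 := (card_map_of_injective (subtype_injective _)).trans F.card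

variable [Finite G]

theorem lp {s : centralizer ({z} : Set G)} {g : G} (hs : s ∈ Q) (hg : g * z * g⁻¹ = s) (n : s.1 ≠ z) : LP (Qg Q) (cj g (Qg Q)) z s :=
  hg ▸ F.lsg.lp (hg ▸ mem_Qg.2 hs) (hg ▸ n) (by rw [F.cardg]; norm_num)

theorem sing {s : centralizer ({z} : Set G)} {g : G} (hs : s ∈ Q) (hg : g * z * g⁻¹ = s) (n : s.1 ≠ z) :
    A12.O1.testBit (ν s) = true ∨ A12.O2.testBit (ν s) = true :=
  sing_iff.2 ⟨F.lt s, (F.sq hs).1 (Subtype.ext (F.lp hs hg n).r.sq), (F.ne_zero hs).2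
    ⟨fun e => (F.lp hs hg n).r.ne (congrArg Subtype.val e), fun e => n (congrArg Subtype.val e)⟩⟩

theorem key {s : centralizer ({z} : Set G)} {g : G} (hs : s ∈ Q) (hg : g * z * g⁻¹ = s) (n : s.1 ≠ z) (h5 : ν s = 5 ∨ ν s = 85) :
    ν s = 85 ∧ ((cj g (Qg Q)).subgroupOf _).map ρ = Py 4 := by
  have L := F.lp hs hg n
  obtain ⟨y, hy, k⟩ := L.r.exists_anti L.zQ L.l.ne L.ne.symm
  have c1 := L.r.card_two le_rfl L.zQ hy k
  have c2 := L.l.card_ab F.cardg inf_le_left ⟨L.l.mem, L.zQ⟩ L.elem.1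
  have c3 := F.card_map (B := (cj g (Qg Q)).subgroupOf _)
  rw [← card_map_of_injective (subtype_injective _), ← card_map_of_injective (K := _ ⊓ Q) (subtype_injective _),
    map_inf _ _ _ (subtype_injective _), subgroupOf_map_subtype, inf_assoc, inf_eq_right.2 (map_subtype_le Q), inf_comm _ (Qg Q)] at c3
  rw [card_cj, F.cardg] at c1
  have n0 : ν s ≠ 0 := by omega
  have l := (le_pCoreOf (p := 2) (K := ((cj g (Qg Q)).subgroupOf _).map ρ) (M := ρ.range ⊓ stab ψ (ν s)) (F.cent_map hs n0 ▸ map_mono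
    fun x hx => mem_cent_single.2 (Subtype.ext (L.r.cen _ hx))) (F.cent_map hs n0 ▸ (map_mono fun x hx =>
      mem_normalizer_of_conj_mem fun y hy => L.r.norm _ (congrArg Subtype.val (mem_cent_single.1 hx)) _ hy).trans (le_normalizer_map _))
    (L.r.isPGroup.comap_subtype.map _)).trans (pCoreOf_le_pCoreOf (M := N0 ⊓ stab ψ (ν s)) (inf_le_inf_right _ F.n0) (le_normalizer_inf
      (inf_le_left.trans (N0_nm F.k1 F.n0)) (inf_le_right.trans le_normalizer)))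
  have c4 := card_le_of_le l
  rcases h5 with e | e <;> rw [e] at l c4
  · rw [op5] at c4; nlinarith
  rw [op85] at l c4
  have c5 := Py_card (i := 4) (by norm_num)
  have : Nat.card (((cj g (Qg Q)).subgroupOf _).map ρ) = 32 := le_antisymm (by omega) (by nlinarith)
  exact ⟨e, eq_of_le_of_card_ge l (by omega)⟩

theorem key2 {s : centralizer ({z} : Set G)} {g : G} (hs : s ∈ Q) (hg : g * z * g⁻¹ = s) (n : s.1 ≠ z) :
    A12.O2.testBit (ν s) = true ∧ H0 ≤ ρ.range ∧ ∀ c : centralizer ({z} : Set G), c.1 ∈ cj g (Qg Q) → ρ c ∈ H0 := by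
  rcases F.sing hs hg n with k | k
  · obtain ⟨u, hu, e⟩ := (orb1.1 _).1 k
    have := ((F.twist (F.k1 (inv_mem hu))).1.key hs hg n (.inl (by rw [← e, G12.inv_ap]))).1
    rw [← e, G12.inv_ap] at this
    omega
  obtain ⟨u, hu, e⟩ := (orb2.1 _).1 k
  obtain ⟨F', r⟩ := F.twist (F.k1 (inv_mem hu))
  have p := (F'.key hs hg n (.inr (by rw [← e, G12.inv_ap]))).2
  refine ⟨k, H0_eq ▸ sup_le (zpowers_le.2 (r ▸ map_le_range _ _ (p.ge e0_mem))) F.k1, fun c hc => ?_⟩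
  have : u⁻¹ * ρ c * u⁻¹⁻¹ ∈ H0 := T0_le (PS_mono (by norm_num) le_rfl (p.le (mem_map_of_mem _ hc)))
  rwa [mul_mem_cancel_right (inv_mem (inv_mem (K1_H0 hu))), mul_mem_cancel_left (inv_mem (K1_H0 hu))] at this

theorem nwc (hQ : Q = pCore 2 _) (r : ρ.range ≤ H0) {g : G} (hc : Commute z (g * z * g⁻¹)) (hne : g * z * g⁻¹ ≠ z) :
    ∃ g : G, g * z * g⁻¹ ∈ Qg Q ∧ g * z * g⁻¹ ≠ z := by
  by_contra! hn
  have l := F.lsg
  have c := F.cardg
  have hE : Qg Q = pCoreOf 2 (centralizer {z}) := by rw [hQ]; rfl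
  rw [hE] at hn l c
  have W : W13 {t | ∃ g, g * z * g⁻¹ = t} fun t => pCoreOf 2 (centralizer {t}) :=
    { ls := by rintro _ ⟨k, rfl⟩; rw [← cj_Qc]; exact l.conj k
      conj := by rintro _ ⟨k, rfl⟩ l; exact ⟨l * k, by group⟩
      cE := fun t _ k => (cj_Qc k t).symm
      wc := by
        rintro _ ⟨k, rfl⟩ _ ⟨l, rfl⟩ h
        rw [← cj_Qc, mem_cj] at h
        have := hn (k⁻¹ * l) (by convert h using 1; group)
        calc l * z * l⁻¹ = k * (k⁻¹ * l * z * (k⁻¹ * l)⁻¹) * k⁻¹ := by group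
          _ = _ := by rw [this]
      card := by rintro _ ⟨k, rfl⟩; rw [← cj_Qc, card_cj, c]; rfl }
  have key : ∀ t, Pa {t | ∃ g, g * z * g⁻¹ = t} z t → pCoreOf 2 (centralizer {z}) ⊓ pCoreOf 2 (centralizer {t}) = ⊥ := fun t p => by
    by_contra h0
    obtain ⟨⟨δ, h1, h2⟩, h3⟩ := ne_bot_iff_exists_ne_one.1 h0
    obtain ⟨S, s1, s2⟩ := W.four p (fun y hy e => h0 (W.beta1 p hy e)) h1 h2 fun e => h3 (Subtype.ext e)
    let t' : centralizer ({z} : Set G) := ⟨t, mem_cent_single.2 p.c⟩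
    have := big_H0 (r ⟨t', rfl⟩) (by rw [← map_mul, show t' * t' = 1 from Subtype.ext (W.ls t p.ht).sq, map_one])
      fun e => W.nm p (hE ▸ mem_Qg.2 (F.mem.1 e))
    refine absurd (this.trans ((Set.ncard_le_ncard (t := ν '' (Subtype.val ⁻¹' S)) ?_).trans ((Set.ncard_image_le).trans
      ((Set.ncard_le_ncard_of_injOn (t := S) Subtype.val (fun _ h => h) Subtype.val_injective.injOn).trans s1)))) (by norm_num)
    rintro _ ⟨n, hn, rfl⟩
    obtain ⟨y, hy, rfl⟩ := F.sur n hn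
    exact ⟨⁅t', y⁆, s2 y (hE ▸ mem_Qg.2 hy), by rw [commutatorElement_def, F.mul (F.nm _ hy) (inv_mem hy), F.inv hy, F.conj _ hy]⟩
  refine W.allbot (z := z) ⟨⟨1, by group⟩, ⟨g, rfl⟩, hne, hc.symm⟩ ?_
  rintro _ t ⟨⟨k, rfl⟩, ht, h1, h2⟩
  have := key (k⁻¹ * t * k⁻¹⁻¹) ⟨⟨1, by group⟩, W.conj t ht _, fun e => h1 (by rw [← e]; group),
    by simpa [mul_assoc] using h2.conj k⁻¹⟩
  rw [← cj_eq_bot_iff (g := k), cj_inf, cj_Qc, cj_Qc] at this
  convert this using 5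
  group

end FK
end Cfsg.Lib.Fi.Fw
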