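import Cfsg.Agent.Lib.Fi.Fw4
import Cfsg.Agent.S3300
import Cfsg.Agent.Lib.Block.ZStar

/-! Groups with an involution centraliser `2^{1+12}.3.U₄(3).X`. -/

set_option autoImplicit false
set_option maxRecDepth 100000

namespace Cfsg.Lib.Fi.Fw

open Cfsg.Lib.Comp Subgroup A12 Cfsg.Lib.Core Cfsg.Lib.Known2 Cfsg.Lib.Amalg
open scoped commutatorElement

universe u

theorem FK.two {H : Type*} [Group H] [Finite H] {Q B : Subgroup H} {z : H} {ν : H → ℕ} {ρ : H →* G12} (F : FK Q z ν ρ)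
    (hB : B.index = 2) : Q ≤ B ∧ K1 ≤ B.map ρ := by
  have hB' : B.relIndex ⊤ = 2 := by rwa [relIndex_top_right]
  have c : ∀ a b : H, ⁅a, b⁆ ∈ B := fun a b => two_comm hB' trivial trivial
  have s : ∀ a : H, a * a ∈ B := fun a => (mul_mem_two hB' trivial trivial).2 Iff.rfl
  obtain ⟨x, hx⟩ := F.k1 (K1_cov.1 (mem_zpowers X0))
  have zB : z ∈ B := by
    obtain ⟨a, ha, b, hb, e⟩ := F.ls.nonab
    have := c b⁻¹ a⁻¹
    rwa [commutatorElement_def, inv_inv, inv_inv, mul_assoc, mul_assoc, F.ls.comm b hb a ha |>.resolve_left e.symm, mul_assoc,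
      inv_mul_cancel_left, inv_mul_cancel_left] at this
  refine ⟨fun y hy => ?_, K1_cov.le (zpowers_le.2 ⟨_, mul_mem (s x) (s x), ?_⟩) fun a ha b hb => ?_⟩
  · have h1 := F.nm x hy
    have h2 := F.nm x h1
    have : ∀ n < 4096, xm (xm n) ^^^ xm n = n := by decide +kernel
    have e : ν ⁅x, x * y * x⁻¹⁆ = ν y := by
      rw [commutatorElement_def, F.mul h2 (inv_mem h1), F.inv h1, F.conj x h1, F.conj x hy, hx, X0_ap (G12.lt _ (F.lt y)),
        X0_ap (F.lt y), this _ (F.lt y)]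
    rcases F.eq_or (mul_mem h2 (inv_mem h1)) hy e with e | e <;> rw [e]
    exacts [c _ _, mul_mem (c _ _) zB]
  · have := pow_orderOf_eq_one X0
    rw [X0_ord] at this
    rw [map_mul, map_mul, hx, show X0 * X0 * (X0 * X0) = X0 ^ 3 * X0 by simp only [pow_succ, pow_zero, one_mul, mul_assoc], this, one_mul]
  · obtain ⟨a, rfl⟩ := F.k1 ha
    obtain ⟨b, rfl⟩ := F.k1 hb
    exact ⟨_, c a b, map_commutatorElement ρ a b⟩

theorem nwc (n : ℕ) : ∀ (G : Type u) [Group G] [Finite G], Nat.card G = n → ∀ (z : G) ν ρ,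
    FK (pCore 2 (centralizer {z})) (zc z) ν ρ → (∃ g, Commute z (g * z * g⁻¹) ∧ g * z * g⁻¹ ≠ z) →
    ∃ g : G, g * z * g⁻¹ ∈ Qg (pCore 2 (centralizer {z})) ∧ g * z * g⁻¹ ≠ z := by
  induction n using Nat.strong_induction_on with | _ n ih => ?_
  rintro G _ _ rfl z ν ρ F ⟨g, hc, hne⟩
  haveI := Invol.fact_two
  by_cases r : ρ.range ≤ H0
  · exact F.nwc rfl r hc hne
  have l := F.lsg
  by_cases hG : ∀ K : Subgroup G, K.index ≠ 2
  · have i : (H0.comap ρ).index = 2 := by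
      have a := relIndex_le_of_le_right (H := H0) F.n0 (by rw [H0_idx]; norm_num)
      have b := mt relIndex_eq_one.1 r
      have c := (H0.comap ρ).index_ne_zero_of_finite
      rw [index_comap] at c ⊢
      rw [H0_idx] at a; omega
    haveI := normal_of_index_eq_two i
    refine Cfsg.Agent.S3300.result (Invol.pResidual_two_eq_top_iff.2 hG) z (orderOf_eq_prime (by rw [sq, l.sq]) l.ne) _ rfl l.isExtraspecial
      (fun g k => ?_) 6 (by norm_num) F.cardg ((H0.comap ρ).map (centralizer {z}).subtype) (map_subtype_le _) (fun h hh => ?_) ?_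
    · rcases l.selfc g fun x hx => (k x hx).symm with rfl | rfl
      exacts [one_mem _, l.mem]
    · exact mem_normalizer_iff_map_conj_eq.1 (le_normalizer_map (centralizer {z}).subtype ⟨⟨h, hh⟩, (normalizer_eq_top _).ge trivial, rfl⟩)
    · rw [relIndex, subgroupOf, comap_map_eq_self_of_injective (subtype_injective _), i]
  push Not at hG
  obtain ⟨K, hK⟩ := hG
  have nl : ¬ centralizer {z} ≤ K := fun h => by
    have := l.odd_index.of_dvd_nat (index_dvd_of_le h)
    rw [hK] at this; exact absurd this (by decide)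
  haveI := normal_of_index_eq_two hK
  have i : (K.subgroupOf (centralizer {z})).index = 2 :=
    ((Nat.dvd_prime Nat.prime_two).1 (hK ▸ relIndex_dvd_index_of_normal K _)).resolve_left fun e => nl (relIndex_eq_one.1 e)
  obtain ⟨q, k⟩ := F.two i
  let w : K := ⟨z, q F.ls.mem⟩
  let ι : centralizer ({w} : Set K) →* centralizer ({z} : Set G) := (K.subtype.comp (centralizer {w}).subtype).codRestrict _
    fun x => mem_cent_single.2 (congrArg Subtype.val (mem_cent_single.1 x.2))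
  have hι : Function.Injective ι := fun a b e => Subtype.ext (Subtype.ext (congrArg (fun x : centralizer ({z} : Set G) => x.1) e :))
  have rι : ι.range = K.subgroupOf _ := le_antisymm (by rintro _ ⟨x, rfl⟩; exact x.1.2) fun x hx =>
    ⟨⟨⟨x, hx⟩, mem_cent_single.2 (Subtype.ext (mem_cent_single.1 x.2))⟩, rfl⟩
  have e : (pCore 2 _).comap ι = pCore 2 _ := by
    haveI := normal_of_index_eq_two i
    have := map_op_of_injective (p := 2) hι ⊤
    rw [← MonoidHom.range_eq_map, rι, op_eq_inf (K := K.subgroupOf _) le_top (normalizer_eq_top _).ge, Amalg.op_top, Amalg.op_top, inf_eq_left.2 q] at this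
    rw [← this, comap_map_eq_self_of_injective hι]
  have F' : FK (pCore 2 _) (zc w) (fun y => ν (ι y)) (ρ.comp ι) := e ▸
    ⟨fr_restrict F.toFr ι hι (rι ▸ q) rfl, (card_comap_inj ι hι (rι ▸ q)).trans F.card, by rwa [MonoidHom.range_comp, rι],
      by rw [MonoidHom.range_comp]; exact (map_le_range _ _).trans F.n0⟩
  obtain ⟨a, ha, b, hb⟩ : ∃ a ∈ K, ∃ b : centralizer ({z} : Set G), a * b = g := by
    obtain ⟨h, h1, h2⟩ := SetLike.not_le_iff_exists.1 nl
    by_cases m : g ∈ K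
    · exact ⟨g, m, 1, mul_one g⟩
    · exact ⟨g * h⁻¹, (mul_mem_iff_of_index_two hK).2 (by rw [inv_mem_iff]; tauto), ⟨h, h1⟩, by simp⟩
  have e2 : g * z * g⁻¹ = a * z * a⁻¹ := by
    rw [← hb, mul_assoc a, mem_cent_single.1 b.2]; group
  rw [e2] at hc hne
  obtain ⟨c, ⟨y, h1, h2⟩, h3⟩ := ih _ (by have := K.card_mul_index; rw [hK] at this; have := @Nat.card_pos K _ _; omega) K rfl w _ _ F'
    ⟨⟨a, ha⟩, Subtype.ext hc, fun e => hne (congrArg Subtype.val e)⟩
  exact ⟨c, ⟨ι y, by rw [← e] at h1; exact h1, congrArg Subtype.val h2⟩, fun e => h3 (Subtype.ext e)⟩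

theorem main {G : Type u} [Group G] [Finite G] (z : G) (hz : orderOf z = 2) {L : Type*} [Field L] [Fintype L] (hL : Fintype.card L = 9)
    (hJ : IsExtraspecial 2 (pCore 2 (centralizer {z}))) (hJc : Nat.card (pCore 2 (centralizer {z})) = 2 ^ 13)
    (hCJ : centralizer (pCore 2 (centralizer {z}) : Set (centralizer ({z} : Set G))) ≤ pCore 2 (centralizer {z}))
    (M K : Subgroup (centralizer ({z} : Set G))) [M.Normal] [K.Normal] (hJM : pCore 2 _ ≤ M) (hMK : M ≤ K)
    (hM3 : Nat.card M = 3 * Nat.card (pCore 2 (centralizer {z}))) (e : (K ⧸ M.subgroupOf K) ≃* PSU 4 L 3)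
    (h2 : IsOfLargeFischerTypeAt z (pCore 2 (centralizer {z})) → Nonempty (G ≃* Spor.Fi24'))
    (h4 : ∀ ν ρ, Fr (pCore 2 (centralizer {z})) (zc z) ν ρ → ρ.range = N0 →
      (∃ s ∈ pCore 2 (centralizer {z}), IsConj z s.1 ∧ s.1 ≠ z) → Nonempty (G ≃* Spor.Fi24)) :
    centralizer {z} ⊔ oddCore G = ⊤ ∨ (K.index = 2 ∧ Nonempty (G ≃* Spor.Fi24')) ∨
      (K.index = 4 ∧ (∀ x : centralizer ({z} : Set G) ⧸ K, x ^ 2 = 1) ∧ Nonempty (G ≃* Spor.Fi24)) := by
  haveI := Invol.fact_two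
  by_cases h : ∀ g, Commute z (g * z * g⁻¹) → g * z * g⁻¹ = z
  · refine .inl (eq_top_iff.2 fun g _ => ?_)
    have zz : z * z = 1 := by rw [← sq, ← hz, pow_orderOf_eq_one]
    have m : z * (g * z * g⁻¹) ∈ oddCore G := by
      simpa only [inv_eq_of_mul_eq_one_right zz, mul_assoc] using Block.z_star ⟨hz, h⟩ g
    obtain ⟨n, e⟩ := conj_of_odd_orderOf zz (by rw [conj_mul, zz, mul_one, mul_inv_cancel])
      ((odd_card_oddCore G).of_dvd_nat (orderOf_dvd_natCard _ m))
    refine (mul_mem_cancel_left (mem_sup_right (pow_mem m n))).1 (mem_sup_left (mem_cent_single.2 (mul_inv_eq_iff_eq_mul.1 ?_)))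
    exact Eq.trans (by group) e
  push Not at h
  obtain ⟨w, -, es⟩ := exists_ES hJ
  have sc := fun g (k : ∀ x ∈ pCore 2 (centralizer {z}), g * x = x * g) => es.of_cen g (hCJ fun x hx => (k x hx).symm) k
  obtain rfl : zc z = w := (sc _ fun x _ => (zc_cen x).symm).resolve_left fun k => by
    rw [show z = 1 from congrArg Subtype.val k, orderOf_one] at hz; omega
  obtain ⟨e'⟩ := U43x.iso hL
  obtain ⟨ν, ρ, F, hK⟩ := exists_FK ⟨es, sc, fun g _ x hx => Normal.conj_mem inferInstance x hx g⟩ zc_cen hJc hJM hM3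
    (Cov43.of hMK (e.trans e'.symm))
  obtain ⟨g, ⟨s, hs, h1⟩, h3⟩ := nwc _ G rfl z ν ρ F h
  replace h1 : s.1 = g * z * g⁻¹ := h1
  have eK : K = K1.comap ρ := by rw [← hK, comap_map_eq_self (F.ker.le.trans (hJM.trans hMK))]
  have i := card_mul_relIndex F.k1
  rw [← index_comap, ← eK, K1_card] at i
  have l := (F.key2 hs h1.symm (h1 ▸ h3)).2.1
  by_cases r : ρ.range = N0
  · rw [r, N0_card] at i
    refine .inr (.inr ⟨by omega, fun x => ?_, h4 ν ρ F.toFr r ⟨s, hs, isConj_iff.2 ⟨g, h1.symm⟩, h1 ▸ h3⟩⟩)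
    obtain ⟨x, rfl⟩ := QuotientGroup.mk_surjective x
    rw [← QuotientGroup.mk_pow, QuotientGroup.eq_one_iff, eK, sq, mem_comap, map_mul]
    exact N0_sq (F.n0 ⟨x, rfl⟩)
  rw [← (eq_of_index_two l F.n0 r (by rw [H0_card, N0_card])).1, H0_card] at i
  letI := Fintype.ofFinite (GaloisField 3 2)
  have c : Fintype.card (GaloisField 3 2) = 9 := by rw [← Nat.card_eq_fintype_card, GaloisField.card 3 2 (by norm_num)]; rfl
  obtain ⟨e''⟩ := U43x.iso c
  have i2 : K.index = 2 := by omega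
  exact .inr (.inl ⟨i2, h2 ⟨⟨hz, Layer.fstar_eq_pCore_iff.2 hCJ, hJ, hJc, g, ⟨h1 ▸ s.2, by simp only [← h1]; exact hs⟩, h3⟩, M, K, ‹_›, ‹_›,
    hJM, hMK, hM3, ⟨_, _, _, c, ⟨e.trans (e'.symm.trans e'')⟩⟩, i2⟩⟩)

end Cfsg.Lib.Fi.Fw
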