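import Cfsg.Agent.Lib.Fi.Fr5

/-! A unitary transvection in `3·U₄(3)·2²`. -/

set_option maxRecDepth 100000

namespace Cfsg.Lib.Fi

open Cfsg.Lib.Comp Subgroup A12 Cfsg.Lib.Core Cfsg.Lib.Known2 Cfsg.Lib.Amalg
open scoped commutatorElement

/-- The transvection. -/
noncomputable def τ0 : G12 := MO.v (ent yA 0) * e0
noncomputable def τa (n : ℕ) : ℕ := ap parV (ent yA 0) (ap parV (ent yA 4) n)
noncomputable def τk (k : ℕ) : ℕ := nth 0 [0, 0, 13, 8, 14, 4, 13, 0, 15, 0, 8, 4, 0, 15, 15, 14] k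
theorem τ_ap (n : ℕ) : ψ τ0 n = τa n := by rw [τ0, G12.mul, τa, VO.ap, VO.ap]; rfl

theorem Py_anti : Py 4 ≤ Py 1 ∧ Py 1 ≤ Py 0 := ⟨PS_mono (by norm_num) le_rfl, PS_mono (by norm_num) le_rfl⟩
theorem y0_mem : MO.v (ent yA 0) ∈ Py 0 := Py_eq 0 ▸ MO.ent_mem_cp _ _
theorem τ_T : τ0 ∈ Py 0 := mul_mem y0_mem (Py_anti.2 (Py_anti.1 e0_mem))
theorem τ_N0 : τ0 ∈ N0 := (Py_le 0 τ_T).1
theorem N0_mul {a b : G12} (ha : a ∈ N0) (hb : b ∈ N0) : a * b ∈ H0 ↔ (a ∈ H0 ↔ b ∈ H0) := by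
  have := (H0.subgroupOf N0).card_mul_index
  rw [card_subgroupOf_of_le H0_N0, H0_card, N0_card] at this
  exact mul_mem_iff_of_index_two (H := H0.subgroupOf N0) (by omega) (a := ⟨a, ha⟩) (b := ⟨b, hb⟩)
theorem T_H0 : Py 0 ⊓ H0 ≤ Py 1 :=
  (T0_syl.eq_of_le _ (le_inf Py_anti.2 T0_le) inf_le_right ((IsPGroup.of_card (Py_card (i := 0) (by norm_num))).to_le inf_le_left)).le
theorem τ_H0 : τ0 ∉ H0 := fun h => by
  have : Py 0 ≤ Py 1 := Py_eq 0 ▸ (MO.cp_cons _ _).le.trans (sup_le (zpowers_le.2 (T_H0 ⟨y0_mem, (mul_mem_cancel_right (T0_le (Py_anti.1 e0_mem))).1 h⟩)) (Py_eq 1).le)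
  have := card_le_of_le this
  rw [Py_card (by norm_num), Py_card (by norm_num)] at this; omega
theorem τ_GU : τ0 ∈ GU0 := mem_cent_single.2 (G12.ext_basis fun i hi => by
  have : ∀ i < 12, τa (xm (2 ^ i)) = xm (τa (2 ^ i)) ∧ 2 ^ i < 4096 := by decide +kernel
  rw [G12.mul, G12.mul, X0_ap (this i hi).2, X0_ap (G12.lt _ (this i hi).2), τ_ap, τ_ap, (this i hi).1])
theorem τ_WS {n : ℕ} (h : WS.testBit n = true) : ψ τ0 n = n := by
  obtain ⟨m, hm, rfl⟩ := WS_wc.1 h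
  have : ∀ m < 64, τa (wc m) = wc m := by decide +kernel
  rw [τ_ap, this m hm]
theorem τ_sq : τ0 * τ0 = 1 := G12.ext_basis fun i hi => by
  have : ∀ i < 12, τa (τa (2 ^ i)) = 2 ^ i := by decide +kernel
  rw [G12.mul, τ_ap, τ_ap, this i hi]; rfl
theorem τ_gj {k : ℕ} (hk : k < 16) : gj k * τ0 * (gj k)⁻¹ = τ0 * bj (τk k) := mul_inv_eq_iff_eq_mul.2 (G12.ext_basis fun i hi => by
  have : ∀ k < 16, ∀ i < 12, ap parV (ent GJ k) (τa (2 ^ i)) = τa (ap parV (ent IL (τk k)) (ap parV (ent GJ k) (2 ^ i))) := by decide +kernel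
  simpa only [G12.mul, τ_ap, VO.ap, bj, gj] using this k hk i hi)
theorem τ_mv {j k : ℕ} (hj : j < 16) (hk : k < 16) : gj k * (τ0 * bj j) * (gj k)⁻¹ = τ0 * bj (τk k ^^^ pt4 k j) := by
  have : ∀ k < 16, τk k < 16 := by decide
  rw [← conj_mul, τ_gj hk, gj_conj hk hj, bj_mul (this k hk) ((pt4_ok k hk).2 j hj), mul_assoc]
theorem τ_two : ∀ j < 16, j ∉ [0, 4, 8, 13, 14, 15] → ∃ k < 16, ∃ l < 16, τk k ^^^ pt4 k j < 16 ∧ τk l ^^^ pt4 l (τk k ^^^ pt4 k j) = 1 := by decide +kernel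
theorem τ_im {m : ℕ} (h : WS.testBit m = true) : ∃ n < 4096, n ^^^ ψ (τ0 * bj 1) n = m := by
  obtain ⟨m, hm, rfl⟩ := WS_wc.1 h
  have : ∀ m < 64, xl 0x203102021013132321 6 m < 4096 ∧
    xl 0x203102021013132321 6 m ^^^ τa (ap parV (ent IL 1) (xl 0x203102021013132321 6 m)) = wc m := by decide +kernel
  exact ⟨_, (this m hm).1, by simpa only [G12.mul, τ_ap, VO.ap, bj, gj] using (this m hm).2⟩

theorem N0_comm {a b : G12} (ha : a ∈ N0) (hb : b ∈ N0) : ⁅a, b⁆ ∈ K1 := by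
  refine H0_GU.le (mem_inf.2 ⟨?_, ?_⟩)
  · rw [commutatorElement_def, N0_mul (mul_mem (mul_mem ha hb) (inv_mem ha)) (inv_mem hb), N0_mul (mul_mem ha hb) (inv_mem ha), N0_mul ha hb, inv_mem_iff, inv_mem_iff]
    generalize (a ∈ H0) = p; generalize (b ∈ H0) = q; tauto
  · have : ∀ a ∈ N0, a ∈ normalizer (zpowers X0 : Set G12) := fun a ha => mem_normalizer_of_conj_mem fun _ ⟨j, e⟩ => by
      have n := mem_normalizer_iff.1 (N0_norm (inv_mem ha))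
      rw [← e, ← conj_zpow]
      refine zpow_mem (mem_subgroupOf.1 ((K1_cov.cen fun g hg => mem_cent_zpowers.2 (mem_cent_single.1 (K1_GU hg))).1.le
        (Subgroup.mem_center_iff.2 fun g => Subtype.ext ?_ : (⟨_, (mem_normalizer_iff.1 (N0_norm ha) _).1 (K1_cov.1 (mem_zpowers X0))⟩ : K1) ∈ _))) j
      simpa [mul_assoc] using congrArg (fun u => a * u * a⁻¹) (mem_cent_single.1 (K1_GU ((n g).1 g.2)))
    exact comm_cent (this a ha) (this b hb)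

/-- The fixed space contains two orthogonal hyperbolic pairs. -/
def Hyp (g : G12) : Prop := ∃ a b c d, (∀ n ∈ [a, b, c, d], n < 4096 ∧ ψ g n = n) ∧ B0 a b = 1 ∧ B0 c d = 1 ∧ B0 a c = 0 ∧ B0 a d = 0 ∧ B0 b c = 0 ∧ B0 b d = 0

theorem Hyp.conj {g : G12} (h : Hyp g) (u : G12) : Hyp (u * g * u⁻¹) := by
  obtain ⟨a, b, c, d, h, k⟩ := h
  simp only [List.forall_mem_cons] at h
  obtain ⟨⟨a1, a2⟩, ⟨b1, b2⟩, ⟨c1, c2⟩, ⟨d1, d2⟩, -⟩ := h
  refine ⟨ψ u a, ψ u b, ψ u c, ψ u d, ?_, by simpa only [G12.B u, a1, b1, c1, d1] using k⟩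
  simp only [List.forall_mem_cons, G12.mul, G12.inv_ap, a2, b2, c2, d2, G12.lt u, a1, b1, c1, d1]; simp

def hypB (f : ℕ → ℕ) (v w : ℕ) : Prop := (∀ n ∈ [v, xm v, w, xm w], n < 4096 ∧ f n = n) ∧ B0 v (xm v) = 1 ∧ B0 w (xm w) = 1 ∧ B0 v w = 0 ∧ B0 v (xm w) = 0 ∧
  B0 (xm v) w = 0 ∧ B0 (xm v) (xm w) = 0
instance (f : ℕ → ℕ) (v w : ℕ) : Decidable (hypB f v w) := by unfold hypB; infer_instance

theorem hyp_τ {j : ℕ} (h : j ∈ [0, 4, 8, 13, 14, 15]) : Hyp (τ0 * bj j) := by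
  have : ∀ j ∈ [0, 4, 8, 13, 14, 15], ∃ p ∈ [(16, 64), (1, 4), (22, 25), (23, 29), (27, 30)], hypB (fun n => τa (ap parV (ent IL j) n)) p.1 p.2 := by decide +kernel
  obtain ⟨p, -, k⟩ := this j h
  exact ⟨_, _, _, _, by simpa only [hypB, G12.mul, τ_ap, VO.ap, bj, gj] using k⟩

theorem hyp_K1 {t : G12} (ht : t ∈ K1) (h : t * t = 1) : Hyp t := by
  have : ∀ i < 72, (∃ k < 12, ap parV (ent IL i) (xm (2 ^ k)) ≠ xm (ap parV (ent IL i) (2 ^ k)) ∧ 2 ^ k < 4096) ∨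
    hypB (ap parV (ent IL i)) (look 0x1700013111312111201700000001600000001600010f00000000000000010a10f00000000000000000000000000000001b00000000010500001b13310010510a0000000000000000000000000001221000001b017001010710b10600116012311101610001701b132001 12 i) (look 0x1d00013411c12411801d00000001900000001900013c00000000000000012813300000000000000000000000000000001e00000000011100001e13c4001141220000000000000000000000000001284000001e01d004010d10e10900419012c11401940001d01e138004 12 i) := by decide +kernel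
  obtain ⟨g, hg, l⟩ := T0_syl.exists_conj_le (isPGroup_zpowers_of_pow (k := 1) (by simpa [pow_two] using h)) (zpowers_le.2 (K1_H0 ht))
  obtain ⟨i, hi, e⟩ := exists_bj (l (conj_mem_cj g (mem_zpowers t))) (by rw [conj_mul, h, mul_one, mul_inv_cancel])
  have m := K1_GU (e ▸ (mem_normalizer_iff.1 (N0_norm (H0_N0 hg)) t).1 ht)
  rcases this i hi with ⟨k, -, a, b⟩ | k
  · exact absurd (by simpa only [VO.ap, bj] using GU0_xm m b) a
  · have : Hyp (bj i) := ⟨_, _, _, _, by simpa only [hypB, VO.ap, bj] using k⟩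
    simpa [e, mul_assoc] using this.conj g⁻¹

end Cfsg.Lib.Fi
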