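import Cfsg.Agent.Lib.Fi.Fx1

/-! Groups `2^{1+12}.3.U₄(3).2²`: the subgroup `2¹²`. -/

set_option maxRecDepth 100000

namespace Cfsg.Lib.Fi

open Cfsg.Lib.Comp Subgroup A12 Cfsg.Lib.Core Cfsg.Lib.Known2 Cfsg.Lib.Amalg
open scoped commutatorElement

variable {G : Type*} [Group G]

namespace Fr
variable {Q : Subgroup G} {z : G} {ν : G → ℕ} {ρ : G →* G12} (F : Fr Q z ν ρ)
include F

theorem nonab {u : G} (h : Hyp (ρ u)) : ∃ a ∈ Q, ∃ b ∈ Q, u * a = a * u ∧ u * b = b * u ∧ ⁅a, b⁆ = z := by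
  obtain ⟨a, b, c, d, h, k1, k2, k3, k4, k5, k6⟩ := h
  simp only [List.forall_mem_cons] at h
  obtain ⟨⟨a1, a2⟩, ⟨b1, b2⟩, ⟨c1, c2⟩, ⟨d1, d2⟩, -⟩ := h
  obtain ⟨a, aQ, rfl⟩ := F.sur a a1
  obtain ⟨b, bQ, rfl⟩ := F.sur b b1
  obtain ⟨c, cQ, rfl⟩ := F.sur c c1
  obtain ⟨d, dQ, rfl⟩ := F.sur d d1
  have fin : ∀ a ∈ Q, ∀ b ∈ Q, u * a * u⁻¹ = a → u * b * u⁻¹ = b → B0 (ν a) (ν b) = 1 → ∃ a ∈ Q, ∃ b ∈ Q, u * a = a * u ∧ u * b = b * u ∧ ⁅a, b⁆ = z :=
    fun a ha b hb e e' k => ⟨a, ha, b, hb, comm_of_conj_eq e, comm_of_conj_eq e', by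
      rw [commutatorElement_def, F.ls.anti ha hb fun c => by simp [(F.comm ha hb).1 c] at k, F.cen]; group⟩
  have st : ∀ c ∈ Q, u * c * u⁻¹ = c * z → B0 (ν a) (ν c) = 0 → B0 (ν b) (ν c) = 0 → ∃ a ∈ Q, ∃ b ∈ Q, u * a = a * u ∧ u * b = b * u ∧ ⁅a, b⁆ = z := fun c cQ e k3 k5 => by
    have m : ∀ y, u * y * u⁻¹ = y * z → u * (y * c) * u⁻¹ = y * c := fun y k => by
      rw [← conj_mul, k, e, mul_assoc, ← mul_assoc z, ← F.cen, mul_assoc c, F.ls.sq, mul_one]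
    rcases (F.fix aQ).1 a2 with x | x <;> rcases (F.fix bQ).1 b2 with y | y
    · exact fin a aQ b bQ x y k1
    · exact fin a aQ _ (mul_mem bQ cQ) x (m b y) (by rw [F.mul bQ cQ, B0_right, k1, k3, add_zero])
    · exact fin _ (mul_mem aQ cQ) b bQ (m a x) y (by rw [F.mul aQ cQ, B0_left, k1, B0_comm, k5, add_zero])
    · exact fin _ (mul_mem aQ cQ) _ (mul_mem bQ cQ) (m a x) (m b y) (by
        rw [F.mul aQ cQ, F.mul bQ cQ, B0_left, B0_right, B0_right, k1, k3, B0_comm, k5, B0_self]; rfl)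
  rcases (F.fix cQ).1 c2 with x | x
  · rcases (F.fix dQ).1 d2 with y | y
    exacts [fin c cQ d dQ x y k2, st d dQ y k4 k6]
  · exact st c cQ x k3 k5

theorem exD' {x a : G} (rx : ρ x = X0) (x3 : x ^ 3 = 1) (ha : ρ a ∈ GU0) : ∃ d, d * x = x * d ∧ ρ d = ρ a := by
  have hu : a * x * a⁻¹ * x⁻¹ ∈ Q := F.mem.1 (by
    simp only [map_mul, map_inv, rx, conj_eq_of_comm (mem_cent_single.1 ha), mul_inv_cancel])
  have l := (xm_ok _ (F.lt (a * x * a⁻¹ * x⁻¹))).1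
  obtain ⟨y, hy, e⟩ := F.sur _ l
  have m := mul_mem (mul_mem hy hu) (F.nm x (inv_mem hy))
  refine ⟨y * a, ?_, by rw [map_mul, F.mem.2 hy, one_mul]⟩
  rcases F.ls.mem_zp.1 ((F.zero m).1 (by
    rw [F.mul (mul_mem hy hu) (F.nm x (inv_mem hy)), F.mul hy hu, F.conj x (inv_mem hy), F.inv hy, rx, e, X0_ap l, Nat.xor_right_comm,
      ← (xm_ok _ l).2.2.1, xm3 (F.lt _), Nat.xor_self])) with k | k
  · exact comm_of_conj_eq (mul_inv_eq_one.1 (by rw [← k]; group))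
  have : (y * a * x * (y * a)⁻¹) ^ 3 = (z * x) ^ 3 := by rw [← k]; congr 1; group
  rw [conj_pow, x3, (show Commute z x from (F.cen x).symm).mul_pow, x3, pow_succ, pow_two, F.ls.sq] at this
  exact absurd (by simpa using this.symm) F.ls.ne

theorem res (K : Subgroup G12) : Fr (Q.subgroupOf (K.comap ρ)) ⟨z, show ρ z ∈ K from (F.mem.2 F.ls.mem).symm ▸ one_mem K⟩ (fun y => ν y) (ρ.comp (K.comap ρ).subtype) := by
  have m : ∀ y ∈ Q, y ∈ K.comap ρ := fun y hy => show ρ y ∈ K from (F.mem.2 hy).symm ▸ one_mem K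
  have v := @Subtype.val_injective G (· ∈ K.comap ρ)
  have h := F.ls
  have sc := fun (g : K.comap ρ) (k : ∀ x ∈ Q.subgroupOf (K.comap ρ), g * x = x * g) =>
    (h.selfc g fun x hx => congrArg Subtype.val (k ⟨x, m x hx⟩ hx)).imp (v (a₂ := 1)) (v (a₂ := ⟨z, m z h.mem⟩))
  refine ⟨⟨⟨h.mem, fun e => h.ne (congrArg Subtype.val e), v h.sq, fun x _ => v (F.cen x), fun x _ => sc x, fun x a y b => (h.comm x a y b).imp (v ·) (v ·),
    fun x a => (h.sq_mem x a).imp (v ·) (v ·), ?_⟩, sc, fun g _ x hx => F.nm g.1 hx⟩, fun g => v (F.cen g), fun y => F.lt y, fun a b => F.mul a b,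
    fun {y} a => (F.zero a).trans ?_, fun n hn => ?_, fun {y} a => (z2_ext (κ_zero.trans (Subtype.ext_iff.trans κ_zero.symm))).trans (F.κ a),
    fun {x y} a b => (z2_ext (β_zero.trans (Subtype.ext_iff.trans β_zero.symm))).trans (F.β a b), fun g _ a => F.conj g.1 a, Subgroup.ext fun g => F.mem⟩
  · obtain ⟨x, a, y, b, e⟩ := h.nonab; exact ⟨⟨x, m x a⟩, a, ⟨y, m y b⟩, b, fun k => e (congrArg Subtype.val k)⟩
  · rw [h.mem_zp, mem_zpowers_invol (v h.sq), Subtype.ext_iff, Subtype.ext_iff]; rfl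
  · obtain ⟨y, a, e⟩ := F.sur n hn; exact ⟨⟨y, m y a⟩, a, e⟩

theorem cj_of {u v : G} (e : ρ v = ρ u) {n : ℕ} (hn : n < 4096) (k : n ^^^ ψ (ρ u) n = ν (v * u⁻¹)) : ∃ g a, g * u * g⁻¹ = v * zp z a := by
  obtain ⟨y, hy, rfl⟩ := F.sur n hn
  have m := mul_mem hy (F.nm u (inv_mem hy))
  obtain ⟨a, h⟩ := exists_zp (F.eq_or (x := v * u⁻¹) (F.mem.1 (by rw [map_mul, map_inv, e, mul_inv_cancel])) m (by rw [F.mul hy (F.nm u (inv_mem hy)), F.conj u (inv_mem hy), F.inv hy, k]))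
  exact ⟨y, a, by rw [zp_comm (F.cen v) a, show y * u * y⁻¹ = y * (u * y⁻¹ * u⁻¹) * u by group, h, zp_comm (F.cen _) a]; group⟩

end Fr

open Classical in
/-- The number of elements with `p` among `a` and `a z`. -/
noncomputable def np (p : G → Prop) (z a : G) : ℕ := (if p a then 1 else 0) + if p (a * z) then 1 else 0

theorem np_lt (p : G → Prop) (z a : G) : np p z a < 3 := by unfold np; split_ifs <;> omega
theorem np_cj {p : G → Prop} {z g a b : G} (hp : ∀ g a, p (g * a * g⁻¹) ↔ p a) (hz : g * z = z * g) (h : z * z = 1) {e : ZMod 2} (k : g * a * g⁻¹ = b * zp z e) :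
    np p z a = np p z b := by
  unfold np
  rw [← hp g a, ← hp g (a * _), ← conj_mul, conj_eq_of_comm hz, k]
  rcases z2_cases e with rfl | rfl
  · rw [zp_zero, mul_one]
  · rw [zp_one, mul_assoc, h, mul_one, add_comm]

open Classical in
theorem np_sum (p : G → Prop) (z : G) (μ : ℕ → G) (h : ∀ c, μ (c ^^^ 1024) = μ c * z) :
    ((Finset.range 2048).filter fun c => p (μ c)).card = ∑ c ∈ Finset.range 1024, np p z (μ c) := by
  rw [Finset.card_filter, Finset.sum_range_add _ 1024 1024, ← Finset.sum_add_distrib]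
  refine Finset.sum_congr rfl fun c hc => ?_
  have : ∀ c < 1024, 1024 + c = c ^^^ 1024 := by decide +kernel
  rw [this c (Finset.mem_range.1 hc), h, np]

theorem FA.np_mu {Q : Subgroup G} {z x : G} {ν : G → ℕ} {ρ : G →* G12} {s f : ℕ → G} (F : FA Q z ν ρ x s f) {p : G → Prop}
    (hp : ∀ g a, p (g * a * g⁻¹) ↔ p a) (h1 : ¬ p 1) (hz : p z) (hO : ∀ y ∈ Q, y ≠ z → (p y ↔ A12.O2.testBit (ν y) = true)) {c : ℕ} (hc : c < 1024) :
    np p z (mu z s f c) = wt (np p z (f 1)) (np p z (s (wc m0) * f 1)) c := by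
  have ic : ∀ c < 2048, c / 64 % 16 = 0 → c ≠ 1024 → (p (mu z s f c) ↔ A12.O2.testBit (wc (c % 64)) = true) := fun c hc h n => by
    rw [← F.mu_ν h]
    exact hO _ (F.mu_Q.2 h) fun e => n (F.mu_inj hc (by norm_num) (by rw [e, ← Nat.zero_xor 1024, F.mu_z, F.mu_zero, one_mul]))
  have cc : ∀ {g a b : G} {e : ZMod 2}, g * a * g⁻¹ = b * zp z e → np p z a = np p z b := fun {g _ _ _} => np_cj hp (F.cen g) F.ls.sq
  unfold wt
  by_cases h : c < 64
  · rw [if_pos h]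
    by_cases h0 : c = 0
    · rw [if_pos h0, h0, F.mu_zero, np, one_mul]; exact congrArg₂ _ (if_neg h1) (if_pos hz)
    have : ∀ c < 64, c ^^^ 1024 = c + 1024 := by decide
    rw [if_neg h0, np, ← F.mu_z, this c h, ic _ (by omega) (by omega) (by omega), ic _ (by omega) (by omega) (by omega),
      show (c + 1024) % 64 = c by omega, Nat.mod_eq_of_lt h]
    split_ifs <;> rfl
  have hj := Nat.mod_lt (c / 64) (show 0 < 16 by norm_num)
  have hm := Nat.mod_lt c (show 0 < 64 by norm_num)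
  rw [if_neg h, (dq_ok c (by omega)).1.1, mu, cB, Nat.testBit_lt_two_pow (i := 10) hc, if_neg (by simp), zp_zero, mul_one]
  split_ifs with k
  · obtain ⟨g, e⟩ := F.typeI hj (by omega) hm k
    obtain ⟨g, a, -, e'⟩ := F.f_one hj (by omega)
    exact (cc e).symm.trans (cc e')
  · obtain ⟨g, a, e⟩ := F.typeII hj (by omega) hm (by simpa using k)
    exact cc e

/-- The frame for the full group. -/
structure F4 (Q : Subgroup G) (z : G) (ν : G → ℕ) (ρ : G →* G12) : Prop extends Fr Q z ν ρ where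
  card : Nat.card Q = 2 ^ 13
  rn : ρ.range = N0

open Classical in
/-- Coordinates on `2¹²`. -/
structure FB (Q : Subgroup G) (z : G) (ν : G → ℕ) (ρ : G →* G12) (μ : ℕ → G) (d : G) : Prop extends F4 Q z ν ρ where
  μmul : ∀ c e, μ (c ^^^ e) = μ c * μ e
  μone : ∀ c < 2048, μ c = 1 → c = 0
  memA : ∀ a, a ∈ centralizer (Wh Q ν) ⊓ H0.comap ρ ↔ ∃ c < 2048, μ c = a
  uq : ∀ E ≤ (Py 1).comap ρ, IsElementaryAbelian 2 E → 2 ^ 11 ≤ Nat.card E → E = centralizer (Wh Q ν) ⊓ H0.comap ρ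
  cnt : ∀ p : G → Prop, (∀ g a, p (g * a * g⁻¹) ↔ p a) → ¬ p 1 → p z → (∀ y ∈ Q, y ≠ z → (p y ↔ A12.O2.testBit (ν y) = true)) →
    ∃ a < 3, ∃ b < 3, ((Finset.range 2048).filter fun c => p (μ c)).card = 91 + 240 * a + 720 * b
  μρ : ∀ c, ρ (μ c) = bj (c / 64 % 16)
  μz : ∀ c, μ (c ^^^ 1024) = μ c * z
  dρ : ρ d = τ0
  dd : d * d = 1 ∨ d * d = z
  dμ : ∀ c, d * μ c = μ c * d

theorem F4.exists_FB [Finite G] {Q : Subgroup G} {z : G} {ν : G → ℕ} {ρ : G →* G12} (F : F4 Q z ν ρ) : ∃ μ d, FB Q z ν ρ μ d := by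
  classical
  have r : (ρ.comp (H0.comap ρ).subtype).range = H0 := by
    rw [MonoidHom.range_comp, range_subtype, map_comap_eq_self (F.rn ▸ H0_N0)]
  have m : Q ≤ H0.comap ρ := F.ker.ge.trans (ker_le_comap _ _)
  have F1 : FT _ _ _ _ := ⟨F.res H0, (card_subgroupOf_of_le m).trans F.card, r.symm ▸ K1_H0, r.symm ▸ H0_N0, r.symm ▸ H0_card⟩
  obtain ⟨x, rx, x3⟩ := F1.exists_x
  obtain ⟨s, F2⟩ := F1.exists_FX r rx x3
  obtain ⟨f, A⟩ := F2.exists_FA'
  obtain ⟨z1, rfl⟩ : ∃ z1 : H0.comap ρ, z1.1 = z := ⟨⟨z, m F.ls.mem⟩, rfl⟩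
  replace A : FA _ z1 _ _ x s f := A
  have x3' : x.1 ^ 3 = 1 := congrArg Subtype.val x3
  obtain ⟨t, ht⟩ := F.rn.ge τ_N0
  obtain ⟨d, dx, dρ⟩ := F.exD' (x := x.1) rx x3' (ht ▸ τ_GU)
  rw [ht] at dρ
  have cA : ∀ a : H0.comap ρ, a ∈ centralizer (Wh (Q.subgroupOf (H0.comap ρ)) fun y => ν y) ↔ a.1 ∈ centralizer (Wh Q ν) := fun a =>
    ⟨fun h y hy => congrArg Subtype.val (h ⟨y, m hy.1⟩ hy), fun h y hy => Subtype.ext (h y hy)⟩
  have dd : d * d = 1 ∨ d * d = z1 := (F.fpf rx x3').fp _ (F.mem.1 (by rw [map_mul, dρ, τ_sq])) (FX.D_mul dx dx).symm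
  have ds : ∀ n, WS.testBit n = true → d * s n = s n * d := fun n hn => by
    have l := (WS_iff.1 hn).1
    have k : ∀ n, n < 4096 → x.1 * s n * x.1⁻¹ = s (xm n) := fun n l => by
      have := congrArg Subtype.val (A.scj x rfl n l); rwa [A.rx, X0_ap l] at this
    obtain ⟨a, e⟩ := exists_zp ((F.fix (g := d) (y := s n) (A.sQ n)).1 (by rw [dρ]; exact (A.sν n l).symm ▸ τ_WS hn))
    have k2 : ∀ y : G, d * y * d⁻¹ = y * zp z1.1 a → d * (x * y * x.1⁻¹) * d⁻¹ = x * y * x.1⁻¹ * zp z1.1 a := fun y e => by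
      rw [show d * (x * y * x.1⁻¹) * d⁻¹ = d * x * y * (d * x)⁻¹ by group, dx, mul_assoc _ _ (zp _ _), zp_comm (F.cen _), ← mul_assoc, mul_assoc x.1 y, ← e]; group
    have e1 := k2 _ e
    have e2 := k2 _ e1
    rw [k n l] at e1 e2
    rw [k _ (xm_ok n l).1] at e2
    have := congrArg Subtype.val (A.s_W (WS_xm hn) (WS_xm (WS_xm hn)))
    rw [(xm_ok n l).2.2.1, Nat.xor_comm n, ← Nat.xor_assoc, Nat.xor_self, Nat.zero_xor, Nat.xor_comm, ← (xm_ok n l).2.2.1, coe_mul] at this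
    refine comm_of_conj_eq ?_
    rw [← this, ← conj_mul, e1, e2, mul_assoc, ← mul_assoc (zp _ _), ← zp_comm (F.cen _), mul_assoc, ← zp_add F.ls.sq, z2_add, zp_zero, mul_one]
  have zc : ∀ a, (zp z1 a).1 = zp z1.1 a := fun a => by unfold zp; split_ifs <;> rfl
  have dk : ∀ k < 16, τk k < 16 → d * f (τk k) = f (τk k) * d := fun k hk l => by
    obtain ⟨g, gx, gρ⟩ := A.exD (gj_mem k).1
    have e : ρ (d * (g * d * g.1⁻¹)) = bj (τk k) := by
      rw [map_mul, map_mul, map_mul, map_inv, dρ, show ρ g = gj k from gρ, τ_gj hk, ← mul_assoc, τ_sq, one_mul]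
    have um : d * (g * d * g.1⁻¹) ∈ H0.comap ρ := show ρ _ ∈ H0 from e ▸ K1_H0 (Bg_K1 ⟨_, l, rfl⟩)
    have ux : (⟨_, um⟩ : H0.comap ρ) * x = x * ⟨_, um⟩ := Subtype.ext (FX.D_mul dx (FX.D_cj (congrArg Subtype.val gx) dx))
    have q : d * (g * d * g.1⁻¹) * (d * (g * d * g.1⁻¹)) = 1 := congrArg Subtype.val (A.E_sq ux ⟨_, l, e.symm⟩)
    obtain ⟨a, k⟩ := A.D_eq ux (A.fD (τk k)) (e.trans (A.fρ _ l).symm)
    have q2 : g * d * g.1⁻¹ * (g * d * g.1⁻¹) = d * d := by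
      rw [conj_mul]; rcases dd with e | e <;> rw [e]
      exacts [by simp, conj_eq_of_comm (F.cen _)]
    have q3 : ∀ y, d * d * y = y * (d * d) ∧ d * d * (d * d) = 1 := fun y => by
      rcases dd with e | e <;> rw [e]
      exacts [by simp, ⟨(F.cen y).symm, F.ls.sq⟩]
    rw [k, coe_mul, zc]
    dsimp only
    clear k ux
    clear um e
    generalize g * d * g.1⁻¹ = e at *
    have : e * d = d * e := by
      calc _ = d⁻¹ * (d * e * (d * e)) * e⁻¹ := by group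
        _ = (d * d)⁻¹ * d * e * (e * e)⁻¹ := by rw [q]; group
        _ = _ := by rw [q2, inv_eq_of_mul_eq_one_right (q3 e).2, mul_assoc, mul_assoc (d * d), (q3 _).1, mul_assoc, mul_assoc, (q3 e).2, mul_one]
    show d * (d * e * _) = d * e * _ * d
    rw [mul_assoc (d * e), ← zp_comm (F.cen d), ← mul_assoc, ← mul_assoc, ← mul_assoc, mul_assoc d e d, this, mul_assoc d d]
  have fx : ∀ i j, d * f i = f i * d → d * f j = f j * d → d * f (i ^^^ j) = f (i ^^^ j) * d := fun i j u v => by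
    rw [A.fmul]; exact Commute.mul_right u v
  have df : ∀ j < 16, d * f j = f j * d := xor_ind 4 (by rw [A.f0]; simp) (fun i hi => by
    have a := dk 2 (by norm_num) (by decide); have b := dk 3 (by norm_num) (by decide); have c := dk 4 (by norm_num) (by decide); have e := dk 5 (by norm_num) (by decide)
    interval_cases i
    exacts [fx _ _ a (fx _ _ b e), fx _ _ c (fx _ _ b e), e, b]) fun i _ j _ => fx i j
  refine ⟨fun c => (mu z1 s f c).1, d, F, fun c e => congrArg Subtype.val (A.mu_mul c e), fun c hc e => A.mu_one hc (Subtype.ext e), fun a => ⟨fun h => ?_, ?_⟩,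
    fun E l he hc => ?_, fun p hp h1 hz hO => ⟨_, np_lt (fun y : H0.comap ρ => p y) z1 (f 1), _, np_lt (fun y : H0.comap ρ => p y) z1 (s (wc m0) * f 1), ?_⟩,
    A.mu_ρ, fun c => congrArg Subtype.val (A.mu_z c), dρ, dd, fun c => ?_⟩
  · exact (A.mem_A.1 ((cA ⟨a, h.2⟩).2 h.1)).imp fun c k => ⟨k.1, congrArg Subtype.val k.2⟩
  · rintro ⟨c, hc, rfl⟩; exact ⟨(cA _).1 (A.mem_A.2 ⟨c, hc, rfl⟩), (mu z1 s f c).2⟩
  · have l2 := l.trans (comap_mono T0_le)
    have := A.uniq (B := E.subgroupOf _) (fun y hy => l hy) (elem_of_sq fun a ha => Subtype.ext ((pow_two a.1).symm.trans (he.2 _ ha))) (by rwa [card_subgroupOf_of_le l2])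
    exact Subgroup.ext fun a => ⟨fun h => ⟨(cA ⟨a, l2 h⟩).1 (this.le h), l2 h⟩, fun h => this.ge ((cA ⟨a, h.2⟩).2 h.1)⟩
  · have : ∀ a < 3, ∀ b < 3, ∑ c ∈ Finset.range 1024, wt a b c = 91 + 240 * a + 720 * b := by decide +kernel
    rw [← this _ (np_lt _ _ _) _ (np_lt _ _ _), ← Finset.sum_congr rfl fun c hc => A.np_mu (p := fun y => p y.1) (fun g a => hp g a) h1 hz
      (fun y hy n => hO y hy fun e => n (Subtype.ext e)) (Finset.mem_range.1 hc)]
    exact np_sum (fun y : H0.comap ρ => p y) z1 _ A.mu_z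
  · show d * (s _ * f _ * (zp z1 _).1) = s _ * f _ * (zp z1 _).1 * d
    rw [zc]
    exact Commute.mul_right (Commute.mul_right (ds _ (WS_mod c)) (df _ (Nat.mod_lt _ (by norm_num)))) (zp_comm (F.cen d) _)

end Cfsg.Lib.Fi
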