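import Cfsg.Agent.Lib.Fi.Fx2
import Cfsg.Agent.Lib.Amalg.Extremal

/-! Groups with an involution centraliser `2^{1+12}.3.U₄(3).2²` have a subgroup of index two. -/

set_option maxRecDepth 100000

namespace Cfsg.Lib.Fi

open Cfsg.Lib.Comp Subgroup A12 Cfsg.Lib.Core Cfsg.Lib.Known2 Cfsg.Lib.Amalg
open scoped commutatorElement

variable {G : Type*} [Group G]

namespace FB
variable {Q : Subgroup G} {z d : G} {ν : G → ℕ} {ρ : G →* G12} {μ : ℕ → G} (F : FB Q z ν ρ μ d)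
include F

theorem inN (g : G) : ρ g ∈ N0 := F.rn.le ⟨g, rfl⟩
theorem μH (c : ℕ) : ρ (μ c) ∈ H0 := F.μρ c ▸ K1_H0 (Bg_K1 ⟨_, Nat.mod_lt _ (by norm_num), rfl⟩)
theorem dH (c : ℕ) : ρ (d * μ c) ∉ H0 := fun h => τ_H0 (F.dρ ▸ (mul_mem_cancel_right (F.μH c)).1 (map_mul ρ d _ ▸ h))
theorem μsq (c : ℕ) : μ c * μ c = 1 := by rw [← F.μmul, Nat.xor_self]; simpa using F.μmul 0 0
theorem μinj {c e : ℕ} (hc : c < 2048) (he : e < 2048) (h : μ c = μ e) : c = e :=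
  Nat.xor_eq_zero_iff.1 (F.μone _ (Nat.xor_lt_two_pow (n := 11) hc he) (by rw [F.μmul, h, F.μsq]))
theorem WA {y : G} (h : y ∈ Wh Q ν) : y ∈ centralizer (Wh Q ν) ⊓ H0.comap ρ :=
  ⟨fun _ k => (F.comm k.1 h.1).2 (WS_B k.2 h.2), show ρ y ∈ H0 from (F.mem.2 h.1).symm ▸ one_mem _⟩
theorem zW : z ∈ Wh Q ν := ⟨F.ls.mem, by rw [F.νz]; decide +kernel⟩
theorem dB : d ∈ centralizer (Wh Q ν) := fun y hy => by obtain ⟨c, -, rfl⟩ := (F.memA y).1 (F.WA hy); exact (F.dμ c).symm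
theorem memB {b : G} : b ∈ centralizer (Wh Q ν) ↔ ∃ c < 2048, μ c = b ∨ d * μ c = b := by
  refine ⟨fun h => ?_, fun ⟨c, hc, h⟩ => h.elim (· ▸ ((F.memA _).2 ⟨c, hc, rfl⟩).1) (· ▸ mul_mem F.dB ((F.memA _).2 ⟨c, hc, rfl⟩).1)⟩
  by_cases k : ρ b ∈ H0
  · exact ((F.memA b).1 ⟨h, k⟩).imp fun c e => ⟨e.1, .inl e.2⟩
  · refine ((F.memA (d⁻¹ * b)).1 (mem_inf.2 ⟨mul_mem (inv_mem F.dB) h, ?_⟩)).imp fun c e => ⟨e.1, .inr (by rw [e.2, mul_inv_cancel_left])⟩
    exact show ρ _ ∈ H0 from map_mul ρ _ b ▸ (N0_mul (F.inN _) (F.inN _)).2 (iff_of_false (by rw [map_inv, inv_mem_iff, F.dρ]; exact τ_H0) k)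
theorem sqB {b : G} (h : b ∈ centralizer (Wh Q ν)) : b * b = 1 ∨ b * b = d * d := by
  obtain ⟨c, -, rfl | rfl⟩ := F.memB.1 h
  exacts [.inl (F.μsq c), .inr (by rw [mul_assoc, ← mul_assoc (μ c), ← F.dμ, mul_assoc, F.μsq, mul_one])]

open Classical in
theorem cntB (p : G → Prop) : {y | y ∈ centralizer (Wh Q ν) ∧ p y}.ncard =
    ((Finset.range 2048).filter fun c => p (μ c)).card + ((Finset.range 2048).filter fun c => p (d * μ c)).card := by
  have i : ∀ (u : G) (q : ℕ → Prop) [DecidablePred q], ((fun c => u * μ c) '' ((Finset.range 2048).filter q : Finset ℕ)).ncard = ((Finset.range 2048).filter q).card :=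
    fun u q _ => by
      rw [Set.InjOn.ncard_image fun i a j b e => F.μinj (Finset.mem_range.1 (Finset.mem_filter.1 a).1) (Finset.mem_range.1 (Finset.mem_filter.1 b).1) (mul_left_cancel e),
        Set.ncard_coe_finset]
  rw [← i 1, ← i d, ← Set.ncard_union_eq (Set.disjoint_left.2 (by
    rintro _ ⟨c, -, rfl⟩ ⟨e, -, h⟩; exact F.dH e (by rw [show d * μ e = 1 * μ c from h, one_mul]; exact F.μH c)))
    ((Finset.finite_toSet _).image _) ((Finset.finite_toSet _).image _)]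
  congr 1; ext y
  simp only [Set.mem_ofPred_eq, F.memB, Set.mem_union, Set.mem_image, Finset.coe_filter, Finset.mem_range, one_mul]
  exact ⟨fun ⟨⟨c, a, b⟩, h⟩ => b.elim (fun e => .inl ⟨c, ⟨a, e ▸ h⟩, e⟩) fun e => .inr ⟨c, ⟨a, e ▸ h⟩, e⟩,
    fun h => h.elim (fun ⟨c, a, e⟩ => ⟨⟨c, a.1, .inl e⟩, e ▸ a.2⟩) fun ⟨c, a, e⟩ => ⟨⟨c, a.1, .inr e⟩, e ▸ a.2⟩⟩

theorem cardB : Nat.card (centralizer (Wh Q ν)) = 2 ^ 12 := by
  have := F.cntB fun _ => True
  simp only [and_true, Finset.filter_true, Finset.card_range] at this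
  exact this
theorem cardA : Nat.card ↥(centralizer (Wh Q ν) ⊓ H0.comap ρ) = 2 ^ 11 := by
  have := F.cntB fun y => ρ y ∈ H0
  simp only [F.μH, F.dH, Finset.filter_true, Finset.filter_false, Finset.card_range] at this
  exact this

theorem normB {g a : G} (h : ρ g ∈ sst ψ WS) (ha : a ∈ centralizer (Wh Q ν)) : g * a * g⁻¹ ∈ centralizer (Wh Q ν) := fun y hy => by
  have := ha (g⁻¹ * y * g⁻¹⁻¹) ⟨F.nm _ hy.1, by rw [F.conj _ hy.1, map_inv, sst_bit (inv_mem h), hy.2]⟩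
  simpa [mul_assoc] using congrArg (fun u => g * u * g⁻¹) this

open Classical in
theorem cnt2 {p : G → Prop} (hp : ∀ g a, p (g * a * g⁻¹) ↔ p a) (h : ∀ u, Hyp (ρ u) → ρ u ∉ H0 → ¬ p u) :
    ∃ k < 3, ((Finset.range 2048).filter fun c => p (d * μ c)).card = 640 * k := by
  have : ∀ k < 3, ∑ c ∈ Finset.range 1024, (if c / 64 % 16 ∈ [0, 4, 8, 13, 14, 15] then 0 else k) = 640 * k := by decide +kernel
  refine ⟨_, np_lt p z (d * μ 64), ?_⟩
  rw [← this _ (np_lt _ _ _), np_sum p z (fun c => d * μ c) fun c => by rw [F.μz, mul_assoc]]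
  refine Finset.sum_congr rfl fun c _ => ?_
  have r : ∀ c, ρ (d * μ c) = τ0 * bj (c / 64 % 16) := fun c => by rw [map_mul, F.dρ, F.μρ]
  have hj := Nat.mod_lt (c / 64) (show 0 < 16 by norm_num)
  split_ifs with k
  · rw [np, if_neg (h _ (r c ▸ hyp_τ k) (F.dH c)), if_neg (h _ (by rw [map_mul, F.mem.2 F.ls.mem, mul_one, r]; exact hyp_τ k)
      (by rw [map_mul, F.mem.2 F.ls.mem, mul_one]; exact F.dH c))]
  obtain ⟨i, hi, l, hl, k1, k2⟩ := τ_two _ hj k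
  obtain ⟨g1, e1⟩ := F.rn.ge (K1_le_N0 (gj_mem i).1)
  obtain ⟨g2, e2⟩ := F.rn.ge (K1_le_N0 (gj_mem l).1)
  have m := fun c => mul_mem F.dB (show μ c ∈ centralizer (Wh Q ν) from fun y hy => by
    obtain ⟨e, -, rfl⟩ := (F.memA y).1 (F.WA hy); rw [← F.μmul, Nat.xor_comm, F.μmul])
  have m2 := F.normB (e2 ▸ (gj_mem l).2) (F.normB (e1 ▸ (gj_mem i).2) (m c))
  have e : ρ (g2 * (g1 * (d * μ c) * g1⁻¹) * g2⁻¹) = ρ (d * μ 64) := by
    rw [map_mul, map_mul, map_mul, map_mul, map_inv, map_inv, r, r, e1, e2, τ_mv hj hi, τ_mv k1 hl, k2]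
  have q : g2 * (g1 * (d * μ c) * g1⁻¹) * g2⁻¹ * (d * μ 64)⁻¹ ∈ Q := F.mem.1 (by rw [map_mul, map_inv, e, mul_inv_cancel])
  obtain ⟨n, hn, k⟩ := τ_im (WS_perp (F.lt _) fun w hw => by
    obtain ⟨y, hy, rfl⟩ := F.sur w (WS_iff.1 hw).1
    exact (F.comm q hy).1 (mul_mem m2 (inv_mem (m 64)) y ⟨hy, hw⟩).symm)
  obtain ⟨g, a, k⟩ := F.cj_of e hn (by rw [r]; exact k)
  rw [np_cj hp (F.cen g) F.ls.sq k]
  exact (np_cj (e := 0) hp (F.cen g1) F.ls.sq (by rw [zp_zero, mul_one])).trans (np_cj (e := 0) hp (F.cen g2) F.ls.sq (by rw [zp_zero, mul_one]))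

theorem idx : (H0.comap ρ).index = 2 := by
  have := (H0.subgroupOf N0).card_mul_index
  rw [card_subgroupOf_of_le H0_N0, H0_card, N0_card] at this
  rw [index_comap, F.rn, relIndex]; omega

variable [Finite G]

theorem T_syl : Amalg.Syl 2 ((Py 0).comap ρ) ⊤ := by
  have c : Nat.card ((Py 0).comap ρ) = 2 ^ 22 := by
    rw [card_map_ker ρ (ker_le_comap _ _), map_comap_eq_self (F.rn ▸ (Py_le 0).trans inf_le_left), F.ker, F.card, Py_card (by norm_num)]; rfl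
  refine syl_of_not_dvd le_top (.of_card c) ?_
  have := ((Py 0).comap ρ).card_mul_index
  rw [c, ← card_top (G := G), card_map_ker ρ le_top, ← MonoidHom.range_eq_map, F.rn, N0_card, F.ker, F.card] at this
  rw [relIndex_top_right]; omega

theorem uqB {E : Subgroup G} (l : E ≤ (Py 0).comap ρ) (he : IsElementaryAbelian 2 E) (hc : 2 ^ 12 ≤ Nat.card E) : E = centralizer (Wh Q ν) := by
  have c := ((H0.comap ρ).subgroupOf E).card_mul_index
  have i : ((H0.comap ρ).subgroupOf E).index ≤ 2 := F.idx ▸ relIndex_top_right (H0.comap ρ) ▸ relIndex_le_of_le_right le_top (by rw [relIndex_top_right, F.idx]; norm_num)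
  rw [← inf_subgroupOf_left, card_subgroupOf_of_le inf_le_left] at c
  rw [← inf_subgroupOf_left] at i
  have := F.uq (E ⊓ H0.comap ρ) (fun y hy => T_H0 ⟨l hy.1, hy.2⟩) (elemAb_of_le he inf_le_left) (by nlinarith)
  exact eq_of_le_of_card_ge (fun y hy w hw => elemAb_le_cent he hy w (this.ge (F.WA hw)).1) (F.cardB.trans_le hc)

end FB

theorem Fr.no_tr {z : G} {Q : Subgroup (centralizer ({z} : Set G))} {ν : centralizer ({z} : Set G) → ℕ} {ρ : centralizer ({z} : Set G) →* G12}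
    (F : Fr Q (zc z) ν ρ) (n0 : ρ.range ≤ N0) {t : centralizer ({z} : Set G)} (h : IsConj z t.1) (ht : Hyp (ρ t)) : ρ t ∈ K1 := by
  obtain ⟨g, hg⟩ := isConj_iff.1 h
  have st : ∀ g : G, ∀ u v : centralizer ({z} : Set G), g * z * g⁻¹ = u → g⁻¹ * z * g = v → Hyp (ρ u) → ρ v ∈ K1 := fun g u v e e' h => by
    obtain ⟨a, -, b, -, a1, b1, k⟩ := F.nonab h
    have m : ∀ a : centralizer ({z} : Set G), u * a = a * u → g⁻¹ * a * g ∈ centralizer {z} := fun a k => mem_cent_single.2 (by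
      simpa [← e, mul_assoc] using (congrArg (fun w : centralizer ({z} : Set G) => g⁻¹ * w * g) k).symm)
    rw [show v = ⁅(⟨_, m a a1⟩ : centralizer ({z} : Set G)), ⟨_, m b b1⟩⁆ from Subtype.ext (e'.symm.trans (
      (congrArg (fun w : centralizer ({z} : Set G) => g⁻¹ * w * g) k.symm).trans (by simp [commutatorElement_def, mul_assoc]))), map_commutatorElement]
    exact N0_comm (n0 ⟨_, rfl⟩) (n0 ⟨_, rfl⟩)
  have m : g⁻¹ * z * g ∈ centralizer {z} := mem_cent_single.2 (by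
    simpa [← hg, mul_assoc] using (congrArg (fun w => g⁻¹ * w * g) (mem_cent_single.1 t.2)).symm)
  exact st g⁻¹ ⟨_, m⟩ t (by rw [inv_inv]) (by rw [inv_inv, hg]) (hyp_K1 (st g t ⟨_, m⟩ hg rfl ht) (by
    rw [← map_mul, ← map_one ρ]; congr 1; exact Subtype.ext (by simpa [mul_assoc, zc] using congrArg (fun w : centralizer ({z} : Set G) => g⁻¹ * w * g) F.ls.sq)))

end Cfsg.Lib.Fi
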