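import Cfsg.Agent.Lib.Fi.Fx3

/-! Groups with an involution centraliser `2^{1+12}.3.U₄(3).2²`: fusion and transfer. -/

set_option maxRecDepth 100000

namespace Cfsg.Lib.Fi

open Cfsg.Lib.Comp Subgroup A12 Cfsg.Lib.Core Cfsg.Lib.Known2 Cfsg.Lib.Amalg
open scoped commutatorElement

variable {G : Type*} [Group G]

theorem F4.twist {Q : Subgroup G} {z : G} {ν : G → ℕ} {ρ : G →* G12} (h : F4 Q z ν ρ) {g : G12} (hg : g ∈ N0) :
    F4 Q z (fun y => ψ g (ν y)) ((MulAut.conj g).toMonoidHom.comp ρ) :=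
  ⟨h.toFr.twist g, h.card, by rw [MonoidHom.range_comp, h.rn]; exact mem_normalizer_iff_map_conj_eq.1 (le_normalizer hg)⟩

theorem sq6 {L : Type*} [Group L] {φ : L →* Equiv.Perm (Fin 6)} (h : Function.Surjective φ) {J : Subgroup L} (hk : φ.ker ≤ J) (hs : ∀ a, a * a ∈ J) :
    (alternatingGroup (Fin 6)).comap φ ≤ J := by
  rw [← comap_map_eq_self hk, ← Equiv.Perm.closure_three_cycles_eq_alternating]
  refine comap_mono ((closure_le _).2 fun c hc => ?_)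
  obtain ⟨a, e⟩ := h (c * c)
  exact ⟨_, hs a, by rw [map_mul, e, show c * c * (c * c) = c ^ 3 * c by simp only [pow_succ, pow_zero, one_mul, mul_assoc], ← Equiv.Perm.IsThreeCycle.orderOf hc, pow_orderOf_eq_one, one_mul]⟩

theorem H0_cj {g a : G12} (hg : g ∈ N0) (ha : a ∈ H0) : g * a * g⁻¹ ∈ H0 := (mem_normalizer_iff.1 (norm_of_two H0_N0 (by rw [H0_card, N0_card]) hg) a).1 ha

theorem fusion_of_uniq' [Finite G] {A : Subgroup G} (he : IsElementaryAbelian 2 A)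
    (u : ∀ P : Subgroup G, IsPGroup 2 P → ∃ g, ∀ B ≤ P, IsElementaryAbelian 2 B → Nat.card A ≤ Nat.card B → cj g B = A)
    {a b : G} (ha : a ∈ A) (hb : b ∈ A) (h : IsConj a b) : ∃ m ∈ normalizer (A : Set G), m * a * m⁻¹ = b := by
  obtain ⟨g, rfl⟩ := isConj_iff.1 h
  have c : ∀ B, IsElementaryAbelian 2 B → g * a * g⁻¹ ∈ B → B ≤ centralizer {g * a * g⁻¹} := fun B e hB y hy =>
    mem_cent_single.2 (elemAb_le_cent e hB y hy)
  obtain ⟨P, hP, l⟩ := exists_syl_ge (elemAb_isPGroup he) (c A he hb)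
  obtain ⟨k, hk, l'⟩ := hP.exists_conj_le (elemAb_isPGroup (elemAb_map he _)) (c _ (elemAb_map he _) (conj_mem_cj g ha))
  obtain ⟨w, hw⟩ := u P hP.isPGroup
  refine ⟨k * g, cj_eq_self_iff.1 (cj_inj.1 ((hw _ (cj_mul k g A ▸ l') (elemAb_map he _) (by rw [card_cj])).trans (hw A l he le_rfl).symm)), ?_⟩
  conv_rhs => rw [← conj_eq_of_comm (mem_cent_single.1 hk)]
  group

set_option synthInstance.maxSize 2000 in
theorem gl12 : ∀ a < 3, ∀ b < 3, ∀ c < 3, ∀ n ≤ 12, ∀ r ≤ n, 91 + 240 * a + 720 * b + 640 * c ∣ 2 ^ (r * (n - r)) * ∏ i ∈ Finset.range r, (2 ^ r - 2 ^ i) →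
    c = 0 ∧ 11 ≤ n := by
  have : ∀ r < 13, ∀ n < 13, ∀ m < 27, r ≤ n → 91 + 240 * (m % 3) + 720 * (m / 3 % 3) + 640 * (m / 9) ∣ 2 ^ (r * (n - r)) * ∏ i ∈ Finset.range r, (2 ^ r - 2 ^ i) →
    m / 9 = 0 ∧ 11 ≤ n := by decide +kernel
  intro a _ b _ c _ n _ r _
  have := this r (by omega) n (by omega) (a + 3 * b + 9 * c) (by omega) ‹_›
  rwa [show (a + 3 * b + 9 * c) % 3 = a by omega, show (a + 3 * b + 9 * c) / 3 % 3 = b by omega, show (a + 3 * b + 9 * c) / 9 = c by omega] at this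

namespace F4
variable {z : G} {Q : Subgroup (centralizer ({z} : Set G))} {ν : centralizer ({z} : Set G) → ℕ} {ρ : centralizer ({z} : Set G) →* G12}
  (F : F4 Q (zc z) ν ρ)
include F

theorem lsg : LS (Qg Q) z := by
  have h := F.ls
  have v := @Subtype.val_injective G (· ∈ centralizer {z})
  have sc : ∀ g, (∀ x ∈ Qg Q, g * x = x * g) → g = 1 ∨ g = z := fun g k =>
    (h.selfc ⟨g, mem_cent_single.2 (k z (mem_Qg.2 h.mem))⟩ fun x hx => v (k _ (mem_Qg.2 hx))).imp (congrArg Subtype.val) (congrArg Subtype.val)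
  refine ⟨⟨mem_Qg.2 h.mem, fun e => h.ne (v e), congrArg Subtype.val h.sq, ?_, fun x _ => sc x, ?_, ?_, ?_⟩, sc, ?_⟩
  · rintro _ ⟨x, -, rfl⟩; exact mem_cent_single.1 x.2
  · rintro _ ⟨x, a, rfl⟩ _ ⟨y, b, rfl⟩; exact (h.comm x a y b).imp (congrArg Subtype.val) (congrArg Subtype.val)
  · rintro _ ⟨x, a, rfl⟩; exact (h.sq_mem x a).imp (congrArg Subtype.val) (congrArg Subtype.val)
  · obtain ⟨x, a, y, b, e⟩ := h.nonab; exact ⟨_, mem_Qg.2 a, _, mem_Qg.2 b, fun k => e (v k)⟩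
  · rintro g k _ ⟨x, a, rfl⟩; exact mem_Qg.2 (F.nm ⟨g, mem_cent_single.2 k⟩ a)

theorem cardg : Nat.card (Qg Q) = 2 ^ 13 := (card_map_of_injective (subtype_injective _)).trans F.card

variable [Finite G]

theorem lp {s : centralizer ({z} : Set G)} {g : G} (hs : s ∈ Q) (hg : g * z * g⁻¹ = s) (n : s.1 ≠ z) : LP (Qg Q) (cj g (Qg Q)) z s :=
  hg ▸ F.lsg.lp (hg ▸ mem_Qg.2 hs) (hg ▸ n) (by rw [F.cardg]; norm_num)

theorem key {s : centralizer ({z} : Set G)} {g : G} (hs : s ∈ Q) (hg : g * z * g⁻¹ = s) (n : s.1 ≠ z) (h5 : ν s = 5 ∨ ν s = 85) :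
    ν s = 85 ∧ ((cj g (Qg Q)).subgroupOf _).map ρ = Py 4 := by
  have L := F.lp hs hg n
  obtain ⟨y, hy, k⟩ := L.r.exists_anti L.zQ L.l.ne L.ne.symm
  have c1 := L.r.card_two le_rfl L.zQ hy k
  have c2 := L.l.card_ab F.cardg inf_le_left ⟨L.l.mem, L.zQ⟩ L.elem.1
  have c3 := F.card_map (B := (cj g (Qg Q)).subgroupOf _)
  rw [← card_map_of_injective (subtype_injective _), ← card_map_of_injective (K := _ ⊓ Q) (subtype_injective _),
    map_inf _ _ _ (subtype_injective _), subgroupOf_map_subtype, inf_assoc, inf_eq_right.2 (map_subtype_le Q), inf_comm _ (Qg Q)] at c3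
  rw [card_cj, F.cardg] at c1
  have n0 : ν s ≠ 0 := by omega
  have l := le_pCoreOf (p := 2) (K := ((cj g (Qg Q)).subgroupOf _).map ρ) (M := N0 ⊓ stab ψ (ν s)) (F.rn ▸ F.cent_map hs n0 ▸ map_mono
    fun x hx => mem_cent_single.2 (Subtype.ext (L.r.cen _ hx))) (F.rn ▸ F.cent_map hs n0 ▸ (map_mono fun x hx =>
      mem_normalizer_of_conj_mem fun y hy => L.r.norm _ (congrArg Subtype.val (mem_cent_single.1 hx)) _ hy).trans (le_normalizer_map _))
    (L.r.isPGroup.comap_subtype.map _)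
  have c4 := card_le_of_le l
  rcases h5 with e | e <;> rw [e] at l c4
  · rw [op5] at c4; nlinarith
  rw [op85] at l c4
  exact ⟨e, eq_of_le_of_card_ge l (by rw [show Nat.card (Py 4) = 32 from Py_card (by norm_num)]; nlinarith)⟩

theorem key2 {s : centralizer ({z} : Set G)} {g : G} (hs : s ∈ Q) (hg : g * z * g⁻¹ = s) (n : s.1 ≠ z) :
    A12.O2.testBit (ν s) = true ∧ ∀ y : centralizer ({z} : Set G), y.1 ∈ cj g (Qg Q) → ρ y ∈ H0 := by
  rcases sing_iff.2 ⟨F.lt s, (F.sq hs).1 (Subtype.ext (F.lp hs hg n).r.sq), (F.ne_zero hs).2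
    ⟨fun e => (F.lp hs hg n).r.ne (congrArg Subtype.val e), fun e => n (congrArg Subtype.val e)⟩⟩ with k | k
  · obtain ⟨u, hu, e⟩ := (orb1.1 _).1 k
    have := ((F.twist (K1_le_N0 (inv_mem hu))).key hs hg n (.inl (by rw [← e, G12.inv_ap]))).1
    rw [← e, G12.inv_ap] at this; omega
  obtain ⟨u, hu, e⟩ := (orb2.1 _).1 k
  refine ⟨k, fun y hy => ?_⟩
  simpa [mul_assoc] using H0_cj (K1_le_N0 hu) (T0_le (Py_anti.1 (((F.twist (K1_le_N0 (inv_mem hu))).key hs hg n (.inr (by rw [← e, G12.inv_ap]))).2.le ⟨y, hy, rfl⟩)))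

theorem inH {s l l' : centralizer ({z} : Set G)} {g : G} (hs : s ∈ Q) (hg : g * z * g⁻¹ = s) (e : ν s = 85) (hl : l * s = s * l) (h : ρ l ∈ H0)
    (k : g⁻¹ * l * g = l') : ρ l' ∈ H0 := by
  have n : s.1 ≠ z := fun k => by rw [show s = zc z from Subtype.ext k, F.νz] at e; omega
  have L := F.lp hs hg n
  have cm := F.cent_map hs (by omega)
  rw [F.rn, e] at cm
  have iN : ∀ a, ρ a ∈ N0 := fun a => F.rn.le ⟨a, rfl⟩
  have m : ∀ a : centralizer ({z} : Set G), a * s = s * a → g⁻¹ * a * g ∈ centralizer {z} := fun a k => mem_cent_single.2 (by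
    simpa [← hg, mul_assoc] using congrArg (fun w : centralizer ({z} : Set G) => g⁻¹ * w * g) k)
  let χ : centralizer ({s} : Set (centralizer ({z} : Set G))) →* centralizer ({z} : Set G) :=
    MonoidHom.mk' (fun a => ⟨_, m a (mem_cent_single.1 a.2)⟩) fun a b => Subtype.ext (by simp [mul_assoc])
  obtain ⟨θ, θ1, θ2⟩ := exists_θ6
  let φ := θ.comp ((ρ.comp (centralizer {s}).subtype).codRestrict _ fun a => cm.le ⟨a, a.2, rfl⟩)
  have φ1 : Function.Surjective φ := θ1.comp fun ⟨_, hb⟩ => (cm.ge hb).elim fun a k => ⟨⟨a, k.1⟩, Subtype.ext k.2⟩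
  have φ2 : ∀ a, a ∈ φ.ker → ρ a.1 ∈ Py 4 := fun a ha => θ2.le ha
  have j1 := sq6 φ1 (J := H0.comap (ρ.comp (centralizer {s}).subtype)) (fun a ha => T0_le (Py_anti.1 (φ2 a ha))) fun a =>
    show ρ (a.1 * a.1) ∈ H0 from map_mul ρ _ _ ▸ (N0_mul (iN _) (iN _)).2 Iff.rfl
  have j2 := sq6 φ1 (J := H0.comap (ρ.comp χ)) (fun a ha => by
    obtain ⟨b, hb, k⟩ := (F.key hs hg n (.inr e)).2.ge (φ2 a ha)
    have bs : b * s = s * b := Subtype.ext (L.r.cen _ hb)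
    have := (F.key2 (s := ⟨_, m (zc z) (zc_cen s).symm⟩) (g := g⁻¹) (mem_Qg.1 (mem_cj.1 L.zQ)) (by rw [inv_inv]; rfl)
      (fun k => n (hg ▸ conj_eq_of_comm (by simpa [mul_assoc, zc] using (congrArg (g * ·) k).symm)))).2 (χ (a * (⟨b, mem_cent_single.2 bs⟩ : centralizer {s})⁻¹))
      (mem_cj.2 (by simpa [χ, mul_assoc] using mem_Qg.2 (F.mem.1 (show ρ (a * b⁻¹) = 1 by rw [map_mul, map_inv, k, mul_inv_cancel]))))
    rw [map_mul, map_mul, map_inv, map_inv, (F.mem (g := χ ⟨b, _⟩)).2 (mem_Qg.1 (mem_cj.1 hb)), inv_one, mul_one] at this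
    exact this) fun a => show ρ (χ (a * a)) ∈ H0 by rw [map_mul, map_mul]; exact (N0_mul (iN _) (iN _)).2 Iff.rfl
  rw [show l' = χ ⟨l, mem_cent_single.2 hl⟩ from Subtype.ext k.symm]
  refine j2 (by_contra fun c => τ_H0 ?_)
  obtain ⟨t, ht, k⟩ := cm.ge ⟨τ_N0, τ_WS (by decide +kernel)⟩
  by_cases c2 : (⟨t, ht⟩ : centralizer {s}) ∈ (alternatingGroup (Fin 6)).comap φ
  · exact k ▸ j1 c2
  have : ρ (t * l) ∈ H0 := j1 (show φ (⟨t, ht⟩ * ⟨l, mem_cent_single.2 hl⟩) ∈ alternatingGroup _ from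
    map_mul φ _ _ ▸ (mul_mem_iff_of_index_two alternatingGroup.index_eq_two).2 (iff_of_false c2 c))
  exact k ▸ (mul_mem_cancel_right h).1 (map_mul ρ _ _ ▸ this)

theorem exists_two (hw : ∃ s ∈ Q, IsConj z s.1 ∧ s.1 ≠ z) : ∃ K : Subgroup G, K.index = 2 := by
  classical
  by_contra hG
  obtain ⟨μ, d, B⟩ := F.exists_FB
  have hO : ∀ s ∈ Q, s ≠ zc z → (IsConj z s.1 ↔ A12.O2.testBit (ν s) = true) := fun s hs n => by
    refine ⟨fun h => (isConj_iff.1 h).elim fun g e => (F.key2 hs e fun k => n (Subtype.ext k)).1, fun h => ?_⟩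
    obtain ⟨b, a, c, k⟩ := hw
    obtain ⟨g, e⟩ := isConj_iff.1 c
    obtain ⟨x, -, k⟩ := F.conj_orb (F.rn ▸ K1_le_N0) orb2 (by norm_num) a hs (F.key2 a e k).1 h
    exact c.trans (isConj_iff.2 ⟨x, congrArg Subtype.val k⟩)
  have T : Amalg.Syl 2 (Qg ((Py 0).comap ρ)) ⊤ := by
    obtain ⟨T, h, -, l⟩ := F.lsg.exists_syl
    refine h.of_card_ge (B.T_syl.isPGroup.map _) le_top ?_
    rw [← card_subgroupOf_of_le l, card_map_of_injective (subtype_injective _)]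
    exact B.T_syl.card_le h.isPGroup.comap_subtype le_top
  have T' := T.of_le (map_subtype_le _) le_top
  have cg : ∀ X : Subgroup (centralizer ({z} : Set G)), Nat.card (Qg X) = Nat.card X := fun X => card_map_of_injective (subtype_injective _)
  have dn : ∀ {E : Subgroup G}, E ≤ centralizer {z} → IsElementaryAbelian 2 E → IsElementaryAbelian 2 (E.subgroupOf (centralizer {z})) := fun l e =>
    elem_of_sq fun a ha => Subtype.ext ((pow_two a.1).symm.trans (e.2 _ ha))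
  have cA : centralizer (Qg (centralizer (Wh Q ν) ⊓ H0.comap ρ) : Set G) ≤ Qg (centralizer (Wh Q ν)) := fun g h =>
    (mem_Qg (x := ⟨g, mem_cent_single.2 (h z (mem_Qg.2 (B.WA B.zW))).symm⟩)).2 fun _ hy => Subtype.ext (h _ (mem_Qg.2 (B.WA hy)))
  have eA : IsElementaryAbelian 2 (centralizer (Wh Q ν) ⊓ H0.comap ρ) := elem_of_sq fun a h => by obtain ⟨c, -, rfl⟩ := (B.memA a).1 h; exact B.μsq c
  have dd : d * d = 1 := B.dd.resolve_right fun dd => by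
    obtain ⟨s, hs, e⟩ := F.sur 85 (by norm_num)
    have n : s ≠ zc z := fun k => by rw [k, F.νz] at e; omega
    obtain ⟨g, hg⟩ := isConj_iff.1 ((hO s hs n).2 (by rw [e]; decide +kernel))
    have sW : s ∈ Wh Q ν := ⟨hs, by rw [e]; decide +kernel⟩
    have l : cj g⁻¹ (Qg (centralizer (Wh Q ν) ⊓ H0.comap ρ)) ≤ centralizer {z} := by
      rintro _ ⟨_, ⟨a, ha, rfl⟩, rfl⟩
      exact mem_cent_single.2 (by simpa [← hg, mul_assoc] using congrArg (fun w : centralizer ({z} : Set G) => g⁻¹ * w * g) (ha.1 s sW).symm)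
    obtain ⟨k, hk, l'⟩ := T'.exists_conj_le (elemAb_isPGroup (elemAb_map (elemAb_map eA _) _)) l
    have l2 := l'.trans (map_subtype_le _)
    have := B.uq ((cj k (cj g⁻¹ (Qg (centralizer (Wh Q ν) ⊓ H0.comap ρ)))).subgroupOf _) (fun y hy => T_H0 ⟨mem_Qg.1 (l' hy), by
      obtain ⟨u, hu, k1⟩ := hy
      obtain ⟨_, ⟨a, ha, rfl⟩, k2⟩ := id hu
      rw [show y = ⟨k, hk⟩ * ⟨u, l hu⟩ * (⟨k, hk⟩ : centralizer {z})⁻¹ from Subtype.ext k1.symm, map_mul, map_mul, map_inv]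
      exact H0_cj (B.inN _) (F.inH hs hg e (ha.1 s sW).symm ha.2 (by simpa using k2))⟩) (dn l2 (elemAb_map (elemAb_map (elemAb_map eA _) _) _))
      (by rw [card_subgroupOf_of_le l2, card_cj, card_cj, cg, B.cardA])
    have nA := cj_eq_self_iff.1 ((cj_mul _ _ _).trans ((map_subgroupOf_eq_of_le l2).symm.trans (congrArg Qg this)))
    obtain ⟨b, hb, k3⟩ := cA (x := (k * g⁻¹)⁻¹ * d * (k * g⁻¹)) fun y hy => by
      obtain ⟨a, ha, k4⟩ := (mem_normalizer_iff.1 nA y).1 hy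
      obtain ⟨c, -, rfl⟩ := (B.memA a).1 ha
      have : d.1 * (k * g⁻¹ * y * (k * g⁻¹)⁻¹) = k * g⁻¹ * y * (k * g⁻¹)⁻¹ * d := k4 ▸ congrArg Subtype.val (B.dμ c)
      simpa [mul_assoc] using (congrArg (fun w => (k * g⁻¹)⁻¹ * w * (k * g⁻¹)) this).symm
    have : b * b = s := Subtype.ext (by
      rw [coe_mul, show b.1 = _ from k3, ← hg]
      calc _ = g * (k⁻¹ * (d.1 * d.1) * k⁻¹⁻¹) * g⁻¹ := by group
        _ = _ := by rw [show d.1 * d.1 = z from congrArg Subtype.val dd, conj_eq_of_comm (mem_cent_single.1 (inv_mem hk))])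
    rcases B.sqB hb with k | k <;> rw [this] at k
    · rw [k, F.one] at e; omega
    · exact n (k.trans dd)
  have eB : IsElementaryAbelian 2 (Qg (centralizer (Wh Q ν))) := elemAb_map (elem_of_sq fun a h => (B.sqB h).elim id (·.trans dd)) _
  have uB : ∀ E ≤ Qg ((Py 0).comap ρ), IsElementaryAbelian 2 E → Nat.card (Qg (centralizer (Wh Q ν))) ≤ Nat.card E → E = Qg (centralizer (Wh Q ν)) := fun E l e c => by
    have l2 := l.trans (map_subtype_le _)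
    rw [← B.uqB (E := E.subgroupOf _) (fun y hy => mem_Qg.1 (l hy)) (dn l2 e) (by rwa [card_subgroupOf_of_le l2, ← B.cardB, ← cg]), Qg, map_subgroupOf_eq_of_le l2]
  have fus := fun a b => fusion_of_uniq' (a := a) (b := b) eB fun P hP => (T.exists_conj_le hP le_top).imp fun g k E l e c =>
    uB _ ((cj_mono g l).trans k.2) (elemAb_map e _) (by rwa [card_cj])
  have d1 : ρ d ∉ H0 := B.dρ ▸ τ_H0
  obtain ⟨g, g1, g2⟩ := thompson_transfer_extremal (fun K h => hG ⟨K, h⟩) (H := centralizer {z}) (M := Qg (H0.comap ρ))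
    (Nat.not_even_iff_odd.1 fun h => T.not_dvd_index ((even_iff_two_dvd.1 h).trans (index_dvd_of_le (map_subtype_le _))))
    (by rw [relIndex, subgroupOf, comap_map_eq_self_of_injective (subtype_injective _), B.idx])
    (t := d) (orderOf_eq_prime ((pow_two _).trans (congrArg Subtype.val dd)) fun e => d1 (by rw [show d = 1 from Subtype.ext e, map_one]; exact one_mem _))
    (elemAb_isPGroup eB) fun y hy => mem_cent_single.2 (elemAb_le_cent eB (mem_Qg.2 B.dB) y hy)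
  obtain ⟨k, hk, l⟩ := T'.exists_conj_le (P := cj g⁻¹ (Qg (centralizer (Wh Q ν)))) (elemAb_isPGroup (elemAb_map eB _)) (by
    rintro _ ⟨y, hy, rfl⟩; simpa using g2 y hy)
  have nB := cj_eq_self_iff.1 ((cj_mul _ _ _).trans (uB _ l (elemAb_map (elemAb_map eB _) _) (by rw [card_cj, card_cj])))
  let Z := {y | y ∈ Qg (centralizer (Wh Q ν)) ∧ IsConj z y}
  have zZ : z ∈ Z := ⟨mem_Qg.2 (B.WA B.zW).1, IsConj.refl z⟩
  have lZ : closure Z ≤ Qg (centralizer (Wh Q ν)) := (closure_le _).2 fun y hy => hy.1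
  have nZ : normalizer (Qg (centralizer (Wh Q ν)) : Set G) ≤ normalizer (closure Z : Set G) := fun m hm => mem_normalizer_of_conj_mem fun y hy => by
    refine (map_le_iff_le_comap.2 ((closure_le _).2 fun y hy => subset_closure ?_) : cj m (closure Z) ≤ closure Z) (conj_mem_cj m hy)
    exact ⟨(mem_normalizer_iff.1 hm y).1 hy.1, hy.2.trans (isConj_iff.2 ⟨m, rfl⟩)⟩
  have dv := ncard_orb_dvd (subset_closure zZ : z ∈ closure Z)
  rw [show {y | ∃ g ∈ normalizer (closure Z : Set G), g * z * g⁻¹ = y} = Subtype.val '' {y | y ∈ centralizer (Wh Q ν) ∧ IsConj z y.1} from Set.ext fun y =>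
    ⟨fun ⟨g, a, e⟩ => (lZ (e ▸ (mem_normalizer_iff.1 a z).1 (subset_closure zZ))).imp fun u k => ⟨⟨k.1, isConj_iff.2 ⟨g, e.trans k.2.symm⟩⟩, k.2⟩,
    fun ⟨u, a, e⟩ => (fus _ _ zZ.1 (e ▸ mem_Qg.2 a.1) (e ▸ a.2)).imp fun g k => ⟨nZ k.1, k.2⟩⟩, Set.ncard_image_of_injective _ Subtype.val_injective, B.cntB] at dv
  obtain ⟨a, ha, b, hb, c1⟩ := B.cnt (fun y => IsConj z y.1) (ic_cj) (fun h => F.lsg.ne (isConj_one_right.1 h.symm)) (IsConj.refl z) hO
  obtain ⟨c, hc, c2⟩ := B.cnt2 (p := fun y => IsConj z y.1) (ic_cj) fun u h1 h2 h3 => h2 (K1_H0 (F.no_tr F.rn.le h3 h1))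
  obtain ⟨n, hn, e1⟩ := (Nat.dvd_prime_pow Nat.prime_two).1 (B.cardB ▸ cg _ ▸ card_dvd_of_le lZ)
  obtain ⟨r, hr, e2⟩ := (Nat.dvd_prime_pow Nat.prime_two).1 (e1 ▸ (frattini (closure Z)).index_dvd_card)
  obtain ⟨rfl, n11⟩ := gl12 a ha b hb c hc n hn r hr (c1 ▸ c2 ▸ dv.trans (Coprime.card_mulAut_dvd e1 e2))
  have eZ : closure Z = Qg (centralizer (Wh Q ν) ⊓ H0.comap ρ) := eq_of_le_of_card_ge ((closure_le _).2 (by
    rintro _ ⟨⟨y, hy, rfl⟩, h⟩
    obtain ⟨c, hc, rfl | rfl⟩ := B.memB.1 hy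
    · exact mem_Qg.2 ⟨hy, B.μH c⟩
    · exact absurd h (Finset.filter_eq_empty_iff.1 (Finset.card_eq_zero.1 c2) (Finset.mem_range.2 hc)))) (by
    rw [cg, B.cardA, e1]; exact Nat.pow_le_pow_right two_pos n11)
  obtain ⟨u, u1, u2⟩ := g1
  refine d1 (mem_inf.1 (mem_Qg.1 (eZ.le ((mem_normalizer_iff.1 (nZ nB) d.1).2 (eZ.ge ?_))))).2
  have : k * g⁻¹ * d * (k * g⁻¹)⁻¹ = (⟨k, hk⟩ * u * (⟨k, hk⟩ : centralizer {z})⁻¹ : centralizer {z}) := by simp [show u.1 = _ from u2, mul_assoc]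
  refine this ▸ mem_Qg.2 ⟨mem_Qg.1 (this ▸ (mem_normalizer_iff.1 nB d.1).1 (mem_Qg.2 B.dB)), ?_⟩
  exact show ρ _ ∈ H0 by rw [map_mul, map_mul, map_inv]; exact H0_cj (B.inN _) u1

end F4

end Cfsg.Lib.Fi
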