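import Cfsg.Agent.Lib.Fi.Fx4
import Cfsg.Agent.Lib.Fi.Fr19
import Cfsg.Agent.Lib.Fi24r.Cor

/-! Groups with an involution centraliser `2^{1+12}.3.U₄(3).2²` are `Fi₂₄`. -/

set_option maxRecDepth 100000

namespace Cfsg.Lib.Fi

open Cfsg.Lib.Comp Subgroup A12 Cfsg.Lib.Core Cfsg.Lib.Known2 Cfsg.Lib.Amalg
open scoped commutatorElement

variable {G : Type*} [Group G]

theorem o2_N0 {P : Subgroup G12} (h : P ≤ N0) (h2 : IsPGroup 2 P) (hn : K1 ≤ normalizer (P : Set G12)) : P = ⊥ := by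
  have S : Amalg.Syl 2 (Py 0) N0 := Amalg.syl_of_not_dvd ((Py_le 0).trans inf_le_left) (.of_card (Py_card (by norm_num))) (by
    have := ((Py 0).subgroupOf N0).card_mul_index
    rw [card_subgroupOf_of_le ((Py_le 0).trans inf_le_left), Py_card (by norm_num), N0_card] at this
    rw [relIndex]; omega)
  obtain ⟨g, hg, l⟩ := S.exists_conj_le h2 h
  obtain ⟨u, hu, e⟩ := (orb2.1 (ψ g⁻¹ 85)).1 ((sst_bit (N0_O2 (inv_mem hg)) 85).trans (by decide +kernel))
  have k : ∀ p ∈ P, ∀ v, A12.O2.testBit v = true → ψ p v = v := fun p hp v hv => by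
    obtain ⟨w, hw, rfl⟩ := (orb2.1 v).1 hv
    have : ψ (g * (u * w⁻¹ * p * (u * w⁻¹)⁻¹) * g⁻¹) 85 = 85 := (Py_le 0 (l (conj_mem_cj g ((mem_normalizer_iff.1 (hn (mul_mem hu (inv_mem hw))) p).1 hp)))).2
    rw [G12.mul, ← e, mul_inv_rev, inv_inv] at this
    simp only [G12.mul, G12.inv_ap] at this
    rw [← G12.inj g⁻¹, G12.inv_ap, ← e, G12.inj, ← G12.inj w, G12.ap_inv] at this
    exact this
  refine eq_bot_iff.2 fun p hp => G12.ext_basis fun i hi => ?_
  have : ∀ i < 12, ∃ a ∈ [255, 3845], a < 4096 ∧ a ^^^ 2 ^ i < 4096 ∧ A12.O2.testBit a = true ∧ A12.O2.testBit (a ^^^ 2 ^ i) = true := by decide +kernel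
  obtain ⟨a, -, a1, a2, a3, a4⟩ := this i hi
  have := G12.xor p a1 a2
  rwa [k p hp _ a3, k p hp _ a4, ← Nat.xor_assoc, Nat.xor_self, Nat.zero_xor] at this

theorem Fr.pull {Q : Subgroup G} {z : G} {ν : G → ℕ} {ρ : G →* G12} (F : Fr Q z ν ρ) {L : Type*} [Group L] {ι : L →* G} (v : Function.Injective ι)
    (m : Q ≤ ι.range) {w : L} (hw : ι w = z) : Fr (Q.comap ι) w (fun y => ν (ι y)) (ρ.comp ι) := by
  subst hw
  have h := F.ls
  have sc := fun (g : L) (k : ∀ x ∈ Q.comap ι, g * x = x * g) =>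
    (h.selfc (ι g) fun x hx => (m hx).elim fun y e => by subst e; simpa using congrArg ι (k y hx)).imp (fun e => v (e.trans (map_one ι).symm)) (v ·)
  refine ⟨⟨⟨h.mem, fun e => h.ne (by rw [e, map_one]), v (by simpa using h.sq), fun x _ => v (by simpa using F.cen _), fun x _ => sc x,
    fun x a y b => (h.comm _ a _ b).imp (fun e => v (by simpa using e)) fun e => v (by simpa using e),
    fun x a => (h.sq_mem _ a).imp (fun e => v (by simpa using e)) fun e => v (by simpa using e), ?_⟩, sc, fun g _ x hx => by simpa using F.nm (ι g) hx⟩,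
    fun g => v (by simpa using F.cen _), fun y => F.lt _, fun a b => by simpa using F.mul a b,
    fun {y} a => (F.zero a).trans ?_, fun n hn => ?_, fun {y} a => (z2_ext (by rw [κ_zero, κ_zero, ← map_mul, ← map_one ι, v.eq_iff])).trans (F.κ a),
    fun {x y} a b => (z2_ext (by rw [β_zero, β_zero, ← map_mul, ← map_mul, v.eq_iff])).trans (F.β a b), fun g _ a => by simpa using F.conj (ι g) a,
    Subgroup.ext fun g => F.mem⟩
  · obtain ⟨x, a, y, b, e⟩ := h.nonab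
    obtain ⟨x, rfl⟩ := m a
    obtain ⟨y, rfl⟩ := m b
    exact ⟨x, a, y, b, fun k => e (by simpa using congrArg ι k)⟩
  · rw [h.mem_zp, mem_zpowers_invol (v (by simpa using h.sq)), ← map_one ι, v.eq_iff, v.eq_iff]
  · obtain ⟨y, a, e⟩ := F.sur n hn
    obtain ⟨y, rfl⟩ := m a
    exact ⟨y, a, e⟩

theorem FT.large [Finite G] {z : G} {Q : Subgroup (centralizer ({z} : Set G))} [Q.Normal] {ν : centralizer ({z} : Set G) → ℕ} {ρ : centralizer ({z} : Set G) →* G12}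
    (F : FT Q (zc z) ν ρ) (hw : ∃ s ∈ Q, IsConj z s.1 ∧ s.1 ≠ z) : IsOfLargeFischerTypeAt z Q := by
  have nm : ∀ K : Subgroup G12, N0 ≤ normalizer (K : Set G12) → (K.comap ρ).Normal := fun K h => ⟨fun a ha g => by
    simpa using (mem_normalizer_iff.1 (h (F.n0 ⟨g, rfl⟩)) _).1 ha⟩
  have p : pCore 2 (centralizer ({z} : Set G)) = Q := le_antisymm (F.ker ▸ (Subgroup.map_eq_bot_iff _).1 (o2_N0 ((map_le_range _ _).trans F.n0) ((isPGroup_pCore _ _).map _)
    (F.k1.trans (by rw [MonoidHom.range_eq_map, ← normalizer_eq_top (pCore 2 _)]; exact le_normalizer_map _)))) (le_pCore F.ls.isPGroup)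
  obtain ⟨s, hs, c, n⟩ := hw
  obtain ⟨g, e⟩ := isConj_iff.1 c
  have nX : N0 ≤ normalizer (zpowers X0 : Set G12) := fun a ha => mem_normalizer_of_conj_mem fun _ ⟨j, e⟩ => by
    have n := mem_normalizer_iff.1 (N0_norm (inv_mem ha))
    rw [← e, ← conj_zpow]
    refine zpow_mem (mem_subgroupOf.1 ((K1_cov.cen fun g hg => mem_cent_zpowers.2 (mem_cent_single.1 (K1_GU hg))).1.le
      (Subgroup.mem_center_iff.2 fun g => Subtype.ext ?_ : (⟨_, (mem_normalizer_iff.1 (N0_norm ha) _).1 (K1_cov.1 (mem_zpowers X0))⟩ : K1) ∈ _))) j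
    simpa [mul_assoc] using congrArg (fun u => a * u * a⁻¹) (mem_cent_single.1 (K1_GU ((n g).1 g.2)))
  have := nm _ nX
  have : Fact (Nat.Prime 3) := ⟨Nat.prime_three⟩
  have hK : @Fintype.card (GaloisField 3 2) (Fintype.ofFinite _) = 9 := by
    rw [← @Nat.card_eq_fintype_card _ (Fintype.ofFinite _), GaloisField.card 3 2 (by norm_num)]; rfl
  obtain ⟨f⟩ := @U43x.iso _ _ (Fintype.ofFinite _) hK
  obtain ⟨l, θ, θ1, θ2⟩ := K1_cov
  let φ := θ.comp ((ρ.comp (K1.comap ρ).subtype).codRestrict _ fun a => a.2)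
  have φ1 : Function.Surjective φ := θ1.comp fun ⟨_, hb⟩ => (F.k1 hb).elim fun a k => ⟨⟨a, show ρ a ∈ K1 from k ▸ hb⟩, Subtype.ext k⟩
  have φ2 : ((zpowers X0).comap ρ).subgroupOf (K1.comap ρ) = φ.ker := Subgroup.ext fun a => (SetLike.ext_iff.1 θ2 ⟨ρ a, a.2⟩).symm
  refine ⟨⟨orderOf_eq_prime ((pow_two z).trans F.lsg.sq) F.lsg.ne, p ▸ Layer.fstar_eq_pCore_iff.2 (p.symm ▸ fun c hc =>
    (F.ls.selfc c fun y hy => (hc y hy).symm).elim (· ▸ one_mem _) (· ▸ F.ls.mem)), F.ls.isExtraspecial, F.card, g, ⟨e ▸ s.2, by simpa [e] using hs⟩, e ▸ n⟩,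
    (zpowers X0).comap ρ, K1.comap ρ, nm _ nX, nm _ N0_norm, F.ker.ge.trans (ker_le_comap _ _), comap_mono l, ?_,
    ⟨_, _, _, hK, ⟨(QuotientGroup.quotientMulEquivOfEq φ2).trans ((QuotientGroup.quotientKerEquivOfSurjective φ φ1).trans f)⟩⟩, ?_⟩
  · rw [card_map_ker ρ (ker_le_comap _ _), map_comap_eq_self (l.trans F.k1), F.ker, Nat.card_zpowers, X0_ord]
  · have := (K1.subgroupOf ρ.range).card_mul_index
    rw [card_subgroupOf_of_le F.k1, K1_card, F.cr] at this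
    rw [index_comap, relIndex]; omega

theorem iso_four [Finite G] {z : G} {Q : Subgroup (centralizer ({z} : Set G))} {ν : centralizer ({z} : Set G) → ℕ} {ρ : centralizer ({z} : Set G) →* G12}
    (F : Fr Q (zc z) ν ρ) (hQ : Nat.card Q = 2 ^ 13) (hr : ρ.range = N0) (hw : ∃ s ∈ Q, IsConj z s.1 ∧ s.1 ≠ z) : Nonempty (G ≃* Spor.Fi24) := by
  replace F : F4 Q (zc z) ν ρ := ⟨F, hQ, hr⟩
  obtain ⟨K, hK⟩ := F.exists_two hw
  have nK := normal_of_index_eq_two hK
  have two := fun a b => mul_mem_iff_of_index_two hK (a := a) (b := b)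
  have cm : ∀ a b, ⁅a, b⁆ ∈ K := fun a b => by rw [commutatorElement_def, two, inv_mem_iff]; exact nK.mem_comm_iff.trans (by simp)
  have zK : z ∈ K := by
    obtain ⟨a, ha, b, hb, n⟩ := F.lsg.nonab
    simpa [commutatorElement_def, F.lsg.anti ha hb n, mul_assoc, ← F.lsg.cen _ (inv_mem ha), ← F.lsg.cen _ (inv_mem hb)] using cm a b
  obtain ⟨h, h1, h2⟩ : ∃ h ∈ centralizer {z}, h ∉ K := by
    by_contra! c
    obtain ⟨T, a, -, b⟩ := F.lsg.exists_syl
    exact a.not_dvd_index (hK ▸ index_dvd_of_le (b.trans c))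
  let ι : centralizer ({⟨z, zK⟩} : Set K) →* centralizer ({z} : Set G) := (K.subtype.comp (centralizer _).subtype).codRestrict _ fun a =>
    mem_cent_single.2 (congrArg Subtype.val (mem_cent_single.1 a.2))
  have v : Function.Injective ι := fun a b e => Subtype.ext (Subtype.ext (congrArg Subtype.val e :))
  have r : ∀ a : centralizer ({z} : Set G), a.1 ∈ K → a ∈ ι.range := fun a ha => ⟨⟨⟨a, ha⟩, mem_cent_single.2 (Subtype.ext (mem_cent_single.1 a.2))⟩, rfl⟩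
  obtain ⟨x, rx⟩ := F.rn.ge (K1_le_N0 (K1_cov.1 (mem_zpowers X0)))
  have k : X0 ^ 3 = 1 := X0_ord ▸ pow_orderOf_eq_one X0
  have rx' : ρ (x ^ 2 * x ^ 2) = X0 := by rw [← pow_add, map_pow, rx, pow_succ, k, one_mul]
  have x3 : (x ^ 2 * x ^ 2) ^ 3 = 1 := by
    rw [← pow_add, ← pow_mul, mul_comm, pow_mul]
    exact F.ls.pow_four (F.mem.1 (by rw [map_pow, rx, k]))
  have QK : ∀ y ∈ Q, y.1 ∈ K := fun y hy => by
    have := (zpowers_le.2 (show zc z ∈ K.subgroupOf _ from zK)) ((F.fpf rx' x3).tri hy)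
    generalize x ^ 2 * x ^ 2 = u at this
    have c : ∀ a : centralizer ({z} : Set G), (u * a * u⁻¹).1 ∈ K ↔ a.1 ∈ K := fun a => nK.mem_comm_iff.trans (by simp)
    rw [mem_subgroupOf, coe_mul, coe_mul, two, two, c, c, c] at this
    exact this.1 Iff.rfl
  have m : Q ≤ ι.range := fun y hy => r y (QK y hy)
  have F1 := F.pull v m (w := zc _) rfl
  have : (Q.comap ι).Normal := F1.ker ▸ inferInstance
  have i : ι.range.index = 2 := by
    rw [show ι.range = K.subgroupOf _ from le_antisymm (fun _ ⟨a, e⟩ => e ▸ a.1.2) r]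
    exact ((Nat.dvd_prime Nat.prime_two).1 (hK ▸ relIndex_dvd_index_of_normal K _)).resolve_left fun e => h2 (relIndex_eq_one.1 e h1)
  have rr : (ρ.comp ι).range = ι.range.map ρ := MonoidHom.range_comp _ _
  obtain ⟨e⟩ := iso_of_large' (FT.large ⟨F1, by rw [← card_map_of_injective v, map_comap_eq_self m, hQ], rr ▸ K1_cov.le (zpowers_le.2 ⟨_, r _ ((two _ _).2 Iff.rfl), rx'⟩)
    fun a ha b hb => by
      obtain ⟨a, rfl⟩ := F.rn.ge (K1_le_N0 ha)
      obtain ⟨b, rfl⟩ := F.rn.ge (K1_le_N0 hb)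
      exact ⟨_, r ⁅a, b⁆ (cm a b), map_commutatorElement _ _ _⟩, rr ▸ hr ▸ map_le_range _ _, by
      have c1 := F.card_map (B := ι.range)
      have c2 := F.card_map (B := ⊤)
      rw [inf_eq_right.2 m, hQ] at c1
      rw [top_inf_eq, ← MonoidHom.range_eq_map, card_top, ← ι.range.card_mul_index, i, c1, hQ, hr, N0_card] at c2
      rw [rr]; omega⟩ (by
    obtain ⟨s, hs, c, n⟩ := hw
    obtain ⟨s, rfl⟩ := m hs
    obtain ⟨g, e⟩ := isConj_iff.1 c
    refine ⟨s, hs, isConj_iff.2 ?_, fun k => n (congrArg Subtype.val k)⟩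
    by_cases c : g ∈ K
    · exact ⟨⟨g, c⟩, Subtype.ext e⟩
    · exact ⟨⟨g * h, (two _ _).2 (iff_of_false c h2)⟩, Subtype.ext (.trans (by simp [mul_assoc, ← mul_assoc h, mem_cent_single.1 h1]) e)⟩))
  exact (Fi24r.iso24 hK e fun c hc => (F.lsg.selfc c (by rintro _ ⟨y, hy, rfl⟩; exact (hc _ (QK y hy)).symm)).elim (· ▸ one_mem _) (· ▸ zK)).1

end Cfsg.Lib.Fi
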