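import Cfsg.Agent.Lib.Fi.Fr9
import Cfsg.Agent.Lib.Fi.V22

/-! Local recognition of 3-transposition classes whose centralisers may induce outer automorphisms on the links. -/

set_option linter.unusedSectionVars false

namespace Cfsg.Lib.Fi

open Subgroup Cfsg.Lib.Comp Cfsg.Lib.Known2 Cfsg.Lib.Known2.Cd

universe u

variable {G : Type u} [Group G] {D : Set G} {r k : ℕ} {c : ℕ → ℕ}

structure LocP (D : Set G) : Prop where
  loc : ∀ a ∈ D, R3 (Dd D a)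
  ctr : ∀ a ∈ D, ∀ z, (∀ y ∈ Dd D a, Commute z y) → z = 1 ∨ z = a
  dia : ∀ x ∈ D, ∀ y ∈ D, ¬ Commute x y → (∃ w ∈ Dd D y, Commute x w) → ∀ v ∈ Dd D y, ∃ z ∈ Dd D y, Commute x z ∧ Commute z v

namespace LocP

variable (h : LocP D) {a : G} (ha : a ∈ D)
include h

theorem step {b v : G} (ha : a ∈ D) (hb : b ∈ Cm D a) (hv : v ∈ D) (hc : Commute b v) : v ∈ Cm D a := by
  by_cases c : Commute a b
  · exact ⟨hv, b, hb.1, c, hc⟩
  by_cases e : v = b
  · exact e ▸ hb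
  obtain ⟨w, a1, a2, a3⟩ := hb.2
  obtain ⟨z, b1, b2⟩ := h.dia a ha b hb.1 c ⟨w, ⟨a1, fun e => c (e ▸ a2), a3.symm⟩, a2⟩ v ⟨hv, e, hc⟩
  exact ⟨hv, z, b1.1, b2⟩

include ha

theorem eq {b : G} (hb : b ∈ Cm D a) : Cm D b = Cm D a :=
  have k : ∀ {a b}, a ∈ D → b ∈ Cm D a → Cm D b ⊆ Cm D a := fun ha hb _ ⟨a1, _, a2, a3, a4⟩ =>
    h.step ha (h.step ha hb a2 a3) a1 a4
  (k ha hb).antisymm (k hb.1 (Cm.symm ha hb))

theorem dd {b : G} (hb : b ∈ Cm D a) : Dd (Cm D a) b = Dd D b :=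
  Set.ext fun _ => ⟨fun x => ⟨x.1.1, x.2⟩, fun x => ⟨h.step ha hb x.1 x.2.2, x.2⟩⟩

theorem ord : orderOf a = 2 := by
  obtain ⟨w, hw⟩ := (h.loc a ha).ne
  exact (h.loc w hw.1).tt.set.1 a (mem_Dd_comm ha hw)

theorem sq : a * a = 1 := by rw [← _root_.sq, ← h.ord ha, pow_orderOf_eq_one]

theorem tt : TT (Cm D a) := by
  have k : ∀ x ∈ Cm D a, ∀ y ∈ Cm D a, ¬ Commute x y → ∃ w ∈ Cm D a, x ∈ Dd D w ∧ y ∈ Dd D w := fun x hx y hy n => by
    obtain ⟨w, a1, a2, a3⟩ := (h.eq ha hx ▸ hy :).2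
    exact ⟨w, h.step ha hx a1 a2, mem_Dd_of_nc hx.1 n a2 a3, mem_Dd_of_nc hy.1 (fun e => n e.symm) a3.symm a2.symm⟩
  refine ⟨⟨fun x hx => h.ord hx.1, fun x hx y hy => ?_⟩, fun x hx y hy => ?_⟩ <;> by_cases n : Commute x y
  · left; rw [n.mul_pow, _root_.sq, _root_.sq, h.sq hx.1, h.sq hy.1, mul_one]
  · obtain ⟨w, a1, a2, a3⟩ := k x hx y hy n
    exact (h.loc w a1.1).tt.set.2 x a2 y a3
  · rwa [n.eq, mul_assoc, h.sq hx.1, mul_one]
  · obtain ⟨w, a1, a2, a3⟩ := k x hx y hy n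
    exact (h.dd ha a1 ▸ (h.loc w a1.1).tt.conj x a2 y a3 :).1

theorem vw : VW (Cm D a) := by
  have dd : ∀ x ∈ Cm D a, ∃ w, w ∈ Dd (Cm D a) x := fun x hx => h.dd ha hx ▸ (h.loc x hx.1).ne
  refine ⟨h.tt ha, ⟨a, Cm.self ha⟩, fun x hx y hy e => ?_, fun x hx y hy e => ?_, fun x hx => ?_, dd⟩
  · by_contra n
    obtain ⟨z, a1, a2⟩ := (h.loc x hx.1).nc y ⟨hy.1, Ne.symm n, e.commute hy⟩
    exact a2 ((e z (h.step ha hx a1.1 a1.2.2)).1 a1.2.2)
  · obtain ⟨w, hw⟩ := dd x hx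
    refine (h.loc w hw.1.1).rw x (mem_Dd_comm hx.1 (h.dd ha hx ▸ hw)) y (mem_Dd_comm hy.1 (h.dd ha hy ▸ e.mem hw)) ?_
    rw [RW, ← h.dd ha hw.1, Dd_comm, Dd_comm (x := w), show Dd (Cm D a) x = _ from e]
  · obtain ⟨w, hw⟩ := dd x hx
    obtain ⟨z, a1, a2⟩ := (h.loc w hw.1.1).nc x (mem_Dd_comm hx.1 (h.dd ha hx ▸ hw))
    exact ⟨z, h.step ha hw.1 a1.1 a1.2.2, a2⟩

theorem common {x y : G} (hx : x ∈ Cm D a) (hy : y ∈ Cm D a) (n : ¬ Commute x y) :
    ∃ w ∈ Cm D a, Commute x w ∧ Commute w y :=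
  let ⟨w, a1, a2⟩ := (h.eq ha hx ▸ hy :).2; ⟨w, h.step ha hx a1 a2.1, a2⟩

theorem tr {x y : G} (hx : x ∈ Cm D a) (hy : y ∈ Cm D a) : ∃ g ∈ closure (Cm D a), g * x * g⁻¹ = y := by
  by_cases e : y = x
  · exact ⟨1, one_mem _, by simp [e]⟩
  obtain ⟨w, a1, a2, a3⟩ : ∃ w ∈ Cm D a, x ∈ Dd D w ∧ y ∈ Dd D w := by
    by_cases n : Commute x y
    · obtain ⟨w, hw⟩ := (h.loc x hx.1).dd y ⟨hy.1, e, n⟩
      exact ⟨w, h.step ha hx hw.1.1 hw.1.2.2, mem_Dd_comm hx.1 hw.1, mem_Dd_comm hy.1 ⟨hw.1.1, hw.2⟩⟩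
    · obtain ⟨w, a1, a2, a3⟩ := h.common ha hx hy n
      exact ⟨w, a1, mem_Dd_of_nc hx.1 n a2 a3, mem_Dd_of_nc hy.1 (fun e => n e.symm) a3.symm a2.symm⟩
  obtain ⟨g, b1, b2⟩ := (h.loc w a1.1).tr x a2 y a3
  exact ⟨g, closure_mono (h.dd ha a1 ▸ Dd_subset _ w) b1, b2⟩

theorem r3 [Finite G] : R3 (Cm D a) := R3.of_vw (h.vw ha) (fun _ hx _ => h.tr ha hx) fun _ hx _ => h.common ha hx

theorem center : center (closure (Cm D a)) = ⊥ := (eq_bot_iff_forall _).2 fun z hz => by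
  have k : ∀ y ∈ Cm D a, Commute (z : G) y := fun y hy =>
    (congrArg Subtype.val (mem_center_iff.1 hz ⟨y, subset_closure hy⟩)).symm
  obtain ⟨y, a1, a2⟩ := (h.vw ha).nc a (Cm.self ha)
  exact Subtype.ext ((h.ctr a ha z fun y hy => k y (h.step ha (Cm.self ha) hy.1 hy.2.2)).resolve_right fun e => a2 (e ▸ k y a1))

theorem pair_unique {x y z : G} (hx : x ∈ Dd D a) (hy : y ∈ Cm D a) (hz : z ∈ Dd D y) (e : a * x = y * z) : y = a ∨ y = x := by
  have T := h.tt ha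
  have x1 := h.step ha (Cm.self ha) hx.1 hx.2.2
  have k1 := fun {e} he => T.commute_mul_iff (e := e) (Cm.self ha) x1 he hx.2.1.symm hx.2.2
  have c := (k1 hy).1 (e ▸ (Commute.refl y).mul_right hz.2.2)
  refine or_iff_not_imp_left.2 fun n => ((h.loc a ha).eq_of_sub hx ⟨hy.1, n, c.1.symm⟩ fun w hw b => ?_).symm
  have w1 := h.step ha (Cm.self ha) hw.1 hw.2.2
  exact ((T.commute_mul_iff hy (h.step ha hy hz.1 hz.2.2) w1 hz.2.1.symm hz.2.2).1
    (e ▸ (k1 w1).2 ⟨hw.2.2.symm, b.symm⟩)).1.symm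

theorem prim [Finite G] : Prim ((↑) ⁻¹' Cm D a : Set (closure (Cm D a))) :=
  prim_sub (h.vw ha) (fun _ hx _ => h.tr ha hx) fun _ hx _ => h.common ha hx

end LocP

structure LocI (D : Set G) : Prop extends LocP D where
  conj : ∀ g, ∀ a ∈ D, g * a * g⁻¹ ∈ D
  idx : ∀ a ∈ D, ∀ g f, Commute g a → Commute f a → g ∉ closure (Dd D a) → f ∉ closure (Dd D a) → g * f ∈ closure (Dd D a)
  od : ∀ a ∈ D, Odd (Dd D a).ncard
  fix : ∀ a ∈ D, ∀ u, u * u = 1 → u * a * u⁻¹ ∈ Cm D a → ∃ b ∈ Cm D a, Commute u b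

theorem LocP.conj_Cm (h : LocP D) (cj : ∀ g, ∀ a ∈ D, g * a * g⁻¹ ∈ D) {a g b : G} (ha : a ∈ D) (hg : g * a * g⁻¹ ∈ Cm D a) (hb : b ∈ Cm D a) :
    g * b * g⁻¹ ∈ Cm D a :=
  let ⟨w, a1, a2, a3⟩ := hb.2
  h.eq ha hg ▸ ⟨cj g b hb.1, _, cj g w a1, commute_conj_conj_iff.2 a2, commute_conj_conj_iff.2 a3⟩

namespace LocI

variable [Finite G] (h : LocI D) (hM : ∀ a ∈ D, MBs (Cm D a) r k c) {l : List ℕ} (hl : odB r c l = true) {a : G} (ha : a ∈ D)
include h hM hl ha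

omit hM hl in
theorem mul_mem {g f : G} (c1 : Commute g a) (c2 : Commute f a) (n1 : g ∉ closure (Cm D a)) (n2 : f ∉ closure (Cm D a)) : g * f ∈ closure (Cm D a) :=
  have l : closure (Dd D a) ≤ closure (Cm D a) := closure_mono (h.dd ha (Cm.self ha) ▸ Dd_subset _ a)
  l (h.idx a ha g f c1 c2 (fun x => n1 (l x)) fun x => n2 (l x))

omit hM hl in
theorem mem_of_fix {e : G} (he : e ∈ D) (hg : e * a * e⁻¹ ∈ Cm D a) : e ∈ Cm D a :=
  let ⟨_, b1, b2⟩ := h.fix a ha e (h.sq he) hg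
  h.step ha b1 he b2.symm

theorem fix_of_comm {x g : G} (hx : x ∈ Dd D a) (hg : Commute g (a * x)) : g * a * g⁻¹ ∈ Cm D a := by
  have x1 := h.step ha (Cm.self ha) hx.1 hx.2.2
  have ax : a * (a * x) = x := by rw [← mul_assoc, h.sq ha, one_mul]
  obtain ⟨b, B, m⟩ := hM a ha (a * x) (Subgroup.mul_mem _ (subset_closure (Cm.self ha)) (subset_closure x1))
    ((h.tt ha).sq_mul' (Cm.self ha) x1 hx.2.2)
  have o : orderOf (a * x) = 2 := orderOf_eq_prime ((_root_.sq _).trans ((h.tt ha).sq_mul' (Cm.self ha) x1 hx.2.2)) fun e =>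
    hx.2.1 (by rw [← ax, e, mul_one])
  have c1 : Commute a (a * x) := (Commute.refl a).mul_right hx.2.2
  generalize a * x = u at *
  have : ((zpowers u).subgroupOf (centralizer {u})).Normal := normal_subgroupOf_of_le_normalizer (by
    rw [← Core.centralizer_zpowers]; exact centralizer_le_normalizer _)
  have V := cov_mk o
  generalize QuotientGroup.mk' ((zpowers u).subgroupOf (centralizer {u})) = π at V
  set S : Set (centralizer {u}) := {y | (y : G) ∈ D ∧ y * u ∈ D}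
  have u1 : u ≠ 1 := fun e => by simp [e] at o
  have dd : ∀ y ∈ S, y * u ∈ Dd D y := fun y hy =>
    ⟨hy.2, by simpa using u1, (Commute.refl _).mul_right (mem_centralizer_singleton_iff.1 y.2)⟩
  have eq : ∀ y ∈ S, ∀ z : centralizer {u}, π z = π y → (z : G) ∈ Cm D y := fun y hy z e => by
    rcases V.eq_iff.1 e with rfl | rfl
    exacts [Cm.self hy.1, h.step hy.1 (Cm.self hy.1) hy.2 (dd y hy).2.2]
  have fx : ∀ y ∈ S, ∀ e : centralizer {u}, (e : G) ∈ D → Commute (π e) (π y) → (e : G) ∈ Cm D y := fun y hy e he c =>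
    h.mem_of_fix hy.1 he (eq y hy (e * y * e⁻¹) (by simpa using conj_eq_self_iff.2 c))
  have un : ∀ y ∈ S, ∀ z ∈ S, (z : G) ∈ Cm D y → π z = π y := fun y hy z hz m => V.eq_iff.2 ((h.pair_unique hy.1 (dd y hy) m
    (dd z hz) (by rw [← mul_assoc, ← mul_assoc, h.sq hy.1, h.sq hz.1])).imp Subtype.ext Subtype.ext)
  have cj : ∀ g, ∀ y ∈ S, g * y * g⁻¹ ∈ S := fun g y hy => ⟨h.conj g y hy.1, by
    convert h.conj g _ hy.2 using 1
    simp only [coe_mul, coe_inv, mul_assoc, mem_centralizer_singleton_iff.1 (inv_mem g.2)]⟩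
  let a' : centralizer {u} := ⟨a, mem_centralizer_singleton_iff.2 c1⟩
  have a1 : a' ∈ S := ⟨ha, ax ▸ hx.1⟩
  have y1 := cj ⟨g, mem_centralizer_singleton_iff.2 hg⟩ a' a1
  refine eq a' a1 (⟨g, mem_centralizer_singleton_iff.2 hg⟩ * a' * (⟨g, mem_centralizer_singleton_iff.2 hg⟩)⁻¹) ?_
  generalize (⟨g, mem_centralizer_singleton_iff.2 hg⟩ : centralizer {u}) * a' * _ = y at y1
  obtain ⟨l1, l2, l3⟩ := B.rel hl
  have k : ∀ L : List (centralizer {u}), (∀ e ∈ L, (e : G) ∈ Cm D a) → ∀ y ∈ S,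
      π L.prod * π y * (π L.prod)⁻¹ = π a' ^ L.length * π y * (π a' ^ L.length)⁻¹ := fun L hL => by
    induction L with
    | nil => simp
    | cons e L ih =>
      intro y hy
      have := midpoint (D := π '' S) (by rintro _ ⟨y, a, rfl⟩; rw [← map_mul, show y * y = 1 from Subtype.ext (h.sq a.1), map_one])
        (by rintro g _ ⟨y, a, rfl⟩; obtain ⟨g, rfl⟩ := V.surj g; exact ⟨_, cj g y a, by simp⟩)
        (by rintro _ ⟨y, a, rfl⟩ _ ⟨z, b, rfl⟩ c; exact un z b y a (fx z b y a.1 c)) (e := π e) (x := π a')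
        (by rw [← map_mul, show e * e = 1 from Subtype.ext (h.sq (hL e List.mem_cons_self).1), map_one])
        (by
          rintro _ ⟨s, b, rfl⟩ c
          exact un a' a1 s b (h.eq ha (hL e List.mem_cons_self) ▸ Cm.symm b.1 (fx s b e (hL e List.mem_cons_self).1 c)))
        ⟨_, cj (a' ^ L.length) y hy, rfl⟩
      rw [map_mul, map_mul, map_inv, map_pow] at this
      rw [List.prod_cons, map_mul, ← conj_conj', ih (fun e he => hL e (List.mem_cons_of_mem _ he)) y hy, this, List.length_cons,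
        pow_succ', conj_conj']
  have l4 : ∀ x ∈ l.map b, x ∈ Cm D a ∧ x ∈ centralizer {u} := List.forall_mem_map.2 fun i hi =>
    ⟨B.mem i (l1 i hi).2, mem_centralizer_singleton_iff.2 (B.comm_of_mem m (l1 i hi).2)⟩
  lift l.map b to List (centralizer {u}) using fun x hx => (l4 x hx).2 with L
  have := k L (fun e he => (l4 _ (List.mem_map_of_mem he)).1) y y1
  rw [show L.prod = 1 from Subtype.ext ((val_list_prod _ L).trans l2)] at this
  obtain ⟨n, e⟩ := List.length_map Subtype.val ▸ l3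
  rw [e, pow_succ, pow_mul, _root_.sq, ← map_mul π a', show a' * a' = 1 from Subtype.ext (h.sq ha)] at this
  exact un a' a1 y y1 (fx a' a1 y y1.1 (conj_eq_self_iff.1 (by simpa using this.symm)).symm)

theorem mem_of_comm {x e : G} (hx : x ∈ Dd D a) (he : e ∈ D) (hg : Commute e (a * x)) : e ∈ Cm D a :=
  h.mem_of_fix ha he (h.fix_of_comm hM hl ha hx hg)

theorem odd {e : G} (he : e ∈ D) (n : e ∉ Cm D a) : ∃ m : ℕ, (a * e) ^ m * e * ((a * e) ^ m)⁻¹ = a :=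
  (dih (h.sq ha) (h.sq he)).resolve_right fun ⟨m, a1, _, a3, a4, a5⟩ => n (h.mem_of_comm hM hl ha (x := a * (a * e) ^ (m + 1))
    ⟨a5 ▸ palindrome_mem (fun _ => h.sq) h.conj m a ha e he, by simpa using a1, (Commute.refl a).mul_right a3⟩ he
    (by rwa [← mul_assoc, h.sq ha, one_mul]))

omit hl in
theorem inner (hl : glB r k c l = true) {w u : G} (hw : w ∈ D) (n : w ∉ Cm D a) (u0 : u ∈ closure (Cm D a)) (u1 : u ≠ 1) (u2 : u * u = 1)
    (u3 : Commute w u) : False := by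
  simp only [glB, Bool.and_eq_true, mapK_eq, force_eq, allN_iff] at hl
  obtain ⟨b, B, m0⟩ := hM a ha u u0 u2
  have cm := fun i => B.comm_of_mem m0 (i := i)
  obtain ⟨m, m1, rfl⟩ := B.surj m0
  have k1 : ∀ m < 2 ^ k, bt (msk (((List.range r).map c).flatMap fun x => ((List.range r).map c).map (Nat.xor x))) m = true ↔
      ∃ p ∈ D, ∃ q ∈ D, Commute p q ∧ evb b k m = p * q := fun m hm => by
    simp only [bt_eq, testBit_msk, List.mem_flatMap, List.mem_map, List.mem_range, exists_exists_and_eq_and, xor_eq']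
    refine ⟨fun ⟨i, hi, j, hj, e⟩ => ⟨_, (B.mem i hi).1, _, (B.mem j hj).1, B.comm i hi j hj, by
      rw [← e, B.ea.xor, ← (B.co i hi).2, ← (B.co j hj).2]⟩, fun ⟨p, hp, q, hq, c, e⟩ => ?_⟩
    obtain ⟨l1, -, l2⟩ := B.rel hl.1
    obtain ⟨i, hi⟩ := List.exists_mem_of_length_pos (List.length_map b ▸ l2).pos
    by_cases e1 : q = p
    · exact ⟨i, (l1 i hi).2, i, (l1 i hi).2, by rw [B.inj m hm (by rw [e, e1, h.sq hp]), Nat.xor_self]⟩
    have c1 : ∀ i < r, Commute (b i) (p * q) := fun i hi => e ▸ B.comm_of_mem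
      (evb_mem (fun j hj => subset_closure (by exact ⟨j, hj.trans_le B.kr.1, rfl⟩)) m) hi
    have p1 : p ∈ Cm D a := h.eq ha (B.mem i (l1 i hi).2) ▸ Cm.symm hp
      (h.mem_of_comm hM hl.1 hp ⟨hq, e1, c⟩ (B.mem i (l1 i hi).2).1 (c1 i (l1 i hi).2))
    have q1 := h.step ha p1 hq c
    have c2 := fun i hi => ((h.tt ha).commute_mul_iff p1 q1 (B.mem i hi) (Ne.symm e1) c).1 (c1 i hi)
    obtain ⟨i, hi, rfl⟩ := B.max p p1 fun i hi => (c2 i hi).1
    obtain ⟨j, hj, rfl⟩ := B.max q q1 fun i hi => (c2 i hi).2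
    exact ⟨i, hi, j, hj, B.ea.inj B.inj (Nat.xor_lt_two_pow (B.co i hi).1 (B.co j hj).1) hm (by
      rw [e, B.ea.xor, ← (B.co i hi).2, ← (B.co j hj).2])⟩
  have k2 : ∀ i < r, ∃ g, Commute g (evb b k m) ∧ g * b i * g⁻¹ = w := fun i hi => by
    obtain ⟨j, e⟩ := h.odd hM hl.1 hw (B.mem i hi).1 fun a => n (h.eq ha (B.mem i hi) ▸ Cm.symm hw a)
    exact ⟨_, (u3.mul_left (cm i hi)).pow_left j, e⟩
  have := hl.2 m m1
  rw [cnd_eq, cnd_eq] at this
  split_ifs at this with t1 t2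
  · obtain ⟨i, hi, rfl⟩ := List.mem_map.1 (testBit_msk.1 (bt_eq _ _ ▸ t1))
    exact n (h.step ha (B.mem i (List.mem_range.1 hi)) hw ((B.co i (List.mem_range.1 hi)).2 ▸ u3.symm))
  · obtain ⟨p, hp, q, hq, c, e⟩ := (k1 m m1).1 t2
    have hq' : q ∈ Dd D p := ⟨hq, fun e1 => u1 (by rw [e, e1, h.sq hp]), c⟩
    obtain ⟨l1, -, l2⟩ := B.rel hl.1
    obtain ⟨i, hi⟩ := List.exists_mem_of_length_pos (List.length_map b ▸ l2).pos
    have := h.mem_of_comm hM hl.1 hp hq' (B.mem i (l1 i hi).2).1 (e ▸ cm i (l1 i hi).2)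
    exact n (h.eq ha (B.mem i (l1 i hi).2) ▸ h.eq hp this ▸ h.mem_of_comm hM hl.1 hp hq' hw (e ▸ u3))
  simp only [Bool.and_eq_true, List.any_eq_true, List.mem_map, List.mem_range, exists_exists_and_eq_and, Bool.not_eq_true',
    xor_eq'] at this
  obtain ⟨⟨i, hi, t3⟩, j, hj, t4⟩ := this
  obtain ⟨p, hp, q, hq, c, e⟩ := (k1 _ (Nat.xor_lt_two_pow m1 (B.co i hi).1)).1 t3
  obtain ⟨g, g1, g2⟩ := k2 i hi
  obtain ⟨f, f1, f2⟩ := k2 j hj
  refine absurd ((k1 _ (Nat.xor_lt_two_pow m1 (B.co j hj).1)).2 ⟨_, h.conj (f⁻¹ * g) p hp, _, h.conj (f⁻¹ * g) q hq,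
    commute_conj_conj_iff.2 c, ?_⟩) (by simpa using t4)
  rw [conj_mul, ← e, B.ea.xor, B.ea.xor, ← (B.co i hi).2, ← (B.co j hj).2, ← conj_mul, (f1.inv_left.mul_left g1).eq,
    mul_inv_cancel_right, ← conj_conj', g2, ← f2]
  group

omit hl in
theorem all (hl : glB r k c l = true) : Cm D a = D := by
  have l1 : odB r c l = true := by simp only [glB, Bool.and_eq_true] at hl; exact hl.1
  refine Set.Subset.antisymm (fun _ x => x.1) fun w hw => by_contra fun n => ?_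
  have key : ∀ b ∈ Cm D a, ∀ x ∈ Dd D b, ∃ m : ℕ, (w * (b * x)) ^ (m + 1) ≠ 1 ∧ (w * (b * x)) ^ (m + 1) * (w * (b * x)) ^ (m + 1) = 1 ∧
      Commute w ((w * (b * x)) ^ (m + 1)) ∧ Commute (b * x) ((w * (b * x)) ^ (m + 1)) ∧ w * (w * (b * x)) ^ (m + 1) = b * x * (w * (b * x)) ^ m :=
    fun b hb x hx => by
    have x1 := h.step ha hb hx.1 hx.2.2
    refine (dih (h.sq hw) ((h.tt ha).sq_mul' hb x1 hx.2.2)).resolve_left fun ⟨m, e⟩ => ?_
    have : b * x ∈ D := (conj_mem_iff h.conj).1 (e ▸ hw)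
    exact (h.tt ha).ne_one hb (right_eq_mul.1 ((h.loc b hb.1).eq_of_sub hx ⟨this,
      by simpa using (h.tt ha).ne_one x1, (Commute.refl b).mul_right hx.2.2⟩ fun e he c => he.2.2.mul_left c))
  obtain ⟨x, hx⟩ := (h.loc a ha).ne
  obtain ⟨m, u1, u2, u3, u4, -⟩ := key a (Cm.self ha) x hx
  generalize (w * (a * x)) ^ (m + 1) = u at *
  have u0 := fun e => h.inner hM ha hl hw n e u1 u2 u3
  obtain ⟨b, b1, b2⟩ := h.fix a ha u u2 (h.fix_of_comm hM l1 ha hx u4.symm)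
  obtain ⟨y, y1, y2⟩ := fix_odd' u2 (h.od b b1.1) fun d hd => conj_eq_self_iff.2 b2 ▸ conj_mem_Dd (h.conj u) hd
  have yC := h.step ha b1 y1.1 y1.2.2
  obtain ⟨m, v1, v2, v3, v4, v5⟩ := key b b1 y y1
  have c0 : Commute u ((w * (b * y)) ^ (m + 1)) := (u3.symm.mul_right (b2.mul_right y2)).pow_right _
  have v0 := fun e => h.inner hM ha hl hw n e v1 v2 v3
  have eC := h.eq ha b1
  obtain ⟨g, g1, g2⟩ := h.tr ha b1 (eC ▸ h.fix_of_comm hM l1 b1.1 y1 v4.symm)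
  have e : (w * (b * y)) ^ (m + 1) = u := by_contra fun e => by
    generalize (w * (b * y)) ^ (m + 1) = v at *
    have := eC ▸ h.mul_mem b1.1 (g := u) (f := v⁻¹ * g) b2 (conj_eq_self_iff.1 (by rw [← conj_conj', g2]; group)) (eC ▸ u0)
      (eC ▸ fun x => v0 (inv_mem_iff.1 ((mul_mem_cancel_right g1).1 x)))
    rw [← mul_assoc, mul_mem_cancel_right g1, inv_eq_of_mul_eq_one_right v2] at this
    exact h.inner hM ha hl hw n this (fun x => e ((eq_inv_of_mul_eq_one_right x).trans (inv_eq_of_mul_eq_one_right u2)))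
      (by rw [← pow_two, c0.mul_pow, pow_two, pow_two, u2, v2, mul_one]) (u3.mul_right v3)
  have s1 := h.sq hw
  have s2 := (h.tt ha).sq_mul' b1 yC y1.2.2
  have bK : b * y ∈ closure (Cm D a) := Subgroup.mul_mem _ (subset_closure b1) (subset_closure yC)
  have cb : Commute b (b * y) := (Commute.refl b).mul_right y1.2.2
  rw [e] at v4 v5
  generalize b * y = q at *
  have iv : ∀ j : ℕ, (w * q) ^ j * w * ((w * q) ^ j)⁻¹ = (w * q) ^ (2 * j) * w := fun j => by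
    rw [two_mul, pow_add, mul_assoc, mul_assoc, mul_left_cancel_iff, mul_inv_eq_iff_eq_mul, mul_assoc, invol_mul_pow s1 s2, mul_inv_cancel_left]
  rcases m.even_or_odd' with ⟨j, rfl | rfl⟩
  · have : q * u ∈ D := by
      convert h.conj ((w * q) ^ j) w hw using 1
      rw [iv, v4.eq, ← e, pow_succ, mul_assoc, mul_assoc, s2, mul_one]
    exact u0 ((mul_mem_cancel_left bK).1 (subset_closure (h.step ha b1 this (cb.mul_right b2.symm))))
  · have : w * u ∈ D := by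
      convert h.conj (q * (w * q) ^ j) w hw using 1
      rw [← conj_conj', iv, v5, inv_eq_of_mul_eq_one_right s2, pow_succ]; group
    exact n (eC ▸ Cm.symm hw (h.mem_of_comm hM l1 hw ⟨this, by simpa using u1, (Commute.refl w).mul_right u3⟩ b1.1
      (by rw [← mul_assoc, s1, one_mul]; exact b2.symm)))

end LocI

theorem fix22 {G : Type*} [Group G] [Finite G] {D : Set G} (hD : IsThreeTranspositionGroup D) (hprim : IsPrimitiveUnderConj D)
    (h22 : IsOfTypeM22 G D) (φ : MulAut G) (hφ : orderOf φ = 2) : ∃ d ∈ D, φ d = d := by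
  obtain ⟨S, rfl⟩ := s22 hD hprim h22
  obtain ⟨e, he, h⟩ := S.classA hφ
  obtain ⟨g, hg⟩ := isConj_iff.1 h
  have c := S.A.cp_le_cent T22.r_a List.mem_cons_self (S.A.mem_cp he)
  obtain ⟨x, hx, e⟩ := S.X.D (by decide +kernel) (by decide +kernel) (by decide +kernel) (S.A.conj_mem_D g⁻¹ (S.A.v_mem_D B22.Ua))
  refine ⟨x, hx, (mem_comap_conj S.X.inj).1 (Subgroup.mem_centralizer_singleton_iff.2 ?_)⟩
  rw [← hg, Subgroup.mem_centralizer_singleton_iff] at c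
  rw [e]
  calc _ = g⁻¹ * (S.A.v (B22.Ua, 0) * (g * φ * g⁻¹)) * g := by group
    _ = _ := by rw [← c]; group

end Cfsg.Lib.Fi
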