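import Cfsg.Agent.Lib.Fi.Tb
import Cfsg.Agent.Lib.Fi.N24_0
import Cfsg.Agent.Lib.Fi.N24_1
import Cfsg.Agent.Lib.Fi.N24_2
import Cfsg.Agent.Lib.Fi.N24_3
import Cfsg.Agent.Lib.Fi.N24_4
import Cfsg.Agent.Lib.Fi.T24_0
import Cfsg.Agent.Lib.Fi.T24_1
import Cfsg.Agent.Lib.Fi.T24_2
import Cfsg.Agent.Lib.Fi.T24_3
import Cfsg.Agent.Lib.Comp.Fi24.Perm2

/-! A random alphabet for `Fi24` on its 3-transpositions: the kernel checks. -/

set_option maxRecDepth 100000
set_option Elab.async false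

namespace Cfsg.Lib.Fi.M24

open Cfsg.Lib.Comp N24

noncomputable def cmb : List Net := [Net.nil, Fi24.nets_1, Fi24.nets_2, Fi24.nets_3, Fi24.nets_4, Fi24.nets_5, Fi24.nets_6, Fi24.nets_7, Fi24.nets_8, Fi24.nets_9, Fi24.nets_10, Fi24.nets_11, Fi24.nets_12,
  n2, n3, n4, n5, n6, n7, n8, n9, n10, n11, n12, n13, n14, n15, n16]

noncomputable def nets0 : List Net := [Fi24.nets_1, n2, n3, n4, n5, n6, n7, n8, n9, n10, n11, n12, n13, n14, n15, n16]

noncomputable def T0 : List Tb := [t1, t2, t3, t4, t5, t6, t7, t8, t9, t10, t11, t12, t13, t14, t15, t16]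

theorem k2 : netOK 327680 n2 = true := by decide +kernel
theorem k3 : netOK 327680 n3 = true := by decide +kernel
theorem k4 : netOK 327680 n4 = true := by decide +kernel
theorem k5 : netOK 327680 n5 = true := by decide +kernel
theorem k6 : netOK 327680 n6 = true := by decide +kernel
theorem k7 : netOK 327680 n7 = true := by decide +kernel
theorem k8 : netOK 327680 n8 = true := by decide +kernel
theorem k9 : netOK 327680 n9 = true := by decide +kernel
theorem k10 : netOK 327680 n10 = true := by decide +kernel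
theorem k11 : netOK 327680 n11 = true := by decide +kernel
theorem k12 : netOK 327680 n12 = true := by decide +kernel
theorem k13 : netOK 327680 n13 = true := by decide +kernel
theorem k14 : netOK 327680 n14 = true := by decide +kernel
theorem k15 : netOK 327680 n15 = true := by decide +kernel
theorem k16 : netOK 327680 n16 = true := by decide +kernel

theorem b1 : tbB 327680 Fi24.nets_1 t1 = true := by decide +kernel
theorem b2 : tbB 327680 n2 t2 = true := by decide +kernel
theorem b3 : tbB 327680 n3 t3 = true := by decide +kernel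
theorem b4 : tbB 327680 n4 t4 = true := by decide +kernel
theorem b5 : tbB 327680 n5 t5 = true := by decide +kernel
theorem b6 : tbB 327680 n6 t6 = true := by decide +kernel
theorem b7 : tbB 327680 n7 t7 = true := by decide +kernel
theorem b8 : tbB 327680 n8 t8 = true := by decide +kernel
theorem b9 : tbB 327680 n9 t9 = true := by decide +kernel
theorem b10 : tbB 327680 n10 t10 = true := by decide +kernel
theorem b11 : tbB 327680 n11 t11 = true := by decide +kernel
theorem b12 : tbB 327680 n12 t12 = true := by decide +kernel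
theorem b13 : tbB 327680 n13 t13 = true := by decide +kernel
theorem b14 : tbB 327680 n14 t14 = true := by decide +kernel
theorem b15 : tbB 327680 n15 t15 = true := by decide +kernel
theorem b16 : tbB 327680 n16 t16 = true := by decide +kernel

theorem i1 : eqB 327680 19 0 19 (Net.nil :: nets0) [1] 1 [] = true := by decide +kernel
theorem i2 : eqB 327680 19 0 19 (Net.nil :: nets0) [2] 1 [] = true := by decide +kernel
theorem i3 : eqB 327680 19 0 19 (Net.nil :: nets0) [3] 1 [] = true := by decide +kernel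
theorem i4 : eqB 327680 19 0 19 (Net.nil :: nets0) [4] 1 [] = true := by decide +kernel
theorem i5 : eqB 327680 19 0 19 (Net.nil :: nets0) [5] 1 [] = true := by decide +kernel
theorem i6 : eqB 327680 19 0 19 (Net.nil :: nets0) [6] 1 [] = true := by decide +kernel
theorem i7 : eqB 327680 19 0 19 (Net.nil :: nets0) [7] 1 [] = true := by decide +kernel
theorem i8 : eqB 327680 19 0 19 (Net.nil :: nets0) [8] 1 [] = true := by decide +kernel
theorem i9 : eqB 327680 19 0 19 (Net.nil :: nets0) [9] 1 [] = true := by decide +kernel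
theorem i10 : eqB 327680 19 0 19 (Net.nil :: nets0) [10] 1 [] = true := by decide +kernel
theorem i11 : eqB 327680 19 0 19 (Net.nil :: nets0) [11] 1 [] = true := by decide +kernel
theorem i12 : eqB 327680 19 0 19 (Net.nil :: nets0) [12] 1 [] = true := by decide +kernel
theorem i13 : eqB 327680 19 0 19 (Net.nil :: nets0) [13] 1 [] = true := by decide +kernel
theorem i14 : eqB 327680 19 0 19 (Net.nil :: nets0) [14] 1 [] = true := by decide +kernel
theorem i15 : eqB 327680 19 0 19 (Net.nil :: nets0) [15] 1 [] = true := by decide +kernel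
theorem i16 : eqB 327680 19 0 19 (Net.nil :: nets0) [16] 1 [] = true := by decide +kernel

theorem s13 : eqB 327680 19 0 10 cmb [13] 0 [2, 3, 4, 8, 5, 4, 3, 2, 1, 2, 3, 4, 5, 8, 4, 3, 2, 4, 7] = true := by decide +kernel
theorem u13 : eqB 327680 19 10 9 cmb [13] 0 [2, 3, 4, 8, 5, 4, 3, 2, 1, 2, 3, 4, 5, 8, 4, 3, 2, 4, 7] = true := by decide +kernel
theorem s14 : eqB 327680 19 0 10 cmb [14] 0 [7, 13, 6, 5, 6, 13, 3, 9, 3, 6, 8, 9, 3, 13, 6, 5, 6, 13, 7] = true := by decide +kernel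
theorem u14 : eqB 327680 19 10 9 cmb [14] 0 [7, 13, 6, 5, 6, 13, 3, 9, 3, 6, 8, 9, 3, 13, 6, 5, 6, 13, 7] = true := by decide +kernel
theorem s15 : eqB 327680 19 0 10 cmb [15] 0 [6, 4, 8, 13, 14, 5, 3, 6, 3, 5, 9, 6, 3, 5, 14, 13, 8, 4, 6] = true := by decide +kernel
theorem u15 : eqB 327680 19 10 9 cmb [15] 0 [6, 4, 8, 13, 14, 5, 3, 6, 3, 5, 9, 6, 3, 5, 14, 13, 8, 4, 6] = true := by decide +kernel
theorem s16 : eqB 327680 19 0 10 cmb [16] 0 [13, 6, 14, 4, 15, 3, 5, 7, 9, 15, 4, 14, 6, 13] = true := by decide +kernel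
theorem u16 : eqB 327680 19 10 9 cmb [16] 0 [13, 6, 14, 4, 15, 3, 5, 7, 9, 15, 4, 14, 6, 13] = true := by decide +kernel
theorem s17 : eqB 327680 19 0 10 cmb [17] 0 [15, 7, 13, 15, 4, 7, 3, 6, 8, 7, 4, 15, 13, 7, 15] = true := by decide +kernel
theorem u17 : eqB 327680 19 10 9 cmb [17] 0 [15, 7, 13, 15, 4, 7, 3, 6, 8, 7, 4, 15, 13, 7, 15] = true := by decide +kernel
theorem s18 : eqB 327680 19 0 10 cmb [18] 0 [13, 8, 6, 7, 9, 17, 3, 6, 8, 17, 9, 7, 6, 8, 13] = true := by decide +kernel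
theorem u18 : eqB 327680 19 10 9 cmb [18] 0 [13, 8, 6, 7, 9, 17, 3, 6, 8, 17, 9, 7, 6, 8, 13] = true := by decide +kernel
theorem s19 : eqB 327680 19 0 10 cmb [19] 0 [16, 9, 15, 7, 18, 13, 3, 5, 9, 13, 18, 7, 15, 9, 16] = true := by decide +kernel
theorem u19 : eqB 327680 19 10 9 cmb [19] 0 [16, 9, 15, 7, 18, 13, 3, 5, 9, 13, 18, 7, 15, 9, 16] = true := by decide +kernel
theorem s20 : eqB 327680 19 0 10 cmb [20] 0 [19, 6, 3, 18, 17, 16, 3, 6, 8, 16, 17, 18, 3, 6, 19] = true := by decide +kernel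
theorem u20 : eqB 327680 19 10 9 cmb [20] 0 [19, 6, 3, 18, 17, 16, 3, 6, 8, 16, 17, 18, 3, 6, 19] = true := by decide +kernel
theorem s21 : eqB 327680 19 0 10 cmb [21] 0 [20, 18, 7, 8, 5, 16, 3, 5, 7, 9, 16, 5, 8, 7, 18, 20] = true := by decide +kernel
theorem u21 : eqB 327680 19 10 9 cmb [21] 0 [20, 18, 7, 8, 5, 16, 3, 5, 7, 9, 16, 5, 8, 7, 18, 20] = true := by decide +kernel
theorem s22 : eqB 327680 19 0 10 cmb [22] 0 [6, 7, 15, 20, 18, 15, 2, 4, 9, 15, 18, 20, 15, 7, 6] = true := by decide +kernel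
theorem u22 : eqB 327680 19 10 9 cmb [22] 0 [6, 7, 15, 20, 18, 15, 2, 4, 9, 15, 18, 20, 15, 7, 6] = true := by decide +kernel
theorem s23 : eqB 327680 19 0 10 cmb [23] 0 [17, 16, 15, 19, 21, 13, 2, 5, 8, 13, 21, 19, 15, 16, 17] = true := by decide +kernel
theorem u23 : eqB 327680 19 10 9 cmb [23] 0 [17, 16, 15, 19, 21, 13, 2, 5, 8, 13, 21, 19, 15, 16, 17] = true := by decide +kernel
theorem s24 : eqB 327680 19 0 10 cmb [24] 0 [10, 15, 6, 16, 19, 5, 10, 5, 2, 5, 19, 16, 6, 15, 10] = true := by decide +kernel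
theorem u24 : eqB 327680 19 10 9 cmb [24] 0 [10, 15, 6, 16, 19, 5, 10, 5, 2, 5, 19, 16, 6, 15, 10] = true := by decide +kernel
theorem s25 : eqB 327680 19 0 10 cmb [25] 0 [23, 18, 16, 14, 5, 10, 3, 8, 5, 14, 16, 18, 23] = true := by decide +kernel
theorem u25 : eqB 327680 19 10 9 cmb [25] 0 [23, 18, 16, 14, 5, 10, 3, 8, 5, 14, 16, 18, 23] = true := by decide +kernel
theorem s26 : eqB 327680 19 0 10 cmb [26] 0 [24, 11, 22, 18, 19, 21, 11, 3, 8, 6, 21, 19, 18, 22, 11, 24] = true := by decide +kernel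
theorem u26 : eqB 327680 19 10 9 cmb [26] 0 [24, 11, 22, 18, 19, 21, 11, 3, 8, 6, 21, 19, 18, 22, 11, 24] = true := by decide +kernel
theorem s27 : eqB 327680 19 0 10 cmb [27] 0 [24, 3, 2, 23, 21, 26, 11, 3, 8, 6, 26, 21, 23, 2, 3, 24] = true := by decide +kernel
theorem u27 : eqB 327680 19 10 9 cmb [27] 0 [24, 3, 2, 23, 21, 26, 11, 3, 8, 6, 26, 21, 23, 2, 3, 24] = true := by decide +kernel

end Cfsg.Lib.Fi.M24
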