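import Cfsg.Agent.Lib.Fi.M8a

set_option maxRecDepth 100000
set_option Elab.async false

namespace Cfsg.Lib.Fi.M8

open Cfsg.Lib.Comp Cfsg.Lib.Fi

theorem r1 : resB par24 (ent W 1) Om 3240 (tb 2) = true := by decide +kernel

theorem r4 : resB par24 (ent W 4) Om 3240 (tb 5) = true := by decide +kernel

theorem r7 : resB par24 (ent W 7) Om 3240 (tb 8) = true := by decide +kernel

theorem r10 : resB par24 (ent W 10) Om 3240 (tb 11) = true := by decide +kernel

end Cfsg.Lib.Fi.M8
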