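import Cfsg.Agent.Lib.Fi.M8a

set_option maxRecDepth 100000
set_option Elab.async false

namespace Cfsg.Lib.Fi.M8

open Cfsg.Lib.Comp Cfsg.Lib.Fi

theorem r2 : resB par24 (ent W 2) Om 3240 (tb 3) = true := by decide +kernel

theorem r5 : resB par24 (ent W 5) Om 3240 (tb 6) = true := by decide +kernel

theorem r8 : resB par24 (ent W 8) Om 3240 (tb 9) = true := by decide +kernel

theorem r11 : resB par24 (ent W 11) Om 3240 (tb 12) = true := by decide +kernel

end Cfsg.Lib.Fi.M8
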