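import Cfsg.Agent.Lib.Fi.M8b
import Cfsg.Agent.Lib.Fi.M8c
import Cfsg.Agent.Lib.Fi.M8d
import Cfsg.Agent.Lib.Fi.C24n

/-! The model of `PΩ₈⁺(3):Sym(3)` on its `3240` transpositions. -/

set_option maxRecDepth 100000

namespace Cfsg.Lib.Fi

open Cfsg.Lib.Comp Subgroup M8

theorem Md.mem_T_of_clB {G : Type*} [Group G] {P : Par} (M : Md G P) {W : List (ℕ × ℕ)} {A ops : ℕ}
    (h : clB P W A ops = true) {e : ℕ × ℕ} (he : e ∈ W) : M.v e ∈ M.T A :=
  M.T_mono (cnd_tt.1 (cnd_tt.1 h).2).1 ((M.T_ptS (cnd_tt.1 h).1).ge ⟨_, he, rfl⟩)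

noncomputable def par8 : Par := parF nets 4096 12 3240 tb 2 (nth 0 Q 0) 12 270 B

theorem exists_m8 : ∃ (H : Type) (_ : Group H) (_ : Finite H) (M : Md H par8) (θ : H →* Equiv.Perm (Fin 3)),
    Function.Surjective θ ∧ generalizedFittingSubgroup H = θ.ker ∧
      Nonempty (θ.ker ≃* POmega (ZMod 3) (quadFormPlus 4 (ZMod 3))) ∧
      M.cp (List.map (fun x => (0, 2 * x + 2)) (List.range 13)) = ⊤ ∧
      Nonempty (centralizer {M.v (0, 0)} ≃* Multiplicative (ZMod 2) × Known2.O7) := by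
  obtain ⟨S, -⟩ := s24 Known2.fi24_t24.1.grp Known2.fi24_t24.1.prim Known2.fi24_type
  obtain ⟨θ, h⟩ := S.s8
  have e0 : S.EN = S.M.T B24.x3A := by rw [← S.EN_eq, beq_tt.1 B24.x3_A]; exact S.M.T_two _ _
  have e1 : closure S.EN = S.M.cp W := by rw [e0]; exact S.M.cl_T cl_b
  obtain ⟨M, hM⟩ := S.M.exists_sub e1 h.center nets_ok invol tb_ok (k := 12) (w := 12) (m := 270) (by norm_num)
    (by decide +kernel) rfl (by decide) rfl sub_b fun x hx => by
      change x < 13 at hx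
      interval_cases x
      exacts [r0, r1, r2, r3, r4, r5, r6, r7, r8, r9, r10, r11, r12]
  have hX := S.t24.2 _ (S.M.v_mem_D B24.Ua)
  have hE := S.t24.hyp3 (S.M.v_mem_D _) (S.M.v_mem_D _) S.nc_an
  have T := hE.tt hX.1.tt
  have k : ∀ x < 13, (M.v (0, 2 * x + 2) : Spor.Fi24) = S.M.v (ent W x) := fun x hx => by
    rw [← hM, Md.v, val_elt _ _ (by omega)]
    exact congrArg _ (wv_two_mul M.γ x.succ_pos (by omega))
  have m : (M.v (0, 0) : Spor.Fi24) ∈ S.EN := by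
    have : M.v (0, 0) = M.v (0, 2) := rfl
    rw [this, k 0 (by norm_num), e0]
    exact S.M.mem_T_of_clB cl_b (ent_mem' (by decide))
  refine ⟨_, _, inferInstance, M.rebase B (M.gen_of gen_b).base, θ, h.surj,
    h.fstar T fun x hx => (hE.loc x hx).ne.mono fun y hy => ⟨hy.1, hy.2.2⟩, h.ker, eq_top_iff.2 fun g _ => ?_,
    h.cent T m (hX.2 _ m.1) (hE.loc _ m) fun y hy => ⟨hy.1, hy.2.2⟩⟩
  obtain ⟨a, ha, e⟩ := (S.M.cp_le (K := (M.cp (List.map (fun x => (0, 2 * x + 2)) (List.range 13))).map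
    (closure S.EN).subtype)).2 (fun e he => by
      obtain ⟨x, hx, rfl⟩ := exists_ent' he
      exact ⟨_, M.mem_cp (List.mem_map_of_mem (List.mem_range.2 hx)), k x hx⟩) (e1.le g.2)
  exact Subtype.ext e ▸ ha

end Cfsg.Lib.Fi
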