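import Cfsg.Agent.Lib.Fi.M8a

set_option maxRecDepth 100000
set_option Elab.async false

namespace Cfsg.Lib.Fi.M8

open Cfsg.Lib.Comp Cfsg.Lib.Fi

theorem r0 : resB par24 (ent W 0) Om 3240 (tb 1) = true := by decide +kernel

theorem r3 : resB par24 (ent W 3) Om 3240 (tb 4) = true := by decide +kernel

theorem r6 : resB par24 (ent W 6) Om 3240 (tb 7) = true := by decide +kernel

theorem r9 : resB par24 (ent W 9) Om 3240 (tb 10) = true := by decide +kernel

theorem r12 : resB par24 (ent W 12) Om 3240 (tb 13) = true := by decide +kernel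

end Cfsg.Lib.Fi.M8
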