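import Cfsg.Agent.Lib.Fi.Sub

/-!
# The orthogonal group of the norm form on `𝔽₄⁶`, acting on codes `< 4096`; actions on vectors
-/

namespace Cfsg.Lib.Fi

open Cfsg.Lib.Comp Subgroup Finset

variable {G : Type*} [Group G] {P P' : Par}

theorem exists_perm_hom {L : Type*} [Group L] {N : ℕ} (f : L → ℕ → ℕ) (lt : ∀ l, ∀ n < N, f l n < N)
    (one : ∀ n < N, f 1 n = n) (mul : ∀ a b, ∀ n < N, f (a * b) n = f a (f b n)) :
    ∃ ρ : L →* Equiv.Perm ℕ, ∀ l, Fx N (ρ l) ∧ ∀ n < N, ρ l n = f l n := by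
  have k : ∀ a b : L, a * b = 1 → ∀ n, (if (if n < N then f b n else n) < N then f a (if n < N then f b n else n)
      else if n < N then f b n else n) = n := fun a b h n => by
    by_cases hn : n < N
    · rw [if_pos hn, if_pos (lt _ _ hn), ← mul _ _ _ hn, h, one _ hn]
    · rw [if_neg hn, if_neg hn]
  refine ⟨MonoidHom.mk' (fun l => ⟨fun n => if n < N then f l n else n, fun n => if n < N then f l⁻¹ n else n,
    k _ _ (inv_mul_cancel l), k _ _ (mul_inv_cancel l)⟩) fun a b => Equiv.ext fun n => ?_,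
    fun l => ⟨fun n hn => if_neg (by omega), fun n hn => if_pos hn⟩⟩
  change (if n < N then f (a * b) n else n) = if (if n < N then f b n else n) < N then f a (if n < N then f b n else n)
      else if n < N then f b n else n
  by_cases hn : n < N
  · rw [if_pos hn, if_pos hn, if_pos (lt _ _ hn), mul _ _ _ hn]
  · rw [if_neg hn, if_neg hn, if_neg hn]

/-! ### A second action -/

/-- `P'` simulates the action `ψ` of the letters of `M`. -/
structure Va (M : Md G P) (P' : Par) (ψ : G →* Equiv.Perm ℕ) : Prop where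
  c0 : P'.c0 = P.c0
  fx : ∀ g, Fx P'.n (ψ g)
  sF : Sim M.γ (Rp ψ) P'.F
  sI : Sim M.γ (Rs ψ) P'.I
  sE : Sim M.γ (Re ψ P'.N P'.k) P'.E
  num : P'.n ≤ P'.N ∧ 0 < P'.w ∧ P'.n ≤ P'.w * P'.K ∧ P'.n < 2 ^ P'.w - 1 ∧ P'.N ≤ 2 ^ P'.k

/-- The stabiliser of a set. -/
def sst (ψ : G →* Equiv.Perm ℕ) (A : ℕ) : Subgroup G where
  carrier := {g | Rs ψ g A A}
  one_mem' := Rs.one _ _
  mul_mem' := fun h1 h2 => Rs.mul h2 h1
  inv_mem' := Rs.inv

theorem sst_bit {ψ : G →* Equiv.Perm ℕ} {A : ℕ} {g : G} (h : g ∈ sst ψ A) (i : ℕ) : A.testBit (ψ g i) = A.testBit i := h i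

noncomputable def invS (P' : Par) (W : List (ℕ × ℕ)) (A : ℕ) : Bool := allL W fun e => Nat.beq (apS P' e A) A

noncomputable def fixV (P' : Par) (W : List (ℕ × ℕ)) (a : ℕ) : Bool := allL W fun e => Nat.beq (ap P' e a) a

/-- `A` is the orbit of `a`, and has `m` points. -/
noncomputable def orbV (P' : Par) (W : List (ℕ × ℕ)) (ops a A m : ℕ) : Bool :=
  cnd (Nat.ble (Nat.succ a) P'.n) (cnd (Nat.beq (orbW P' W ops (Nat.shiftLeft 1 a)) A) (cnd (Nat.testBit A a)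
    (cnd (invS P' W A) (Nat.beq (pc P'.w P'.K A) m) false) false) false) false

/-- `A` is the orbit of `a` under `K`, and has `m` points. -/
def Orb (ψ : G →* Equiv.Perm ℕ) (K : Subgroup G) (a A m : ℕ) : Prop :=
  (∀ q, A.testBit q = true ↔ ∃ g ∈ K, ψ g a = q) ∧ {q | A.testBit q = true}.ncard = m

theorem Orb.card [Finite G] {ψ : G →* Equiv.Perm ℕ} {K : Subgroup G} {a A m : ℕ} (h : Orb ψ K a A m) :
    Nat.card K = m * Nat.card ↥(K ⊓ stab ψ a) := by
  rw [card_stab_mul ψ K a, ← h.2]; simp only [h.1]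

namespace Va
variable {M : Md G P} {ψ : G →* Equiv.Perm ℕ} (V : Va M P' ψ)
include V

theorem ap (e : ℕ × ℕ) (a : ℕ) : ap P' e a = ψ (M.v e) a := by
  unfold Fi.ap; rw [V.c0]; exact V.sF.apE0 fc_force _ e a

theorem apS (e : ℕ × ℕ) (A : ℕ) : Rs ψ (M.v e) A (apS P' e A) := by
  unfold Fi.apS; rw [V.c0]; exact V.sI.apE0 fc_forceH _ e A

theorem sdF (D : List (ℕ × ℕ)) : Sim (M.d D) (Rp ψ) (dF P' D) := by
  unfold dF; rw [V.c0]; exact V.sF.der fc_force _ D

theorem sdI (D : List (ℕ × ℕ)) : Sim (M.d D) (Rs ψ) (dI P' D) := by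
  unfold dI; rw [V.c0]; exact V.sI.der fc_forceH _ D

theorem le_sst {W : List (ℕ × ℕ)} {A : ℕ} (h : invS P' W A = true) : M.cp W ≤ sst ψ A := M.cp_le.2 fun e he => by
  have := V.apS e A
  rwa [beq_tt.1 (allL_iff.1 h e he)] at this

theorem le_stab {W : List (ℕ × ℕ)} {a : ℕ} (h : fixV P' W a = true) : M.cp W ≤ stab ψ a := M.cp_le.2 fun e he => by
  rw [mem_stab, ← V.ap]; exact beq_tt.1 (allL_iff.1 h e he)

theorem fix (e : ℕ × ℕ) (p : ℕ) : (fixS P' e).testBit p = true ↔ p < P'.n ∧ ψ (M.v e) p = p := by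
  rw [fixS_spec V.sE V.fx V.num.1 V.num.2.2.2.2, V.c0]; rfl

theorem orbW (W : List (ℕ × ℕ)) (ops A p : ℕ) (h : (orbW P' W ops A).testBit p = true) :
    ∃ g ∈ M.cp W, ∃ q, A.testBit q = true ∧ ψ g q = p := by
  have : Sim (M.d W) (fun _ A B => ∀ p, B.testBit p = true → ∃ g ∈ M.cp W, ∃ q, A.testBit q = true ∧ ψ g q = p)
      (fun c A => Nat.lor A (dI P' W c A)) := by
    refine ⟨fun a p hp => ⟨1, one_mem _, p, hp, by simp⟩, fun h1 h2 p hp => ?_, fun c a p hp => ?_⟩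
    · obtain ⟨g, hg, q, hq, rfl⟩ := h2 p hp
      obtain ⟨g', hg', q', hq', rfl⟩ := h1 q hq
      exact ⟨g * g', mul_mem hg hg', q', hq', by simp⟩
    · rw [lor_eq', Nat.testBit_or, Bool.or_eq_true] at hp
      rcases hp with hp | hp
      · exact ⟨1, one_mem _, p, hp, by simp⟩
      · refine ⟨_, sv_mem (M.d_mem W) c, (ψ (sv (M.d W) c))⁻¹ p, ?_, app_inv _ _⟩
        rw [← (V.sdI W).step c a, app_inv]; exact hp
  exact this.fw fc_forceH ops A p h

theorem cnt {A m : ℕ} (h2 : ∀ q, A.testBit q = true → q < P'.n) (h : pc P'.w P'.K A = m) :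
    {q | A.testBit q = true}.ncard = m := by
  rw [pc_eq V.num.2.1, bits_of_lt h2 V.num.2.2.1, Nat.mod_eq_of_lt ((bits_le _ _).trans_lt V.num.2.2.2.1),
    bits_ncard] at h
  rw [← h]; congr 1; ext q; exact ⟨fun h => ⟨h2 q h, h⟩, fun h => h.2⟩

theorem orb {W : List (ℕ × ℕ)} {ops a A m : ℕ} (h : orbV P' W ops a A m = true) : Orb ψ (M.cp W) a A m := by
  simp only [orbV, cnd_tt, ble_tt, beq_tt] at h
  obtain ⟨h0, h1, h2, h3, h4⟩ := h
  have k : ∀ q, A.testBit q = true ↔ ∃ g ∈ M.cp W, ψ g a = q := fun q => ⟨fun hq => by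
    obtain ⟨g, hg, r, hr, e⟩ := V.orbW _ _ _ _ (h1 ▸ hq)
    rw [testBit_one_shl, decide_eq_true_eq] at hr
    exact ⟨g, hg, hr ▸ e⟩, fun ⟨g, hg, e⟩ => by rw [← e, sst_bit (V.le_sst h3 hg), h2]⟩
  exact ⟨k, V.cnt (fun q hq => by obtain ⟨g, -, rfl⟩ := (k q).1 hq; exact (V.fx g).lt h0) h4⟩
end Va

theorem Md.KE.vstab [Finite G] {M : Md G P} {ψ : G →* Equiv.Perm ℕ} {K : Subgroup G} {W W' : List (ℕ × ℕ)} {a A m n n' : ℕ}
    (hK : M.KE K W n) (h : Orb ψ K a A m) (h1 : M.cp W' ≤ K) (h2 : M.cp W' ≤ stab ψ a) (h' : M.LB W' n') (hn : n = m * n')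
    (hm : 0 < m) : M.KE (K ⊓ stab ψ a) W' n' :=
  Md.KE.of_lb (le_inf h1 h2) (Nat.eq_of_mul_eq_mul_left hm (h.card.symm.trans (hK.2.trans hn))).le h'

/-! ### Codes -/

def cB (n i : ℕ) : ZMod 2 := if n.testBit i then 1 else 0

theorem cB_xor (m n i : ℕ) : cB (m ^^^ n) i = cB m i + cB n i := by
  unfold cB; rw [Nat.testBit_xor]; cases m.testBit i <;> cases n.testBit i <;> rfl

theorem cB_zero (i : ℕ) : cB 0 i = 0 := by simp [cB]

def q0 (n : ℕ) : ZMod 2 := ∑ i ∈ range 6, (cB n (2 * i) + cB n (2 * i + 1) + cB n (2 * i) * cB n (2 * i + 1))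
def B0 (m n : ℕ) : ZMod 2 := ∑ i ∈ range 6, (cB m (2 * i) * cB n (2 * i + 1) + cB m (2 * i + 1) * cB n (2 * i))

theorem q0_xor (m n : ℕ) : q0 (m ^^^ n) = q0 m + q0 n + B0 m n := by
  simp only [q0, B0, cB_xor, ← sum_add_distrib]
  exact sum_congr rfl fun i _ => by ring
theorem B0_left (m m' n : ℕ) : B0 (m ^^^ m') n = B0 m n + B0 m' n := by
  simp only [B0, cB_xor, ← sum_add_distrib]
  exact sum_congr rfl fun i _ => by ring
theorem B0_comm (m n : ℕ) : B0 m n = B0 n m := sum_congr rfl fun i _ => by ring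
theorem B0_right (m n n' : ℕ) : B0 m (n ^^^ n') = B0 m n + B0 m n' := by rw [B0_comm, B0_left, B0_comm n, B0_comm n']
theorem z2_add (a : ZMod 2) : a + a = 0 := by revert a; decide
theorem z2_cases (a : ZMod 2) : a = 0 ∨ a = 1 := by revert a; decide
theorem B0_self (n : ℕ) : B0 n n = 0 := sum_eq_zero fun i _ => by rw [mul_comm, z2_add]
theorem q0_zero : q0 0 = 0 := by simp [q0, cB_zero]
theorem B0_zero (n : ℕ) : B0 n 0 = 0 := by simp [B0, cB_zero]
theorem B0_eq (m n : ℕ) : B0 m n = q0 (m ^^^ n) + q0 m + q0 n := by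
  rw [q0_xor]; generalize q0 m = a; generalize q0 n = b; generalize B0 m n = c; revert a b c; decide

theorem xor_lt {m n : ℕ} (hm : m < 4096) (hn : n < 4096) : m ^^^ n < 4096 := Nat.xor_lt_two_pow (n := 12) hm hn

/-- The orthogonal group on codes. -/
def G12 : Subgroup (Equiv.Perm ℕ) where
  carrier := {π | Fx 4096 π ∧ (∀ m < 4096, ∀ n < 4096, π (m ^^^ n) = π m ^^^ π n) ∧ ∀ n < 4096, q0 (π n) = q0 n}
  one_mem' := ⟨Fx.one _, fun _ _ _ _ => rfl, fun _ _ => rfl⟩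
  mul_mem' := fun {a b} h k => ⟨h.1.mul k.1, fun m hm n hn => by
    simp only [Equiv.Perm.mul_apply, k.2.1 m hm n hn, h.2.1 _ (k.1.lt hm) _ (k.1.lt hn)], fun n hn => by
    rw [Equiv.Perm.mul_apply, h.2.2 _ (k.1.lt hn), k.2.2 n hn]⟩
  inv_mem' := fun {a} h => ⟨h.1.inv, fun m hm n hn => by
    rw [Equiv.Perm.inv_eq_iff_eq, h.2.1 _ (h.1.inv.lt hm) _ (h.1.inv.lt hn), app_inv, app_inv], fun n hn => by
    rw [← h.2.2 _ (h.1.inv.lt hn), app_inv]⟩

/-- The action on codes. -/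
abbrev ψ : G12 →* Equiv.Perm ℕ := G12.subtype

namespace G12
variable (g : G12) {m n : ℕ}
theorem lt (h : n < 4096) : ψ g n < 4096 := g.2.1.lt h
theorem xor (hm : m < 4096) (hn : n < 4096) : ψ g (m ^^^ n) = ψ g m ^^^ ψ g n := g.2.2.1 m hm n hn
theorem q (h : n < 4096) : q0 (ψ g n) = q0 n := g.2.2.2 n h
theorem B (hm : m < 4096) (hn : n < 4096) : B0 (ψ g m) (ψ g n) = B0 m n := by
  rw [B0_eq, B0_eq, ← xor g hm hn, q g hm, q g hn, q g (xor_lt hm hn)]
theorem zero : ψ g 0 = 0 := by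
  have := xor g (m := 0) (n := 0) (by norm_num) (by norm_num)
  rwa [Nat.xor_self, Nat.xor_self] at this
theorem ext' {g h : G12} (e : ∀ n < 4096, ψ g n = ψ h n) : g = h := Subtype.ext (Equiv.ext fun n => by
  by_cases c : n < 4096
  · exact e n c
  · rw [g.2.1 n (by omega), h.2.1 n (by omega)])
theorem mul (h : G12) (n : ℕ) : ψ (g * h) n = ψ g (ψ h n) := rfl
theorem inv_ap (n : ℕ) : ψ g⁻¹ (ψ g n) = n := inv_app _ _
theorem ap_inv (n : ℕ) : ψ g (ψ g⁻¹ n) = n := app_inv _ _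
end G12

theorem code_ind {p : ℕ → Prop} (h0 : p 0) (hb : ∀ i < 12, p (2 ^ i)) (hx : ∀ m < 4096, ∀ n < 4096, p m → p n → p (m ^^^ n)) :
    ∀ n < 4096, p n := by
  have : ∀ k ≤ 12, ∀ n < 2 ^ k, p n := fun k => by
    induction k with
    | zero => intro _ n hn; rwa [Nat.lt_one_iff.1 hn]
    | succ k ih =>
      intro hk n hn
      by_cases c : n < 2 ^ k
      · exact ih (by omega) n c
      have h1 : n ^^^ 2 ^ k < 2 ^ k := Nat.lt_pow_two_of_testBit _ fun i hi => by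
        rw [Nat.testBit_xor, Nat.testBit_two_pow]
        rcases hi.eq_or_lt with rfl | hi
        · rw [Nat.testBit_of_two_pow_le_and_two_pow_add_one_gt (by omega) hn]; simp
        · rw [Nat.testBit_lt_two_pow (hn.trans_le (Nat.pow_le_pow_right two_pos hi))]; simp [hi.ne]
      have h2 : 2 ^ k < 4096 := Nat.pow_lt_pow_right (a := 2) (n := 12) one_lt_two (by omega)
      have := hx _ (h1.trans h2) _ h2 (ih (by omega) _ h1) (hb k (by omega))
      rwa [Nat.xor_assoc, Nat.xor_self, Nat.xor_zero] at this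
  exact this 12 le_rfl

theorem G12.ext_basis {g h : G12} (e : ∀ i < 12, ψ g (2 ^ i) = ψ h (2 ^ i)) : g = h :=
  G12.ext' (code_ind (by rw [G12.zero, G12.zero]) e fun m hm n hn a b => by rw [G12.xor _ hm hn, G12.xor _ hm hn, a, b])

instance : Finite G12 := Finite.of_injective (fun g : G12 => fun i : Fin 4096 => (⟨ψ g i, G12.lt g i.2⟩ : Fin 4096))
  fun _ _ e => G12.ext' fun n hn => congrArg Fin.val (congrFun e ⟨n, hn⟩)

/-- The transvection. -/
def tv (v n : ℕ) : ℕ := if n < 4096 ∧ B0 n v = 1 then n ^^^ v else n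

theorem tv_of {v n : ℕ} (hn : n < 4096) : tv v n = if B0 n v = 1 then n ^^^ v else n := by simp [tv, hn]

theorem tv_tv {v : ℕ} (hv : v < 4096) (n : ℕ) : tv v (tv v n) = n := by
  unfold tv
  split_ifs with h1 h2
  · rw [Nat.xor_assoc, Nat.xor_self, Nat.xor_zero]
  · exact absurd ⟨xor_lt h1.1 hv, by rw [B0_left, B0_self, h1.2, add_zero]⟩ h2
  · rfl

open Classical in
noncomputable def TV (v : ℕ) : G12 := if h : v < 4096 ∧ q0 v = 1 then ⟨⟨tv v, tv v, tv_tv h.1, tv_tv h.1⟩,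
  fun n hn => if_neg (by omega), fun m hm n hn => by
    change tv v _ = tv v _ ^^^ tv v _
    rw [tv_of hm, tv_of hn, tv_of (xor_lt hm hn), B0_left]
    rcases z2_cases (B0 m v) with a | a <;> rcases z2_cases (B0 n v) with b | b <;> rw [a, b] <;>
      simp only [add_zero, zero_add, z2_add, zero_ne_one, if_true, if_false]
    · rw [Nat.xor_assoc]
    · rw [Nat.xor_assoc, Nat.xor_assoc, Nat.xor_comm n]
    · rw [Nat.xor_assoc, Nat.xor_comm n, ← Nat.xor_assoc v, Nat.xor_self, Nat.zero_xor], fun n hn => by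
    change q0 (tv v n) = _
    rw [tv_of hn]
    split_ifs with a
    · rw [q0_xor, h.2, a, add_assoc, z2_add, add_zero]
    · rfl⟩ else 1

theorem TV_ap {v : ℕ} (h : v < 4096 ∧ q0 v = 1) (n : ℕ) : ψ (TV v) n = tv v n := by
  unfold TV; rw [dif_pos h]; rfl

theorem TV_conj (g : G12) {v : ℕ} (h : v < 4096 ∧ q0 v = 1) : g * TV v * g⁻¹ = TV (ψ g v) := G12.ext' fun n hn => by
  rw [G12.mul, G12.mul, TV_ap h, TV_ap ⟨G12.lt g h.1, (G12.q g h.1).trans h.2⟩, tv_of hn, tv_of (G12.lt _ hn),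
    ← G12.B g (G12.lt _ hn) h.1, G12.ap_inv]
  split_ifs
  · rw [G12.xor _ (G12.lt _ hn) h.1, G12.ap_inv]
  · exact G12.ap_inv _ _

/-- Multiplication by `ω`. -/
def xm (n : ℕ) : ℕ := Nat.lor (Nat.land (Nat.shiftRight n 1) 1365) (Nat.shiftLeft (Nat.land (Nat.xor n (Nat.shiftRight n 1)) 1365) 1)

/-- Table of the norm form. -/
def QT : ℕ := (List.range 6).foldl (fun A i => A ||| (((ones (4 ^ i)) ^^^ A) * (1 + 2 ^ 4 ^ i + 2 ^ (2 * 4 ^ i))) <<< 4 ^ i) 0

theorem QT_ok : ∀ n < 4096, q0 n = cB QT n := by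
  have : allN 4096 (fun n => decide (q0 n = cB QT n)) = true := by decide +kernel
  exact fun n hn => of_decide_eq_true (allN_iff.1 this n hn)

theorem QT_iff {n : ℕ} (h : n < 4096) : QT.testBit n = true ↔ q0 n = 1 := by
  rw [QT_ok n h, cB]; cases QT.testBit n <;> simp

theorem xm_ok : ∀ n < 4096, xm n < 4096 ∧ B0 n (xm n) = q0 n ∧ xm (xm n) = n ^^^ xm n ∧ q0 (xm n) = q0 n := by
  have : allN 4096 (fun n => decide (xm n < 4096 ∧ cB QT (n ^^^ xm n) + cB QT n + cB QT (xm n) = cB QT n ∧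
    xm (xm n) = n ^^^ xm n ∧ cB QT (xm n) = cB QT n)) = true := by decide +kernel
  intro n hn
  obtain ⟨a, b, c, d⟩ := of_decide_eq_true (allN_iff.1 this n hn)
  exact ⟨a, by rw [B0_eq, QT_ok _ (xor_lt hn a), QT_ok _ hn, QT_ok _ a, b], c, by rw [QT_ok _ hn, QT_ok _ a, d]⟩

theorem lin_of {f : ℕ → ℕ} (h : ∀ k < 12, ∀ n < 2 ^ k, f (n ^^^ 2 ^ k) = f n ^^^ f (2 ^ k)) :
    ∀ m < 4096, ∀ n < 4096, f (m ^^^ n) = f m ^^^ f n := by
  have : ∀ k ≤ 12, ∀ m < 2 ^ k, ∀ n < 2 ^ k, f (m ^^^ n) = f m ^^^ f n := fun k => by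
    induction k with
    | zero =>
      intro _ m hm n hn
      have := h 0 (by norm_num) 0 (by norm_num)
      have := congrArg (· ^^^ f (2 ^ 0)) this
      simp only [Nat.zero_xor, Nat.xor_xor_cancel_right, Nat.xor_self] at this
      rw [Nat.lt_one_iff.1 hm, Nat.lt_one_iff.1 hn, Nat.xor_self, Nat.xor_self, ← this]
    | succ k ih =>
      have d : ∀ n < 2 ^ (k + 1), n < 2 ^ k ∨ ∃ a < 2 ^ k, n = a ^^^ 2 ^ k := fun n hn => by
        refine or_iff_not_imp_left.2 fun c => ⟨n ^^^ 2 ^ k, Nat.lt_pow_two_of_testBit _ fun i hi => ?_,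
          (Nat.xor_xor_cancel_right _ _).symm⟩
        rw [Nat.testBit_xor, Nat.testBit_two_pow]
        rcases hi.eq_or_lt with rfl | hi
        · rw [Nat.testBit_of_two_pow_le_and_two_pow_add_one_gt (by omega) hn]; simp
        · rw [Nat.testBit_lt_two_pow (hn.trans_le (Nat.pow_le_pow_right two_pos hi))]; simp [hi.ne]
      intro hk m hm n hn
      have h := h k (by omega)
      have ih := ih (by omega)
      rcases d m hm with a | ⟨m, a, rfl⟩ <;> rcases d n hn with b | ⟨n, b, rfl⟩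
      · exact ih _ a _ b
      · rw [← Nat.xor_assoc, h _ (Nat.xor_lt_two_pow a b), h _ b, ih _ a _ b, Nat.xor_assoc]
      · rw [Nat.xor_assoc, Nat.xor_comm _ n, ← Nat.xor_assoc, h _ (Nat.xor_lt_two_pow a b), h _ a, ih _ a _ b,
          Nat.xor_assoc, Nat.xor_assoc, Nat.xor_comm (f n)]
      · rw [h _ a, h _ b, Nat.xor_assoc, Nat.xor_comm _ (n ^^^ _), Nat.xor_xor_cancel_right, ih _ a _ b, Nat.xor_assoc,
          Nat.xor_comm _ (f n ^^^ _), Nat.xor_xor_cancel_right]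
  exact this 12 le_rfl

/-- The labelling of the non-singular codes. -/
noncomputable def labB12 (LAB IDX : ℕ) : Bool :=
  cnd (allN 2016 fun p => force (look2 LAB 12 64 p) fun n => cnd (Nat.testBit QT n) (Nat.beq (look2 IDX 12 64 n) p) false)
    (allN 4096 fun n => cnd (Nat.testBit QT n) (force (look2 IDX 12 64 n) fun p => cnd (Nat.ble (Nat.succ p) 2016)
      (Nat.beq (look2 LAB 12 64 p) n) false) true) false

/-- Checks for one letter. -/
noncomputable def letB12 (vn : List Net) (tb tbV : ℕ → ℕ → ℕ) (LAB x : ℕ) : Bool :=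
  cnd (Nat.beq (img vn x QT) QT) (cnd (allN 12 fun k => force (Nat.pow 2 k) fun b => force (tbV x b) fun c =>
    allN b fun n => Nat.beq (force (Nat.xor n b) (tbV x)) (Nat.xor (tbV x n) c))
    (allN 2016 fun p => Nat.beq (force (look2 LAB 12 64 p) (tbV x)) (force (tb x p) (look2 LAB 12 64))) false) false

theorem exists_m12 {nets vn : List Net} {tb tbV : ℕ → ℕ → ℕ} {LAB IDX m : ℕ} {B ops : List ℕ} (hN : NetsOK 2048 nets)
    (hi : ∀ x, gp nets x * gp nets x = 1) (ht : TbA nets tb) (hN' : NetsOK 4096 vn) (hi' : ∀ x, gp vn x * gp vn x = 1)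
    (ht' : TbA vn tbV) (hl : labB12 LAB IDX = true) (hm : nets.length = m ∧ vn.length = m ∧ gp vn 0 = 1)
    (hx : ∀ x < m, letB12 vn tb tbV LAB x = true) (hf : fxB 2048 11 2016 nets (List.range m) = true)
    (ho : orbB nets ops 0 0 2016 = true) (hB : ∀ i < 12, look IDX 12 (2 ^ i) ∈ B ∧ QT.testBit (2 ^ i) = true)
    (h1 : look LAB 12 0 = 1 ∧ allN 12 (fun i => Nat.beq (tbV 1 (2 ^ i)) (tv 1 (2 ^ i))) = true) :
    ∃ M : Md G12 (parF nets 2048 11 2016 tb 2 0 12 168 B), Va M (parN vn 4096 12 4096 tbV 2 0 13 316 [] 0) ψ ∧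
      (∀ p < 2016, look LAB 12 p < 4096 ∧ q0 (look LAB 12 p) = 1 ∧ M.τ p = TV (look LAB 12 p) ∧
        ∀ g, ψ g (look LAB 12 p) = look LAB 12 (M.φ g p)) ∧
      ∀ n < 4096, q0 n = 1 → look IDX 12 n < 2016 ∧ look LAB 12 (look IDX 12 n) = n := by
  simp only [labB12, cnd_tt, allN_iff, force_eq, beq_tt, look2_eq _ _ (show 0 < 64 by norm_num)] at hl
  set lab := look LAB 12
  set idx := look IDX 12
  have l0 : ∀ p, lab p < 4096 := fun p => Nat.lt_pow_two_of_testBit (n := 12) _ fun i hi => by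
    rw [testBit_look]; simp [hi]
  have l1 : ∀ p < 2016, lab p < 4096 ∧ q0 (lab p) = 1 := fun p hp => ⟨l0 p, (QT_iff (l0 p)).1 (hl.1 p hp).1⟩
  have l2 : ∀ n < 4096, q0 n = 1 → idx n < 2016 ∧ lab (idx n) = n := fun n hn h => by
    have := hl.2 n hn
    rwa [(QT_iff hn).2 h, cnd_eq, if_pos rfl, cnd_tt, ble_tt, beq_tt] at this
  have l3 : ∀ (g : G12), ∀ p < 2016, idx (ψ g (lab p)) < 2016 ∧ lab (idx (ψ g (lab p))) = ψ g (lab p) := fun g p hp =>
    l2 _ (G12.lt g (l0 p)) ((G12.q g (l0 p)).trans (l1 p hp).2)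
  obtain ⟨φ, hφ⟩ := exists_perm_hom (L := G12) (N := 2016) (fun g p => idx (ψ g (lab p))) (fun g p hp => (l3 g p hp).1)
    (fun p hp => (hl.1 p hp).2) fun a b p hp => by rw [(l3 b p hp).2]; rfl
  have l4 : ∀ (g : G12), ∀ p < 2016, ψ g (lab p) = lab (φ g p) := fun g p hp => by rw [(hφ g).2 p hp, (l3 g p hp).2]
  have iv : ∀ x, (gp vn x)⁻¹ = gp vn x := fun x => inv_eq_of_mul_eq_one_right (hi' x)
  simp only [letB12, cnd_tt, allN_iff, force_eq, beq_tt, look2_eq _ _ (show 0 < 64 by norm_num), ht _, ht' _, iv] at hx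
  have mem : ∀ x, gp vn x ∈ G12 := forall_gp (one_mem _) fun x h => ⟨hN'.fx x, lin_of (hx x (hm.2.1 ▸ h)).2.1, fun n hn => by
    rw [QT_ok _ hn, QT_ok _ ((hN'.fx x).lt hn), cB, cB]
    conv_lhs => rw [← (hx x (hm.2.1 ▸ h)).1, testBit_img hN', inv_app]⟩
  let γ : ℕ → G12 := fun x => ⟨_, mem x⟩
  have hγ : ∀ x, φ (γ x) = gp nets x := fun x => by
    by_cases c : x < m
    · have := fx_of_fxB hN (by norm_num) (by norm_num) hf (mem_cl (List.mem_range.2 c))
      refine Equiv.ext fun p => ?_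
      by_cases hp : p < 2016
      · rw [(hφ _).2 p hp]
        exact (congrArg idx ((hx x c).2.2 p hp)).trans (by
          rw [inv_eq_of_mul_eq_one_right (hi x)]; exact (hl.1 _ (this.lt hp)).2)
      · rw [this p (by omega), (hφ _).1 p (by omega)]
    · have e1 : gp nets x = 1 := by unfold gp; rw [nth_eq, List.getD_eq_default _ _ (by omega)]; rfl
      have e2 : γ x = 1 := Subtype.ext (by change gp vn x = 1; unfold gp; rw [nth_eq, List.getD_eq_default _ _ (by omega)]; rfl)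
      rw [e1, e2, map_one]
  refine ⟨mkMd hN hi ht (by norm_num) (by norm_num) φ γ (fun p => TV (lab p)) hγ (Subtype.ext hm.2.2) (fun g => (hφ g).1)
    (fun g p hp => by rw [TV_conj g (l1 p hp), l4 g p hp]) (fun p hp q hq e => ?_) ?_ (fun g hg => G12.ext_basis fun i hi => ?_)
    (fun p hp => ?_), ⟨rfl, fun g => g.2.1, sim_F hi' (fun _ => rfl) ht' _ _ _ _ _ _ _, sim_I hN' hi' (fun _ => rfl) _ _ _ _ _ _ _,
      sim_E hN' hi' (fun _ => rfl) (fun g => g.2.1) _ _ _ _ _ _ _, by simp [parN]⟩,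
    fun p hp => ⟨l0 p, (l1 p hp).2, rfl, fun g => l4 g p hp⟩, l2⟩
  · have := congrArg (fun g => ψ g (xm (lab p))) e
    obtain ⟨a, b, -⟩ := xm_ok _ (l0 p)
    simp only [TV_ap (l1 p hp), TV_ap (l1 q hq), tv_of a] at this
    rw [B0_comm, b, if_pos (l1 p hp).2] at this
    rw [← (hl.1 p hp).2, ← (hl.1 q hq).2]
    split_ifs at this
    · exact congrArg idx (Nat.xor_right_inj.1 this)
    · have k := (l1 p hp).2
      rw [Nat.xor_right_inj.1 (this.trans (Nat.xor_zero _).symm), q0_zero] at k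
      exact absurd k zero_ne_one
  · rw [wv_lt _ (by norm_num) (by norm_num)]
    refine G12.ext_basis fun i hi => ?_
    rw [TV_ap (l1 0 (by norm_num)), h1.1, ← beq_tt.1 (allN_iff.1 h1.2 i hi), ht', iv]; rfl
  · have b : 2 ^ i < 4096 := Nat.pow_lt_pow_right (a := 2) (n := 12) one_lt_two hi
    obtain ⟨c, d⟩ := l2 _ b ((QT_iff b).1 (hB i hi).2)
    rw [← d, l4 g _ c, hg _ (hB i hi).1]; rfl
  · obtain ⟨_, ⟨g, rfl⟩, e⟩ := orbB_sound hN (G := φ.range) (fun x _ => ⟨_, hγ x⟩) ho p (Nat.zero_le _) (by omega)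
    exact ⟨g, e⟩

end Cfsg.Lib.Fi
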