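import Cfsg.Agent.Lib.Fi.M12a
import Cfsg.Agent.Lib.Fi.Loc2

/-! The model of `O₁₂⁺(2)` on its `2016` non-singular vectors. -/

namespace Cfsg.Lib.Fi

open Cfsg.Lib.Comp Subgroup M12

noncomputable def par12 : Par := parF nets 2048 11 2016 tb 2 0 12 168 B
noncomputable def parV : Par := parN vn 4096 12 4096 tbV 2 0 13 316 [] 0
noncomputable def lab (p : ℕ) : ℕ := look LAB 12 p
noncomputable def idx (n : ℕ) : ℕ := look IDX 12 n

theorem exists_MO : ∃ M : Md G12 par12, Va M parV ψ ∧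
    (∀ p < 2016, lab p < 4096 ∧ q0 (lab p) = 1 ∧ M.τ p = TV (lab p) ∧ ∀ g, ψ g (lab p) = lab (M.φ g p)) ∧
      ∀ n < 4096, q0 n = 1 → idx n < 2016 ∧ lab (idx n) = n :=
  exists_m12 nets_ok invol tb_ok vn_ok vinvol tbV_ok lab_b ⟨rfl, rfl, rfl⟩ (allN_iff.1 let_b) fx_b orb_b
    (by decide +kernel) (by decide +kernel)

/-- The model. -/
noncomputable def MO : Md G12 par12 := exists_MO.choose
theorem VO : Va MO parV ψ := exists_MO.choose_spec.1
theorem lab_ok {p : ℕ} (h : p < 2016) : lab p < 4096 ∧ q0 (lab p) = 1 ∧ MO.τ p = TV (lab p) ∧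
    ∀ g, ψ g (lab p) = lab (MO.φ g p) := exists_MO.choose_spec.2.1 p h
theorem idx_ok {n : ℕ} (h : n < 4096) (h' : q0 n = 1) : idx n < 2016 ∧ lab (idx n) = n := exists_MO.choose_spec.2.2 n h h'

variable {G : Type*} [Group G] {P : Par}

/-- `A` consists of the points whose `x`-orbit is invariant under `W`. -/
noncomputable def blkB (P : Par) (x : ℕ × ℕ) (W : List (ℕ × ℕ)) (A : ℕ) : Bool :=
  cnd (presB P W [x] []) (cnd (oneB P x 3) (cnd (subS A (ones P.n)) (allN P.n fun p => Nat.beq (bit A p) (cnd (allL W fun e =>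
    force (ap P e p) fun q => cnd (Nat.beq q p) true (force (ap P x q) fun r => cnd (Nat.beq r p) true
      (Nat.beq (ap P x r) p))) 1 0)) false) false) false

theorem Md.norm_le_blk (M : Md G P) {x : ℕ × ℕ} {W : List (ℕ × ℕ)} {A : ℕ} (h : blkB P x W A = true) :
    normalizer (M.cp W : Set G) ⊓ centralizer {M.v x} ≤ M.st [x] [A] := by
  simp only [blkB, cnd_tt, allN_iff, beq_tt, force_eq, M.ap_eq] at h
  obtain ⟨h1, h2, h3, h4⟩ := h
  have hW := M.cp_le_cent h1 List.mem_cons_self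
  have h2 := M.pow_eq_one h2
  set y := M.v x
  have c : ∀ {j}, j ∈ centralizer {y} → ∀ k : ℕ, y ^ k * j = j * y ^ k := fun hj k =>
    (Commute.pow_left (mem_centralizer_singleton_iff.1 hj).symm k).eq
  have k : ∀ p, A.testBit p = true ↔ p < P.n ∧ ∀ j ∈ M.cp W, ∃ k : ℕ, M.φ (y ^ k * j) p = p := fun p => by
    by_cases hp : p < P.n
    swap
    · exact iff_of_false (fun a => hp (by simpa [testBit_ones] using subS_sound h3 a)) fun a => hp a.1
    rw [← bit_tt, beq_tt, h4 p hp, cnd_eq, ite_eq_left_iff, imp_iff_not zero_ne_one, not_not, allL_iff, and_iff_right hp]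
    refine ⟨fun a j hj => ?_, fun a e he => ?_⟩
    · induction hj using closure_induction with
      | mem _ b =>
        obtain ⟨e, he, rfl⟩ := b
        have := a e he
        simp only [cnd_eq, Bool.if_true_left, Bool.or_eq_true, decide_eq_true_eq, beq_tt] at this
        rcases this with b | b | b
        exacts [⟨0, by simpa using b⟩, ⟨1, by simpa using b⟩, ⟨2, by simpa [pow_two] using b⟩]
      | one => exact ⟨0, by simp⟩
      | mul a b ha _ u v =>
        obtain ⟨k, u⟩ := u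
        obtain ⟨l, v⟩ := v
        refine ⟨k + l, ?_⟩
        rw [pow_add, mul_assoc, ← mul_assoc _ a, c (hW ha), mul_assoc, ← mul_assoc, map_mul, Equiv.Perm.mul_apply, v, u]
      | inv a ha u =>
        obtain ⟨k, u⟩ := u
        refine ⟨2 * k, ?_⟩
        rw [← u, ← Equiv.Perm.mul_apply, ← map_mul, u, c (hW ha), mul_assoc, inv_mul_cancel_left, ← pow_add,
          show 2 * k + k = 3 * k by ring, pow_mul, h2, one_pow, map_one]; rfl
    · obtain ⟨k, u⟩ := a _ (M.mem_cp he)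
      rw [pow_eq_pow_mod _ h2] at u
      have : k % 3 < 3 := Nat.mod_lt _ (by norm_num)
      simp only [cnd_eq, Bool.if_true_left, Bool.or_eq_true, decide_eq_true_eq, beq_tt]
      generalize k % 3 = l at u this
      interval_cases l
      exacts [.inl (by simpa using u), .inr (.inl (by simpa using u)), .inr (.inr (by simpa [pow_two] using u))]
  have k2 : ∀ g ∈ normalizer (M.cp W : Set G) ⊓ centralizer {y}, ∀ p, A.testBit p = true → A.testBit (M.φ g p) = true :=
    fun g hg p hp => (k _).2 ⟨M.lt g ((k p).1 hp).1, fun j hj => by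
      obtain ⟨l, u⟩ := ((k p).1 hp).2 (g⁻¹ * j * g) ((mem_normalizer_iff''.1 hg.1 j).1 hj)
      refine ⟨l, ?_⟩
      rw [← Equiv.Perm.mul_apply, ← map_mul, show y ^ l * j * g = g * (y ^ l * (g⁻¹ * j * g)) by
        rw [← mul_assoc g, ← c hg.2]; group, map_mul, Equiv.Perm.mul_apply, u]⟩
  intro g hg
  refine M.mem_st_iff.2 ⟨fun e he => List.mem_singleton.1 he ▸ mem_centralizer_singleton_iff.1 hg.2, fun B hB i => ?_⟩
  rw [List.mem_singleton.1 hB, Bool.eq_iff_iff]
  exact ⟨fun a => by simpa using k2 _ (inv_mem hg) _ a, k2 g hg i⟩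

/-- The sets `L` are the images of `S` under `U`, and are permuted by `W`. -/
noncomputable def covB (P : Par) (W U : List (ℕ × ℕ)) (S : ℕ) (L : List ℕ) : Bool :=
  cnd (allN (List.length L) fun i => Nat.beq (apS P (ent U i) S) (nth 0 L i)) (cnd (List.elem S L)
    (allL W fun e => allL L fun A => forceH (apS P e A) fun B => List.elem B L) false) false

theorem Md.cov [Finite G] (M : Md G P) {W U : List (ℕ × ℕ)} {S : ℕ} {L : List ℕ} (h : covB P W U S L = true) {g : G}
    (hg : g ∈ M.cp W) : ∃ i, Rs M.φ ((M.v (ent U i))⁻¹ * g) S S := by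
  simp only [covB, cnd_tt, allN_iff, allL_iff, beq_tt, forceH_eq, List.elem_eq_mem, decide_eq_true_eq] at h
  have : ∀ A ∈ L, ∃ B ∈ L, Rs M.φ g A B := by
    replace hg : g ∈ Submonoid.closure (M.v '' {e | e ∈ W}) := by
      rw [← closure_toSubmonoid_of_finite]; exact hg
    induction hg using Submonoid.closure_induction with
    | mem _ b => obtain ⟨e, he, rfl⟩ := b; exact fun A hA => ⟨_, h.2.2 e he A hA, M.apS_eq e A⟩
    | one => exact fun A hA => ⟨A, hA, Rs.one _ _⟩
    | mul a b _ _ u v =>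
      intro A hA
      obtain ⟨B, hB, v⟩ := v A hA
      obtain ⟨C, hC, u⟩ := u B hB
      exact ⟨C, hC, v.mul u⟩
  obtain ⟨B, hB, a⟩ := this S h.2.1
  obtain ⟨i, hi, rfl⟩ := List.getElem_of_mem hB
  have b := M.apS_eq (ent U i) S
  rw [h.1 i hi, nth_eq, List.getD_eq_getElem _ _ hi] at b
  exact ⟨i, a.mul b.inv⟩

/-- The word `w` has order `p`. -/
noncomputable def owB (P : Par) (D : List (ℕ × ℕ)) (w p : ℕ) : Bool :=
  cnd (rbG P D (List.replicate p w) []) (neB (fw force (dF P D) w 0) 0) false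

theorem Md.dvd_of_owB [Finite G] (M : Md G P) {D : List (ℕ × ℕ)} {w p : ℕ} (h : owB P D w p = true) (hp : p.Prime)
    {K : Subgroup G} (hK : M.cp D ≤ K) : p ∣ Nat.card K := by
  have := Fact.mk hp
  obtain ⟨a, b⟩ := cnd_tt.1 h
  rw [← orderOf_eq_prime (p := p) (x := wv (M.d D) w) (by rw [← evw_rep, M.relT D _ _ a]; rfl) fun c => ne_of_neB b (by
    rw [(M.sdF D).fw fc_force, c, map_one]; rfl)]
  exact orderOf_dvd_natCard _ (hK (M.wv_mem_cp D w))

theorem Md.cp_conj (M : Md G P) {W : List (ℕ × ℕ)} (h : ∀ e ∈ W, e.1 = 0) (U : ℕ) :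
    M.cp (W.map fun e => (U, e.2)) = (M.cp W).map (MulAut.conj (wv M.γ U)).toMonoidHom := by
  unfold Md.cp
  rw [MonoidHom.map_closure, Set.image_image]
  congr 1
  ext x
  simp only [Set.mem_image, Set.mem_ofPred_eq, List.mem_map]
  refine ⟨fun ⟨_, ⟨e, he, rfl⟩, a⟩ => ⟨e, he, a ▸ ?_⟩, fun ⟨e, he, a⟩ => ⟨_, ⟨e, he, rfl⟩, a ▸ ?_⟩⟩ <;>
    simp [Md.v, val, h e he, wv_zero]

end Cfsg.Lib.Fi
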