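import Cfsg.Agent.Lib.Fi.A12b
import Cfsg.Agent.Lib.Fi.Tup
import Cfsg.Agent.Lib.Fi.O6
import Cfsg.Agent.Lib.Comp.U43x.Mat
import Cfsg.Agent.S0278

/-! The unitary groups `GU₆(2)`, `SU₆(2)` and the subgroup `3·U₄(3)` inside `O₁₂⁺(2)`. -/

set_option maxRecDepth 100000

namespace Cfsg.Lib.Fi

open Cfsg.Lib.Comp Subgroup A12 Cfsg.Lib.MatB Matrix Cfsg.Lib.Core
open scoped commutatorElement

def dec (n : ℕ) : Fin 6 → K4 := fun i => ⟨cB n (2 * i), cB n (2 * i + 1)⟩

theorem dec_xor (m n : ℕ) : dec (m ^^^ n) = dec m + dec n := funext fun _ => by simp only [dec, cB_xor]; rfl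

theorem dec_xm : ∀ n < 4096, dec (xm n) = (QuadraticAlgebra.omega : K4) • dec n := by
  have : allN 4096 (fun n => allN 6 fun i => ((xm n).testBit (2 * i) == n.testBit (2 * i + 1)) &&
    ((xm n).testBit (2 * i + 1) == (n.testBit (2 * i) ^^ n.testBit (2 * i + 1)))) = true := by decide +kernel
  intro n hn
  funext i
  have := allN_iff.1 (allN_iff.1 this n hn) i i.2
  rw [Bool.and_eq_true, beq_iff_eq, beq_iff_eq] at this
  simp only [dec, cB, this, Pi.smul_apply]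
  cases n.testBit (2 * i) <;> cases n.testBit (2 * i + 1) <;> decide

theorem dec_inj {m n : ℕ} (hm : m < 4096) (hn : n < 4096) (h : dec m = dec n) : m = n := by
  have k : ∀ i, cB m i = cB n i → m.testBit i = n.testBit i := fun i => by
    unfold cB; cases m.testBit i <;> cases n.testBit i <;> decide
  refine Nat.eq_of_testBit_eq fun i => ?_
  by_cases c : i < 12
  · have := congrFun h ⟨i / 2, by omega⟩
    rcases Nat.mod_two_eq_zero_or_one i with e | e
    · exact k i ((show 2 * (i / 2) = i by omega) ▸ congrArg QuadraticAlgebra.re this)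
    · exact k i ((show 2 * (i / 2) + 1 = i by omega) ▸ congrArg QuadraticAlgebra.im this)
  · have : 4096 ≤ 2 ^ i := Nat.pow_le_pow_right (n := 2) (i := 12) two_pos (by omega)
    rw [Nat.testBit_lt_two_pow (hm.trans_le this), Nat.testBit_lt_two_pow (hn.trans_le this)]

theorem herm_im (m n : ℕ) : (hermForm 6 K4 2 (dec m) (dec n)).im = B0 m n := by
  have : ∀ a b c d : ZMod 2, ((⟨a, b⟩ : K4) * (⟨c, d⟩ : K4) ^ 2).im = a * d + b * c := by decide
  simp only [hermForm, B0, Fin.sum_univ_six, Finset.sum_range_succ, Finset.sum_range_zero, QuadraticAlgebra.im_add, dec, this,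
    zero_add]
  rfl

theorem herm_eq {m : ℕ} (hm : m < 4096) (n : ℕ) :
    hermForm 6 K4 2 (dec m) (dec n) = ⟨B0 (xm m) n + B0 m n, B0 m n⟩ := by
  have : hermForm 6 K4 2 (dec (xm m)) (dec n) = QuadraticAlgebra.omega * hermForm 6 K4 2 (dec m) (dec n) := by
    simp only [hermForm, dec_xm m hm, Finset.mul_sum, Pi.smul_apply, smul_eq_mul, mul_assoc]
  rw [← herm_im, ← herm_im, this]
  generalize hermForm 6 K4 2 (dec m) (dec n) = a
  obtain ⟨a, b⟩ := a
  revert a b; decide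

/-- Multiplication by `ω`. -/
noncomputable def X0 : G12 := MO.v x0
theorem X0_ap {n : ℕ} (h : n < 4096) : ψ X0 n = xm n := (VO.ap x0 n).symm.trans (beq_tt.1 (allN_iff.1 x_ok n h))
theorem X0_ord : orderOf X0 = 3 := MO.ord Nat.prime_three x_ord
/-- `GU₆(2)`. -/
noncomputable def GU0 : Subgroup G12 := centralizer {X0}
theorem GU0_xm {g : G12} (hg : g ∈ GU0) {n : ℕ} (h : n < 4096) : ψ g (xm n) = xm (ψ g n) := by
  rw [← X0_ap h, ← X0_ap (G12.lt g h), ← G12.mul, mem_centralizer_singleton_iff.1 hg, G12.mul]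
theorem mem_GU0 {g : G12} (h : ∀ n < 4096, ψ g (xm n) = xm (ψ g n)) : g ∈ GU0 :=
  mem_centralizer_singleton_iff.2 (G12.ext' fun n hn => by rw [G12.mul, G12.mul, X0_ap hn, X0_ap (G12.lt g hn), h n hn])

noncomputable def mat (g : G12) : Matrix (Fin 6) (Fin 6) K4 := of fun i j => dec (ψ g (4 ^ j.1)) i

theorem four_lt : ∀ j : Fin 6, 4 ^ j.1 < 4096 ∧ dec (4 ^ j.1) = Pi.single j 1 := by decide +kernel

theorem mat_ap {g : G12} (hg : g ∈ GU0) : ∀ n < 4096, mat g *ᵥ dec n = dec (ψ g n) := by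
  have b : ∀ j : Fin 6, mat g *ᵥ dec (4 ^ j.1) = dec (ψ g (4 ^ j.1)) := fun j => by
    rw [(four_lt j).2, mulVec_single_one]; rfl
  refine code_ind (by rw [G12.zero, show dec 0 = 0 by decide, mulVec_zero]) (fun i hi => ?_) fun m hm n hn a b => by
    rw [G12.xor g hm hn, dec_xor, dec_xor, mulVec_add, a, b]
  obtain ⟨j, e | e⟩ : ∃ j : Fin 6, 2 ^ i = 4 ^ j.1 ∨ 2 ^ i = xm (4 ^ j.1) := by revert i; decide +kernel
  · rw [e, b]
  · rw [e, GU0_xm hg (four_lt j).1, dec_xm _ (four_lt j).1, dec_xm _ (G12.lt g (four_lt j).1), mulVec_smul, b]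

theorem mat_mul {g : G12} (hg : g ∈ GU0) (h : G12) : mat (g * h) = mat g * mat h :=
  Matrix.ext fun i j => (congrFun (mat_ap hg _ (G12.lt h (four_lt j).1)) i).symm

theorem mat_one : mat 1 = 1 := Matrix.ext fun i j => (congrFun (four_lt j).2 i).trans (by rw [Pi.single_apply, one_apply])

theorem mat_uni {g : G12} (hg : g ∈ GU0) : (mat g)ᵀ * (mat g).map (· ^ 2) = 1 := Matrix.ext fun i j => by
  have : ∀ i j : Fin 6, hermForm 6 K4 2 (dec (4 ^ i.1)) (dec (4 ^ j.1)) = (1 : Matrix (Fin 6) (Fin 6) K4) i j := fun i j => by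
    simp [hermForm, (four_lt _).2, Pi.single_apply, one_apply, eq_comm]
  rw [← this, herm_eq (four_lt i).1, ← G12.B g (xm_ok _ (four_lt i).1).1 (four_lt j).1, ← G12.B g (four_lt i).1 (four_lt j).1,
    GU0_xm hg (four_lt i).1, ← herm_eq (G12.lt g (four_lt i).1)]
  rfl

/-- The determinant. -/
noncomputable def det0 : GU0 →* K4 := detMonoidHom.comp ⟨⟨fun g => mat g, mat_one⟩, fun g _ => mat_mul g.2 _⟩
/-- `SU₆(2)`. -/
noncomputable def SU0 : Subgroup G12 := det0.toHomUnits.ker.map GU0.subtype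
theorem SU0_le : SU0 ≤ GU0 := map_subtype_le _
theorem mem_SU0 {g : G12} (hg : g ∈ GU0) : g ∈ SU0 ↔ det0 ⟨g, hg⟩ = 1 :=
  (mem_map_iff_mem (x := (⟨g, hg⟩ : GU0)) (subtype_injective _)).trans Units.ext_iff
theorem SU0_norm : GU0 ≤ normalizer (SU0 : Set G12) := fun g hg => mem_normalizer_of_conj_mem fun _ ⟨a, ha, e⟩ =>
  ⟨_, (MonoidHom.normal_ker _).conj_mem a ha ⟨g, hg⟩, e ▸ rfl⟩
theorem SU0_comm {a b : G12} (ha : a ∈ GU0) (hb : b ∈ GU0) : ⁅a, b⁆ ∈ SU0 :=
  ⟨⁅(⟨a, ha⟩ : GU0), ⟨b, hb⟩⁆, by rw [SetLike.mem_coe, MonoidHom.mem_ker, map_commutatorElement, commutatorElement_eq_one_iff_mul_comm,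
    mul_comm], rfl⟩
theorem SU0_inv {a : G12} (ha : a ∈ GU0) (h : a ^ 2 = 1) : a ∈ SU0 := (mem_SU0 ha).2 (by
  have : det0 ⟨a, ha⟩ ^ 2 = 1 := by rw [← map_pow, show (⟨a, ha⟩ : GU0) ^ 2 = 1 from Subtype.ext h, map_one]
  generalize det0 _ = c at this
  obtain ⟨c, d⟩ := c
  revert c d; decide)

theorem gW_le : MO.cp (d :: SW) ≤ GU0 := MO.cp_le_cent g_c List.mem_cons_self
theorem ke_GU0 : MO.KE GU0 (d :: SW) 82771476480 := by
  have := gu MO
  rw [MO.st_pt] at this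
  exact this.of_leA gu_w gW_le
theorem SW_le : MO.cp SW ≤ SU0 := MO.cp_le.2 fun e he =>
  SU0_inv (gW_le (MO.mem_cp (List.mem_cons_of_mem _ he))) (MO.pow_eq_one (allL_iff.1 s_inv e he))

theorem su_iso (F : Type) [Field F] [Fintype F] (hF : Fintype.card F = 4) :
    MO.KE SU0 SW 27590492160 ∧ Nonempty (SU0 ≃* SU 6 F 2) := by
  obtain ⟨φ⟩ := hom4 hF
  obtain ⟨σ, hσ⟩ := exists_frob φ (p := 2) (by norm_num) (by decide +kernel)
  choose f hf using fun g : SU0 => su_mem φ hσ (A := mat g) ((mem_SU0 (SU0_le g.2)).1 g.2) (mat_uni (SU0_le g.2))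
  let ρ : SU0 →* SU 6 F 2 := MonoidHom.mk' f fun a b => su_inj 6 2 (by
    rw [map_mul, hf, hf, hf, ← Matrix.map_mul, ← mat_mul (SU0_le a.2)]; rfl)
  have hi : Function.Injective ρ := fun a b e => Subtype.ext (G12.ext' fun n hn => dec_inj (G12.lt _ hn) (G12.lt _ hn) (by
    rw [← mat_ap (SU0_le a.2) n hn, ← mat_ap (SU0_le b.2) n hn, Matrix.map_injective φ.injective ((hf a).symm.trans
      ((congrArg _ e).trans (hf b)))]))
  have c : Nat.card (SU 6 F 2) = 27590492160 := by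
    have := Agent.S0278.result (q := 2) hF 6 (by norm_num)
    simp only [Finset.prod_range_succ, Finset.prod_range_zero] at this
    norm_num [Nat.even_iff] at this
    omega
  have k := Md.KE.of_lb SW_le (c ▸ Nat.card_le_card_of_injective _ hi) (su MO)
  exact ⟨k, ⟨.ofBijective ρ (hi.bijective_of_nat_card_le (by rw [c, k.2]))⟩⟩

theorem ke_SU0 : MO.KE SU0 SW 27590492160 := by
  obtain ⟨F, _, _, h⟩ := exists_field 2 2 two_ne_zero
  exact (su_iso F h).1

/-- The diagonal element. -/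
noncomputable def D0 : G12 := MO.v d
theorem D0_mem : D0 ∈ GU0 := gW_le (MO.mem_cp List.mem_cons_self)
theorem D0_ord : orderOf D0 = 3 := MO.ord Nat.prime_three d_ord
theorem D0_not : D0 ∉ SU0 := fun h => by
  have := card_le_of_le (ke_GU0.1.le.trans ((MO.cp_cons _ _).le.trans (sup_le (zpowers_le.2 h) SW_le)))
  rw [ke_GU0.2, ke_SU0.2] at this
  omega

theorem card_inf_SU0 {L : Subgroup G12} (h : L ≤ GU0) (hd : D0 ∈ L) : Nat.card L = 3 * Nat.card ↥(SU0 ⊓ L) := by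
  have := normal_subgroupOf_of_le_normalizer SU0_norm
  have h1 : SU0.relIndex GU0 = 3 := by
    have := relIndex_mul_relIndex ⊥ _ _ bot_le SU0_le
    rw [relIndex_bot_left, relIndex_bot_left, ke_GU0.2, ke_SU0.2] at this
    omega
  have h2 : SU0.relIndex L ∣ 3 := by
    rw [← h1, ← relIndex_subgroupOf h]; exact relIndex_dvd_index_of_normal _ _
  have h3 := relIndex_mul_relIndex ⊥ (SU0 ⊓ L) L bot_le inf_le_right
  rw [relIndex_bot_left, relIndex_bot_left, inf_relIndex_right,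
    ((Nat.dvd_prime Nat.prime_three).1 h2).resolve_left fun e => D0_not (relIndex_eq_one.1 e hd)] at h3
  omega

theorem GU0_dec {g : G12} (hg : g ∈ GU0) : ∃ k < 3, D0 ^ k * g ∈ SU0 := by
  have : ∀ a b : K4, a ≠ 1 → a ^ 3 = 1 → b ≠ 0 → ∃ k < 3, a ^ k * b = 1 := fun ⟨a, b⟩ ⟨c, d⟩ => by revert a b c d; decide
  obtain ⟨k, hk, e⟩ := this (det0 ⟨D0, D0_mem⟩) (det0 ⟨g, hg⟩) (fun h => D0_not ((mem_SU0 _).2 h)) (by
    rw [← map_pow, show (⟨D0, D0_mem⟩ : GU0) ^ 3 = 1 from Subtype.ext (D0_ord ▸ pow_orderOf_eq_one D0), map_one])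
    (det0.toHomUnits _).ne_zero
  exact ⟨k, hk, (mem_SU0 (mul_mem (pow_mem D0_mem k) hg)).2 (by rw [← e, ← map_pow, ← map_mul]; rfl)⟩

/-- `U₄(3)`. -/
abbrev U43 : Type := cl (gp U43x.nets) U43x.L

/-- `θ` is a map onto `U₄(3)` with kernel `Z`. -/
def Cov43 {G : Type*} [Group G] (K Z : Subgroup G) : Prop :=
  Z ≤ K ∧ ∃ θ : K →* U43, Function.Surjective θ ∧ θ.ker = Z.subgroupOf K

theorem Cov43.of {G : Type*} [Group G] {K Z : Subgroup G} (h : Z ≤ K) [(Z.subgroupOf K).Normal]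
    (e : K ⧸ Z.subgroupOf K ≃* U43) : Cov43 K Z :=
  ⟨h, e.toMonoidHom.comp (QuotientGroup.mk' _), e.surjective.comp (QuotientGroup.mk'_surjective _), by
    rw [← MonoidHom.comap_ker, (MonoidHom.ker_eq_bot_iff _).2 e.injective, MonoidHom.comap_bot, QuotientGroup.ker_mk']⟩

theorem Cov43.card {G : Type*} [Group G] {K Z : Subgroup G} (h : Cov43 K Z) : Nat.card K = 3265920 * Nat.card Z := by
  obtain ⟨h, θ, a, b⟩ := h
  rw [card_eq_card_quotient_mul_card_subgroup θ.ker, Nat.card_congr (QuotientGroup.quotientKerEquivOfSurjective θ a).toEquiv,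
    U43x.card, b, card_subgroupOf_of_le h]

theorem Cov43.le {G : Type*} [Group G] {K Z N : Subgroup G} (h : Cov43 K Z) (hZ : Z ≤ N)
    (hc : ∀ a ∈ K, ∀ b ∈ K, ⁅a, b⁆ ∈ N) : K ≤ N := by
  obtain ⟨-, θ, a, b⟩ := h
  have := U43x.simple
  have k : commutator U43 = ⊤ := (Subgroup.Normal.eq_bot_or_eq_top inferInstance).resolve_left fun e => by
    have : IsMulCommutative U43 := ⟨⟨fun x y => commutatorElement_eq_one_iff_mul_comm.1
      (mem_bot.1 (e ▸ commutator_mem_commutator (mem_top x) (mem_top y)))⟩⟩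
    let _ : CommGroup U43 := IsMulCommutative.instCommGroup
    have := IsSimpleGroup.prime_card (α := U43)
    rw [U43x.card] at this
    norm_num at this
  intro x hx
  obtain ⟨y, hy, e⟩ : θ ⟨x, hx⟩ ∈ (commutator K).map θ := by rw [map_commutator_eq, MonoidHom.range_eq_top.2 a]; exact k.ge trivial
  have h1 : commutator K ≤ N.subgroupOf K := commutator_le.2 fun a _ b _ => hc _ a.2 _ b.2
  have h2 : y⁻¹ * ⟨x, hx⟩ ∈ Z.subgroupOf K := b ▸ (by rw [MonoidHom.mem_ker, map_mul, map_inv, e, inv_mul_cancel])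
  simpa [mem_subgroupOf] using mul_mem (h1 hy) (hZ h2 : _ ∈ N.subgroupOf K)

theorem Cov43.map {G H : Type*} [Group G] [Group H] {K Z : Subgroup G} (h : Cov43 K Z) {f : G →* H} (hf : f.ker ⊓ K ≤ Z) :
    Cov43 (K.map f) (Z.map f) := by
  obtain ⟨h, θ, a, b⟩ := h
  have s := f.subgroupMap_surjective K
  have k : (f.subgroupMap K).ker ≤ θ.ker := fun x hx => b ▸ hf ⟨congrArg Subtype.val hx, x.2⟩
  let η := MonoidHom.liftOfSurjective _ s ⟨θ, k⟩
  have hη : ∀ x, η (f.subgroupMap K x) = θ x := fun x => MonoidHom.liftOfRightInverse_comp_apply _ _ _ _ _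
  refine ⟨map_mono h, η, fun u => by obtain ⟨x, rfl⟩ := a u; exact ⟨_, hη x⟩, Subgroup.ext fun y => ?_⟩
  obtain ⟨x, rfl⟩ := s y
  rw [MonoidHom.mem_ker, hη, ← MonoidHom.mem_ker, b, mem_subgroupOf, mem_subgroupOf]
  refine ⟨fun c => ⟨_, c, rfl⟩, fun ⟨z, hz, e⟩ => ?_⟩
  simpa using mul_mem hz (hf (x := z⁻¹ * x) (mem_inf.2 ⟨by rw [MonoidHom.mem_ker, map_mul, map_inv, e]; exact inv_mul_cancel _,
    mul_mem (inv_mem (h hz)) x.2⟩))

/-- `3·U₄(3)`. -/
noncomputable def K1 : Subgroup G12 := MO.cp K1W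
/-- `3·U₄(3)·2²`. -/
noncomputable def N0 : Subgroup G12 := MO.cp NW

theorem K1_cov : Cov43 K1 (zpowers X0) := by
  have c : 9797760 = 3265920 * Nat.card (MO.cp [x0]) := by rw [MO.cp_one, Nat.card_zpowers]; exact X0_ord.symm ▸ rfl
  have n : MO.cp (qE ++ [x0]) ≤ normalizer (MO.cp [x0] : Set G12) :=
    (MO.cp_le_cent q_n List.mem_cons_self).trans (MO.cp_one x0 ▸ cent_le_norm_zpowers _)
  have k := (k1 MO).ke U43x.pk U43x.ord n (q_r MO) q_w c
  have := normal_subgroupOf_of_le_normalizer n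
  have := Cov43.of (MO.cp_mono fun _ => List.mem_append_right _) (k.quot U43x.pk U43x.ord le_rfl (q_r MO) q_w c).some
  rwa [k.1, MO.cp_one] at this

theorem K1_card : Nat.card K1 = 9797760 := by rw [K1_cov.card, Nat.card_zpowers, X0_ord]
theorem N0_norm : N0 ≤ normalizer (K1 : Set G12) := MO.le_norm k_n
theorem KW_le : MO.cp KW ≤ SU0 := (MO.cp_mono (by decide)).trans SW_le
theorem K1_le : K1 ≤ MO.cp KW := MO.le_of_leA k_le
theorem K1_le_N0 : K1 ≤ N0 := K1_le.trans (MO.cp_mono (by decide))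
theorem orb1 : Orb ψ K1 5 O1 378 := VO.orb O1_orb
theorem orb2 : Orb ψ K1 85 O2 1701 := VO.orb O2_orb

theorem sing_iff {n : ℕ} : (O1.testBit n = true ∨ O2.testBit n = true) ↔ n < 4096 ∧ q0 n = 0 ∧ n ≠ 0 := by
  obtain ⟨a, b⟩ := cnd_tt.1 O_all
  replace a := congrArg (·.testBit n) (beq_tt.1 a)
  replace b := congrArg (·.testBit n) (beq_tt.1 b)
  simp only [lor_eq', land_eq', Nat.testBit_or, Nat.testBit_and, testBit_ones, Nat.zero_testBit] at a b
  have c : Nat.testBit 1 n = decide (n = 0) := by rw [← pow_zero 2, Nat.testBit_two_pow]; simp [eq_comm]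
  rw [c] at a b
  by_cases h : n < 4096
  · have e := QT_iff h
    rcases z2_cases (q0 n) with k | k <;> rw [k] at e ⊢ <;> generalize O1.testBit n = u at * <;>
      generalize O2.testBit n = v at * <;> generalize QT.testBit n = w at * <;> cases u <;> cases v <;> cases w <;> simp_all
  · rw [decide_eq_false h] at a
    simp only [Bool.or_eq_false_iff] at a
    simp [h, a.1]

theorem sst_O1 : MO.KE (sst ψ O1) NW 39191040 := by
  have l : N0 ≤ sst ψ O1 := VO.le_sst O1_inv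
  refine .of_lb l ?_ (n0 MO)
  have h1 : sst ψ O1 ⊓ stab MO.φ 0 ≤ MO.st [(0, 0)] [Ap] := fun g hg => by
    have e : pt par12 0 = 0 := rfl
    rw [MO.st_cons, e]
    refine ⟨MO.mem_st_iff.2 ⟨by simp, fun A hA q => ?_⟩, hg.2⟩
    rw [List.mem_singleton.1 hA]
    by_cases hq : q < 2016
    · have k : ∀ q < 2016, Ap.testBit q = O1.testBit (lab q ^^^ lab 0) := fun q hq => by
        have := beq_tt.1 (allN_iff.1 (cnd_tt.1 Ap_b).2 q hq)
        rw [force_eq, bit_eq, bit_eq, look2_eq _ _ (by norm_num)] at this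
        replace this : (Ap.testBit q).toNat = (O1.testBit (lab q ^^^ lab 0)).toNat :=
          (show lab 0 = 1 by decide +kernel).symm ▸ this
        revert this; cases Ap.testBit q <;> cases O1.testBit (lab q ^^^ lab 0) <;> simp
      have z := lab_ok (p := 0) (by norm_num)
      rw [k _ hq, k _ (MO.lt g hq), ← sst_bit hg.1 (lab q ^^^ _), G12.xor g (lab_ok hq).1 z.1, (lab_ok hq).2.2.2, z.2.2.2,
        mem_stab.1 hg.2]
    · rw [MO.fx g q (by exact not_lt.1 hq)]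
  have h3 : Nat.card ↥(sst ψ O1 ⊓ stab MO.φ 0) ≤ 19440 := by
    have a := card_dvd_of_le h1
    have b : Nat.card ↥(sst ψ O1 ⊓ stab MO.φ 0) ≠ 38880 := fun e => ne_of_neB (cnd_tt.1 np_t).2 ((VO.apS _ _).unique
      ((eq_of_le_of_card_ge h1 (by rw [e, (np MO).2])).ge (MO.le_st (cnd_tt.1 np_t).1 (MO.mem_cp List.mem_cons_self))).1)
    rw [(np MO).2] at a
    obtain ⟨c, a⟩ := a
    rcases c with _ | _ | c
    · omega
    · omega
    · nlinarith
  rw [card_stab_mul MO.φ _ 0]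
  refine (Nat.mul_le_mul ((Set.ncard_le_ncard (t := Set.Iio 2016) ?_).trans (show _ ≤ 2016 by simp)) h3).trans (by norm_num)
  rintro _ ⟨g, -, rfl⟩
  exact MO.lt g (by decide)

theorem N0_eq : N0 = sst ψ O1 := sst_O1.1.symm
theorem N0_card : Nat.card N0 = 39191040 := N0_eq ▸ sst_O1.2

end Cfsg.Lib.Fi
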