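import Cfsg.Agent.Lib.Fi.O12c
import Cfsg.Agent.Lib.Fi.A12c

/-! The subgroups `3·U₄(3)` of `GU₆(2)` are conjugate. -/

set_option maxRecDepth 100000

namespace Cfsg.Lib.Fi

open Cfsg.Lib.Comp Subgroup A12 Cfsg.Lib.Core
open scoped commutatorElement

section
variable {G : Type*} [Group G]

/-- A correspondence between `K` and `L`. -/
structure Cor (R : G → G → Prop) (K L : Subgroup G) : Prop where
  mul : ∀ {a b c d}, R a b → R c d → R (a * c) (b * d)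
  inv : ∀ {a b}, R a b → R a⁻¹ b⁻¹
  l : ∀ a ∈ K, ∃ b, R a b
  r : ∀ b ∈ L, ∃ a, R a b

theorem Cor.symm {R : G → G → Prop} {K L : Subgroup G} (h : Cor R K L) : Cor (fun a b => R b a) L K :=
  ⟨h.mul, h.inv, h.r, h.l⟩

theorem Cor.cm {R : G → G → Prop} {K L : Subgroup G} (h : Cor R K L) {a b c d : G} (x : R a b) (y : R c d) : R ⁅a, c⁆ ⁅b, d⁆ :=
  h.mul (h.mul (h.mul x y) (h.inv x)) (h.inv y)

theorem Cor.norm [Finite G] {R : G → G → Prop} {K L Y : Subgroup G} (h : Cor R K L) (hY : Y ≤ K)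
    (k : ∀ {a b}, R a b → (a ∈ Y ↔ b ∈ Y)) {a b : G} (x : R a b) (hb : b ∈ normalizer (Y : Set G)) :
    a ∈ normalizer (Y : Set G) := mem_normalizer_of_conj_mem fun y hy => by
  obtain ⟨z, e⟩ := h.l y (hY hy)
  exact (k (h.mul (h.mul x e) (h.inv x))).2 ((mem_normalizer_iff.1 hb z).1 ((k e).1 hy))

theorem Cor.char {R : G → G → Prop} {K L P X J Z : Subgroup G} (h : Cor R K L) (hP : P ≤ K)
    (kP : ∀ {a b}, R a b → (a ∈ P ↔ b ∈ P)) (kX : ∀ {a b}, R a b → (a ∈ X ↔ b ∈ X))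
    (hJ : ∀ a, a ∈ J ↔ a ∈ P ∧ ∀ s ∈ P, ∀ t ∈ P, ⁅a, ⁅s, t⁆⁆ ∈ X) (hZ : ∀ a, a ∈ Z ↔ a ∈ P ∧ ∀ s ∈ P, ⁅a, s⁆ ∈ X)
    {a b : G} (x : R a b) : (b ∈ J → a ∈ J) ∧ (b ∈ Z → a ∈ Z) := by
  simp only [hJ, hZ]
  refine ⟨fun y => ⟨(kP x).2 y.1, fun s hs t ht => ?_⟩, fun y => ⟨(kP x).2 y.1, fun s hs => ?_⟩⟩ <;>
    obtain ⟨s', e⟩ := h.l s (hP hs)
  · obtain ⟨t', e'⟩ := h.l t (hP ht)
    exact (kX (h.cm x (h.cm e e'))).2 (y.2 _ ((kP e).1 hs) _ ((kP e').1 ht))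
  · exact (kX (h.cm x e)).2 (y.2 _ ((kP e).1 hs))

theorem card_map_ker [Finite G] {H : Type*} [Group H] (θ : G →* H) {B : Subgroup G} (h : θ.ker ≤ B) :
    Nat.card B = Nat.card (B.map θ) * Nat.card θ.ker := by
  rw [card_eq_card_quotient_mul_card_subgroup (θ.subgroupMap B).ker,
    Nat.card_congr (QuotientGroup.quotientKerEquivOfSurjective _ (θ.subgroupMap_surjective B)).toEquiv,
    ← card_subgroupOf_of_le h, show (θ.subgroupMap B).ker = θ.ker.subgroupOf B from Subgroup.ext fun _ => Subtype.ext_iff]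

theorem Cov43.cor [Finite G] {K L X P : Subgroup G} (hK : Cov43 K X) (hL : Cov43 L X) (h1 : X ≤ P) (h2 : P ≤ K) (h3 : P ≤ L)
    (hP : Nat.card P = 3 ^ 6 * Nat.card X) : ∃ R, Cor R K L ∧ (∀ {a b}, R a b → a ∈ K ∧ b ∈ L ∧ (a ∈ P ↔ b ∈ P) ∧
      (a ∈ X ↔ b ∈ X)) ∧ ∀ B ≤ L, X ≤ B → ∃ A : Subgroup G, Nat.card A = Nat.card B ∧ ∀ a, a ∈ A ↔ ∃ b ∈ B, R a b := by
  obtain ⟨xK, θ0, s0, k0⟩ := hK
  obtain ⟨xL, η, s1, k1⟩ := hL
  have := U43x.pk.finite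
  have c : ∀ {K : Subgroup G} (θ : K →* U43), θ.ker = X.subgroupOf K → ∀ B ≤ K, X ≤ B →
      Nat.card B = Nat.card ((B.subgroupOf K).map θ) * Nat.card X := fun θ k B a b => by
    rw [← card_subgroupOf_of_le a, card_map_ker θ (k ▸ comap_mono b), k, card_subgroupOf_of_le (b.trans a)]
  have c0 := Nat.eq_of_mul_eq_mul_right Nat.card_pos ((c θ0 k0 P h2 h1).symm.trans hP)
  have c1 := Nat.eq_of_mul_eq_mul_right Nat.card_pos ((c η k1 P h3 h1).symm.trans hP)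
  obtain ⟨u, hu⟩ := exists_conj_sylow (m := 4480) Nat.prime_three U43x.card (by norm_num) (.of_card c0) c1
  let θ := (MulAut.conj u).toMonoidHom.comp θ0
  have s : Function.Surjective θ := (MulAut.conj u).surjective.comp s0
  have k : θ.ker = X.subgroupOf K := by
    rw [← MonoidHom.comap_ker, (MonoidHom.ker_eq_bot_iff _).2 (MulAut.conj u).injective, MonoidHom.comap_bot, k0]
  have e : (P.subgroupOf K).map θ = (P.subgroupOf L).map η := by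
    rw [← map_map]; exact eq_of_le_of_card_ge hu (by rw [card_map_conj, c0, c1])
  refine ⟨fun a b => ∃ ha hb, θ ⟨a, ha⟩ = η ⟨b, hb⟩, ⟨fun ⟨a, b, x⟩ ⟨c, d, y⟩ => ⟨mul_mem a c, mul_mem b d,
    (map_mul θ ⟨_, a⟩ ⟨_, c⟩).trans (x ▸ y ▸ (map_mul η ⟨_, b⟩ ⟨_, d⟩).symm)⟩, fun ⟨a, b, x⟩ => ⟨inv_mem a, inv_mem b,
    (map_inv θ ⟨_, a⟩).trans (x ▸ (map_inv η ⟨_, b⟩).symm)⟩, fun a ha => ?_, fun b hb => ?_⟩,
    fun {a b} ⟨ha, hb, x⟩ => ⟨ha, hb, ?_, ?_⟩, fun B hB hX => ?_⟩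
  · obtain ⟨b, e⟩ := s1 (θ ⟨a, ha⟩)
    exact ⟨b, ha, b.2, e.symm⟩
  · obtain ⟨a, e⟩ := s (η ⟨b, hb⟩)
    exact ⟨a, a.2, hb, e⟩
  · change (⟨a, ha⟩ : K) ∈ P.subgroupOf K ↔ (⟨b, hb⟩ : L) ∈ P.subgroupOf L
    rw [← comap_map_eq_self (H := P.subgroupOf K) (k.le.trans (comap_mono h1)), ← comap_map_eq_self (H := P.subgroupOf L)
      (k1.le.trans (comap_mono h1)), mem_comap, mem_comap, e, x]
  · change (⟨a, ha⟩ : K) ∈ X.subgroupOf K ↔ (⟨b, hb⟩ : L) ∈ X.subgroupOf L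
    rw [← k, ← k1, MonoidHom.mem_ker, MonoidHom.mem_ker, x]
  · refine ⟨(((B.subgroupOf L).map η).comap θ).map K.subtype, ?_, fun a => ⟨fun ⟨a, ⟨b, hb, x⟩, y⟩ =>
      ⟨b, hb, y ▸ a.2, b.2, y ▸ x.symm⟩, fun ⟨b, hb, ha, hb', x⟩ => ⟨⟨a, ha⟩, ⟨_, hb, x.symm⟩, rfl⟩⟩⟩
    rw [card_map_of_injective (subtype_injective _), card_map_ker θ (ker_le_comap _ _), map_comap_eq_self_of_surjective s,
      c η k1 B hB hX, k, card_subgroupOf_of_le xK]
end

theorem p_x : PS (MO.d pA) 7 6 = zpowers X0 := PS_last _ 6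

theorem J_char (a : G12) : a ∈ PS (MO.d pA) 7 2 ↔ a ∈ PS (MO.d pA) 7 0 ∧ ∀ s ∈ PS (MO.d pA) 7 0, ∀ t ∈ PS (MO.d pA) 7 0,
    ⁅a, ⁅s, t⁆⁆ ∈ zpowers X0 := by
  have h := pPc MO
  refine ⟨fun x => ⟨PS_mono (by norm_num) le_rfl x, fun s hs t ht => p_x ▸ PS_mono (by norm_num) le_rfl
    ((h.ab (MO.relT _) le_rfl ab2).1 _ x _ ((h.ab (MO.relT _) (by norm_num) ab0).1 s hs t ht))⟩, fun x =>
    h.zle (MO.relT _) zJ (by norm_num) (fun s hs => ?_) x.1⟩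
  rw [← inv_mem_iff, commutatorElement_inv]
  refine comm_mem_of_gen (S := {c | ∃ s ∈ PS (MO.d pA) 7 0, ∃ t ∈ PS (MO.d pA) 7 0, ⁅s, t⁆ = c})
    (((closure_le _).2 (by
      rintro _ ⟨s, hs, t, ht, rfl⟩; exact mul_mem (mul_mem (mul_mem hs ht) (inv_mem hs)) (inv_mem ht))).trans
      (h.norm' 6 0)) ?_ s (h.dc (MO.relT _) dc hs)
  rintro _ ⟨s, hs, t, ht, rfl⟩
  rw [← inv_mem_iff, commutatorElement_inv, p_x]
  exact x.2 s hs t ht

theorem Z_char (a : G12) : a ∈ PS (MO.d pA) 7 5 ↔ a ∈ PS (MO.d pA) 7 0 ∧ ∀ s ∈ PS (MO.d pA) 7 0, ⁅a, s⁆ ∈ zpowers X0 :=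
  ⟨fun x => ⟨PS_mono (by norm_num) le_rfl x, p_x ▸ (pPc MO).cm (MO.relT _) cm (by norm_num) a x⟩, fun x =>
    (pPc MO).zle (MO.relT _) zZ (by norm_num) (p_x ▸ x.2) x.1⟩

theorem M1_ke : MO.KE (SU0 ⊓ MO.st [x0] [S1]) MW 174960 := by
  have a := MO.le_st h1_d
  have := card_inf_SU0 ((Md.st_le (fun _ h => h) (by simp)).trans (MO.st_pt x0).le) (a (MO.mem_cp List.mem_cons_self))
  rw [(h1 MO).2] at this
  exact .of_lb (le_inf ((MO.cp_mono (by decide)).trans KW_le) ((MO.cp_mono fun _ => List.mem_cons_of_mem _).trans a))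
    (by omega) (m1 MO)

theorem cls0 {K : Subgroup G12} (h : Cov43 K (zpowers X0)) (hK : K ≤ SU0) (hP : PS (MO.d pA) 7 0 ≤ K) :
    ∃ g ∈ GU0, K ≤ (MO.cp KW).map (MulAut.conj g).toMonoidHom := by
  have p1 : PS (MO.d pA) 7 0 ≤ K1 := (MO.cp_eq_PS pA rfl).ge.trans (MO.le_of_leA p_le)
  obtain ⟨R, c, k, cd⟩ := h.cor K1_cov (p_x ▸ PS_mono (by norm_num) le_rfl) hP p1 (by
    rw [(pPc MO).card (by norm_num), Nat.card_zpowers, X0_ord]; rfl)
  have j1 := fun {a b} (x : R a b) => c.char hP (fun x => (k x).2.2.1) (fun x => (k x).2.2.2) J_char Z_char x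
  have j2 := fun {a b} (x : R a b) => c.symm.char p1 (fun x => (k x).2.2.1.symm) (fun x => (k x).2.2.2.symm) J_char Z_char x
  have eJ := MO.cp_drop pA 7 2 le_rfl
  have eZ := MO.cp_drop pA 7 5 le_rfl
  have aK : MO.cp AW ≤ K1 := MO.cp_mono fun _ => List.mem_cons_of_mem _
  obtain ⟨A, cA, hA⟩ := cd (MO.cp AW ⊔ zpowers X0) (sup_le aK K1_cov.1) le_sup_right
  have nJ : MO.cp AW ⊔ zpowers X0 ≤ normalizer (PS (MO.d pA) 7 2 : Set G12) :=
    sup_le (eJ ▸ MO.le_norm a_n) (p_x ▸ (pPc MO).norm' 2 6)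
  have AM : A ≤ K ⊓ MO.cp MW := fun a ha => by
    obtain ⟨b, hb, x⟩ := (hA a).1 ha
    refine ⟨(k x).1, M1_ke.1.le ⟨hK (k x).1, MO.norm_le_blk S1_b ⟨eJ ▸ c.norm ((PS_mono (by norm_num) le_rfl).trans hP)
      (fun x => ⟨(j2 x).1, (j1 x).1⟩) x (nJ hb), SU0_le (hK (k x).1)⟩⟩⟩
  obtain ⟨a, x⟩ := c.r _ (MO.mem_cp List.mem_cons_self : MO.v b1 ∈ K1)
  have gen : ∀ L, MO.cp MW ≤ L → a ∈ L → K ≤ L := fun L h1 h2 y hy => by
    obtain ⟨z, e⟩ := c.l y hy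
    obtain ⟨y', hy', e'⟩ : ∃ y' ∈ L, R y' z := (MO.cp_le (K := ⟨⟨⟨{b | ∃ y ∈ L, R y b}, fun ⟨_, a, b⟩ ⟨_, a', b'⟩ =>
        ⟨_, mul_mem a a', c.mul b b'⟩⟩, by obtain ⟨u, v⟩ := c.l a (k x).1; exact ⟨_, mul_mem h2 (inv_mem h2),
          mul_inv_cancel u ▸ c.mul v (c.inv v)⟩⟩, fun ⟨_, a, b⟩ => ⟨_, inv_mem a, c.inv b⟩⟩)).2 (fun e he => by
      rcases List.mem_cons.1 he with rfl | he
      · exact ⟨a, h2, x⟩
      · obtain ⟨u, v⟩ := c.r _ (aK (MO.mem_cp he))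
        exact ⟨u, h1 (AM ((hA u).2 ⟨_, mem_sup_left (MO.mem_cp he), v⟩)).2, v⟩) (k e).2.1
    have := (k (c.mul e (c.inv e'))).2.2.2.2 (by simp)
    obtain ⟨w, hw⟩ := c.l _ (h.1 this)
    simpa using mul_mem (h1 (AM ((hA _).2 ⟨w, mem_sup_right ((k hw).2.2.2.1 this), hw⟩)).2) hy'
  have aS := hK (k x).1
  obtain ⟨i, hi⟩ := MO.cov cov ((h2 MO).1.le (MO.norm_le_blk S2_b ⟨eZ ▸ c.norm ((PS_mono (by norm_num) le_rfl).trans hP)
    (fun x => ⟨(j2 x).2, (j1 x).2⟩) x (eZ ▸ MO.le_norm b_n (MO.mem_cp List.mem_cons_self)), SU0_le aS⟩))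
  have mm : ∀ u ∈ SU0, Rs MO.φ (u⁻¹ * a) S1 S1 → u⁻¹ * a ∈ MO.cp MW := fun u hu r => M1_ke.1.le
    (mem_inf.2 ⟨mul_mem (inv_mem hu) aS, MO.mem_st_iff.2 ⟨fun e he => List.mem_singleton.1 he ▸
      mem_centralizer_singleton_iff.1 (SU0_le (mul_mem (inv_mem hu) aS)), by simpa using r⟩⟩)
  have good : ∀ g ∈ GU0, g ∈ normalizer (MO.cp MW : Set G12) → ∀ u ∈ (MO.cp KW).map (MulAut.conj g).toMonoidHom,
      Rs MO.φ (u⁻¹ * a) S1 S1 → ∃ g ∈ GU0, K ≤ (MO.cp KW).map (MulAut.conj g).toMonoidHom := fun g hg hn u hu r => by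
    have l : MO.cp MW ≤ (MO.cp KW).map (MulAut.conj g).toMonoidHom := fun y hy =>
      ⟨g⁻¹ * y * g, MO.cp_mono (by decide) ((mem_normalizer_iff''.1 hn y).1 hy), by simp [mul_assoc]⟩
    obtain ⟨w, hw, e⟩ := id hu
    exact ⟨g, hg, gen _ l (mul_inv_cancel_left u a ▸ mul_mem hu (l (mm _ (e ▸ (mem_normalizer_iff.1 (SU0_norm hg) _).1
      (KW_le hw)) r)))⟩
  have dn : D0 ∈ normalizer (MO.cp MW : Set G12) := MO.le_norm m_n (MO.mem_cp List.mem_cons_self)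
  have d1 : wv MO.γ 538 = D0 := (val_elt _ _ (by norm_num)).symm
  have d2 : wv MO.γ 6658 = D0⁻¹ := by
    have := MO.eq_mul (e := (0, 1)) (a := (0, 6658)) (b := d) (by decide +kernel)
    rw [MO.v_def, eq_comm, mul_eq_one_iff_eq_inv] at this
    exact (val_elt _ _ (by norm_num)).symm.trans this
  have cj := fun U => MO.cp_conj (W := KW) (by decide) U
  rcases ent_mem (A12.U0 ++ (U1 ++ (U2 ++ bad.map (·.1)))) i with e | e
  · exact good 1 (one_mem _) (one_mem _) _ (by rw [e, MO.v_def]; exact one_mem _) hi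
  simp only [List.mem_append] at e
  rcases e with e | e | e | e
  · exact good 1 (one_mem _) (one_mem _) _ (wv_zero MO.γ ▸ cj 0 ▸ MO.le_of_leA U0_le (MO.mem_cp e)) hi
  · exact good _ D0_mem dn _ (d1 ▸ cj 538 ▸ MO.le_of_leA U1_le (MO.mem_cp e)) hi
  · exact good _ (inv_mem D0_mem) (inv_mem dn) _ (d2 ▸ cj 6658 ▸ MO.le_of_leA U2_le (MO.mem_cp e)) hi
  exfalso
  have m := mm _ (SW_le (MO.le_of_leA bad_le (MO.mem_cp e))) hi
  obtain ⟨b, hb, e⟩ := List.mem_map.1 e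
  rw [← e] at m
  have hb := allL_iff.1 bad_b b hb
  simp only [cnd_tt] at hb
  have ix : (K.subgroupOf (MO.cp MW)).index ≤ 2 := by
    have a1 := (K.subgroupOf (MO.cp MW)).card_mul_index
    have a2 := (a0 MO).trans (card_le_of_le (le_sup_left (b := zpowers X0)))
    have a3 := card_le_of_le AM
    rw [← M1_ke.1, M1_ke.2, M1_ke.1, ← inf_subgroupOf_right, card_subgroupOf_of_le inf_le_right, inf_subgroupOf_right] at a1
    nlinarith
  have ix' : MO.cp MW ≤ K ∨ (K.subgroupOf (MO.cp MW)).index = 2 := by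
    rw [← subgroupOf_eq_top, ← index_eq_one]
    have := (K.subgroupOf (MO.cp MW)).index_ne_zero_of_finite
    omega
  have am : MO.cp AW ≤ MO.cp MW := MO.cp_le.2 (by
    have : allL AW (fun e => mulB par12 e (0, e.2 / 256) (0, e.2 % 256) && decide ((0, e.2 / 256) ∈ MW ∧ (0, e.2 % 256) ∈ MW))
      = true := by decide +kernel
    intro e he
    have := allL_iff.1 this e he
    rw [Bool.and_eq_true, decide_eq_true_eq] at this
    exact MO.eq_mul this.1 ▸ mul_mem (MO.mem_cp this.2.1) (MO.mem_cp this.2.2))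
  have ak : MO.cp AW ≤ K := ix'.elim am.trans fun h => MO.cp_le.2 fun e he => by
    have := pow_mem (sq_mem_of_index_two h ⟨_, am (MO.mem_cp he)⟩) 2
    rw [mem_subgroupOf, coe_pow, coe_pow, ← pow_mul, show 2 * 2 = 3 + 1 from rfl, pow_succ,
      MO.pow_eq_one (allL_iff.1 a_o e he), one_mul] at this
    exact this
  have no : ∀ {e w}, owB par12 (e :: AW) w 11 = true → MO.v e ∉ K := fun h h' => by
    have := MO.dvd_of_owB h (by norm_num) ((MO.cp_cons _ _).le.trans (sup_le (zpowers_le.2 h') ak))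
    rw [‹Cov43 K _›.card, Nat.card_zpowers, X0_ord] at this
    norm_num at this
  have m1 : (MO.v b.1)⁻¹ * a ∉ K := fun h => no hb.2.1 (by simpa using mul_mem (k x).1 (inv_mem h))
  have sM : MO.v (0, 4) ∈ MO.cp MW := MO.mem_cp List.mem_cons_self
  refine no hb.2.2 ?_
  have := (mul_mem_iff_of_index_two (ix'.resolve_left fun h => m1 (h m)) (a := ⟨_, inv_mem m⟩) (b := ⟨_, sM⟩)).2
    (iff_of_false (fun h => m1 (inv_mem_iff.1 h)) fun h => m1 ((MO.le_of_leA m_w).trans ((MO.cp_cons _ _).le.trans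
      (sup_le (zpowers_le.2 h) ak)) m))
  simpa [MO.eq_mul hb.1, mul_assoc] using mul_mem (k x).1 this

theorem K12_comm {a b : G12} (ha : a ∈ MO.cp KW) (hb : b ∈ MO.cp KW) : ⁅a, b⁆ ∈ K1 := by
  have n : MO.cp ((0, 4) :: K1W) ≤ normalizer (K1 : Set G12) := by
    rw [MO.cp_cons]; exact sup_le (zpowers_le.2 (N0_norm (MO.mem_cp List.mem_cons_self))) le_normalizer
  refine (sec_ab (p := 2) n ?_ ?_).1 a (MO.le_of_leA k_w ha) b (MO.le_of_leA k_w hb)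
  · rintro _ ⟨e, he, rfl⟩ _ ⟨f, hf, rfl⟩
    have he' := n (MO.mem_cp he)
    have hf' := n (MO.mem_cp hf)
    rcases List.mem_cons.1 hf with rfl | hf
    · rcases List.mem_cons.1 he with rfl | he
      · simp
      · rw [commutatorElement_def, mul_assoc, mul_assoc, ← mul_assoc (MO.v _) _⁻¹]
        exact mul_mem (MO.mem_cp he) ((mem_normalizer_iff.1 hf' _).1 (inv_mem (MO.mem_cp he)))
    · exact mul_mem ((mem_normalizer_iff.1 he' _).1 (MO.mem_cp hf)) (inv_mem (MO.mem_cp hf))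
  · rintro _ ⟨e, he, rfl⟩
    rcases List.mem_cons.1 he with rfl | he
    · exact MO.pow_eq_one (allL_iff.1 s_inv _ List.mem_cons_self) ▸ one_mem _
    · exact pow_mem (MO.mem_cp he) 2

theorem map_X0 {g : G12} (hg : g ∈ GU0) : (zpowers X0).map (MulAut.conj g).toMonoidHom = zpowers X0 := by
  rw [map_conj_zpowers, mem_centralizer_singleton_iff.1 hg, mul_inv_cancel_right]

theorem Cov43.conj {K : Subgroup G12} (h : Cov43 K (zpowers X0)) {g : G12} (hg : g ∈ GU0) :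
    Cov43 (K.map (MulAut.conj g).toMonoidHom) (zpowers X0) :=
  map_X0 hg ▸ h.map (by rw [(MonoidHom.ker_eq_bot_iff _).2 (MulAut.conj g).injective]; simp)

theorem X0_SU0 : X0 ∈ SU0 := KW_le (K1_le (K1_cov.1 (mem_zpowers _)))

/-- The subgroups `3·U₄(3)` of `GU₆(2)` are conjugate. -/
theorem cls43 {K : Subgroup G12} (h : Cov43 K (zpowers X0)) (hK : K ≤ GU0) :
    ∃ g ∈ GU0, K.map (MulAut.conj g).toMonoidHom = K1 := by
  have hS : K ≤ SU0 := h.le (zpowers_le.2 X0_SU0) fun a ha b hb => SU0_comm (hK ha) (hK hb)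
  have p1 : PS (MO.d pA) 7 0 ≤ K1 := (MO.cp_eq_PS pA rfl).ge.trans (MO.le_of_leA p_le)
  have cK : Nat.card K = 3 ^ 7 * 4480 := by rw [h.card, Nat.card_zpowers, X0_ord]; norm_num
  obtain ⟨T, hT⟩ := Sylow.exists_subgroup_card_pow_prime 3 (G := K) (n := 7) (cK ▸ dvd_mul_right _ _)
  obtain ⟨g, hg⟩ := exists_conj_sylow (G := SU0) (m := 12615680) Nat.prime_three ke_SU0.2 (by norm_num)
    (X := (PS (MO.d pA) 7 0).subgroupOf SU0) ((pPc MO).isPGroup 0).comap_subtype (Y := (T.map K.subtype).subgroupOf SU0)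
    (by rw [card_subgroupOf_of_le ((map_subtype_le _).trans hS), card_map_of_injective (subtype_injective _), hT])
  have g0 := inv_mem (SU0_le g.2)
  obtain ⟨a, ha, k⟩ := cls0 (h.conj g0) (by rintro _ ⟨y, hy, rfl⟩; exact mul_mem (mul_mem (inv_mem g.2) (hS hy)) (by simp))
    fun y hy => ⟨g * y * g⁻¹, map_subtype_le T (hg ⟨⟨y, KW_le (K1_le (p1 hy))⟩, hy, rfl⟩), by simp [mul_assoc]⟩
  have h' := h.conj (mul_mem (inv_mem ha) g0)
  have l : K.map (MulAut.conj (a⁻¹ * (g : G12)⁻¹)).toMonoidHom ≤ MO.cp KW := by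
    rintro _ ⟨y, hy, rfl⟩
    obtain ⟨w, hw, e⟩ := k ⟨y, hy, rfl⟩
    rw [map_mul, MulEquiv.coe_toMonoidHom, MulAut.mul_apply, map_inv, MulAut.inv_apply]
    exact (congrArg (· ∈ MO.cp KW) ((MulAut.conj a).symm_apply_eq.2 e.symm)).mpr hw
  exact ⟨_, mul_mem (inv_mem ha) g0, eq_of_le_of_card_ge (h'.le K1_cov.1 fun x hx y hy => K12_comm (l hx) (l hy))
    (by rw [h'.card, K1_cov.card])⟩

theorem Cov43.cen {G : Type*} [Group G] {K Z : Subgroup G} (h : Cov43 K Z) (hc : K ≤ centralizer Z) :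
    center K = Z.subgroupOf K ∧ Nonempty (K ⧸ center K ≃* U43) := by
  obtain ⟨h, θ, a, b⟩ := h
  have := U43x.simple
  have e : center K = θ.ker := le_antisymm (fun x hx => by
    refine ((Subgroup.Normal.eq_bot_or_eq_top (inferInstance : (Subgroup.center U43).Normal)).resolve_right fun e => ?_).le
      (mem_center_iff.2 fun y => by obtain ⟨y, rfl⟩ := a y; rw [← map_mul, mem_center_iff.1 hx y, map_mul])
    let _ : CommGroup U43 := { mul_comm := fun x y => mem_center_iff.1 (e.ge (mem_top y)) x }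
    have := IsSimpleGroup.prime_card (α := U43)
    rw [U43x.card] at this
    norm_num at this) (b.le.trans fun x hx => mem_center_iff.2 fun y => Subtype.ext (hc y.2 _ hx).symm)
  exact ⟨e.trans b, ⟨(QuotientGroup.quotientMulEquivOfEq e).trans (QuotientGroup.quotientKerEquivOfSurjective θ a)⟩⟩

/-- The normaliser of `3·U₄(3)`. -/
theorem norm_K1 : normalizer (K1 : Set G12) = N0 := le_antisymm (fun g hg => N0_eq ▸ by
  have k : ∀ g ∈ normalizer (K1 : Set G12), ∀ n, O1.testBit n = true → O1.testBit (ψ g n) = true := fun g hg n hn => by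
    obtain ⟨a, b, c⟩ := sing_iff.1 (.inl hn)
    refine (sing_iff.2 ⟨G12.lt g a, (G12.q g a).trans b, fun e => c ((ψ g).injective (e.trans (G12.zero g).symm))⟩).resolve_right
      fun h => ?_
    obtain ⟨u, hu, rfl⟩ := (orb1.1 n).1 hn
    obtain ⟨v, hv, e⟩ := (orb2.1 _).1 h
    have := Set.ncard_le_ncard_of_injOn (s := {q | O2.testBit q = true}) (t := {q | O1.testBit q = true}) (ψ g⁻¹) (fun q hq => by
      obtain ⟨w, hw, rfl⟩ := (orb2.1 q).1 hq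
      refine (orb1.1 _).2 ⟨g⁻¹ * (w * v⁻¹) * g * u, mul_mem ((mem_normalizer_iff''.1 hg _).1 (mul_mem hw (inv_mem hv))) hu, ?_⟩
      simp only [G12.mul, ← e, G12.inv_ap]) (ψ g⁻¹).injective.injOn (Set.finite_of_ncard_pos (by rw [orb1.2]; norm_num))
    rw [orb1.2, orb2.2] at this
    omega
  exact fun n => Bool.eq_iff_iff.2 ⟨fun h => G12.inv_ap g n ▸ k _ (inv_mem hg) _ h, k g hg n⟩) N0_norm

theorem N0_GU : N0 ⊓ GU0 = MO.cp KW := by
  have h : ¬ N0 ≤ GU0 := fun h => absurd ((VO.ap _ _).trans ((GU0_xm (h (MO.mem_cp (e := (0, 18)) (by decide))) (n := 1)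
    (by norm_num)).trans (congrArg xm (VO.ap _ _).symm))) (by decide +kernel)
  have a : MO.cp KW ≤ N0 ⊓ GU0 := le_inf (MO.cp_mono (by decide)) (KW_le.trans SU0_le)
  refine (eq_of_le_of_card_ge a (le_trans ?_ (k2 MO))).symm
  obtain ⟨c, e⟩ := card_dvd_of_le (inf_le_left : N0 ⊓ GU0 ≤ N0)
  have b : Nat.card ↥(N0 ⊓ GU0) ≠ Nat.card N0 := fun e => h (inf_eq_left.1 (eq_of_le_of_card_ge inf_le_left e.ge))
  rw [N0_card] at e b
  rcases c with _ | _ | c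
  · omega
  · omega
  · nlinarith

end Cfsg.Lib.Fi
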