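import Cfsg.Agent.Lib.Fi.Fr2
import Cfsg.Agent.Lib.Fi.A12d
import Cfsg.Agent.Lib.Comp.Sy6.Iso
import Cfsg.Agent.Lib.Comp.We6.Iso

/-! Stabilisers of singular vectors in `3·U₄(3)·2²`. -/

set_option maxRecDepth 100000

namespace Cfsg.Lib.Fi

open Cfsg.Lib.Comp Subgroup A12 Cfsg.Lib.Core

theorem Orb.up {G : Type*} [Group G] {ψ : G →* Equiv.Perm ℕ} {K L : Subgroup G} {a A m : ℕ} (h : Orb ψ K a A m) (h1 : K ≤ L)
    (h2 : L ≤ sst ψ A) : Orb ψ L a A m :=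
  ⟨fun q => ⟨fun k => ((h.1 q).1 k).imp fun _ e => ⟨h1 e.1, e.2⟩, fun ⟨g, hg, e⟩ => by
    rw [← e, sst_bit (h2 hg)]; exact (h.1 a).2 ⟨1, one_mem _, by simp⟩⟩, h.2⟩

theorem N0_O2 : N0 ≤ sst ψ O2 := VO.le_sst O2_inv

theorem le_NS {W : List (ℕ × ℕ)} {a : ℕ} (h : cnd (invS parV W O1) (fixV parV W a) false = true) : MO.cp W ≤ N0 ⊓ stab ψ a :=
  le_inf (N0_eq ▸ VO.le_sst (cnd_tt.1 h).1) (VO.le_stab (cnd_tt.1 h).2)

theorem N0_ke : MO.KE N0 NW 39191040 := ⟨rfl, N0_card⟩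

theorem Y0_ke : MO.KE (N0 ⊓ stab ψ 85) YW 23040 :=
  N0_ke.vstab (orb2.up K1_le_N0 N0_O2) ((le_NS yw_in).trans inf_le_left) ((le_NS yw_in).trans inf_le_right) (y_lb MO) rfl (by norm_num)

theorem Y5_ke : MO.KE (N0 ⊓ stab ψ 5) VW 103680 :=
  N0_ke.vstab (orb1.up K1_le_N0 N0_eq.le) ((le_NS vw_in).trans inf_le_left) ((le_NS vw_in).trans inf_le_right) (v_lb MO) rfl (by norm_num)

/-- The subgroups `T₀ > E₀ > E₁` of orders `2⁸, 2⁵, 2⁴`. -/
noncomputable abbrev Py (i : ℕ) : Subgroup G12 := PS (MO.d yA) 9 i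

theorem Py_eq (i : ℕ) : MO.cp (yA.drop i) = Py i := MO.cp_drop yA 9 i le_rfl
theorem Py_card {i : ℕ} (h : i ≤ 9) : Nat.card (Py i) = 2 ^ (9 - i) := (yPc MO).card h
theorem Py_le (i : ℕ) : Py i ≤ N0 ⊓ stab ψ 85 := (PS_mono (Nat.zero_le _) le_rfl).trans ((Py_eq 0).ge.trans (le_NS y_in))

theorem op85 : (pCore 2 ↥(N0 ⊓ stab ψ 85)).map (Subgroup.subtype _) = Py 4 :=
  (Y0_ke.op (yPc MO) (le_NS y_in) yo1 yo2 (r := 45) rfl (by norm_num)).1

theorem op5 : Nat.card ((pCore 2 ↥(N0 ⊓ stab ψ 5)).map (Subgroup.subtype _)) = 2 := by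
  rw [(Y5_ke.op (vPc MO) (le_NS v_in) vo1 vo2 (r := 405) rfl (by norm_num)).1, (vPc MO).card (by norm_num)]; rfl

theorem E0_norm : N0 ⊓ stab ψ 85 ≤ normalizer (Py 4 : Set G12) := op85 ▸ le_normalizer_pCoreOf _
theorem E0_ab : IsElementaryAbelian 2 (Py 4) := Py_eq 4 ▸ MO.elemAb e0_ab
theorem E1_le : Py 5 ≤ K1 := (Py_eq 5).ge.trans (MO.le_of_leA e1_le)

theorem exists_θ6 : ∃ θ : ↥(N0 ⊓ stab ψ 85) →* Equiv.Perm (Fin 6), Function.Surjective θ ∧ θ.ker = (Py 4).subgroupOf _ := by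
  have : ((MO.cp (yA.drop 4)).subgroupOf (N0 ⊓ stab ψ 85)).Normal := normal_subgroupOf_of_le_normalizer (Py_eq 4 ▸ E0_norm)
  obtain ⟨e⟩ := Y0_ke.quot Sy6.pk Sy6.ord (le_NS s6_in) (s6_r MO) s6_w (by rw [Py_eq, Py_card (by norm_num)]; rfl)
  let f := e.trans Sy6.iso.some
  refine ⟨f.toMonoidHom.comp (QuotientGroup.mk' _), f.surjective.comp (QuotientGroup.mk'_surjective _), ?_⟩
  rw [← MonoidHom.comap_ker, (MonoidHom.ker_eq_bot_iff _).2 f.injective, MonoidHom.comap_bot, QuotientGroup.ker_mk', Py_eq]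

/-- The element of `E₀` outside `K₁`. -/
noncomputable def e0 : G12 := MO.v (ent yA 4)

theorem e0_mem : e0 ∈ Py 4 := mem_PS (x := 5) (by norm_num) (by norm_num)
theorem K1_GU : K1 ≤ GU0 := K1_le.trans (KW_le.trans SU0_le)
theorem e0_GU : e0 ∉ GU0 := fun h => by
  have := (Known2.conj_eq_of_comm (mem_centralizer_singleton_iff.1 h)).symm.trans (MO.pw e0_x)
  have k := X0_ord
  rw [show X0 = 1 from left_eq_mul.1 (this.trans (pow_two _)), orderOf_one] at k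
  omega

/-- The group `3·U₄(3)·2` occurring in the large Fischer group. -/
noncomputable def H0 : Subgroup G12 := MO.cp HW

theorem H0_eq : H0 = zpowers e0 ⊔ K1 := MO.cp_cons _ _
theorem K1_H0 : K1 ≤ H0 := H0_eq ▸ le_sup_right
theorem H0_N0 : H0 ≤ N0 := H0_eq ▸ sup_le (zpowers_le.2 (Py_le 4 e0_mem).1) K1_le_N0
theorem H0_card : Nat.card H0 = 19595520 := by
  rw [H0_eq, card_two_sup (orderOf_eq_prime (E0_ab.2 _ e0_mem) fun e => e0_GU (e ▸ one_mem _)) (N0_norm (Py_le 4 e0_mem).1)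
    fun h => e0_GU (K1_GU h), K1_card]
theorem T0_le : Py 1 ≤ H0 := (Py_eq 1).ge.trans (MO.le_of_leA t_le)
theorem H0_GU : H0 ⊓ GU0 = K1 := (eq_of_index_two (le_inf K1_H0 K1_GU) inf_le_left (fun h => e0_GU (h.ge
  (H0_eq.ge (mem_sup_left (mem_zpowers _)))).2) (by rw [H0_card, K1_card])).1.symm
theorem E0_K1 : Py 4 ⊓ K1 = Py 5 := (eq_of_index_two (le_inf (PS_mono (by norm_num) le_rfl) E1_le) inf_le_left
  (fun h => e0_GU (K1_GU (h.ge e0_mem).2)) (by rw [Py_card (by norm_num), Py_card (by norm_num)]; rfl)).1.symm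

theorem X5_iso : Nonempty (↥(H0 ⊓ stab ψ 5) ≃* O6) := by
  have k : MO.KE (H0 ⊓ stab ψ 5) XW 51840 := Md.KE.vstab (W := HW) ⟨rfl, H0_card⟩ (orb1.up K1_H0 (H0_N0.trans N0_eq.le))
    (MO.le_of_leA xw_le) (VO.le_stab xw_f) (x_lb MO) rfl (by norm_num)
  exact ⟨(k.iso We6.pk We6.ord (k.1 ▸ MO.le_of_leA w6_le) (w6_r MO) w6_w).some.trans We6.iso.some⟩

theorem card_stab85 {K : Subgroup G12} (h1 : K1 ≤ K) (h2 : K ≤ N0) : Nat.card K = 1701 * Nat.card ↥(K ⊓ stab ψ 85) :=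
  (orb2.up h1 (h2.trans N0_O2)).card

/-- Subgroups of index two in the vector stabiliser containing `E₀` have quotient `A₆`. -/
theorem exists_A6 {X E : Subgroup G12} (h1 : X ≤ N0 ⊓ stab ψ 85) (h2 : Py 4 ⊓ X = E) (hc : Nat.card X = 360 * Nat.card E) :
    ∃ θ : X →* alternatingGroup (Fin 6), Function.Surjective θ ∧ θ.ker = E.subgroupOf X := by
  obtain ⟨θ, a, b⟩ := exists_θ6
  let f := θ.comp (inclusion h1)
  have k : f.ker = E.subgroupOf X := by rw [← h2, inf_subgroupOf_right, ← MonoidHom.comap_ker, b]; rfl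
  have c := card_map_ker f le_top
  rw [card_top, k, card_subgroupOf_of_le (h2 ▸ inf_le_right), hc, ← MonoidHom.range_eq_map] at c
  have e := Equiv.Perm.eq_alternatingGroup_of_index_eq_two (G := f.range) (by
    have := f.range.card_mul_index
    rw [← Nat.eq_of_mul_eq_mul_right Nat.card_pos c, Nat.card_perm, Nat.card_fin] at this
    norm_num [Nat.factorial] at this; omega)
  exact ⟨f.codRestrict _ fun x => e ▸ ⟨x, rfl⟩, fun y => (e.ge y.2).imp fun _ h => Subtype.ext h, by rw [MonoidHom.ker_codRestrict, k]⟩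

end Cfsg.Lib.Fi
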