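import Cfsg.Agent.Lib.Fi.Pr
import Cfsg.Agent.Lib.Fi.Mk2

/-!
# Models of subgroups generated by points; classes of subgroups of prime order inside a subgroup
-/

namespace Cfsg.Lib.Fi

open Cfsg.Lib.Comp Subgroup Cfsg.Lib.Core

variable {G : Type*} [Group G] {P : Par}

/-- The entry `e` acts on the points `Ω i` as the table `tb`. -/
noncomputable def resB (P : Par) (e : ℕ × ℕ) (Ω n : ℕ) (tb : ℕ → ℕ) : Bool :=
  allN n fun i => Nat.beq (force (look2 Ω P.w 64 i) (ap P e)) (force (tb i) (look2 Ω P.w 64))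

/-- Checks for `Md.exists_sub`. -/
noncomputable def subM (P : Par) (W : List (ℕ × ℕ)) (Ω : ℕ) (nets : List Net) (N k n : ℕ) (ops Q : List ℕ) : Bool :=
  cnd (ptsB W) (cnd (fxB N k n nets (List.range (List.length nets))) (cnd (orbB nets ops (nth 0 Q 0) 0 n)
    (cnd (Nat.ble (look Ω P.w n) P.n) (cnd (allN n fun i => Nat.ble (Nat.succ (look2 Ω P.w 64 i)) (look2 Ω P.w 64 (Nat.succ i)))
      (allN (List.length W) fun x => cnd (Nat.ble (Nat.succ (nth 0 Q x)) n)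
        (Nat.beq (look Ω P.w (nth 0 Q x)) (pt P (ent W x).1)) false) false) false) false) false) false

theorem Md.exists_sub (M : Md G P) {W : List (ℕ × ℕ)} {K : Subgroup G} (hK : K = M.cp W) (hZ : center K = ⊥)
    {nets : List Net} {N k n w m Ω : ℕ} {tb : ℕ → ℕ → ℕ} {ops Q : List ℕ} (hN : NetsOK N nets)
    (hi : ∀ x, gp nets x * gp nets x = 1) (ht : TbA nets tb) (hk : N ≤ 2 ^ k)
    (num : n ≤ N ∧ 0 < w ∧ n ≤ w * m ∧ n < 2 ^ w - 1 ∧ nth 0 Q 0 < n) (hl : nets.length = W.length + 1) (hW : 0 < W.length)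
    (h0 : gp nets 0 = 1) (hb : subM P W Ω nets N k n ops Q = true)
    (hr : ∀ x < W.length, resB P (ent W x) Ω n (tb (x + 1)) = true) :
    ∃ M' : Md K (parF nets N k n tb 2 (nth 0 Q 0) w m (List.range n)), ∀ x, (M'.γ (x + 1) : G) = M.v (ent W x) := by
  classical
  subst hK
  simp only [subM, cnd_tt, allN_iff, ble_tt, beq_tt, look2_eq _ _ (show 0 < 64 by norm_num)] at hb
  obtain ⟨b1, b2, b3, b4, b5, b6⟩ := hb
  set ω := look Ω P.w
  have mono : ∀ j ≤ n, ∀ i < j, ω i < ω j := fun j hj i hij => by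
    induction j with
    | zero => omega
    | succ j ih =>
      rcases Nat.lt_succ_iff_lt_or_eq.1 hij with c | rfl
      exacts [(ih (by omega) c).trans (b5 j hj), b5 i hj]
  have lt : ∀ i < n, ω i < P.n := fun i hi => (mono n le_rfl i hi).trans_le b4
  have inj : ∀ i < n, ∀ j < n, ω i = ω j → i = j := fun i hi j hj e => by
    rcases lt_trichotomy i j with c | c | c
    exacts [absurd e (mono j hj.le i c).ne, c, absurd e (mono i hi.le j c).ne']
  let I : G → Equiv.Perm ℕ → Prop := fun g π => Fx n π ∧ ∀ i < n, M.φ g (ω i) = ω (π i)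
  have i1 : I 1 1 := ⟨Fx.one n, fun i _ => by simp⟩
  have i2 : ∀ {g h π σ}, I g π → I h σ → I (g * h) (π * σ) := fun a b => ⟨a.1.mul b.1, fun i hi => by
    rw [map_mul, Equiv.Perm.mul_apply, b.2 i hi, a.2 _ (b.1.lt hi)]; rfl⟩
  have i3 : ∀ {g π}, I g π → I g⁻¹ π⁻¹ := fun {g π} a => ⟨a.1.inv, fun i hi => by
    rw [map_inv, Equiv.Perm.inv_eq_iff_eq, a.2 _ (a.1.inv.lt hi), app_inv]⟩
  have i4 : ∀ {g π σ}, I g π → I g σ → π = σ := fun {g π σ} a b => Equiv.ext fun i => by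
    by_cases hi : i < n
    · exact inj _ (a.1.lt hi) _ (b.1.lt hi) ((a.2 i hi).symm.trans (b.2 i hi))
    · rw [a.1 i (by omega), b.1 i (by omega)]
  let γ : ℕ → M.cp W := fun x => Nat.rec 1 (fun y _ => ⟨_, M.ent_mem_cp W y⟩) x
  have i5 : ∀ x, I (γ x).1 (gp nets x) := fun x => by
    cases x with
    | zero => rw [h0]; exact i1
    | succ x =>
      by_cases hx : x < W.length
      · refine ⟨fx_of_fxB hN hk num.1 b2 (mem_cl (List.mem_range.2 (by omega))), fun i hi' => ?_⟩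
        have := beq_tt.1 (allN_iff.1 (hr x hx) i hi')
        rw [force_eq, force_eq, look2_eq _ _ (by norm_num), look2_eq _ _ (by norm_num), M.ap_eq, ht,
          inv_eq_of_mul_eq_one_right (hi _)] at this
        exact this
      · have e1 : gp nets (x + 1) = 1 := by unfold gp; rw [nth_eq, List.getD_eq_default _ _ (by omega)]; rfl
        have e2 : (γ (x + 1) : G) = 1 := by
          change M.v (ent W x) = 1
          rw [ent, nth_eq, List.getD_eq_default _ _ (by omega), M.v_def]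
        rw [e1, e2]; exact i1
  have ex : ∀ g : M.cp W, ∃ π, I g π := fun g => (M.cp_le (K := ⟨⟨⟨{g | ∃ π, I g π},
      fun ⟨_, a⟩ ⟨_, b⟩ => ⟨_, i2 a b⟩⟩, _, i1⟩, fun ⟨_, a⟩ => ⟨_, i3 a⟩⟩)).2 (fun e he => by
    obtain ⟨x, rfl⟩ := exists_ent he
    exact ⟨_, i5 (x + 1)⟩) g.2
  choose F hF using ex
  let φ : M.cp W →* Equiv.Perm ℕ := MonoidHom.mk' F fun a b => i4 (hF _) (i2 (hF a) (hF b))
  have hγ : ∀ x, φ (γ x) = gp nets x := fun x => i4 (hF _) (i5 x)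
  have tr : ∀ p < n, ∃ g, φ g (nth 0 Q 0) = p := fun p hp => by
    obtain ⟨_, ⟨g, rfl⟩, e⟩ := orbB_sound hN (G := φ.range) (fun x _ => ⟨_, hγ x⟩) b3 p (Nat.zero_le _) (by omega)
    exact ⟨g, e⟩
  have pt : ∀ x < W.length, M.τ (ω (nth 0 Q x)) = M.v (ent W x) := fun x hx => by
    rw [(b6 x hx).2, M.v_of_ptsB b1 (ent_mem' hx)]
  have cj : ∀ (g : M.cp W) p, p < n → g * M.τ (ω p) * (g : G)⁻¹ = M.τ (ω (φ g p)) := fun g p hp => by
    rw [M.conj _ _ (lt p hp), (hF g).2 p hp]; rfl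
  have mem : ∀ p < n, M.τ (ω p) ∈ M.cp W := fun p hp => by
    obtain ⟨g, rfl⟩ := tr p hp
    rw [← cj g _ num.2.2.2.2, pt 0 hW]
    exact mul_mem (mul_mem g.2 (M.ent_mem_cp W 0)) (inv_mem g.2)
  let τ : ℕ → M.cp W := fun p => if h : p < n then ⟨_, mem p h⟩ else 1
  have hτ : ∀ p < n, (τ p : G) = M.τ (ω p) := fun p hp => by simp only [τ, dif_pos hp]
  refine ⟨mkMd hN hi ht hk num φ γ τ hγ rfl (fun g => (hF g).1) (fun g p hp => Subtype.ext ?_) (fun p hp q hq e => ?_)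
    (Subtype.ext ?_) (fun g hg => ?_) tr, fun _ => rfl⟩
  · rw [hτ (φ g p) ((hF g).1.lt hp), ← cj g p hp, ← hτ p hp]; rfl
  · exact inj p hp q hq (M.inj _ (lt p hp) _ (lt q hq) (by rw [← hτ p hp, ← hτ q hq, e]))
  · rw [hτ _ num.2.2.2.2, pt 0 hW, wv_lt _ (by norm_num) (by norm_num)]; rfl
  · rw [← mem_bot, ← hZ, mem_center_iff]
    refine fun y => Subtype.ext ((M.cp_le (K := centralizer {(g : G)})).2 (fun e he => ?_) y.2 _ rfl).symm
    obtain ⟨x, hx, rfl⟩ := exists_ent' he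
    have := cj g _ (b6 x hx).1
    rw [hg _ (List.mem_range.2 (b6 x hx).1), pt x hx] at this
    exact mem_centralizer_singleton_iff.2 (mul_inv_eq_iff_eq_mul.1 this).symm

/-! ### Classes in subgroups -/

/-- `K` has `k` classes of subgroups of order `p` of `L`. -/
def Cls (K L : Subgroup G) (p k : ℕ) : Prop := ∃ Y : Fin k → Subgroup G, (∀ i, Y i ≤ L ∧ Nat.card (Y i) = p) ∧
  (∀ i j, (∃ g ∈ K, (Y i).map (MulAut.conj g).toMonoidHom = Y j) → i = j) ∧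
    ∀ X ≤ L, Nat.card X = p → ∃ i, ∃ g ∈ K, X.map (MulAut.conj g).toMonoidHom = Y i

theorem Cls.comap {H : Type*} [Group H] {f : H →* G} (hf : Function.Injective f) {K L : Subgroup G} {p k : ℕ}
    (h : Cls K L p k) (hL : ∀ X ≤ L, Nat.card X = p → X ≤ f.range)
    (hK : ∀ g ∈ K, ∃ a, f a ∈ K ∧ ∀ x, f a * f x * (f a)⁻¹ = g * f x * g⁻¹) : Cls (K.comap f) (L.comap f) p k := by
  obtain ⟨Y, h1, h2, h3⟩ := h
  have e : ∀ i, ((Y i).comap f).map f = Y i := fun i => map_comap_eq_self (hL _ (h1 i).1 (h1 i).2)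
  have c : ∀ (X : Subgroup H) a, (X.map (MulAut.conj a).toMonoidHom).map f = (X.map f).map (MulAut.conj (f a)).toMonoidHom :=
    fun X a => by rw [map_map, map_map]; congr 1; ext; simp
  refine ⟨fun i => (Y i).comap f, fun i => ⟨comap_mono (h1 i).1, by rw [← card_map_of_injective hf, e, (h1 i).2]⟩,
    fun i j ⟨a, ha, h⟩ => h2 i j ⟨f a, ha, by rw [← e i, ← e j, ← c]; exact congrArg _ h⟩, fun X hX hc => ?_⟩
  obtain ⟨i, g, hg, h⟩ := h3 (X.map f) (map_le_iff_le_comap.2 hX) (by rw [card_map_of_injective hf, hc])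
  obtain ⟨a, ha, k⟩ := hK g hg
  refine ⟨i, a, ha, map_injective hf ?_⟩
  rw [e, ← h, c, map_map, map_map]
  congr 1; ext; exact k _

theorem Cls.top {p k : ℕ} {L : Subgroup G} (h : Cls ⊤ L p k) : ∃ Y : Fin k → Subgroup G, (∀ i, Y i ≤ L ∧ Nat.card (Y i) = p) ∧
    (∀ i j, (∃ g : G, (Y i).map (MulAut.conj g).toMonoidHom = Y j) → i = j) ∧
      ∀ X ≤ L, Nat.card X = p → ∃ i, ∃ g : G, X.map (MulAut.conj g).toMonoidHom = Y i := by
  simpa [Cls] using h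

theorem Cls.top' {p k : ℕ} (h : Cls (⊤ : Subgroup G) ⊤ p k) : ∃ Y : Fin k → Subgroup G, (∀ i, Nat.card (Y i) = p) ∧
    (∀ i j, (∃ g : G, (Y i).map (MulAut.conj g).toMonoidHom = Y j) → i = j) ∧
      ∀ X : Subgroup G, Nat.card X = p → ∃ i, ∃ g : G, X.map (MulAut.conj g).toMonoidHom = Y i := by
  simpa [Cls] using h

/-- `t` is conjugate in `K` to a power of a representative. -/
def Md.QK (M : Md G P) (K : Subgroup G) (R : List (ℕ × ℕ)) (t : G) : Prop :=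
  ∃ j k : ℕ, ∃ g ∈ K, g * t * g⁻¹ = M.v (ent R j) ^ k

theorem Md.inv_QK (M : Md G P) (K : Subgroup G) (R : List (ℕ × ℕ)) {p : ℕ} (hp : 1 < p) : Inv K p (M.QK K R) := by
  refine ⟨fun g hg t ⟨j, k, a, ha, h⟩ => ⟨j, k, a * g, mul_mem ha hg, by rw [← h]; group⟩,
    fun t e ht he ⟨j, k, a, ha, h⟩ => ?_⟩
  obtain ⟨c, -, hc⟩ := Nat.exists_mul_mod_eq_one_of_coprime he hp
  refine ⟨j, k * c, a, ha, ?_⟩
  rw [pow_mul, ← h, conj_pow, ← pow_mul, pow_eq_pow_mod _ ht, hc, pow_one]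

noncomputable def lfS (P : Par) (D : List (ℕ × ℕ)) (S : List ℕ) (A R : List (ℕ × ℕ)) (n i u a j k : ℕ) : Bool :=
  cnd (presB P [(0, a)] D S) (lfC P A R n i u a j k) false

theorem Md.lfS_sound (M : Md G P) (D : List (ℕ × ℕ)) (S : List ℕ) (A R : List (ℕ × ℕ)) (p n i u a j k : ℕ)
    (h : lfS P D S A R n i u a j k = true) : Good (M.d A) p n (M.QK (M.st D S) R) i (wv (M.d A) u) := fun t _ hm => by
  obtain ⟨h0, h⟩ := cnd_tt.1 h
  obtain ⟨h1, h2⟩ := cnd_tt.1 h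
  rw [PS_bot _ (ble_tt.1 h1), mem_bot, inv_mul_eq_one] at hm
  have := M.eq_of_baseB (x := M.v (0, a) * wv (M.d A) u) (y := wv (M.d [ent R j]) (app8 0 2 k) * M.v (0, a))
    (fun b => by rw [force_eq, M.ap_eq, (M.sdF A).fw fc_force]; simp)
    (fun b => by rw [force_eq, (M.sdF _).fw fc_force, M.ap_eq]; simp) h2
  rw [show (2 : ℕ) = Nat.mul 2 1 from rfl, wv_app8 _ _ _ one_pos (by norm_num), wv_zero, one_mul] at this
  exact ⟨j, k, _, M.le_st h0 (M.mem_cp List.mem_cons_self), hm ▸ mul_inv_eq_iff_eq_mul.2 this⟩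

theorem Md.PS_le_st (M : Md G P) {A D : List (ℕ × ℕ)} {S : List ℕ} (h : presB P A D S = true) (m i : ℕ) :
    PS (M.d A) m i ≤ M.st D S := PS_le.2 fun x _ _ => M.le_st h (M.d_mem A x)

theorem Pc.allK [Finite G] {γ : ℕ → G} {p n m : ℕ} (h : Pc γ p n m) {Q : G → Prop} {K : Subgroup G} (hQ : Inv K p Q)
    (hK : PS γ n 0 ≤ K) {r : ℕ} (hG : Nat.card K = p ^ n * r) (hr : ¬ p ∣ r) (hg : Good γ p n Q 0 1) (t : G) (hm : t ∈ K)
    (ht : t ^ p = 1) : Q t := by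
  have := Fact.mk h.pr
  obtain ⟨g, hg'⟩ := exists_conj_sylow h.pr hG hr (X := zpowers ⟨t, hm⟩) (Y := (PS γ n 0).subgroupOf K) (by
    rcases (Nat.dvd_prime h.pr).1 (orderOf_dvd_of_pow_eq_one (x := (⟨t, hm⟩ : K)) (Subtype.ext ht)) with e | e
    · exact IsPGroup.of_card (n := 0) (by rw [Nat.card_zpowers, e, pow_zero])
    · exact IsPGroup.of_card (n := 1) (by rw [Nat.card_zpowers, e, pow_one]))
    ((card_subgroupOf_of_le hK).trans (h.card (Nat.zero_le _)))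
  exact hQ.cj g g.2 t (hg _ (by rw [conj_pow, ht]; simp) (by simpa [mem_subgroupOf] using hg' ⟨_, mem_zpowers _, rfl⟩))

theorem Md.cls [Finite G] (M : Md G P) {K L : Subgroup G} {R : List (ℕ × ℕ)} {p : ℕ} (hp : p.Prime)
    (h1 : ∀ e ∈ R, orderOf (M.v e) = p) (hL : M.cp R ≤ L) {α : Type*} {f : ℕ × ℕ → α} (h2 : (R.map f).Nodup)
    (hf : ∀ e e', ∀ g ∈ K, (zpowers (M.v e)).map (MulAut.conj g).toMonoidHom = zpowers (M.v e') → f e = f e')
    (h3 : ∀ t ∈ L, t ^ p = 1 → M.QK K R t) : Cls K L p R.length := by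
  refine ⟨fun i => zpowers (M.v R[i.1]), fun i => ⟨zpowers_le.2 (hL (M.mem_cp (List.getElem_mem _))), by
    rw [Nat.card_zpowers, h1 _ (List.getElem_mem _)]⟩, fun i j h => ?_, fun X hX hc => ?_⟩
  · obtain ⟨g, hg, h⟩ := h
    exact Fin.ext ((List.Nodup.getElem_inj_iff h2 (i := i) (j := j) (hi := by simp) (hj := by simp)).1
      (by simpa using hf _ _ g hg h))
  · obtain ⟨x, hx, rfl⟩ := eq_zpowers_of_card hp hc
    obtain ⟨j, k, g, hg, h⟩ := h3 x (hX (mem_zpowers x)) (hx ▸ pow_orderOf_eq_one x)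
    rcases ent_mem R j with e | e
    · rw [e, M.v_def, one_pow, conj_eq_one_iff] at h
      rw [h, orderOf_one] at hx
      exact absurd hx hp.one_lt.ne
    · obtain ⟨i, hi, e'⟩ := List.getElem_of_mem e
      refine ⟨⟨i, hi⟩, g, hg, eq_of_le_of_card_ge ?_ ?_⟩
      · rw [map_conj_zpowers, h, ← e']; exact zpowers_le.2 (pow_mem (mem_zpowers _) k)
      · rw [card_map_conj, Nat.card_zpowers, Nat.card_zpowers, hx, h1 _ (List.getElem_mem _)]

/-- The number of fixed points in `O`. -/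
noncomputable def cntF (P : Par) (e : ℕ × ℕ) (O : ℕ) : ℕ := pc P.w P.K (Nat.land (fixS P e) O)

theorem Md.cnt_eq (M : Md G P) (hk : P.N ≤ 2 ^ P.k) {e e' : ℕ × ℕ} {g : G} {O O' : ℕ}
    (h : (zpowers (M.v e)).map (MulAut.conj g).toMonoidHom = zpowers (M.v e')) (hO : Rs M.φ g O O') :
    cntF P e O = cntF P e' O' := by
  unfold cntF
  rw [pc_eq M.num.2.1, pc_eq M.num.2.1, M.bits_eq (g := g) (fun i => ?_) M.num.2.2.1]
  rw [land_eq', land_eq', Nat.testBit_and, Nat.testBit_and, hO, Bool.eq_iff_iff, Bool.and_eq_true, Bool.and_eq_true,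
    fixS_spec M.sE M.fx M.num.1 hk, fixS_spec M.sE M.fx M.num.1 hk, (M.fx g).lt_iff]
  refine and_congr_left' (and_congr_right' ?_)
  change M.v e' ∈ stab M.φ _ ↔ M.v e ∈ stab M.φ _
  rw [← zpowers_le, ← h, map_conj_zpowers, zpowers_le]
  change M.φ _ _ = _ ↔ M.φ _ _ = _
  simp

theorem Md.cnt_st (M : Md G P) (hk : P.N ≤ 2 ^ P.k) {K : Subgroup G} {S : List ℕ} (hK : K ≤ M.st [] S) (e e' : ℕ × ℕ)
    (g : G) (hg : g ∈ K) (h : (zpowers (M.v e)).map (MulAut.conj g).toMonoidHom = zpowers (M.v e')) :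
    S.map (cntF P e) = S.map (cntF P e') :=
  List.map_congr_left fun O hO => M.cnt_eq hk h ((M.mem_st_iff.1 (hK hg)).2 O hO)

/-- The group permutes the sets `O i`. -/
theorem Md.blocks (M : Md G P) {W : List (ℕ × ℕ)} {ι : Type*} {O : ι → ℕ}
    (h : ∀ e ∈ W, ∃ σ : Equiv.Perm ι, ∀ i, apS P e (O i) = O (σ i)) {g : G} (hg : g ∈ M.cp W) :
    ∃ σ : Equiv.Perm ι, ∀ i, Rs M.φ g (O i) (O (σ i)) := by
  induction hg using closure_induction with
  | mem _ hx => obtain ⟨e, he, rfl⟩ := hx; obtain ⟨σ, a⟩ := h e he; exact ⟨σ, fun i => a i ▸ M.apS_eq e _⟩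
  | one => exact ⟨1, fun i => Rs.one _ _⟩
  | mul _ _ _ _ a b => obtain ⟨σ, a⟩ := a; obtain ⟨ρ, b⟩ := b; exact ⟨σ * ρ, fun i => (b i).mul (a _)⟩
  | inv _ _ a => obtain ⟨σ, a⟩ := a; exact ⟨σ⁻¹, fun i => by simpa using (a (σ⁻¹ i)).inv⟩

end Cfsg.Lib.Fi
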