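import Cfsg.Agent.Lib.Fi.T22s
import Cfsg.Agent.Lib.Comp.Sp6x.Pk

set_option maxRecDepth 100000

namespace Cfsg.Lib.Fi.T22

open Cfsg.Lib.Comp Cfsg.Lib.Fi

open B22 A22

noncomputable def kE : List (ℕ × ℕ) := [(0, (nat_lit 0xc140812040614060410040e)),
 (0, (nat_lit 0x61206120c100c0412060a08)),
 (0, (nat_lit 0xa040c100c0e100a121410)),
 (0, (nat_lit 0xa0408140c060c1408040c0a)),
 (0, (nat_lit 0x8040c100a140e0406040a0c)),
 (0, (nat_lit 0xc060a060e06080c040c14)),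
 (0, (nat_lit 0xe10080c060e0c08140614))]

theorem k_r0 : relQ (rbG par22 (kE ++ [])) 7 7 Sp6x.Rz [0,
 0,
 0,
 0,
 0,
 0,
 0,
 0,
 0,
 0,
 0,
 0,
 0,
 0,
 0,
 0,
 0,
 0,
 0,
 0,
 0,
 0,
 0,
 0,
 0,
 0,
 0,
 0,
 0,
 0,
 0,
 0,
 0,
 0,
 0,
 0] = true := by decide +kernel

theorem k_r {G : Type*} [Group G] (M : Md G par22) : RelM (M.d (kE ++ [])) (PS (M.d (kE ++ [])) 7 7) Sp6x.Rz :=
  (RelM.of (M.relT _) k_r0)

theorem k_mv : mvB par22 (ent (kE ++ []) 0) 1 = true := by decide +kernel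

theorem k_iso {G : Type*} [Group G] [Finite G] (M : Md G par22) : Nonempty (M.cp (kE ++ []) ≃* cl (gp Sp6x.nets) Sp6x.L) :=
  M.iso_simple Sp6x.pk Sp6x.ord Sp6x.simple (k_r M) (by decide +kernel) k_mv

noncomputable def W1 : List (ℕ × ℕ) := (Ua, 0) :: (kE ++ [])

noncomputable def W1_lbl_2W : List (ℕ × ℕ) := apd [((nat_lit 0x1a100c1a18), 0),
 ((nat_lit 0x1016100216), 0)] []

theorem W1_lbl_2b : lvB par22 W1_lbl_2W [] (nat_lit 0x180616) 1026 4 = true := by decide +kernel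

theorem W1_lbl_2 {G : Type*} [Group G] [Finite G] (M : Md G par22) : M.LB W1_lbl_2W 4 :=
  Md.LB.step W1_lbl_2b (Md.LB.one M _)

noncomputable def W1_lbl_1W : List (ℕ × ℕ) := apd [((nat_lit 0x4161418), 0),
 ((nat_lit 0x616060416), 0),
 ((nat_lit 0x804161418), 0),
 ((nat_lit 0x1a120a16), 0),
 (0, (nat_lit 0x40a14040e0a0c0e10040e))] W1_lbl_2W

theorem W1_lbl_1b : lvB par22 W1_lbl_1W W1_lbl_2W 24 (nat_lit 0x2040a020a0c0a080a06040802) 288 = true := by decide +kernel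

theorem W1_lbl_1 {G : Type*} [Group G] [Finite G] (M : Md G par22) : M.LB W1_lbl_1W 1152 :=
  Md.LB.step W1_lbl_1b (W1_lbl_2 M)

noncomputable def W1_lbl_0W : List (ℕ × ℕ) := apd [(0, 0),
 (0, (nat_lit 0xc140812040614060410040e)),
 (0, (nat_lit 0x61206120c100c0412060a08)),
 (0, (nat_lit 0xa040c100c0e100a121410)),
 (0, (nat_lit 0xa0408140c060c1408040c0a)),
 (0, (nat_lit 0x8040c100a140e0406040a0c)),
 (0, (nat_lit 0xc060a060e06080c040c14)),
 (0, (nat_lit 0xe10080c060e0c08140614))] W1_lbl_1W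

theorem W1_lbl_0b : lvB par22 W1_lbl_0W W1_lbl_1W 22 (nat_lit 0x1e1a101a0e12181c1a120c1a1806100e02) 2520 = true := by decide +kernel

theorem W1_lbl_0 {G : Type*} [Group G] [Finite G] (M : Md G par22) : M.LB W1_lbl_0W 2903040 :=
  Md.LB.step W1_lbl_0b (W1_lbl_1 M)

theorem W1_lbw : leA par22 W1 W1_lbl_0W [2,
 4,
 6,
 8,
 10,
 12,
 14,
 16,
 (nat_lit 0x20a1006080c04060a0e02080c060e0a0e06080402060e100e0a02060a020406080c08060a04),
 (nat_lit 0x1006080c04060a0e02080c060e0a0e06080602080c080604020e100e0a020406080c08060a040206),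
 (nat_lit 0xe100e0a06080c08060a020e100e),
 (nat_lit 0x1008020806100a0406080604020a0206),
 (nat_lit 0x406080a0806100a040e0a0e060802040602080c08060408060e0a0e080608),
 (nat_lit 0xa020406080c08060a0408060e0a0e0608020a020406080c08060a04),
 516] = true := by decide +kernel

theorem W1_lb {G : Type*} [Group G] [Finite G] (M : Md G par22) : M.LB W1 2903040 := Md.LB.of_leA (W1_lbl_0 M) W1_lbw

theorem K1_f : cnd (freeL 14 par22.c0 W1) (presB parA W1 [sa] []) false = true := by decide +kernel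

theorem K1 {G : Type*} [Group G] [Finite G] (S : S22 G) : S.M.KE ((Subgroup.centralizer {S.A.v sa}).comap MulAut.conj) W1 2903040 :=
  S.X.centKE ((sa_c S.A).cent (S.A.fixIs sa_fix)) (allL_iff.1 odd _ (by simp)) K1_f (W1_lb S.M) (by norm_num)

theorem W1_s : cnd (freeL 14 par22.c0 W1) (presB parA W1 [s] []) false = true := by decide +kernel

theorem W1_a : presB par22 W1 [(Ua, 0)] [] = true := by decide +kernel

end Cfsg.Lib.Fi.T22
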