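import Cfsg.Agent.Lib.Fi.T22s
import Cfsg.Agent.Lib.Comp.We6.Main

set_option maxRecDepth 100000

namespace Cfsg.Lib.Fi.T22

open Cfsg.Lib.Comp Cfsg.Lib.Fi

open B22 A22

noncomputable def W2_2W : List (ℕ × ℕ) := apd [((nat_lit 0x60c0816), 0),
 ((nat_lit 0x4161418), 0)] []

theorem W2_2b : lvB par22 W2_2W [] (nat_lit 0x8161a18) 1026 4 = true := by decide +kernel

theorem W2_2 {G : Type*} [Group G] [Finite G] (M : Md G par22) : M.LB W2_2W 4 :=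
  Md.LB.step W2_2b (Md.LB.one M _)

noncomputable def W2_1W : List (ℕ × ℕ) := apd [((nat_lit 0x121016), 0),
 ((nat_lit 0x160a1a16), 0),
 ((nat_lit 0x1a120a16), 0),
 ((nat_lit 0x6141016), 0)] W2_2W

theorem W2_1b : lvB par22 W2_1W W2_2W 5146 (nat_lit 0x602040a0c0604020c0a08060402) 360 = true := by decide +kernel

theorem W2_1 {G : Type*} [Group G] [Finite G] (M : Md G par22) : M.LB W2_1W 1440 :=
  Md.LB.step W2_1b (W2_2 M)

noncomputable def W2_0W : List (ℕ × ℕ) := apd [(0, 0)] W2_1W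

theorem W2_0b : lvB par22 W2_0W W2_1W 22 (nat_lit 0xc0602080402060e0204020a020c02060e020408020c020a02060402) 2304 = true := by decide +kernel

theorem W2_0 {G : Type*} [Group G] [Finite G] (M : Md G par22) : M.LB W2_0W 3317760 :=
  Md.LB.step W2_0b (W2_1 M)

theorem K2_f : cnd (freeL 14 par22.c0 W2_0W) (presB parA W2_0W [sb] []) false = true := by decide +kernel

theorem K2 {G : Type*} [Group G] [Finite G] (S : S22 G) : S.M.KE ((Subgroup.centralizer {S.A.v sb}).comap MulAut.conj) W2_0W 3317760 :=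
  S.X.centKE ((sb_c S.A).cent (S.A.fixIs sb_fix)) (allL_iff.1 odd _ (by simp)) K2_f (W2_0 S.M) (by norm_num)

noncomputable def tA : List (ℕ × ℕ) := [(0, (nat_lit 0x160a1a1604120e0610080a0c061206)),
 (0, (nat_lit 0x12041618060e0a04080a0c100e14)),
 (0, (nat_lit 0x61a160a0e0c0e140804060e0a0414)),
 (0, (nat_lit 0x1210160e0a120c1206100a121012)),
 (0, (nat_lit 0x1210160e0c100804140c100814)),
 (0, (nat_lit 0xc12060c14121406120c)),
 (0, (nat_lit 0x18160e061606120a040c080c0e080a10)),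
 (0, (nat_lit 0x614120a060c100c040812)),
 (0, (nat_lit 0x12100e12140608100c0e14)),
 (0, (nat_lit 0x2140410121412100414)),
 (0, (nat_lit 0x204140a120a120a1404)),
 (0, (nat_lit 0x61a1612040e0406140e080c120a12)),
 (0, (nat_lit 0xa100a040e04))]

theorem tb : pcB (rbG par22 tA) 2 13 13
 [[(nat_lit 0xc0e121416181a),
 0,
 0,
 0,
 0,
 0,
 0,
 0,
 0,
 0,
 0,
 0,
 0,
 0],
 [(nat_lit 0x14181a),
 (nat_lit 0x80a0c0e1416181a),
 0,
 0,
 0,
 0,
 0,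
 0,
 0,
 0,
 0,
 0,
 0,
 0],
 [(nat_lit 0xc121a),
 (nat_lit 0xe141618),
 (nat_lit 0xa0e1012181a),
 0,
 0,
 0,
 0,
 0,
 0,
 0,
 0,
 0,
 0,
 0],
 [3610,
 (nat_lit 0xc1618),
 3606,
 (nat_lit 0xc0e12),
 0,
 0,
 0,
 0,
 0,
 0,
 0,
 0,
 0,
 0],
 [0,
 (nat_lit 0xc0e141a),
 22,
 14,
 14,
 0,
 0,
 0,
 0,
 0,
 0,
 0,
 0,
 0],
 [0,
 (nat_lit 0x16181a),
 3610,
 26,
 24,
 6170,
 0,
 0,
 0,
 0,
 0,
 0,
 0,
 0],
 [0,
 6170,
 26,
 5658,
 0,
 0,
 0,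
 0,
 0,
 0,
 0,
 0,
 0,
 0],
 [0,
 (nat_lit 0x1216181a),
 (nat_lit 0x14181a),
 5142,
 20,
 5656,
 5658,
 6170,
 0,
 0,
 0,
 0,
 0,
 0],
 [0,
 (nat_lit 0x16181a),
 5146,
 26,
 (nat_lit 0x16181a),
 5656,
 0,
 26,
 0,
 0,
 0,
 0,
 0,
 0],
 [0,
 24,
 0,
 22,
 6170,
 24,
 26,
 0,
 0,
 0,
 0,
 0,
 0,
 0],
 [0,
 0,
 24,
 26,
 26,
 0,
 0,
 0,
 0,
 0,
 0,
 0,
 0,
 0],
 [0,
 26,
 0,
 0,
 0,
 0,
 0,
 0,
 0,
 0,
 0,
 0,
 0,
 0],
 [0,
 0,
 0,
 0,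
 0,
 0,
 0,
 0,
 0,
 0,
 0,
 0,
 0,
 0]] = true := by decide +kernel

noncomputable def tL_1W : List (ℕ × ℕ) := apd [(0, (nat_lit 0x1210160c040e140a0c040a0e081208)),
 (0, (nat_lit 0x100218101a0a1004120c080e140812)),
 (0, (nat_lit 0x16100c180e060806140c0e10041410)),
 (0, (nat_lit 0x61a16060a0c140c060c0a12080a12)),
 (0, (nat_lit 0x61a16140c0e0a060c120c04140c))] []

theorem tL_1b : lvB par22 tL_1W [] (nat_lit 0x180e1a) (nat_lit 0x20a080604020a) 64 = true := by decide +kernel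

theorem tL_1 {G : Type*} [Group G] [Finite G] (M : Md G par22) : M.LB tL_1W 64 :=
  Md.LB.step tL_1b (Md.LB.one M _)

noncomputable def tL_0W : List (ℕ × ℕ) := apd [((nat_lit 0x80a0616), 0),
 ((nat_lit 0x12100216), 0),
 (0, (nat_lit 0xa0612081410140a12060e04))] tL_1W

theorem tL_0b : lvB par22 tL_0W tL_1W 1046 (nat_lit 0x61004020a060402) 128 = true := by decide +kernel

theorem tL_0 {G : Type*} [Group G] [Finite G] (M : Md G par22) : M.LB tL_0W 8192 :=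
  Md.LB.step tL_0b (tL_1 M)

theorem tLb : cnd (Nat.ble 13 (List.length tA)) (leA par22 (List.take 13 tA) tL_0W [(nat_lit 0x60810121416181a),
 (nat_lit 0x6080c0e1016181a),
 (nat_lit 0x2060a0e1012),
 (nat_lit 0xa0c1a),
 (nat_lit 0x4080a0c12161a),
 (nat_lit 0xe141618),
 (nat_lit 0x10141618),
 (nat_lit 0x10181a)]) false = true := by decide +kernel

theorem tPc {G : Type*} [Group G] [Finite G] (M : Md G par22) : Pc (M.d tA) 2 13 13 :=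
  Pc.of (M.relT tA) (by norm_num) (by norm_num) (by norm_num) tb (M.lb_PS (tL_0 M) tLb)

theorem t_le : cnd (freeL 14 par22.c0 tA) (presB parA tA [sb] []) false = true := by decide +kernel

theorem opK1 : cnd (Nat.beq (List.length tA) 13) (cnd (Nat.ble 7 13) (nrL par22 (List.drop 7 tA) W2_0W [[2,
 4,
 6,
 8,
 (nat_lit 0x4080a),
 12],
 [(nat_lit 0x2040a),
 10,
 (nat_lit 0x4060a),
 8,
 4,
 12],
 [2,
 2572,
 (nat_lit 0x4060a0c),
 8,
 1036,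
 12],
 [2,
 4,
 6,
 8,
 (nat_lit 0x2080a),
 (nat_lit 0x2080c)],
 [(nat_lit 0x2060a0c),
 4,
 6,
 (nat_lit 0x6080a0c),
 10,
 12],
 [2,
 4,
 6,
 (nat_lit 0x2060a),
 (nat_lit 0x20608),
 (nat_lit 0x206080a0c)],
 [518,
 1030,
 6,
 1544,
 10,
 12]]) false) false = true := by decide +kernel

theorem opK2 : cosB (npB par22 tA W2_0W 2 (apd [(0, 0, 0),
 (2051, 303, 3),
 (9, 3501, 3),
 (8, 303, 3),
 (2, 303, 3),
 (3, 303, 3),
 (2, 303, 3),
 (3, 2213, 3),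
 (8, 2798, 3),
 (8, 2798, 3),
 (781, 2966, 3),
 (1032, 3444, 3),
 (13, 303, 3),
 (13, 2798, 3),
 (9, 303, 3),
 (8, 2798, 3),
 (14, 303, 3),
 (15, 3501, 3),
 (15, 2798, 3),
 (15, 2798, 3),
 (3, 2798, 3),
 (11, 2798, 3),
 (2, 549, 3),
 (2, 2213, 3),
 (4, 2798, 3),
 (2, 303, 3),
 (5, 3444, 3),
 (9, 303, 3),
 (9, 2213, 3),
 (8, 3501, 3),
 (13, 303, 3),
 (10, 303, 3),
 (2, 303, 3),
 (3, 303, 3),
 (3, 3202, 3),
 (3, 3202, 3),
 (5, 303, 3),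
 (3, 303, 3),
 (2309, 3202, 3),
 (3331, 3433, 3)]
 (apd [(3, 303, 3),
 (3, 2798, 3),
 (12, 2798, 3),
 (9, 2213, 3),
 (3, 3202, 3),
 (5, 3501, 3),
 (3, 303, 3),
 (2, 303, 3),
 (15, 303, 3),
 (8, 303, 3),
 (12, 3185, 3),
 (11, 3501, 3),
 (14, 303, 3),
 (15, 303, 3),
 (8, 2213, 3),
 (10, 2213, 3),
 (11, 2798, 3),
 (2, 303, 5),
 (10, 303, 3),
 (14, 303, 3),
 (11, 3501, 3),
 (14, 3202, 3),
 (10, 303, 3),
 (10, 303, 3),
 (2, 2798, 3),
 (2, 2213, 3),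
 (3, 2798, 3),
 (3, 303, 3),
 (3597, 303, 3),
 (13, 2798, 3),
 (9, 3501, 3),
 (2051, 303, 3),
 (2825, 303, 3),
 (9, 3501, 3),
 ((nat_lit 0xc040f), 303, 3),
 (9, 303, 3),
 (2, 3185, 3),
 (2, 3185, 3),
 (3, 3185, 3),
 (3, 3185, 3)]
 (apd [(3, 3185, 3),
 (3, 3185, 3),
 (2, 303, 3),
 (2, 3185, 3),
 (15, 3444, 3),
 (10, 303, 3),
 (10, 2213, 3),
 (10, 2798, 3),
 (11, 3501, 3),
 (14, 303, 3),
 (14, 303, 3),
 (15, 303, 3),
 (2, 3185, 3),
 (4, 303, 3),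
 (2, 303, 3),
 (2, 2798, 3),
 (2, 3501, 3),
 (3, 3501, 3),
 (2, 303, 3),
 (2, 3501, 3),
 (4, 3501, 3),
 (4, 303, 3),
 (2, 3202, 3),
 (2, 303, 3),
 (3, 2213, 3),
 (3, 2798, 3),
 (4, 3501, 3),
 (7, 2798, 3),
 (2, 3501, 3),
 (3, 3501, 3),
 (5, 3202, 3),
 (2, 2798, 3),
 (15, 303, 3),
 (5, 303, 5),
 (13, 3444, 3),
 (10, 3501, 3),
 (11, 2798, 3),
 (4, 303, 5),
 (8, 549, 3),
 (11, 2798, 3)]
 [(12, 3202, 3),
 (11, 303, 3),
 (11, 2966, 3),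
 (15, 2798, 3),
 (14, 303, 3),
 (15, 3501, 3),
 (10, 2798, 3),
 (10, 3501, 3)])))) 2 7 0 0 0 = true := by decide +kernel

theorem opK {G : Type*} [Group G] [Finite G] (S : S22 G) : (pCore 2 ((Subgroup.centralizer {S.A.v sb}).comap MulAut.conj)).map (Subgroup.subtype _) = PS (S.M.d tA) 13 7 ∧ PS (S.M.d tA) 13 7 = S.M.cp (List.drop 7 tA) :=
  (K2 S).op (tPc S.M) (S.X.le_comap t_le) opK1 opK2 (r := 405) (by norm_num) (by norm_num)

theorem o_ea : eaB par22 (List.drop 7 tA) 2 = true := by decide +kernel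

noncomputable def uE : List (ℕ × ℕ) := [((nat_lit 0x180e18), 0),
 ((nat_lit 0x1208040216), 0),
 (0, (nat_lit 0xa14100a040e04)),
 (0, (nat_lit 0xc04120a0c0a12040c)),
 ((nat_lit 0x416100216), 0),
 (0, (nat_lit 0x1206140a160a060a10120e120a120e))]

theorem u_r0 : relQ (rbG par22 (uE ++ (List.drop 7 tA))) 6 12 We6.Rz [0,
 0,
 0,
 (nat_lit 0xe1218),
 4120,
 (nat_lit 0xe1416),
 0,
 (nat_lit 0xe1012),
 (nat_lit 0xe1218),
 14,
 0,
 0,
 (nat_lit 0xe1218),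
 4628,
 0,
 0,
 (nat_lit 0xe1012),
 (nat_lit 0xe101618),
 (nat_lit 0xe1016),
 0,
 4120,
 0,
 0,
 (nat_lit 0xe1218),
 0,
 0,
 0] = true := by decide +kernel

theorem u_r {G : Type*} [Group G] (M : Md G par22) : RelM (M.d (uE ++ (List.drop 7 tA))) (PS (M.d (uE ++ (List.drop 7 tA))) 12 6) We6.Rz :=
  (RelM.of (M.relT _) u_r0)

theorem u_w : cnd (Nat.beq (List.length uE) 6) (cnd (Nat.beq (List.length (uE ++ (List.drop 7 tA))) 12) (cnd (allN 6 fun i => Nat.testBit (msk We6.L) (Nat.succ i)) (leA par22 (uE ++ (List.drop 7 tA)) W2_0W [3592,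
 (nat_lit 0xe1016180c080a0204020a080c0604060c080a0204020a080c),
 (nat_lit 0xe0a0204020a080a0204020a),
 (nat_lit 0xe161804060804020a0c08040602060406020c08040204020a0602040c080c080a0204020a080c060406),
 (nat_lit 0x121618020402),
 (nat_lit 0x120a040604020a060406),
 (nat_lit 0xc080a0204020a080c)]) false) false) false = true := by decide +kernel

theorem u_n : cnd (freeL 14 par22.c0 (uE ++ (List.drop 7 tA))) (presB parA (uE ++ (List.drop 7 tA)) [sb] []) false = true := by decide +kernel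

theorem quot2 {G : Type*} [Group G] [Finite G] (S : S22 G) : Nonempty (((Subgroup.centralizer {S.A.v sb}).comap MulAut.conj : Subgroup G) ⧸ pCore 2 _ ≃* cl (gp We6.nets) We6.L) :=
  (K2 S).quot_op (opK S) We6.pk We6.ord (S.X.le_comap u_n) (u_r S.M) u_w (by rw [(tPc S.M).card (by norm_num)]; norm_num)

end Cfsg.Lib.Fi.T22
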