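import Cfsg.Agent.Lib.Fi.Two
import Cfsg.Agent.Lib.Fi.C22
import Cfsg.Agent.Lib.Fi.A22b

set_option maxRecDepth 100000

namespace Cfsg.Lib.Fi.T22

open Cfsg.Lib.Comp Cfsg.Lib.Fi

open B22 A22

noncomputable def Vb : ℕ := (nat_lit 0x61a16)

noncomputable def s : ℕ × ℕ := (0, (nat_lit 0x61a081a10121406120804100e10141c))

noncomputable def sA : ℕ := (nat_lit 0x2000080000001000000102090082040020840000080000824200001020008048210000200011000000408020410410000040080000402002002004044020400080000204001080000040400082040120084008000008800104404001080002002001001002022020130002004408000002100000008406204002011481002028400080000420004800001040000304004801000810002181100000000800406204002011481002028400080000408000020400003040044800802000810001181100000001000040880800410004000800080400420402026000400884000000410000001001000001020a00204142000000000008020000408010081020808228200002000400000002000000100c000460040440008010201010082340080002000080000804180101110800000040020000000101004080408082000204a0008010000000800040300010000041002041101001004040208b00002010001091009001800040218020a010880020008280a00002100004022000080003021010083000080818100c0210800200209010800202008000420001000a080000000000000440010441100000a04000004400000010441101)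

theorem s_fix : fixB parA s sA = true := by decide +kernel

theorem s_ord : ordB parA s 2 1 = true := by decide +kernel

noncomputable def sa : ℕ × ℕ := (0, (nat_lit 0x61a081a0604140408120c14060c061c))

noncomputable def saA : ℕ := (nat_lit 0x20000800000010000001020900820400208400000800008242000010200080482100002000110000004080204104100000400800004020020020040440204000800002040010800000404000820401200840080000088000000000000000000000000000000000000000000000000000000000000000000000000000000000000000000000000000000000000000000000000000000000000000000000000000000000000000000000000000000000000000000000000000000000000000000000000000000000000000000000000000000000000000000000000000000000000000000000000000000000000000000000000000000000000000000000000000000000000000000000000000000000000000000000000000000000000000000000000000000000000000000000000000000000000000000000000000000000000000000000000000000000000000000000000000000000000000000000000000000000000000000000000000000000000000000000000000000000000000000000000000000000000000000000000000000000000000000000000000000000000000000000000000000000000000000000000000000001)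

theorem sa_fix : fixB parA sa saA = true := by decide +kernel

theorem sa_ord : ordB parA sa 2 1 = true := by decide +kernel

noncomputable def sb : ℕ × ℕ := (0, (nat_lit 0x1410180818040c060a1204121408100c1c))

noncomputable def sbA : ℕ := (nat_lit 0x20000800000000000001000100020000008000000800008040000010000080082100002000110000004080000100000000000000004000020020040400004000000000000010000000000000800001000840000000000000000000000000000002000000004000004000000000000000000000000200000000000000000000000000000000000000000000000000000000000000000000000000000000000000000000000000000000000000000000000000000000000000000000000000000000000000000000000000000000004000000000000800000800000000000000000000000040000001040000001000000000000000000000000000020000000000000000000000000000000000000002000004000000000000800000000000100000000000201000000040000000000000000000000000000400000000000000000000000000000000000400000000000008000040000000000000000040000000000000400002000800020004000001000000000000000000008004000000000000400000400400002000800001000000000000000000001000800000000000000000000000000000000000000000000000000000000001)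

theorem sb_fix : fixB parA sb sbA = true := by decide +kernel

theorem sb_ord : ordB parA sb 2 1 = true := by decide +kernel

noncomputable def jb : ℕ × ℕ := (0, (nat_lit 0xe0c0a0c10140e0a100e0604))

theorem jb_fac : facB par22 [(Ua, 0),
 (Vb, 0)] jb 0x204 = true := by decide +kernel

theorem sa_mul : mulB parA sa s (Ua, 0) = true := by decide +kernel

theorem sb_mul : mulB parA sb s jb = true := by decide +kernel

theorem ne1 : neB (pc parA.w parA.K sA) (pc parA.w parA.K saA) = true := by decide +kernel

theorem ne2 : neB (pc parA.w parA.K sA) (pc parA.w parA.K sbA) = true := by decide +kernel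

theorem ne3 : neB (pc parA.w parA.K saA) (pc parA.w parA.K sbA) = true := by decide +kernel

theorem odd : allL [s, sa, sb] (oddE 14) = true := by decide +kernel

theorem free : freeL 14 par22.c0 [(Ua, 0), j2, j3, jb] = true := by decide +kernel

theorem r_a : presB parA [(Ua, 0), j2, j3, s, sa, sb] [(Ua, 0)] [] = true := by decide +kernel

theorem r_sq : allL [(Ua, 0), j2, j3, s, sa, sb] fun e => oneB parA e 2 = true := by decide +kernel

noncomputable def s_c_0D : List (ℕ × ℕ) := ((22, 0) :: [s])

noncomputable def s_c_1D : List (ℕ × ℕ) := ((6678, 0) :: s_c_0D)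

noncomputable def s_c_2D : List (ℕ × ℕ) := ((6680, 0) :: s_c_1D)

noncomputable def s_c_3D : List (ℕ × ℕ) := (((nat_lit 0x40c1a), 0) :: s_c_2D)

theorem s_c_4b : endB parA s_c_3D [(nat_lit 0x206080a0802080602),
 (nat_lit 0x806020804020a02),
 (nat_lit 0x40608040a04080a0801),
 (nat_lit 0x806040a040602080a01),
 (nat_lit 0x4080206040a04),
 (nat_lit 0x80608040602080a0602)] = true := by decide +kernel

theorem s_c_4 {G : Type*} [Group G] (M : Md G parA) : M.Ch s_c_3D [sA] [] 1 := Md.Ch.base s_c_4b

noncomputable def s_c_3W : List (ℕ × ℕ) := apd [((nat_lit 0x10120616), 0),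
 ((nat_lit 0x100c0618), 0)] []

theorem s_c_3b : stepB parA s_c_2D [sA] s_c_3W [] (nat_lit 0x40c1a) (.dif (.dif (.dif (.dif (.and (.and (.im 518 (.nb 2)) (.im 8 (.nb 2))) (.im 2054 (.nb 1))) (.nb 3)) (.nb 1)) (.nb 2)) (.im 6 (.nb 1))) (nat_lit 0x20402) 6 0
 .nil = true := by decide +kernel

theorem s_c_3 {G : Type*} [Group G] [Finite G] (M : Md G parA) : M.Ch s_c_2D [sA] s_c_3W 6 :=
  Md.Ch.step s_c_3b (s_c_4 M)

noncomputable def s_c_2W : List (ℕ × ℕ) := apd [((nat_lit 0x4160418), 0),
 ((nat_lit 0xe021a), 0),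
 (0, (nat_lit 0x618021a040c0e06080c0e120c140a1c))] s_c_3W

theorem s_c_2b : stepB parA s_c_1D [sA] s_c_2W s_c_3W 6680 (.dif (.dif (.dif (.dif (.im 1540 (.nb 1)) (.nb 2)) (.nb 1)) (.im 4 (.nb 1))) (.im 6 (.nb 2))) (nat_lit 0x4020806040a020804060a080204) 216 0
 .nil = true := by decide +kernel

theorem s_c_2 {G : Type*} [Group G] [Finite G] (M : Md G parA) : M.Ch s_c_1D [sA] s_c_2W 1296 :=
  Md.Ch.step s_c_2b (s_c_3 M)

noncomputable def s_c_1W : List (ℕ × ℕ) := apd [(26, 0)] s_c_2W

theorem s_c_1b : stepB parA s_c_0D [sA] s_c_1W s_c_2W 6678 (.dif (.im 4 (.nb 1)) (.nb 1)) (nat_lit 0x408020a0c0402060a0208020c020a0206040c0a02) 512 0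
 .nil = true := by decide +kernel

theorem s_c_1 {G : Type*} [Group G] [Finite G] (M : Md G parA) : M.Ch s_c_0D [sA] s_c_1W 663552 :=
  Md.Ch.step s_c_1b (s_c_2 M)

noncomputable def s_c_0W : List (ℕ × ℕ) := apd [(0, 0)] s_c_1W

theorem s_c_0b : stepB parA [s] [sA] s_c_0W s_c_1W 22 (.dif .all (.lit 0)) (nat_lit 0x40e0206020c02080204020e0206040208020c0204020e020602080402) 3150 0
 .nil = true := by decide +kernel

theorem s_c_0 {G : Type*} [Group G] [Finite G] (M : Md G parA) : M.Ch [s] [sA] s_c_0W 2090188800 :=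
  Md.Ch.step s_c_0b (s_c_1 M)

theorem s_c_p : presB parA s_c_0W [s] [sA] = true := by decide +kernel

theorem s_c {G : Type*} [Group G] [Finite G] (M : Md G parA) : M.KE (M.st [s] [sA]) s_c_0W 2090188800 :=
  (s_c_0 M).ke s_c_p

noncomputable def sa_c_0D : List (ℕ × ℕ) := ((22, 0) :: [sa])

noncomputable def sa_c_1D : List (ℕ × ℕ) := (((nat_lit 0x61a16), 0) :: sa_c_0D)

noncomputable def sa_c_2D : List (ℕ × ℕ) := (((nat_lit 0x140e18), 0) :: sa_c_1D)

noncomputable def sa_c_3D : List (ℕ × ℕ) := (((nat_lit 0xa1a18), 0) :: sa_c_2D)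

noncomputable def sa_c_4D : List (ℕ × ℕ) := (((nat_lit 0x16100216), 0) :: sa_c_3D)

theorem sa_c_5b : endB parA sa_c_4D [(nat_lit 0x2080a02080602040a0c0a01),
 (nat_lit 0x20a0c040802060a0c0a01),
 (nat_lit 0x802060a02080402060a0c0401),
 (nat_lit 0xa0208040a0c0a01),
 (nat_lit 0xa080206040a02040c060a0801),
 (nat_lit 0x2040802040a0c060a01)] = true := by decide +kernel

theorem sa_c_5 {G : Type*} [Group G] (M : Md G parA) : M.Ch sa_c_4D [saA] [] 1 := Md.Ch.base sa_c_5b

theorem sa_c_4b : stepB parA sa_c_3D [saA] (apd [] []) [] (nat_lit 0x16100216) (.dif (.dif (.dif (.dif (.and (.and (.lit 0) (.im 522 (.nb 1))) (.im 1034 (.nb 2))) (.nb 3)) (.im 2058 (.nb 4))) (.im 8 (.nb 3))) (.nb 1)) 0 1 0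
 .nil = true := by decide +kernel

theorem sa_c_4 {G : Type*} [Group G] [Finite G] (M : Md G parA) : M.Ch sa_c_3D [saA] (apd [] []) 1 :=
  Md.Ch.step sa_c_4b (sa_c_5 M)

noncomputable def sa_c_3W : List (ℕ × ℕ) := apd [((nat_lit 0x1a120a16), 0),
 ((nat_lit 0x1814021816), 0)] (apd [] [])

theorem sa_c_3b : stepB parA sa_c_2D [saA] sa_c_3W (apd [] []) (nat_lit 0xa1a18) (.dif (.and (.and (.and (.and (.nb 3) (.nb 2)) (.nb 1)) (.im 8 (.nb 3))) (.im 8 (.nb 1))) (.lit 0)) (nat_lit 0x20402) 6 0
 .nil = true := by decide +kernel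

theorem sa_c_3 {G : Type*} [Group G] [Finite G] (M : Md G parA) : M.Ch sa_c_2D [saA] sa_c_3W 6 :=
  Md.Ch.step sa_c_3b (sa_c_4 M)

noncomputable def sa_c_2W : List (ℕ × ℕ) := apd [((nat_lit 0x4161418), 0),
 ((nat_lit 0xe0a1a16), 0),
 (0, (nat_lit 0x418081810140c100c0a0c0a08140c1c))] sa_c_3W

theorem sa_c_2b : stepB parA sa_c_1D [saA] sa_c_2W sa_c_3W (nat_lit 0x140e18) (.dif (.and (.and (.nb 2) (.nb 1)) (.im 6 (.nb 2))) (.lit 0)) (nat_lit 0x802060402) 12 0
 .nil = true := by decide +kernel

theorem sa_c_2 {G : Type*} [Group G] [Finite G] (M : Md G parA) : M.Ch sa_c_1D [saA] sa_c_2W 72 :=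
  Md.Ch.step sa_c_2b (sa_c_3 M)

noncomputable def sa_c_1W : List (ℕ × ℕ) := apd [((nat_lit 0x616060416), 0),
 (0, (nat_lit 0xa080e12060e0410080a))] sa_c_2W

theorem sa_c_1b : stepB parA sa_c_0D [saA] sa_c_1W sa_c_2W (nat_lit 0x61a16) (.dif (.lit 0) (.im 516 (.nb 1))) (nat_lit 0x404080406040204) 32 0
 .nil = true := by decide +kernel

theorem sa_c_1 {G : Type*} [Group G] [Finite G] (M : Md G parA) : M.Ch sa_c_0D [saA] sa_c_1W 2304 :=
  Md.Ch.step sa_c_1b (sa_c_2 M)

noncomputable def sa_c_0W : List (ℕ × ℕ) := apd [((nat_lit 0x180e18), 0)] sa_c_1W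

theorem sa_c_0b : stepB parA [sa] [saA] sa_c_0W sa_c_1W 22 (.dif .all (.lit 0)) (nat_lit 0x206020a060806020a060206100206080a02060208060a02) 2520 (nat_lit 0xe0a080602060e020610020a060802060a)
 (.many [(.cnt (.and (.nb 1) (.lit 0))),
 (.fx 1 1025)] 32 3 (nat_lit 0x1a160100001a000a061800) .nil) = true := by decide +kernel

theorem sa_c_0 {G : Type*} [Group G] [Finite G] (M : Md G parA) : M.Ch [sa] [saA] sa_c_0W 5806080 :=
  Md.Ch.step sa_c_0b (sa_c_1 M)

theorem sa_c_p : presB parA sa_c_0W [sa] [saA] = true := by decide +kernel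

theorem sa_c {G : Type*} [Group G] [Finite G] (M : Md G parA) : M.KE (M.st [sa] [saA]) sa_c_0W 5806080 :=
  (sa_c_0 M).ke sa_c_p

noncomputable def sb_c_0D : List (ℕ × ℕ) := ((24, 0) :: [sb])

noncomputable def sb_c_1D : List (ℕ × ℕ) := (((nat_lit 0x121016), 0) :: sb_c_0D)

noncomputable def sb_c_2D : List (ℕ × ℕ) := (((nat_lit 0x40616), 0) :: sb_c_1D)

noncomputable def sb_c_3D : List (ℕ × ℕ) := (((nat_lit 0x6120e16), 0) :: sb_c_2D)

noncomputable def sb_c_4D : List (ℕ × ℕ) := (((nat_lit 0xe08061a16), 0) :: sb_c_3D)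

theorem sb_c_5b : endB parA sb_c_4D [(nat_lit 0xa0208060a02040c08060a01),
 (nat_lit 0x40a0208060a02040c080a01),
 (nat_lit 0x60a020408020a0c06020a04),
 (nat_lit 0x80a0c06020408060a01),
 (nat_lit 0x2040c08060a01),
 (nat_lit 0x60a020a0c06020a0c040801)] = true := by decide +kernel

theorem sb_c_5 {G : Type*} [Group G] (M : Md G parA) : M.Ch sb_c_4D [sbA] [] 1 := Md.Ch.base sb_c_5b

theorem sb_c_4b : stepB parA sb_c_3D [sbA] (apd [] []) [] (nat_lit 0xe08061a16) (.dif (.dif (.dif (.dif (.dif (.and (.and (.lit 0) (.im 1034 (.nb 2))) (.im 522 (.nb 1))) (.nb 3)) (.nb 4)) (.im 8 (.nb 3))) (.nb 2)) (.im 2058 (.nb 4))) 0 1 0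
 .nil = true := by decide +kernel

theorem sb_c_4 {G : Type*} [Group G] [Finite G] (M : Md G parA) : M.Ch sb_c_3D [sbA] (apd [] []) 1 :=
  Md.Ch.step sb_c_4b (sb_c_5 M)

noncomputable def sb_c_3W : List (ℕ × ℕ) := apd [((nat_lit 0x160e1618), 0),
 ((nat_lit 0x1418060216), 0)] (apd [] [])

theorem sb_c_3b : stepB parA sb_c_2D [sbA] sb_c_3W (apd [] []) (nat_lit 0x6120e16) (.dif (.and (.and (.and (.and (.nb 3) (.nb 2)) (.nb 1)) (.im 8 (.nb 3))) (.im 8 (.nb 1))) (.lit 0)) (nat_lit 0x20402) 6 0
 .nil = true := by decide +kernel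

theorem sb_c_3 {G : Type*} [Group G] [Finite G] (M : Md G parA) : M.Ch sb_c_2D [sbA] sb_c_3W 6 :=
  Md.Ch.step sb_c_3b (sb_c_4 M)

noncomputable def sb_c_2W : List (ℕ × ℕ) := apd [((nat_lit 0x12061a16), 0),
 ((nat_lit 0x8140c0416), 0),
 (0, (nat_lit 0x18120e16080c0a060e060c040612081c))] sb_c_3W

theorem sb_c_2b : stepB parA sb_c_1D [sbA] sb_c_2W sb_c_3W (nat_lit 0x40616) (.dif (.and (.and (.nb 2) (.nb 1)) (.im 6 (.nb 2))) (.lit 0)) (nat_lit 0x802060402) 12 0
 .nil = true := by decide +kernel

theorem sb_c_2 {G : Type*} [Group G] [Finite G] (M : Md G parA) : M.Ch sb_c_1D [sbA] sb_c_2W 72 :=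
  Md.Ch.step sb_c_2b (sb_c_3 M)

noncomputable def sb_c_1W : List (ℕ × ℕ) := apd [((nat_lit 0x61a16), 0),
 ((nat_lit 0x616060216), 0)] sb_c_2W

theorem sb_c_1b : stepB parA sb_c_0D [sbA] sb_c_1W sb_c_2W (nat_lit 0x121016) (.dif (.dif (.lit 0) (.nb 1)) (.im 516 (.nb 1))) (nat_lit 0x208020e0206080c0402) 40 0
 .nil = true := by decide +kernel

theorem sb_c_1 {G : Type*} [Group G] [Finite G] (M : Md G parA) : M.Ch sb_c_0D [sbA] sb_c_1W 2880 :=
  Md.Ch.step sb_c_1b (sb_c_2 M)

noncomputable def sb_c_0W : List (ℕ × ℕ) := apd [((nat_lit 0x121016), 0)] sb_c_1W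

theorem sb_c_0b : stepB parA [sb] [sbA] sb_c_0W sb_c_1W 24 (.dif .all (.lit 0)) (nat_lit 0xa0e040810020a0e0804020a0e080610040a0e020806040a0e02100804020a0e060402) 2304 (nat_lit 0x60c100e040c0204100e040a0208060402)
 (.many [(.fx 1 1025)] 32 2 (nat_lit 0x1a10160000001a00) .nil) = true := by decide +kernel

theorem sb_c_0 {G : Type*} [Group G] [Finite G] (M : Md G parA) : M.Ch [sb] [sbA] sb_c_0W 6635520 :=
  Md.Ch.step sb_c_0b (sb_c_1 M)

theorem sb_c_p : presB parA sb_c_0W [sb] [sbA] = true := by decide +kernel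

theorem sb_c {G : Type*} [Group G] [Finite G] (M : Md G parA) : M.KE (M.st [sb] [sbA]) sb_c_0W 6635520 :=
  (sb_c_0 M).ke sb_c_p

end Cfsg.Lib.Fi.T22
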