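import Cfsg.Agent.Lib.Fi.T22a
import Cfsg.Agent.Lib.Fi.Two
import Cfsg.Agent.Lib.Comp.We6.Iso

/-! The centraliser of a product of two commuting transpositions in type `M(22)`. -/

set_option linter.unusedSectionVars false

namespace Cfsg.Lib.Fi.S22

open Cfsg.Lib.Comp Subgroup B22 T22

variable {G : Type*} [Group G] [Finite G] (S : S22 G)

theorem op2 : (pCore 2 (centralizer {S.M.v j2})).map (Subgroup.subtype _) = PS (S.M.d eA) 10 0 :=
  (op S).1.trans (eq_of_le_of_card_ge (by rw [(op S).2, ← S.M.cp_eq_PS eA e_ent.2.2]; exact S.M.le_of_leA e_le)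
    (by rw [(pPc S.M).card (by norm_num), (ePc S.M).card (by norm_num)]))

theorem cent_q : centralizer (PS (S.M.d eA) 10 0 : Set G) = closure {S.a, S.b} ∧ Nat.card (closure {S.a, S.b}) = 4 := by
  rw [← S.M.cp_eq_PS eA e_ent.2.2, S.M.cent_cp, ← S.M.cp_pair, ← (cq S).1]
  exact ⟨rfl, (cq S).2⟩

theorem e1 : S.M.d eA 1 = S.a := congrArg S.M.v e_ent.1
theorem e9 : PS (S.M.d eA) 10 9 = zpowers (S.a * S.b) :=
  (PS_last _ 9).trans (congrArg zpowers ((congrArg S.M.v e_ent.2.1).trans S.j2_eq))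

theorem v_le : closure {S.a, S.b} ≤ PS (S.M.d eA) 10 0 := by
  have h1 : S.a ∈ PS (S.M.d eA) 10 0 := S.e1 ▸ mem_PS (by norm_num) (by norm_num)
  refine (closure_le _).2 (Set.pair_subset h1 ((mul_mem_cancel_left h1).1 ?_))
  exact PS_mono (by norm_num) le_rfl (S.e9.ge (mem_zpowers _))

theorem quot_j2 : Nonempty (centralizer {S.M.v j2} ⧸ pCore 2 _ ≃* O6) := ⟨(quot S).some.trans We6.iso.some⟩

theorem xs_e : IsExtraspecial 2 (PS (S.M.d eA) 10 1) := by
  have h := ePc S.M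
  have h1 : PS (S.M.d eA) 10 9 ≤ PS (S.M.d eA) 10 1 := PS_mono (by norm_num) le_rfl
  have h2 : PS (S.M.d eA) 10 9 ≤ closure {S.a, S.b} := S.e9 ▸ zpowers_le.2
    (mul_mem (subset_closure (by simp)) (subset_closure (by simp)))
  have h3 : PS (S.M.d eA) 10 1 ⊓ closure {S.a, S.b} = PS (S.M.d eA) 10 9 := by
    refine (eq_of_le_of_card_ge (le_inf h1 h2) ?_).symm
    have a1 := card_dvd_of_le (inf_le_right : PS (S.M.d eA) 10 1 ⊓ closure {S.a, S.b} ≤ _)
    rw [h.card (by norm_num)]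
    by_contra c
    refine h.not_mem (y := 1) (by norm_num) (by norm_num) ?_
    rw [S.e1]
    refine ((eq_of_le_of_card_ge inf_le_right ?_ : PS (S.M.d eA) 10 1 ⊓ closure {S.a, S.b} = _).ge
      (subset_closure (by simp))).1
    rw [S.cent_q.2] at a1 ⊢
    exact (by decide : ∀ n ≤ 4, n ∣ 4 → ¬ n ≤ 2 ^ (10 - 9) → 4 ≤ n) _ (Nat.le_of_dvd (by norm_num) a1) a1 c
  refine h.xs (S.M.relT eA) (by norm_num) ab1 (le_antisymm (fun x hx => h3.le ⟨hx.1, S.cent_q.1.le ?_⟩)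
    (le_inf h1 (h2.trans (S.cent_q.1.ge.trans (centralizer_le (PS_mono (by norm_num) le_rfl))))))
  refine fun y hy => mem_centralizer_singleton_iff.1 ((PS_le.2 fun z a b => mem_centralizer_singleton_iff.2 ?_ :
    _ ≤ centralizer {x}) hy)
  obtain rfl | a := (show 1 ≤ z from a).eq_or_lt
  · exact (S.cent_q.1.ge (subset_closure (by simp [S.e1])) x (PS_mono (by norm_num) le_rfl hx.1)).symm
  · exact hx.2 _ (mem_PS a b)

end Cfsg.Lib.Fi.S22
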