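import Cfsg.Agent.Lib.Fi.Cent

/-! Linear maps on binary codes. -/

namespace Cfsg.Lib.Fi

open Cfsg.Lib.Comp

theorem xor_ind {p : ℕ → Prop} (k : ℕ) (h0 : p 0) (hb : ∀ i < k, p (2 ^ i)) (hx : ∀ m < 2 ^ k, ∀ n < 2 ^ k, p m → p n → p (m ^^^ n)) :
    ∀ n < 2 ^ k, p n := by
  induction k with
  | zero => intro n hn; rwa [Nat.lt_one_iff.1 hn]
  | succ k ih =>
    have l : 2 ^ k < 2 ^ (k + 1) := Nat.pow_lt_pow_right one_lt_two k.lt_succ_self
    have ih := ih (fun i hi => hb i (by omega)) fun m a n b => hx m (a.trans l) n (b.trans l)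
    intro n hn
    by_cases c : n < 2 ^ k
    · exact ih n c
    have h1 : n ^^^ 2 ^ k < 2 ^ k := Nat.lt_pow_two_of_testBit _ fun i hi => by
      rw [Nat.testBit_xor, Nat.testBit_two_pow]
      rcases hi.eq_or_lt with rfl | hi
      · rw [Nat.testBit_of_two_pow_le_and_two_pow_add_one_gt (by omega) hn]; simp
      · rw [Nat.testBit_lt_two_pow (hn.trans_le (Nat.pow_le_pow_right two_pos hi))]; simp [hi.ne]
    have := hx _ (h1.trans l) _ l (ih _ h1) (hb k (by omega))
    rwa [Nat.xor_assoc, Nat.xor_self, Nat.xor_zero] at this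

/-- The linear map sending `2 ^ i` to the `i`-th entry of the table `T`. -/
noncomputable def xl (T k n : ℕ) : ℕ :=
  Nat.rec (motive := fun _ => ℕ) 0 (fun i a => cnd (Nat.testBit n i) (Nat.xor (look T 12 i) a) a) k

theorem xl_xor (T k m n : ℕ) : xl T k (m ^^^ n) = xl T k m ^^^ xl T k n := by
  induction k with
  | zero => exact (Nat.xor_self 0).symm
  | succ k ih =>
    change cnd _ (_ ^^^ xl T k _) (xl T k _) = cnd _ (_ ^^^ xl T k _) (xl T k _) ^^^ cnd _ (_ ^^^ xl T k _) (xl T k _)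
    rw [ih, Nat.testBit_xor]
    cases m.testBit k <;> cases n.testBit k <;> simp [cnd_eq, Nat.xor_assoc, Nat.xor_left_comm (look T 12 k)]

theorem xl_zero (T k : ℕ) : xl T k 0 = 0 := by simpa using xl_xor T k 0 0

/-- The product of the `a i` over the bits `i < k` of `n`. -/
def pw2 {G : Type*} [Group G] (a : ℕ → G) : ℕ → ℕ → G
  | 0, _ => 1
  | k + 1, n => (if n.testBit k then a k else 1) * pw2 a k n

theorem pw2_mem {G : Type*} [Group G] {a : ℕ → G} {A : Subgroup G} (h : ∀ i, a i ∈ A) (k n : ℕ) : pw2 a k n ∈ A := by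
  induction k with
  | zero => exact one_mem _
  | succ k ih => exact mul_mem (by split_ifs; exacts [h k, one_mem _]) ih

theorem pw2_xor {G : Type*} [Group G] {a : ℕ → G} {A : Subgroup G} (h : ∀ i, a i ∈ A) (hc : ∀ x ∈ A, ∀ y ∈ A, x * y = y * x)
    (h2 : ∀ i, a i * a i = 1) (k m n : ℕ) : pw2 a k (m ^^^ n) = pw2 a k m * pw2 a k n := by
  induction k with
  | zero => exact (mul_one _).symm
  | succ k ih =>
    have := hc _ (h k) _ (pw2_mem h k m)
    simp only [pw2, ih, Nat.testBit_xor]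
    cases m.testBit k <;> cases n.testBit k <;> simp
    · rw [← mul_assoc, this, mul_assoc]
    · rw [mul_assoc]
    · rw [this, mul_assoc, ← mul_assoc (a k), h2, one_mul]

theorem pw2_pow {G : Type*} [Group G] (a : ℕ → G) (k i : ℕ) : pw2 a k (2 ^ i) = if i < k then a i else 1 := by
  induction k with
  | zero => rfl
  | succ k ih =>
    rw [pw2, ih, Nat.testBit_two_pow]
    rcases lt_trichotomy i k with h | rfl | h
    · simp [h, h.ne, h.le, Nat.lt_succ_iff]
    · simp
    · simp [h.ne', h.not_gt, h.not_ge, Nat.lt_succ_iff]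

/-- The number of `i < n` with `f i`. -/
noncomputable def cnN (n : ℕ) (f : ℕ → Bool) : ℕ := Nat.rec (motive := fun _ => ℕ) 0 (fun i a => cnd (f i) (Nat.succ a) a) n

theorem cnN_eq (n : ℕ) (f : ℕ → Bool) : cnN n f = ((Finset.range n).filter fun i => f i = true).card := by
  induction n with
  | zero => rfl
  | succ n ih =>
    change cnd _ (cnN n f + 1) (cnN n f) = _
    rw [Finset.range_add_one, Finset.filter_insert, ih, cnd_eq]
    split_ifs
    · rw [Finset.card_insert_of_notMem (by simp)]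
    · rfl

end Cfsg.Lib.Fi
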