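import Cfsg.Agent.Lib.Fi.Z24a

set_option maxRecDepth 100000
set_option Elab.async false

namespace Cfsg.Lib.Fi.Z24

open Cfsg.Lib.Comp Cfsg.Lib.Fi

open B24

theorem ab : abB (rbG par24 pA) 2 22 9 21 [[44],
 [44,
 0],
 [44,
 44,
 44],
 [0,
 0,
 0,
 44],
 [44,
 0,
 44,
 44,
 44],
 [0,
 0,
 44,
 44,
 0,
 44],
 [44,
 44,
 0,
 0,
 44,
 44,
 0],
 [44,
 0,
 0,
 44,
 44,
 0,
 0,
 0],
 [0,
 44,
 44,
 0,
 44,
 0,
 0,
 0,
 0],
 [44,
 0,
 44,
 0,
 0,
 0,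
 0,
 0,
 0,
 0],
 [44,
 44,
 44,
 0,
 0,
 0,
 0,
 0,
 0,
 0,
 0],
 [44,
 0,
 0,
 0,
 0,
 0,
 0,
 0,
 0,
 0,
 0,
 0]] = true := by decide +kernel

noncomputable def jc : ℕ × ℕ := (0, (nat_lit 0xa140812061208140a040c04))

theorem jc_mul : mulB par24 jc (Ua, 0) (Uc, 0) = true := by decide +kernel

theorem j_le : leA par24 (List.drop 9 pA) [j2, jc] [(nat_lit 0x2080c0e101a), (nat_lit 0x2060a0e1014161a)] = true := by decide +kernel

theorem orb : orbB par24 j4_cM_0W j4A (nat_lit 0x2080a080a080c080a0802080c080a080c0802) Ua = true := by decide +kernel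

noncomputable def Y : List (ℕ × ℕ) := [(0, 0),
 (6166, 0),
 (5656, 0),
 ((nat_lit 0x81816), 0),
 ((nat_lit 0x160a16), 0),
 ((nat_lit 0x101816), 0),
 ((nat_lit 0x41618), 0),
 ((nat_lit 0xa1618), 0),
 ((nat_lit 0x1c0e1e), 0)]

theorem Y_in : cnd (ptsB Y) (subS (ptS par24 Y) j4A) false = true := by decide +kernel

noncomputable def cyM_0D : List (ℕ × ℕ) := (((nat_lit 0x82010061a), 0) :: Y)

theorem cyM_1b : endB par24 cyM_0D [(nat_lit 0x120a04140e0c0401),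
 (nat_lit 0xc04020e0c060208040a),
 (nat_lit 0x20c0a14020c1007),
 (nat_lit 0x120e0c100604020a08060a),
 (nat_lit 0x4020e0a0c100e060401),
 (nat_lit 0x12140a0e04141008140401)] = true := by decide +kernel

theorem cyM_1 {G : Type*} [Group G] (M : Md G par24) : M.Ch cyM_0D [] [] 1 := Md.Ch.base cyM_1b

noncomputable def cyM_0W : List (ℕ × ℕ) := apd [(0, (nat_lit 0xe04060c0a060812060a1006))] []

theorem cyM_0b : stepB par24 Y [] cyM_0W [] (nat_lit 0x82010061a) (.dif (.and (.and (.and (.and (.nb 8) (.nb 7)) (.im 6 (.nb 6))) (.im 4 (.nb 9))) (.im 6 (.nb 9))) (.nb 5)) 2 2 0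
 .nil = true := by decide +kernel

theorem cyM_0 {G : Type*} [Group G] [Finite G] (M : Md G par24) : M.Ch Y [] cyM_0W 2 :=
  Md.Ch.step cyM_0b (cyM_1 M)

theorem cyM_p : presB par24 cyM_0W Y [] = true := by decide +kernel

theorem cyM {G : Type*} [Group G] [Finite G] (M : Md G par24) : M.KE (M.st Y []) cyM_0W 2 :=
  (cyM_0 M).ke cyM_p

theorem cy {G : Type*} [Group G] [Finite G] (S : S24 G) : S.M.KE (S.M.st Y []) cyM_0W 2 := cyM S.M

end Cfsg.Lib.Fi.Z24
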